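import Cfsg.Agent.Lib.U62Type.Config

/-!
# The forms are nondegenerate
-/

set_option autoImplicit false

namespace Cfsg.Lib.U62Type

/-- Every functional is given by a vector. -/
def dualChk (C : Cfg) : Bool :=
  vecs.all fun m => vecs.any fun u => (List.range 8).all fun i => cform C u (2 ^ i) == bit m i

theorem dual_U : dualChk cfgU = true := by decide +kernel

theorem dual_P : dualChk cfgP = true := by decide +kernel

theorem dual_M : dualChk cfgM = true := by decide +kernel

theorem dual_all : ∀ C ∈ [cfgU, cfgP, cfgM], dualChk C = true := by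
  intro C hC
  simp only [List.mem_cons, List.not_mem_nil, or_false] at hC
  rcases hC with rfl | rfl | rfl
  exacts [dual_U, dual_P, dual_M]

theorem gens_lt : ∀ C ∈ [cfgU, cfgP, cfgM], ∀ i < 4, C.gens.getD i 0 < 2 ^ 64 := by
  intro C hC i hi
  simp only [List.mem_cons, List.not_mem_nil, or_false] at hC
  rcases hC with rfl | rfl | rfl <;> interval_cases i <;> decide

end Cfsg.Lib.U62Type
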