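import Cfsg.Agent.Lib.U62Type.Exists
import Cfsg.Agent.Lib.U62Type.DualChecks

/-!
# Coordinates on an extraspecial normal subgroup of an involution centraliser
-/

set_option autoImplicit false
set_option linter.unusedSectionVars false
set_option linter.style.haveILetI false

namespace Cfsg.Lib.U62Type

variable {G : Type*} [Group G]

/-- An extraspecial normal subgroup of order `2⁹` containing its centraliser in the centraliser of `z`. -/
structure Ext (z : G) (J : Subgroup G) : Prop where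
  z2 : z * z = 1
  z1 : z ≠ 1
  zJ : z ∈ J
  cz : ∀ j ∈ J, Commute j z
  card : Nat.card J = 512
  norm : ∀ h, Commute h z → ∀ j ∈ J, h * j * h⁻¹ ∈ J
  zc : ∀ j ∈ J, (∀ k ∈ J, Commute j k) → j = 1 ∨ j = z
  sq : ∀ j ∈ J, j * j = 1 ∨ j * j = z
  cmt : ∀ j ∈ J, ∀ k ∈ J, j * k * j⁻¹ * k⁻¹ = 1 ∨ j * k * j⁻¹ * k⁻¹ = z
  self : ∀ h, Commute h z → (∀ j ∈ J, Commute h j) → h ∈ J

/-- Coordinates on the central quotient in which the centraliser acts in a standard way. -/
structure Frame (C : Cfg) (z : G) where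
  J : Subgroup G
  ext : Ext z J
  vc : G → ℕ
  κ : G → ℕ
  std : C ∈ [cfgU, cfgP, cfgM]
  vc_lt : ∀ j, vc j < 256
  vc_mul : ∀ j ∈ J, ∀ k ∈ J, vc (j * k) = vc j ^^^ vc k
  vc_zero : ∀ j ∈ J, vc j = 0 → j = 1 ∨ j = z
  vc_z : vc z = 0
  vc_surj : ∀ v < 256, ∃ j ∈ J, vc j = v
  sq : ∀ j ∈ J, j * j = if C.q (vc j) = 1 then z else 1
  κ_lt : ∀ h, κ h < 2 ^ 64
  act : ∀ h, Commute h z → ∀ j ∈ J, vc (h * j * h⁻¹) = ap (κ h) (vc j)
  gens : ∀ i < 4, ∃ h, Commute h z ∧ κ h = C.gens.getD i 0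
  ker : ∀ h, Commute h z → κ h = idc → h ∈ J

/-- An indicator on a group of order two. -/
noncomputable def ind (x : G) : ℕ := by classical exact if x = 1 then 0 else 1

theorem ind_one : ind (1 : G) = 0 := by simp [ind]

theorem ind_of_ne {x : G} (h : x ≠ 1) : ind x = 1 := by simp [ind, h]

theorem ind_lt (x : G) : ind x < 2 := by unfold ind; split <;> norm_num

theorem ind_mul {z x y : G} (hz2 : z * z = 1) (hz : z ≠ 1) (hx : x = 1 ∨ x = z) (hy : y = 1 ∨ y = z) :
    ind (x * y) = ind x ^^^ ind y := by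
  rcases hx with rfl | rfl <;> rcases hy with rfl | rfl <;> simp [ind_one, ind_of_ne hz, hz2]

theorem mem_zpowers_two {W : Type*} [Group W] {z y : W} (hz2 : z * z = 1) :
    y ∈ Subgroup.zpowers z ↔ y = 1 ∨ y = z := by
  constructor
  · rintro ⟨k, rfl⟩
    rcases Int.even_or_odd k with ⟨m, rfl⟩ | ⟨m, rfl⟩
    · left
      show z ^ (m + m) = 1
      rw [← two_mul, zpow_mul, zpow_two, hz2, one_zpow]
    · right
      show z ^ (2 * m + 1) = z
      rw [zpow_add_one, zpow_mul, zpow_two, hz2, one_zpow, one_mul]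
  · rintro (rfl | rfl)
    exacts [one_mem _, Subgroup.mem_zpowers _]

theorem xor_shuffle (a c b : ℕ) : (a ^^^ c ^^^ b) ^^^ a ^^^ b = c := by
  apply Nat.eq_of_testBit_eq
  intro i
  simp only [Nat.testBit_xor]
  cases a.testBit i <;> cases b.testBit i <;> cases c.testBit i <;> rfl

/-- The number with given binary digits. -/
def bitsOf (f : ℕ → ℕ) : ℕ := f 0 + 2 * f 1 + 4 * f 2 + 8 * f 3 + 16 * f 4 + 32 * f 5 + 64 * f 6 + 128 * f 7

theorem bitsOf_spec {f : ℕ → ℕ} (hf : ∀ i, f i < 2) : bitsOf f < 256 ∧ ∀ i < 8, bit (bitsOf f) i = f i := by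
  have := hf 0; have := hf 1; have := hf 2; have := hf 3; have := hf 4; have := hf 5; have := hf 6; have := hf 7
  refine ⟨by unfold bitsOf; omega, fun i hi => ?_⟩
  rw [bit, show (1 : ℕ) = 2 ^ 1 - 1 by norm_num, Nat.and_two_pow_sub_one_eq_mod, Nat.shiftRight_eq_div_pow, bitsOf]
  interval_cases i <;> norm_num <;> omega

/-- A map on vectors that respects sums is a code. -/
theorem exists_code {f : ℕ → ℕ} (hlt : ∀ v < 256, f v < 256)
    (hadd : ∀ u < 256, ∀ v < 256, f (u ^^^ v) = f u ^^^ f v) {v : ℕ} (hv : v < 256) :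
    ap (mkc fun i => f (2 ^ i)) v = f v := by
  have hp : ∀ i < 8, (2 : ℕ) ^ i < 256 := fun i hi =>
    lt_of_lt_of_le (Nat.pow_lt_pow_right (by norm_num) hi) le_rfl
  have hb : ∀ i < 8, byte (mkc fun i => f (2 ^ i)) i = f (2 ^ i) := fun i hi =>
    byte_mkc (fun j hj => hlt _ (hp j hj)) hi
  have h0 : f 0 = 0 := by
    have h := hadd 0 (by norm_num) 0 (by norm_num)
    rw [Nat.xor_self] at h
    rwa [Nat.xor_self] at h
  have hbm : ∀ (x i : ℕ), f (bit v i * x) = bit v i * f x := fun x i => by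
    rcases bit_cases v i with e | e <;> simp [e, h0]
  have hl : ∀ (i x : ℕ), x < 256 → bit v i * x < 256 := fun i x hx => bit_mul_lt hx v i
  conv_rhs => rw [vec_eq v hv]
  rw [hadd _ (xor_lt (xor_lt (xor_lt (xor_lt (xor_lt (xor_lt (hl 0 1 (by norm_num)) (hl 1 2 (by norm_num)))
      (hl 2 4 (by norm_num))) (hl 3 8 (by norm_num))) (hl 4 16 (by norm_num))) (hl 5 32 (by norm_num)))
      (hl 6 64 (by norm_num))) _ (hl 7 128 (by norm_num)),
    hadd _ (xor_lt (xor_lt (xor_lt (xor_lt (xor_lt (hl 0 1 (by norm_num)) (hl 1 2 (by norm_num)))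
      (hl 2 4 (by norm_num))) (hl 3 8 (by norm_num))) (hl 4 16 (by norm_num))) (hl 5 32 (by norm_num)))
      _ (hl 6 64 (by norm_num)),
    hadd _ (xor_lt (xor_lt (xor_lt (xor_lt (hl 0 1 (by norm_num)) (hl 1 2 (by norm_num)))
      (hl 2 4 (by norm_num))) (hl 3 8 (by norm_num))) (hl 4 16 (by norm_num))) _ (hl 5 32 (by norm_num)),
    hadd _ (xor_lt (xor_lt (xor_lt (hl 0 1 (by norm_num)) (hl 1 2 (by norm_num)))
      (hl 2 4 (by norm_num))) (hl 3 8 (by norm_num))) _ (hl 4 16 (by norm_num)),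
    hadd _ (xor_lt (xor_lt (hl 0 1 (by norm_num)) (hl 1 2 (by norm_num))) (hl 2 4 (by norm_num)))
      _ (hl 3 8 (by norm_num)),
    hadd _ (xor_lt (hl 0 1 (by norm_num)) (hl 1 2 (by norm_num))) _ (hl 2 4 (by norm_num)),
    hadd _ (hl 0 1 (by norm_num)) _ (hl 1 2 (by norm_num))]
  simp only [hbm]
  rw [ap, hb 0 (by norm_num), hb 1 (by norm_num), hb 2 (by norm_num), hb 3 (by norm_num), hb 4 (by norm_num),
    hb 5 (by norm_num), hb 6 (by norm_num), hb 7 (by norm_num)]
  rfl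

section Build

variable [Finite G] {z : G} {J : Subgroup G} (X : Ext z J)

include X

/-- Coordinates exist as soon as four lifts satisfy the relations of the generators modulo `J`. -/
theorem exists_frame (L : ℕ → G) (hL : ∀ i, Commute (L i) z)
    (hrel : ∀ w w' : List ℕ, meq w w' = true → ((w.map L).prod)⁻¹ * (w'.map L).prod ∈ J) (hL0 : L 0 ∉ J) :
    ∃ C : Cfg, ∃ F : Frame C z, F.J = J ∧ ∀ i < 4, F.κ (L i) = C.gens.getD i 0 := by
  classical
  let zJ : J := ⟨z, X.zJ⟩
  have hzJ2 : zJ * zJ = 1 := Subtype.ext X.z2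
  let Z : Subgroup J := Subgroup.zpowers zJ
  haveI hZn : Z.Normal := by
    refine ⟨fun n hn g => ?_⟩
    have e : g * n * g⁻¹ = n := by
      rcases (mem_zpowers_two hzJ2).1 hn with rfl | rfl
      · simp
      · exact Subtype.ext (mul_inv_eq_iff_eq_mul.2 (X.cz g g.2).eq)
    rw [e]; exact hn
  have hmk : ∀ {j k : J}, (j : J ⧸ Z) = k → (k : G) = j ∨ (k : G) = j * z := by
    intro j k h
    rw [QuotientGroup.eq, mem_zpowers_two hzJ2] at h
    rcases h with h | h
    · left; rw [inv_mul_eq_iff_eq_mul, mul_one] at h; rw [h]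
    · right; rw [inv_mul_eq_iff_eq_mul] at h; rw [h]; rfl
  have hmk1 : ∀ {j : J}, (j : J ⧸ Z) = 1 → (j : G) = 1 ∨ (j : G) = z := by
    intro j h
    rcases (mem_zpowers_two hzJ2).1 ((QuotientGroup.eq_one_iff j).1 h) with e | e
    · exact Or.inl (congrArg Subtype.val e)
    · exact Or.inr (congrArg Subtype.val e)
  have hcomm : ∀ a b : J ⧸ Z, a * b = b * a := by
    rintro ⟨a⟩ ⟨b⟩
    show ((a * b : J) : J ⧸ Z) = ((b * a : J) : J ⧸ Z)
    rw [QuotientGroup.eq, mem_zpowers_two hzJ2]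
    rcases X.cmt _ (inv_mem b.2) _ (inv_mem a.2) with e | e
    · left; refine Subtype.ext ?_; push_cast; rw [← e]; group
    · right; refine Subtype.ext ?_; push_cast; show _ = z; rw [← e]; group
  letI : CommGroup (J ⧸ Z) := { (inferInstance : Group (J ⧸ Z)) with mul_comm := hcomm }
  have hZcard : Nat.card Z = 2 := by
    rw [Nat.card_zpowers, orderOf_eq_prime (p := 2) (by rw [pow_two, hzJ2]) (fun e => X.z1 (congrArg Subtype.val e))]
  have hcard : Nat.card (J ⧸ Z) = 256 := by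
    have := Subgroup.card_eq_card_quotient_mul_card_subgroup Z
    rw [X.card, hZcard] at this
    omega
  let cj : ∀ h : G, Commute h z → J →* J := fun h hh =>
    MonoidHom.mk' (fun j => ⟨h * j * h⁻¹, X.norm h hh j j.2⟩) fun a b => Subtype.ext (by push_cast; group)
  let act : ∀ h : G, Commute h z → (J ⧸ Z) →* (J ⧸ Z) := fun h hh => QuotientGroup.map Z Z (cj h hh) (by
    intro y hy
    rw [Subgroup.mem_comap]
    rcases (mem_zpowers_two hzJ2).1 hy with rfl | rfl
    · rw [map_one]; exact one_mem _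
    · have : cj h hh zJ = zJ := Subtype.ext (mul_inv_eq_iff_eq_mul.2 hh.eq)
      rw [this]; exact Subgroup.mem_zpowers _)
  have hprod : ∀ (w : List ℕ), Commute (w.map L).prod z := fun w => Commute.list_prod_left _ _ fun x hx => by
    obtain ⟨i, -, rfl⟩ := List.mem_map.1 hx
    exact hL i
  have hfold : ∀ (w : List ℕ) (v : J ⧸ Z),
      w.foldr (fun i u => act (L i) (hL i) u) v = act _ (hprod w) v := by
    intro w
    induction w with
    | nil =>
      rintro ⟨j⟩
      show (j : J ⧸ Z) = ((cj _ (hprod []) j : J) : J ⧸ Z)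
      congr 1
      exact Subtype.ext (by simp [cj])
    | cons i w ih =>
      intro v
      obtain ⟨j, rfl⟩ := QuotientGroup.mk_surjective v
      rw [List.foldr_cons, ih]
      show ((cj _ (hL i) (cj _ (hprod w) j) : J) : J ⧸ Z) = ((cj _ (hprod (i :: w)) j : J) : J ⧸ Z)
      congr 1
      refine Subtype.ext ?_
      simp only [cj, MonoidHom.mk'_apply, List.map_cons, List.prod_cons]
      group
  let Q : J ⧸ Z → ℕ := fun v => ind ((v.out : G) * v.out)
  have hQ : ∀ j : J, Q j = ind ((j : G) * j) := by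
    intro j
    show ind (((j : J ⧸ Z).out : G) * (j : J ⧸ Z).out) = _
    obtain ⟨o, ho⟩ : ∃ o, o = (j : J ⧸ Z).out := ⟨_, rfl⟩
    rw [← ho]
    rcases hmk (j := j) (k := o) (by rw [ho]; exact (QuotientGroup.out_eq' _).symm) with e | e <;> rw [e]
    rw [show (j : G) * z * ((j : G) * z) = j * j * (z * z) from (X.cz j j.2).symm.mul_mul_mul_comm _ _, X.z2,
      mul_one]
  have hbc : ∀ j k : J, bform Q (j : J ⧸ Z) (k : J ⧸ Z) = ind ((j : G)⁻¹ * k * j * (k : G)⁻¹) := by
    intro j k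
    obtain ⟨c, hc⟩ : ∃ c, c = (j : G)⁻¹ * k * j * (k : G)⁻¹ := ⟨_, rfl⟩
    have hcz : c = 1 ∨ c = z := by
      have := X.cmt _ (inv_mem j.2) _ k.2
      rwa [inv_inv, ← hc] at this
    rw [bform, ← hc, ← QuotientGroup.mk_mul, hQ, hQ, hQ]
    have e : ((j * k : J) : G) * ((j * k : J) : G) = (j : G) * j * c * ((k : G) * k) := by
      rw [hc]; push_cast; group
    rw [e]
    have hjj := X.sq j j.2
    have hkk := X.sq k k.2
    have hjc : (j : G) * j * c = 1 ∨ (j : G) * j * c = z := by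
      rcases hjj with a | a <;> rcases hcz with b | b <;> simp [a, b, X.z2]
    rw [ind_mul X.z2 X.z1 hjc hkk, ind_mul X.z2 X.z1 hjj hcz]
    exact xor_shuffle _ _ _
  let H : Hyp (J ⧸ Z) :=
    { fin := inferInstance
      sq := by
        rintro ⟨j⟩
        show ((j * j : J) : J ⧸ Z) = 1
        rw [QuotientGroup.eq_one_iff, mem_zpowers_two hzJ2]
        rcases X.sq j j.2 with e | e
        exacts [Or.inl (Subtype.ext e), Or.inr (Subtype.ext e)]
      card := hcard
      ρ := fun i => act (L i) (hL i)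
      rel := by
        intro w w' h v
        show w.foldr _ v = w'.foldr _ v
        rw [hfold, hfold]
        obtain ⟨j, rfl⟩ := QuotientGroup.mk_surjective v
        obtain ⟨d, hd, hdef⟩ : ∃ d ∈ J, (w'.map L).prod = (w.map L).prod * d :=
          ⟨_, hrel w w' h, by group⟩
        show ((cj _ (hprod w) j : J) : J ⧸ Z) = ((cj _ (hprod w') j : J) : J ⧸ Z)
        have e : cj _ (hprod w') j = cj _ (hprod w) (⟨d, hd⟩ * j * ⟨d, hd⟩⁻¹) := Subtype.ext (by
          simp only [cj, MonoidHom.mk'_apply]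
          push_cast
          rw [hdef]; group)
        rw [e]
        show _ = act _ (hprod w) (((⟨d, hd⟩ : J) : J ⧸ Z) * (j : J ⧸ Z) * ((⟨d, hd⟩ : J) : J ⧸ Z)⁻¹)
        rw [hcomm _ (j : J ⧸ Z), mul_inv_cancel_right]
        rfl
      Q := Q
      Q_lt := fun v => ind_lt _
      Q_one := by rw [← QuotientGroup.mk_one, hQ]; simp [ind_one]
      Q_inv := by
        intro i v
        obtain ⟨j, rfl⟩ := QuotientGroup.mk_surjective v
        show Q ((cj _ (hL i) j : J) : J ⧸ Z) = _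
        rw [hQ, hQ]
        simp only [cj, MonoidHom.mk'_apply]
        rw [show L i * (j : G) * (L i)⁻¹ * (L i * (j : G) * (L i)⁻¹) = L i * ((j : G) * j) * (L i)⁻¹ by group]
        rcases X.sq j j.2 with e | e <;> rw [e]
        · simp
        · rw [mul_inv_eq_iff_eq_mul.2 (hL i).eq]
      bf_mul := by
        intro x y w
        obtain ⟨a, rfl⟩ := QuotientGroup.mk_surjective x
        obtain ⟨b, rfl⟩ := QuotientGroup.mk_surjective y
        obtain ⟨c, rfl⟩ := QuotientGroup.mk_surjective w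
        rw [← QuotientGroup.mk_mul, hbc, hbc, hbc]
        obtain ⟨p, hp⟩ : ∃ p, p = (a : G)⁻¹ * b * a * (b : G)⁻¹ := ⟨_, rfl⟩
        obtain ⟨r, hr⟩ : ∃ r, r = (a : G)⁻¹ * c * a * (c : G)⁻¹ := ⟨_, rfl⟩
        have hp' : p = 1 ∨ p = z := by
          have := X.cmt _ (inv_mem a.2) _ b.2
          rwa [inv_inv, ← hp] at this
        have hr' : r = 1 ∨ r = z := by
          have := X.cmt _ (inv_mem a.2) _ c.2
          rwa [inv_inv, ← hr] at this
        have hrb : (b : G) * r = r * b := by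
          rcases hr' with e | e <;> rw [e]
          · simp
          · exact (X.cz b b.2).eq
        rw [← hp, ← hr, ← ind_mul X.z2 X.z1 hp' hr']
        congr 1
        calc (a : G)⁻¹ * ((b * c : J) : G) * a * ((b * c : J) : G)⁻¹ = p * ((b : G) * r * (b : G)⁻¹) := by
              rw [hp, hr]; push_cast; group
          _ = p * r := by rw [hrb, mul_inv_cancel_right]
      nd := by
        intro x hx
        obtain ⟨a, rfl⟩ := QuotientGroup.mk_surjective x
        by_contra hne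
        push Not at hne
        refine hx ((QuotientGroup.eq_one_iff a).2 ((mem_zpowers_two hzJ2).2 ?_))
        rcases X.zc a a.2 (fun k hk => by
          have h := hne ((⟨k, hk⟩ : J) : J ⧸ Z)
          rw [hbc] at h
          have h1 : (a : G)⁻¹ * k * a * k⁻¹ = 1 := by by_contra e; exact h (ind_of_ne e)
          show (a : G) * k = k * a
          rw [mul_inv_eq_one, mul_assoc, inv_mul_eq_iff_eq_mul] at h1
          exact h1.symm) with e | e
        exacts [Or.inl (Subtype.ext e), Or.inr (Subtype.ext e)]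
      moved := by
        by_contra hfix
        push Not at hfix
        apply hL0
        have h2 : ∀ j ∈ J, Commute (L 0 * L 0) j := by
          intro j hj
          have e := hmk (hfix ((⟨j, hj⟩ : J) : J ⧸ Z))
          simp only [cj, MonoidHom.mk'_apply] at e
          have hz0 : L 0 * z * (L 0)⁻¹ = z := mul_inv_eq_iff_eq_mul.2 (hL 0).eq
          refine mul_inv_eq_iff_eq_mul.1 ?_
          rcases e with e | e
          · calc L 0 * L 0 * j * (L 0 * L 0)⁻¹ = L 0 * (L 0 * j * (L 0)⁻¹) * (L 0)⁻¹ := by group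
              _ = j := by rw [← e]; exact e.symm
          · have e' : L 0 * j * (L 0)⁻¹ = j * z :=
              calc L 0 * j * (L 0)⁻¹ = L 0 * j * (L 0)⁻¹ * z * z := by rw [mul_assoc _ z z, X.z2, mul_one]
                _ = j * z := congrArg (· * z) e.symm
            calc L 0 * L 0 * j * (L 0 * L 0)⁻¹ = L 0 * (L 0 * j * (L 0)⁻¹) * (L 0)⁻¹ := by group
              _ = L 0 * (j * z) * (L 0)⁻¹ := by rw [e']
              _ = (L 0 * j * (L 0)⁻¹) * (L 0 * z * (L 0)⁻¹) := by group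
              _ = j := by rw [hz0, e', mul_assoc, X.z2, mul_one]
        have h00 : L 0 * L 0 ∈ J := X.self _ ((hL 0).mul_left (hL 0)) h2
        have h3 := hrel [0, 0, 0] [] (by decide +kernel)
        simp only [List.map_cons, List.map_nil, List.prod_cons, List.prod_nil, mul_one] at h3
        have h := mul_mem (inv_mem h00) (inv_mem h3)
        rwa [inv_inv, show (L 0 * L 0)⁻¹ * (L 0 * (L 0 * L 0)) = L 0 by group] at h }
  obtain ⟨C, hC, ⟨K⟩⟩ := H.exists_coords
  choose rp hrp using fun v : ℕ => QuotientGroup.mk_surjective (Hyp.comb K.b v)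
  let vc : G → ℕ := fun j => if hj : j ∈ J then ((Equiv.ofBijective _ K.bij).symm ((⟨j, hj⟩ : J) : J ⧸ Z) : ℕ) else 0
  have hvc : ∀ j (hj : j ∈ J), vc j < 256 ∧ Hyp.comb K.b (vc j) = ((⟨j, hj⟩ : J) : J ⧸ Z) := fun j hj => by
    simp only [vc, dif_pos hj]
    exact ⟨Fin.isLt _, (Equiv.ofBijective _ K.bij).apply_symm_apply _⟩
  have hinj : ∀ u < 256, ∀ v < 256, Hyp.comb K.b u = Hyp.comb K.b v → u = v := fun u hu v hv h =>
    congrArg Fin.val (K.bij.1 (a₁ := ⟨u, hu⟩) (a₂ := ⟨v, hv⟩) h)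
  have hlt : ∀ j, vc j < 256 := fun j => by
    by_cases hj : j ∈ J
    · exact (hvc j hj).1
    · simp [vc, hj]
  have hmul : ∀ j ∈ J, ∀ k ∈ J, vc (j * k) = vc j ^^^ vc k := fun j hj k hk => by
    refine hinj _ (hlt _) _ (xor_lt (hlt _) (hlt _)) ?_
    rw [(hvc _ (mul_mem hj hk)).2, H.comb_xor, (hvc j hj).2, (hvc k hk).2]
    rfl
  have hrep : ∀ v < 256, vc (rp v : G) = v := fun v hv => by
    refine hinj _ (hlt _) _ hv ?_
    rw [(hvc _ (rp v).2).2, Subtype.coe_eta, hrp]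
  obtain ⟨κ, hκ⟩ : ∃ κ : G → ℕ, ∀ h, κ h = mkc fun i => vc (h * (rp (2 ^ i) : G) * h⁻¹) := ⟨_, fun _ => rfl⟩
  have hconj : ∀ h, Commute h z → ∀ j ∈ J, ∀ k ∈ J, vc j = vc k → vc (h * j * h⁻¹) = vc (h * k * h⁻¹) := by
    intro h hh j hj k hk e
    have h1 := congrArg (Hyp.comb K.b) e
    rw [(hvc j hj).2, (hvc k hk).2] at h1
    refine hinj _ (hlt _) _ (hlt _) ?_
    rw [(hvc _ (X.norm h hh j hj)).2, (hvc _ (X.norm h hh k hk)).2]
    exact congrArg (act h hh) h1
  have hact : ∀ h, Commute h z → ∀ j ∈ J, vc (h * j * h⁻¹) = ap (κ h) (vc j) := by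
    intro h hh j hj
    rw [hκ]
    refine ((exists_code (f := fun v => vc (h * (rp v : G) * h⁻¹)) (fun v _ => hlt _) (fun u hu v hv => ?_)
      (hlt j)).trans ?_).symm
    · rw [← hmul _ (X.norm h hh _ (rp u).2) _ (X.norm h hh _ (rp v).2),
        show h * (rp u : G) * h⁻¹ * (h * (rp v : G) * h⁻¹) = h * ((rp u : G) * rp v) * h⁻¹ by group]
      exact hconj h hh _ (rp _).2 _ (mul_mem (rp u).2 (rp v).2)
        (by rw [hmul _ (rp u).2 _ (rp v).2, hrep _ (xor_lt hu hv), hrep _ hu, hrep _ hv])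
    · exact hconj h hh _ (rp _).2 _ hj (hrep _ (hlt j))
  have hκlt : ∀ h, κ h < 2 ^ 64 := fun h => hκ h ▸ mkc_lt fun i _ => hlt _
  have hgen : ∀ i < 4, κ (L i) = C.gens.getD i 0 := by
    intro i hi
    rw [hκ, ← mkc_byte (gens_lt C hC i hi)]
    refine mkc_congr fun j hj => ?_
    have hp : 2 ^ j < 256 := lt_of_lt_of_le (Nat.pow_lt_pow_right (by norm_num) hj) le_rfl
    refine hinj _ (hlt _) _ (byte_lt _ _) ?_
    rw [(hvc _ (X.norm _ (hL i) _ (rp _).2)).2, ← K.gens i hi j hj, ← Hyp.comb_pow K.b hj]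
    show ((cj _ (hL i) (rp (2 ^ j)) : J) : J ⧸ Z) = _
    rw [← hrp (2 ^ j)]
    rfl
  have hz0 : vc z = 0 := by
    refine hinj _ (hlt _) _ (by norm_num) ?_
    rw [(hvc z X.zJ).2, Hyp.comb_zero]
    exact (QuotientGroup.eq_one_iff _).2 (Subgroup.mem_zpowers _)
  have hzero : ∀ j ∈ J, vc j = 0 → j = 1 ∨ j = z := fun j hj e => by
    have h := (hvc j hj).2
    rw [e, Hyp.comb_zero] at h
    exact hmk1 h.symm
  have hsq : ∀ j ∈ J, j * j = if C.q (vc j) = 1 then z else 1 := by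
    intro j hj
    rw [← K.form _ (hlt j), (hvc j hj).2]
    show j * j = if Q _ = 1 then z else 1
    rw [hQ]
    rcases X.sq j hj with e | e
    · rw [if_neg]; · exact e
      simp only; rw [e, ind_one]; norm_num
    · rw [if_pos]; · exact e
      simp only; rw [e, ind_of_ne X.z1]
  have hker : ∀ h, Commute h z → κ h = idc → h ∈ J := by
    intro h hh he
    -- the commutators with an element acting trivially form a functional
    have hfun : ∀ g, Commute g z → (∀ j ∈ J, g * j * g⁻¹ * j⁻¹ = 1 ∨ g * j * g⁻¹ * j⁻¹ = z) →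
        ∀ j ∈ J, ∀ k ∈ J, ind (g * (j * k) * g⁻¹ * (j * k)⁻¹) =
          ind (g * j * g⁻¹ * j⁻¹) ^^^ ind (g * k * g⁻¹ * k⁻¹) := by
      intro g _ hg j hj k hk
      rw [← ind_mul X.z2 X.z1 (hg j hj) (hg k hk)]
      congr 1
      calc g * (j * k) * g⁻¹ * (j * k)⁻¹ = g * j * g⁻¹ * j⁻¹ * (j * (g * k * g⁻¹ * k⁻¹) * j⁻¹) := by group
        _ = _ := by
          rcases hg k hk with e | e <;> rw [e]
          · simp
          · rw [(X.cz j hj).eq, mul_inv_cancel_right]
    have hfvc : ∀ g, Commute g z → (∀ j ∈ J, g * j * g⁻¹ * j⁻¹ = 1 ∨ g * j * g⁻¹ * j⁻¹ = z) →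
        ∀ j ∈ J, ind (g * j * g⁻¹ * j⁻¹) = ap (mkc fun i => ind (g * (rp (2 ^ i) : G) * g⁻¹ * (rp (2 ^ i) : G)⁻¹))
          (vc j) := by
      intro g hgz hg j hj
      have hwd : ∀ a ∈ J, ∀ b ∈ J, vc a = vc b →
          ind (g * a * g⁻¹ * a⁻¹) = ind (g * b * g⁻¹ * b⁻¹) := by
        intro a ha b hb e
        have e1 : vc (a⁻¹ * b) = 0 := by
          have h1 := hmul a ha _ (mul_mem (inv_mem ha) hb)
          rw [mul_inv_cancel_left, ← e] at h1
          calc vc (a⁻¹ * b) = vc a ^^^ (vc a ^^^ vc (a⁻¹ * b)) := by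
                rw [← Nat.xor_assoc, Nat.xor_self, Nat.zero_xor]
            _ = 0 := by rw [← h1, Nat.xor_self]
        have hd : ind (g * (a⁻¹ * b) * g⁻¹ * (a⁻¹ * b)⁻¹) = 0 := by
          rcases hzero _ (mul_mem (inv_mem ha) hb) e1 with e2 | e2 <;> rw [e2]
          · simp [ind_one]
          · rw [hgz.eq, mul_inv_cancel_right, mul_inv_cancel, ind_one]
        have := hfun g hgz hg a ha _ (mul_mem (inv_mem ha) hb)
        rw [mul_inv_cancel_left, hd, Nat.xor_zero] at this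
        exact this.symm
      refine ((exists_code (f := fun v => ind (g * (rp v : G) * g⁻¹ * (rp v : G)⁻¹))
        (fun v _ => lt_trans (ind_lt _) (by norm_num)) (fun u hu v hv => ?_) (hlt j)).trans ?_).symm
      · rw [← hfun g hgz hg _ (rp u).2 _ (rp v).2]
        exact hwd _ (rp _).2 _ (mul_mem (rp u).2 (rp v).2)
          (by rw [hmul _ (rp u).2 _ (rp v).2, hrep _ (xor_lt hu hv), hrep _ hu, hrep _ hv])
      · exact hwd _ (rp _).2 _ hj (hrep _ (hlt j))
    have htriv : ∀ j ∈ J, h * j * h⁻¹ * j⁻¹ = 1 ∨ h * j * h⁻¹ * j⁻¹ = z := by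
      intro j hj
      refine hzero _ (mul_mem (X.norm h hh j hj) (inv_mem hj)) ?_
      have e : vc (h * j * h⁻¹) = vc j := by rw [hact h hh j hj, he, ap_idc (hlt j)]
      have h2 := hmul _ (mul_mem (X.norm h hh j hj) (inv_mem hj)) j hj
      rw [inv_mul_cancel_right, e] at h2
      calc vc (h * j * h⁻¹ * j⁻¹) = vc (h * j * h⁻¹ * j⁻¹) ^^^ vc j ^^^ vc j := by
            rw [Nat.xor_assoc, Nat.xor_self, Nat.xor_zero]
        _ = 0 := by rw [← h2, Nat.xor_self]
    obtain ⟨f, hf⟩ : ∃ f : ℕ → ℕ, ∀ i, f i = ind (h * (rp (2 ^ i) : G) * h⁻¹ * (rp (2 ^ i) : G)⁻¹) :=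
      ⟨_, fun _ => rfl⟩
    obtain ⟨hm, hmb⟩ := bitsOf_spec (f := f) fun i => hf i ▸ ind_lt _
    have hd := dual_all C hC
    simp only [dualChk, List.all_eq_true, List.any_eq_true, beq_iff_eq, List.mem_range] at hd
    obtain ⟨u, hu, hub⟩ := hd _ (List.mem_range.2 hm)
    have hu' : u < 256 := List.mem_range.1 hu
    have hk : ∀ j ∈ J, (rp u : G) * j * (rp u : G)⁻¹ * j⁻¹ = 1 ∨ (rp u : G) * j * (rp u : G)⁻¹ * j⁻¹ = z :=
      fun j hj => X.cmt _ (rp u).2 j hj
    have hkz : Commute (rp u : G) z := X.cz _ (rp u).2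
    have heq : ∀ i < 8, ind ((rp u : G) * (rp (2 ^ i) : G) * (rp u : G)⁻¹ * (rp (2 ^ i) : G)⁻¹) = f i := by
      intro i hi
      rw [← hmb i hi, ← hub i hi]
      have e := hbc (rp u)⁻¹ (rp (2 ^ i))
      push_cast at e
      rw [inv_inv] at e
      rw [← e]
      have hp : 2 ^ i < 256 := lt_of_lt_of_le (Nat.pow_lt_pow_right (by norm_num) hi) le_rfl
      rw [QuotientGroup.mk_inv, H.inv_eq_self, hrp, hrp, bform, ← H.comb_xor, cform]
      exact congrArg₂ (· ^^^ ·) (congrArg₂ (· ^^^ ·) (K.form _ (xor_lt hu' hp)) (K.form _ hu')) (K.form _ hp)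
    have hcentral : ∀ j ∈ J, Commute ((rp u : G)⁻¹ * h) j := by
      intro j hj
      have e1 := hfvc h hh htriv j hj
      have e2 := hfvc _ hkz hk j hj
      rw [mkc_congr (g := f) fun i hi => (hf i).symm] at e1
      rw [mkc_congr (g := f) heq, ← e1] at e2
      have e3 : (rp u : G) * j * (rp u : G)⁻¹ * j⁻¹ = h * j * h⁻¹ * j⁻¹ := by
        rcases hk j hj with a | a <;> rcases htriv j hj with b | b <;> rw [a, b] at e2 ⊢
        · rw [ind_one, ind_of_ne X.z1] at e2; exact absurd e2 (by norm_num)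
        · rw [ind_one, ind_of_ne X.z1] at e2; exact absurd e2 (by norm_num)
      have e4 : (rp u : G) * j * (rp u : G)⁻¹ = h * j * h⁻¹ := mul_right_cancel e3
      refine mul_inv_eq_iff_eq_mul.1 ?_
      calc (rp u : G)⁻¹ * h * j * ((rp u : G)⁻¹ * h)⁻¹ = (rp u : G)⁻¹ * (h * j * h⁻¹) * (rp u : G) := by group
        _ = j := by rw [← e4]; group
    have hin := X.self _ (hkz.inv_left.mul_left hh) hcentral
    have := mul_mem (rp u).2 hin
    rwa [mul_inv_cancel_left] at this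
  exact ⟨C, { J := J, ext := X, vc := vc, κ := κ, std := hC, vc_lt := hlt, vc_mul := hmul, vc_zero := hzero,
              vc_z := hz0, vc_surj := fun v hv => ⟨rp v, (rp v).2, hrep v hv⟩, sq := hsq, κ_lt := hκlt, act := hact,
              gens := fun i hi => ⟨L i, hL i, hgen i hi⟩, ker := hker }, rfl, hgen⟩

end Build

end Cfsg.Lib.U62Type
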