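import Cfsg.Prelude.Def_Transfer
import Cfsg.Prelude.Def_TwoFusion
import Cfsg.Agent.Lib.PGroup.ExtraspecialClassify
import Cfsg.Agent.Lib.U62Type.Frame

/-!
# A 2-core which is a product of an extraspecial group and a group of order two
-/

set_option autoImplicit false
set_option linter.unusedSectionVars false
set_option linter.style.haveILetI false

namespace Cfsg.Lib.U62Type

open scoped commutatorElement

variable {G : Type*} [Group G]

/-- The 2-core seen in the group. -/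
structure Core (z a : G) (J : Subgroup G) : Prop where
  z2 : z * z = 1
  z1 : z ≠ 1
  a2 : a * a = 1
  a1 : a ≠ 1
  az : a ≠ z
  zJ : z ∈ J
  aJ : a ∈ J
  cz : ∀ j ∈ J, Commute j z
  ca : ∀ j ∈ J, Commute j a
  norm : ∀ h, Commute h z → ∀ j ∈ J, h * j * h⁻¹ ∈ J
  sq : ∀ j ∈ J, j * j = 1 ∨ j * j = z
  cmt : ∀ j ∈ J, ∀ k ∈ J, j * k * j⁻¹ * k⁻¹ = 1 ∨ j * k * j⁻¹ * k⁻¹ = z
  card : Nat.card J = 1024
  self : ∀ h, Commute h z → (∀ j ∈ J, Commute h j) → h ∈ J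
  zc : ∀ j ∈ J, (∀ k ∈ J, Commute j k) → j = 1 ∨ j = z ∨ j = a ∨ j = a * z

theorem core_of_hyp [Finite G] {z : G} (hz : orderOf z = 2)
    {J₀ A E : Subgroup ↥(Subgroup.centralizer ({z} : Set G))} [hJn : J₀.Normal]
    (hAE : Cfsg.IsInternalDirectProduct A E J₀) (hA : Nat.card ↥A = 2)
    (hE : Cfsg.IsExtraspecial 2 ↥E) (hEc : Nat.card ↥E = 2 ^ 9)
    (zc : ↥(Subgroup.centralizer ({z} : Set G))) (hzc : (zc : G) = z) (hJ' : ⁅J₀, J₀⁆ = Subgroup.zpowers zc)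
    (hCJ : Subgroup.centralizer (J₀ : Set ↥(Subgroup.centralizer ({z} : Set G))) ≤ J₀) :
    ∃ a₀ : ↥(Subgroup.centralizer ({z} : Set G)),
      a₀ ∈ J₀ ∧ (∀ j ∈ J₀, j * a₀ = a₀ * j) ∧
        Core z (a₀ : G) (J₀.map (Subgroup.centralizer ({z} : Set G)).subtype) := by
  classical
  haveI : Fact (Nat.Prime 2) := ⟨Nat.prime_two⟩
  obtain ⟨hAJ, hEJ, hcomm, hinf, hsup⟩ := hAE
  have hz2 : z * z = 1 := by rw [← pow_two, ← hz, pow_orderOf_eq_one]
  have hz1 : z ≠ 1 := fun h => by rw [h, orderOf_one] at hz; omega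
  have hzc1 : zc ≠ 1 := fun e => hz1 (by rw [← hzc, e]; rfl)
  have hzc2 : zc * zc = 1 := Subtype.ext (by rw [Subgroup.coe_mul, hzc, hz2]; rfl)
  obtain ⟨c, hS, hcen⟩ := Cfsg.Lib.Extraspecial.exists_setting hE
  let φ : A × E →* ↥(Subgroup.centralizer ({z} : Set G)) :=
    MonoidHom.noncommCoprod A.subtype E.subtype fun x y => hcomm x.1 x.2 y.1 y.2
  have hφ : ∀ x : A × E, φ x = (x.1 : ↥(Subgroup.centralizer ({z} : Set G))) * x.2 := fun _ => rfl
  have hrange : φ.range = J₀ := by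
    refine le_antisymm ?_ (hsup ▸ sup_le (fun x hx => ⟨(⟨x, hx⟩, 1), ?_⟩) fun x hx => ⟨(1, ⟨x, hx⟩), ?_⟩)
    · rintro _ ⟨x, rfl⟩
      rw [hφ]
      exact mul_mem (hAJ x.1.2) (hEJ x.2.2)
    · rw [hφ]; exact mul_one x
    · rw [hφ]; exact one_mul x
  have hinj : Function.Injective φ := by
    refine (injective_iff_map_eq_one φ).2 fun x hx => ?_
    rw [hφ] at hx
    have h1 : (x.1 : ↥(Subgroup.centralizer ({z} : Set G))) ∈ A ⊓ E :=
      Subgroup.mem_inf.2 ⟨x.1.2, by rw [eq_inv_of_mul_eq_one_left hx]; exact inv_mem x.2.2⟩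
    rw [hinf, Subgroup.mem_bot] at h1
    rw [h1, one_mul] at hx
    exact Prod.ext (Subtype.ext h1) (Subtype.ext hx)
  have hsplit : ∀ j ∈ J₀, ∃ α ∈ A, ∃ e ∈ E, j = α * e := fun j hj => by
    rw [← hrange] at hj
    obtain ⟨x, rfl⟩ := hj
    exact ⟨_, x.1.2, _, x.2.2, rfl⟩
  obtain ⟨y, hy, hyu⟩ := (Nat.card_eq_two_iff' (1 : A)).1 hA
  have hAmem : ∀ α ∈ A, α = 1 ∨ α = (y : ↥(Subgroup.centralizer ({z} : Set G))) := fun α hα => by
    by_cases h : (⟨α, hα⟩ : A) = 1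
    · exact Or.inl (congrArg Subtype.val h)
    · exact Or.inr (congrArg Subtype.val (hyu ⟨α, hα⟩ h))
  have hy2 : (y : ↥(Subgroup.centralizer ({z} : Set G))) * y = 1 := by
    rcases hAmem _ (mul_mem y.2 y.2) with e | e
    · exact e
    · exact absurd (Subtype.ext (mul_eq_left.1 e) : y = 1) hy
  have hEc' : ∀ u ∈ E, ∀ v ∈ E, u * v * u⁻¹ * v⁻¹ ∈ (Subgroup.zpowers c).map E.subtype := fun u hu v hv =>
    ⟨_, hS.comm (⟨u, hu⟩ : E) ⟨v, hv⟩, rfl⟩
  have hcomm' : ∀ α ∈ A, ∀ β ∈ A, α * β = β * α := fun α hα β hβ => by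
    rcases hAmem α hα with rfl | rfl <;> rcases hAmem β hβ with rfl | rfl <;> simp
  have hle : ⁅J₀, J₀⁆ ≤ (Subgroup.zpowers c).map E.subtype := by
    refine Subgroup.commutator_le.2 fun p hp q hq => ?_
    obtain ⟨α, hα, u, hu, rfl⟩ := hsplit p hp
    obtain ⟨β, hβ, v, hv, rfl⟩ := hsplit q hq
    rw [commutatorElement_def]
    have h1 : α * u * (β * v) * (α * u)⁻¹ * (β * v)⁻¹ = u * v * u⁻¹ * v⁻¹ := by
      calc α * u * (β * v) * (α * u)⁻¹ * (β * v)⁻¹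
          = α * (u * β) * v * u⁻¹ * α⁻¹ * v⁻¹ * β⁻¹ := by group
        _ = α * β * (u * v * u⁻¹) * α⁻¹ * v⁻¹ * β⁻¹ := by rw [← hcomm β hβ u hu]; group
        _ = α * β * α⁻¹ * (u * v * u⁻¹ * v⁻¹) * β⁻¹ := by
          rw [mul_assoc (α * β) _ α⁻¹, ← hcomm α⁻¹ (inv_mem hα) (u * v * u⁻¹) (mul_mem (mul_mem hu hv) (inv_mem hu))]
          group
        _ = α * β * α⁻¹ * β⁻¹ * (u * v * u⁻¹ * v⁻¹) := by
          rw [mul_assoc _ _ β⁻¹, ← hcomm β⁻¹ (inv_mem hβ) _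
            (mul_mem (mul_mem (mul_mem hu hv) (inv_mem hu)) (inv_mem hv))]
          group
        _ = _ := by rw [hcomm' α hα β hβ]; group
    rw [h1]
    exact hEc' u hu v hv
  have hzE : zc ∈ E ∧ (c : ↥(Subgroup.centralizer ({z} : Set G))) = zc := by
    obtain ⟨w, hw, hwe⟩ := hle (hJ' ▸ Subgroup.mem_zpowers zc)
    obtain ⟨k, hk, hk'⟩ := hS.exists_pow hw
    interval_cases k
    · rw [pow_zero] at hk'
      exact absurd (by rw [← hwe, ← hk']; rfl) hzc1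
    · rw [pow_one] at hk'
      rw [← hwe, ← hk']
      exact ⟨c.2, rfl⟩
  obtain ⟨hzE, hcz⟩ := hzE
  have hzmem : ∀ w, w ∈ Subgroup.zpowers zc → (w : G) = 1 ∨ (w : G) = z := fun w hw => by
    rcases (mem_zpowers_two hzc2).1 hw with rfl | rfl
    exacts [Or.inl rfl, Or.inr hzc]
  have hay : ∀ j ∈ J₀, j * y = (y : ↥(Subgroup.centralizer ({z} : Set G))) * j := fun j hj => by
    obtain ⟨α, hα, u, hu, rfl⟩ := hsplit j hj
    rw [mul_assoc, ← hcomm _ y.2 u hu, ← mul_assoc, hcomm' α hα _ y.2, mul_assoc]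
  refine ⟨y, hAJ y.2, hay, hz2, hz1, congrArg Subtype.val hy2, fun e => hy (Subtype.ext (Subtype.ext e)),
    fun e => ?_, ⟨zc, hEJ hzE, hzc⟩, ⟨y, hAJ y.2, rfl⟩, ?_, ?_, ?_, ?_, ?_, ?_, ?_, ?_⟩
  · have h1 : (y : ↥(Subgroup.centralizer ({z} : Set G))) = zc := Subtype.ext (e.trans hzc.symm)
    have h2 : zc ∈ A ⊓ E := Subgroup.mem_inf.2 ⟨h1 ▸ y.2, hzE⟩
    rw [hinf, Subgroup.mem_bot] at h2
    exact hzc1 h2
  · rintro _ ⟨j, -, rfl⟩
    exact Subgroup.mem_centralizer_singleton_iff.1 j.2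
  · rintro _ ⟨j, hj, rfl⟩
    exact congrArg Subtype.val (hay j hj)
  · rintro h hh _ ⟨j, hj, rfl⟩
    exact ⟨⟨h, Subgroup.mem_centralizer_singleton_iff.2 hh⟩ * j *
      ⟨h, Subgroup.mem_centralizer_singleton_iff.2 hh⟩⁻¹, Subgroup.Normal.conj_mem inferInstance j hj _, rfl⟩
  · rintro _ ⟨j, hj, rfl⟩
    obtain ⟨α, hα, u, hu, rfl⟩ := hsplit j hj
    have e : α * u * (α * u) = u * u := by
      rw [mul_assoc, ← mul_assoc u, ← hcomm α hα u hu, mul_assoc α u, ← mul_assoc]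
      rcases hAmem α hα with rfl | rfl
      · rw [mul_one, one_mul]
      · rw [hy2, one_mul]
    rcases hS.pow_two_cases (⟨u, hu⟩ : E) with h | h <;> rw [pow_two] at h <;>
      have h' := congrArg (fun x : E => (x : ↥(Subgroup.centralizer ({z} : Set G)))) h
    · exact Or.inl (congrArg Subtype.val (e.trans h'))
    · exact Or.inr ((congrArg Subtype.val (e.trans h')).trans (by rw [hcz]; exact hzc))
  · rintro _ ⟨j, hj, rfl⟩ _ ⟨k, hk, rfl⟩
    have h1 : j * k * j⁻¹ * k⁻¹ ∈ Subgroup.zpowers zc := by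
      rw [← hJ', ← commutatorElement_def]
      exact Subgroup.commutator_mem_commutator hj hk
    exact hzmem _ h1
  · rw [Subgroup.card_map_of_injective Subtype.val_injective, ← hrange,
      ← Nat.card_congr (MonoidHom.ofInjective hinj).toEquiv, Nat.card_prod, hA, hEc]
    norm_num
  · intro h hh hc
    exact ⟨⟨h, Subgroup.mem_centralizer_singleton_iff.2 hh⟩, hCJ (Subgroup.mem_centralizer_iff.2 fun j hj =>
      Subtype.ext (hc _ ⟨j, hj, rfl⟩).eq.symm), rfl⟩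
  · rintro _ ⟨j, hj, rfl⟩ hk
    obtain ⟨α, hα, u, hu, rfl⟩ := hsplit j hj
    have h1 : (⟨u, hu⟩ : E) ∈ Subgroup.center E := Subgroup.mem_center_iff.2 fun k => Subtype.ext (by
      have h2 : (k : ↥(Subgroup.centralizer ({z} : Set G))) * (α * u) = α * u * k :=
        Subtype.ext (hk _ ⟨k.1, hEJ k.2, rfl⟩).eq.symm
      rw [← mul_assoc, ← hcomm α hα k.1 k.2, mul_assoc, mul_assoc] at h2
      exact mul_left_cancel h2)
    replace h1 := hcen.2 _ (Subgroup.mem_top _) fun w _ => (Subgroup.mem_center_iff.1 h1 w).symm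
    obtain ⟨n, hn, hn'⟩ := hS.exists_pow h1
    have hu' : u = 1 ∨ u = zc := by
      interval_cases n
      · left; rw [pow_zero] at hn'; exact (congrArg Subtype.val hn').symm
      · right; rw [pow_one] at hn'; rw [← hcz]; exact (congrArg Subtype.val hn').symm
    rcases hAmem α hα with rfl | rfl <;> rcases hu' with rfl | rfl <;> simp [hzc]

end Cfsg.Lib.U62Type
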