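import Cfsg.Agent.Lib.U62Type.OuterSetup

/-!
# The code of an automorphism need not come from the centraliser
-/

set_option autoImplicit false
set_option linter.unusedSectionVars false
set_option linter.style.haveILetI false

namespace Cfsg.Lib.U62Type

variable {G : Type*} [Group G] [Finite G] {z : G} {C : Cfg}

/-- An element inducing the outer automorphism has a listed code. -/
theorem Frame.out_code' (Fr : Frame C z) {k : ℕ} (hklt : k < 2 ^ 64) (hq : ∀ v < 256, C.q (ap k v) = C.q v)
    (h2 : cm k k = idc) (himg : ∀ i < 4, cm k (C.gens.getD i 0) = cm (imgC C.gens i) k) : k ∈ outL C := by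
  have hc := Fr.cand_ok
  simp only [candChk, Bool.and_eq_true, List.all_eq_true, Bool.or_eq_true, List.mem_range, nbeq_iff, Nat.blt_eq,
    List.contains_iff_mem, Bool.not_eq_true', List.mem_filter, vecs] at hc
  obtain ⟨⟨hex, hst⟩, hseed, hall⟩ := hc
  have hint := intertwine C.gens himg
  have hgens : C.gens ∈ [gensU, gensP] := by rcases Fr.gens_cases with e | e <;> simp [e]
  have hplane : ∀ v ∈ planeL C, v < 256 → ap k v ∈ planeL C := by
    intro v hv hv256
    refine (plane_ok Fr _ (ap_lt _ _)).1 fun i hi => ?_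
    have hfix : ∀ i < 4, ap (imgC C.gens i) (ap k v) = ap k v := fun i hi => by
      rw [← ap_cm, ← himg i hi, ap_cm, (plane_ok Fr v hv256).2 hv i hi]
    by_cases h0 : i = 0
    · subst h0
      rw [← imgC_zero _ hgens, ap_cm, hfix 0 hi, hfix 0 hi]
    · rw [← imgC_other _ hgens i hi h0]; exact hfix i hi
  obtain ⟨a, ha⟩ : ∃ a, a = ap k 1 := ⟨_, rfl⟩
  have hal : a < 256 ∧ ∀ w ∈ stbL C, ap (cw ((List.range 4).map (imgC C.gens)) w) a = a := by
    refine ⟨ha ▸ ap_lt _ _, fun w hw => ?_⟩
    obtain ⟨hw4, hw1⟩ := hst w hw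
    rw [ha, ← hint w hw4 1 (by norm_num), hw1]
  have h0 : 0 ∈ planeL C := by unfold planeL; split <;> decide
  obtain ⟨b, c, hb, hc', hbc⟩ : ∃ b c, b ∈ planeL C ∧ c ∈ planeL C ∧ ∀ i < 8,
      exVal ((List.range 4).map (imgC C.gens)) [a, b, c] ((exprL C).getD i []) = ap k (2 ^ i) := by
    by_cases hU : isU C.gens = true
    · refine ⟨0, 0, h0, h0, fun i hi => ?_⟩
      obtain ⟨e, he⟩ := hex i hi
      rw [← e]
      refine (exVal_map _ fun p hp => ?_).symm
      obtain ⟨-, hw⟩ := he p hp
      have hp0 : p.1 = 0 := by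
        rw [exprL, if_pos hU] at hp
        by_cases hlt : i < exprU.length
        · rw [List.getD_eq_getElem _ _ hlt] at hp
          exact exprU_zero _ (List.getElem_mem _) p hp
        · rw [List.getD_eq_default _ _ (not_lt.1 hlt)] at hp; simp at hp
      rw [hp0, hint p.2 hw _ (by decide), ha]
      rfl
    · have hs : ∀ j, j = 1 ∨ j = 2 → seedL.getD j 0 ∈ planeL C := fun j hj => by
        rcases hj with rfl | rfl
        · rcases hseed 1 (by norm_num) with (e | e) | e
          exacts [absurd e (by norm_num), absurd e hU, e]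
        · rcases hseed 2 (by norm_num) with (e | e) | e
          exacts [absurd e (by norm_num), absurd e hU, e]
      refine ⟨ap k 64, ap k 128, hplane _ (hs 1 (Or.inl rfl)) (by norm_num),
        hplane _ (hs 2 (Or.inr rfl)) (by norm_num), fun i hi => ?_⟩
      obtain ⟨e, he⟩ := hex i hi
      rw [← e]
      refine (exVal_map _ fun p hp => ?_).symm
      obtain ⟨h3, hw⟩ := he p hp
      obtain ⟨n, hn⟩ : ∃ n, n = p.1 := ⟨_, rfl⟩
      rw [← hn] at h3 ⊢
      interval_cases n <;> rw [hint p.2 hw _ (by decide)] <;> first | (rw [ha]; rfl) | rfl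
  have hmk : (mkc fun i => exVal ((List.range 4).map (imgC C.gens)) [a, b, c] ((exprL C).getD i [])) = k := by
    conv_rhs => rw [← mkc_byte hklt]
    exact mkc_congr fun i hi => by rw [hbc i hi, ap_pow hi]
  have := hall a hal b hb c hc'
  rw [hmk] at this
  refine this.resolve_left fun hbad => ?_
  rw [Bool.eq_false_iff] at hbad
  refine hbad ?_
  simp only [Bool.and_eq_true, List.all_eq_true, List.mem_range, beq_iff_eq, nbeq_iff]
  exact ⟨⟨h2, himg⟩, fun i hi => hq _ (lt_of_lt_of_le (Nat.pow_lt_pow_right (by norm_num) hi) le_rfl)⟩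

end Cfsg.Lib.U62Type
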