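import Cfsg.Agent.Lib.U62Type.FourFix
import Cfsg.Agent.Lib.U62Type.FourHyp
import Cfsg.Agent.Lib.U62Type.FourOutCode
import Cfsg.Agent.S0270

/-!
# Coordinates on a 2-core with centre of order four
-/

set_option autoImplicit false
set_option linter.unusedSectionVars false
set_option linter.style.haveILetI false

namespace Cfsg.Lib.U62Type

variable {G : Type*} [Group G] [Finite G]

/-- Everything there is to know about the centraliser. -/
structure Full {C : Cfg} {z a : G} (Q : Quad C z a) : Prop where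
  cardJ : Nat.card Q.J = 1024
  card : Nat.card ↥(Subgroup.centralizer ({z} : Set G)) = 2 * (1024 * 25920)
  inner : ∃ K : Subgroup G, Nat.card K = 1024 * 25920 ∧ ∀ h, h ∈ K ↔ Q.Inn h
  self : ∀ h, Commute h z → (∀ j ∈ Q.J, Commute h j) → h ∈ Q.J

omit [Finite G] in
theorem card_map_mk (N : Subgroup G) [N.Normal] {S : Subgroup G} (h : N ≤ S) :
    Nat.card ↥(S.map (QuotientGroup.mk' N)) * Nat.card N = Nat.card S := by
  obtain ⟨f, hf⟩ : ∃ f : S →* G ⧸ N, f = (QuotientGroup.mk' N).comp S.subtype := ⟨_, rfl⟩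
  have hrange : f.range = S.map (QuotientGroup.mk' N) := by
    rw [hf, MonoidHom.range_comp, Subgroup.range_subtype]
  have hker : f.ker = N.subgroupOf S := by
    ext x
    rw [MonoidHom.mem_ker, hf, Subgroup.mem_subgroupOf]
    exact QuotientGroup.eq_one_iff (x : G)
  rw [Subgroup.card_eq_card_quotient_mul_card_subgroup f.ker,
    Nat.card_congr (QuotientGroup.quotientKerEquivRange f).toEquiv, hrange, hker,
    Nat.card_congr (Subgroup.subgroupOfEquivOfLe h).toEquiv]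

/-- No conjugate of `z` can play the role of another central involution. -/
theorem Core.no_conj {z a b : G} {J : Subgroup G} (X : Core z a J) (hb : b = a ∨ b = a * z)
    {K : Subgroup G} (hK : Nat.card ↥(Subgroup.centralizer ({z} : Set G)) ≤ 2 * Nat.card K)
    (hKz : ∀ k ∈ K, Commute k z) (hKb : ∀ k ∈ K, Commute k b)
    (hsmall : ∀ N : Subgroup G, N ≤ K → IsPGroup 2 N → (∀ k ∈ K, ∀ n ∈ N, k * n * k⁻¹ ∈ N) → N ≤ J) (g : G) :
    g * z * g⁻¹ ≠ b := by
  classical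
  intro hg
  have hbz : b ≠ z := by
    rcases hb with e | e <;> rw [e]
    exacts [X.az, fun e' => X.a1 (mul_eq_right.1 e')]
  have hcard : Nat.card ↥(Subgroup.centralizer ({b} : Set G)) = Nat.card ↥(Subgroup.centralizer ({z} : Set G)) := by
    rw [← hg]; exact card_centralizer_conj g z
  have hKle : K ≤ Subgroup.centralizer ({b} : Set G) := fun k hk =>
    Subgroup.mem_centralizer_singleton_iff.2 (hKb k hk).eq
  have hind : (K.subgroupOf (Subgroup.centralizer ({b} : Set G))).index ≤ 2 := by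
    have h1 := Subgroup.card_mul_index (K.subgroupOf (Subgroup.centralizer ({b} : Set G)))
    rw [Nat.card_congr (Subgroup.subgroupOfEquivOfLe hKle).toEquiv, hcard] at h1
    have hpos : 0 < Nat.card K := Nat.card_pos
    exact Nat.le_of_mul_le_mul_left (by rw [h1, mul_comm]; exact hK) hpos
  obtain ⟨Jb, hJb⟩ : ∃ Jb, Jb = J.map (MulAut.conj g).toMonoidHom := ⟨_, rfl⟩
  have hmemb : ∀ {x}, x ∈ Jb ↔ g⁻¹ * x * g ∈ J := fun {x} => by
    rw [hJb, Subgroup.mem_map_equiv, MulAut.conj_symm_apply]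
  have hJble : Jb ≤ Subgroup.centralizer ({b} : Set G) := fun x hx => by
    have h := (Commute.conj_iff g).2 (X.cz _ (hmemb.1 hx))
    rw [hg] at h
    exact Subgroup.mem_centralizer_singleton_iff.2 (by simpa [mul_assoc] using h.eq)
  obtain ⟨S, hS⟩ : ∃ S, S = Jb ⊓ K := ⟨_, rfl⟩
  have hSmem : ∀ {x}, x ∈ S ↔ x ∈ Jb ∧ x ∈ K := fun {x} => by rw [hS]; exact Subgroup.mem_inf
  have h2 : IsPGroup 2 ↥S := fun x => ⟨2, Subtype.ext (by
    have hx : g⁻¹ * (x : G) * g ∈ J := hmemb.1 (hSmem.1 x.2).1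
    have h4 : g⁻¹ * (x : G) * g * (g⁻¹ * (x : G) * g) * (g⁻¹ * (x : G) * g * (g⁻¹ * (x : G) * g)) = 1 := by
      rcases X.sq _ hx with e | e <;> rw [e]
      exacts [one_mul 1, X.z2]
    rw [SubgroupClass.coe_pow, show (2 : ℕ) ^ 2 = 2 * 2 from rfl, pow_mul, pow_two, pow_two]
    show (x : G) * x * (x * x) = 1
    calc (x : G) * x * (x * x) = g * (g⁻¹ * (x : G) * g * (g⁻¹ * (x : G) * g) *
          (g⁻¹ * (x : G) * g * (g⁻¹ * (x : G) * g))) * g⁻¹ := by group
      _ = 1 := by rw [h4]; group)⟩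
  have hSJ : S ≤ J := by
    refine hsmall S (hS ▸ inf_le_right) h2 fun k hk n hn => ?_
    rw [hS, Subgroup.mem_inf] at hn ⊢
    refine ⟨hmemb.2 ?_, mul_mem (mul_mem hk hn.2) (inv_mem hk)⟩
    have hk' : Commute (g⁻¹ * k * g) z := by
      have h := hKb k hk
      rw [← hg] at h
      simpa [mul_assoc] using (Commute.conj_iff g⁻¹).2 h
    have := X.norm _ hk' _ (hmemb.1 hn.1)
    rwa [show g⁻¹ * k * g * (g⁻¹ * n * g) * (g⁻¹ * k * g)⁻¹ = g⁻¹ * (k * n * k⁻¹) * g by group] at this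
  have hScomm : ∀ x ∈ S, ∀ y ∈ S, Commute x y := by
    intro x hx y hy
    refine mul_inv_eq_iff_eq_mul.1 (mul_inv_eq_one.1 ?_)
    rcases X.cmt x (hSJ hx) y (hSJ hy) with e | e
    · exact e
    exfalso
    have hx' := hmemb.1 (hSmem.1 hx).1
    have hy' := hmemb.1 (hSmem.1 hy).1
    have hc : x * y * x⁻¹ * y⁻¹ = g * (g⁻¹ * x * g * (g⁻¹ * y * g) * (g⁻¹ * x * g)⁻¹ * (g⁻¹ * y * g)⁻¹) * g⁻¹ := by
      group
    rcases X.cmt _ hx' _ hy' with e' | e' <;> rw [e'] at hc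
    · rw [mul_one, mul_inv_cancel, e] at hc
      exact X.z1 hc
    · rw [hg, e] at hc
      exact hbz hc.symm
  have hScard : 512 ≤ Nat.card S := by
    have hJbc : Nat.card Jb = 1024 := by
      rw [hJb, Subgroup.card_map_of_injective (MulAut.conj g).injective, X.card]
    have h1 := Subgroup.card_mul_index (S.subgroupOf Jb)
    rw [Nat.card_congr (Subgroup.subgroupOfEquivOfLe (hS ▸ inf_le_left)).toEquiv, hJbc] at h1
    have h3 : (S.subgroupOf Jb).index ≤ 2 := by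
      rw [← Subgroup.relIndex, hS, Subgroup.inf_relIndex_left]
      exact le_trans (Subgroup.relIndex_le_of_le_right hJble Subgroup.index_ne_zero_of_finite) hind
    nlinarith [Nat.zero_le (S.subgroupOf Jb).index]
  -- an abelian subgroup of that size
  by_cases hall : J ≤ S
  · rcases Nat.lt_or_ge 4 (Nat.card J) with _ | h <;> [skip; (rw [X.card] at h; omega)]
    have hsub : (J : Set G) ⊆ ({1, z, a, a * z} : Set G) := fun j hj => by
      rcases X.zc j hj (fun k hk => hScomm j (hall hj) k (hall hk)) with e | e | e | e <;> simp [e]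
    have := Nat.card_mono (Set.toFinite _) hsub
    rw [show Nat.card (J : Set G) = Nat.card J from rfl, X.card] at this
    have h4 : Nat.card ↥({1, z, a, a * z} : Set G) ≤ 4 := by
      rw [Nat.card_coe_set_eq]
      exact le_trans (Set.ncard_insert_le _ _) (Nat.succ_le_succ ((Set.ncard_insert_le _ _).trans
        (Nat.succ_le_succ ((Set.ncard_insert_le _ _).trans (by rw [Set.ncard_singleton])))))
    omega
  obtain ⟨j, hj, hjS⟩ : ∃ j ∈ J, j ∉ S := by simpa [SetLike.le_def] using hall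
  have hindJ : (S.subgroupOf J).index = 2 := by
    have h1 := Subgroup.card_mul_index (S.subgroupOf J)
    rw [Nat.card_congr (Subgroup.subgroupOfEquivOfLe hSJ).toEquiv, X.card] at h1
    have hne : (S.subgroupOf J).index ≠ 1 := fun e => hjS (by
      rw [Subgroup.index_eq_one] at e
      exact Subgroup.subgroupOf_eq_top.1 e hj)
    have h0 : (S.subgroupOf J).index ≠ 0 := Subgroup.index_ne_zero_of_finite
    have : (S.subgroupOf J).index < 3 := by nlinarith
    omega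
  obtain ⟨T, hT⟩ : ∃ T, T = S ⊓ Subgroup.centralizer ({j} : Set G) := ⟨_, rfl⟩
  have hTc : ∀ t ∈ T, t = 1 ∨ t = z ∨ t = a ∨ t = a * z := by
    intro t ht
    rw [hT, Subgroup.mem_inf, Subgroup.mem_centralizer_singleton_iff] at ht
    refine X.zc t (hSJ ht.1) fun k hk => ?_
    by_cases hkS : k ∈ S
    · exact hScomm t ht.1 k hkS
    · have h1 := Subgroup.mul_mem_iff_of_index_two hindJ (a := (⟨k, hk⟩ : J)) (b := (⟨j, hj⟩ : J)⁻¹)
      simp only [Subgroup.mem_subgroupOf, Subgroup.coe_mul, InvMemClass.coe_inv] at h1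
      have h3 : k * j⁻¹ ∈ S := h1.2 (iff_of_false hkS fun h => hjS (by simpa using inv_mem h))
      have h4 := (hScomm t ht.1 _ h3).mul_right (show Commute t j from ht.2)
      rwa [inv_mul_cancel_right] at h4
  have hT4 : Nat.card T ≤ 4 := by
    have hsub : (T : Set G) ⊆ ({1, z, a, a * z} : Set G) := fun t ht => by
      rcases hTc t ht with e | e | e | e <;> simp [e]
    refine le_trans (Nat.card_mono (Set.toFinite _) hsub) ?_
    rw [Nat.card_coe_set_eq]
    exact le_trans (Set.ncard_insert_le _ _) (Nat.succ_le_succ ((Set.ncard_insert_le _ _).trans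
      (Nat.succ_le_succ ((Set.ncard_insert_le _ _).trans (by rw [Set.ncard_singleton])))))
  -- the commutators with `j`
  have hST : Nat.card S ≤ 2 * Nat.card T := by
    have h1 := Subgroup.card_mul_index (T.subgroupOf S)
    rw [Nat.card_congr (Subgroup.subgroupOfEquivOfLe (hT ▸ inf_le_left)).toEquiv] at h1
    have h2 : (T.subgroupOf S).index ≤ 2 := by
      by_cases hc : ∀ s ∈ S, Commute s j
      · rw [Subgroup.index_eq_one.2 (Subgroup.subgroupOf_eq_top.2 fun s hs => hT ▸ Subgroup.mem_inf.2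
          ⟨hs, Subgroup.mem_centralizer_singleton_iff.2 (hc s hs).eq⟩)]
        norm_num
      push Not at hc
      obtain ⟨s₀, hs₀, hs₀j⟩ := hc
      refine le_of_eq (Subgroup.index_eq_two_iff.2 ⟨⟨s₀, hs₀⟩, fun x => ?_⟩)
      simp only [Subgroup.mem_subgroupOf, Subgroup.coe_mul, hT, Subgroup.mem_inf,
        Subgroup.mem_centralizer_singleton_iff, mul_mem hs₀ x.2, x.2, true_and, mul_mem x.2 hs₀]
      have hcm : ∀ s ∈ S, ¬ Commute s j → s * j * s⁻¹ = z * j := fun s hs hn => by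
        rcases X.cmt s (hSJ hs) j hj with e | e
        · exact absurd (mul_inv_eq_iff_eq_mul.1 (mul_inv_eq_one.1 e)) hn
        · exact mul_inv_eq_iff_eq_mul.1 e
      by_cases hx : Commute (x : G) j
      · refine Or.inr ⟨hx.eq, fun h => hs₀j ?_⟩
        have h' : Commute ((x : G)⁻¹ * ((x : G) * s₀)) j := hx.inv_left.mul_left h
        rwa [inv_mul_cancel_left] at h'
      · refine Or.inl ⟨mul_inv_eq_iff_eq_mul.1 ?_, fun h => hx h⟩
        rw [show (x : G) * s₀ * j * ((x : G) * s₀)⁻¹ = x * (s₀ * j * s₀⁻¹) * (x : G)⁻¹ by group, hcm s₀ hs₀ hs₀j,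
          show (x : G) * (z * j) * (x : G)⁻¹ = x * z * (x : G)⁻¹ * (x * j * (x : G)⁻¹) by group,
          hcm _ x.2 hx, mul_inv_eq_iff_eq_mul.2 (hKz _ (hSmem.1 x.2).2).eq, ← mul_assoc, X.z2,
          one_mul]
    nlinarith
  omega

theorem psp_facts {F : Type*} [Field F] [Fintype F] (hF : Fintype.card F = 3) [CharP F 3] :
    IsSimpleGroup (Cfsg.PSp 2 F) ∧ Nat.card (Cfsg.PSp 2 F) = 25920 ∧
      Function.Injective (MulAut.conj : Cfsg.PSp 2 F →* MulAut (Cfsg.PSp 2 F)) ∧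
      Nat.card (MulAut (Cfsg.PSp 2 F)) = 2 * 25920 ∧
      ∀ φ : MulAut (Cfsg.PSp 2 F), (∀ p, φ * MulAut.conj p = MulAut.conj p * φ) → φ = 1 := by
  haveI : Fact (Nat.Prime 3) := ⟨Nat.prime_three⟩
  have hinj : Function.Injective (MulAut.conj : Cfsg.PSp 2 F →* MulAut (Cfsg.PSp 2 F)) := by
    refine (injective_iff_map_eq_one _).2 fun x hx => ?_
    obtain ⟨s, rfl⟩ := QuotientGroup.mk_surjective x
    rw [Cfsg.Lib.Linear.AutPSp.conj_mk_eq] at hx
    exact Cfsg.Lib.Linear.AutPSp.eq_one_of_innd_toGS 3 (by norm_num) hx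
  refine ⟨Cfsg.Agent.S0270.result 2 le_rfl (fun _ => by rw [hF]), card_psp hF, hinj, ?_, fun φ h => ?_⟩
  · rw [Cfsg.Agent.S0814.result 3 1 le_rfl (by rw [hF, pow_one]) 2 le_rfl (fun _ => by norm_num), card_psp hF]
    norm_num
  · refine MulEquiv.ext fun p => hinj ?_
    rw [MulAut.one_apply]
    have : φ * MulAut.conj p * φ⁻¹ = MulAut.conj (φ p) := MulEquiv.ext fun q => by simp
    rw [← this, h p, mul_inv_cancel_right]

set_option maxHeartbeats 1600000 in
/-- The coordinates. -/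
theorem quad_of_core {z a : G} {J : Subgroup G} (X : Core z a J) {F : Type*} [Field F] [Fintype F]
    (hF : Fintype.card F = 3) (π : ↥(Subgroup.centralizer ({z} : Set G)) →* MulAut (Cfsg.PSp 2 F))
    (hπ : Function.Surjective π) (hk : ∀ x, π x = 1 ↔ (x : G) ∈ J) :
    ∃ (C : Cfg) (Q : Quad C z a), Q.J = J ∧ Full Q := by
  classical
  haveI : CharP F 3 := charP_of_card_eq_prime (R := F) hF
  obtain ⟨hsimp, hcard, hinj, hAut, hcen⟩ := psp_facts (F := F) hF
  haveI := hsimp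
  have hc : ∀ x : ↥(Subgroup.centralizer ({z} : Set G)), Commute (x : G) z := fun x =>
    Subgroup.mem_centralizer_singleton_iff.1 x.2
  have hup : ∀ {x}, Commute x z → x ∈ Subgroup.centralizer ({z} : Set G) := fun h =>
    Subgroup.mem_centralizer_singleton_iff.2 h.eq
  obtain ⟨P, hP⟩ : ∃ P, P = (MulAut.conj : Cfsg.PSp 2 F →* MulAut (Cfsg.PSp 2 F)).range := ⟨_, rfl⟩
  have hPn : ∀ (φ : MulAut (Cfsg.PSp 2 F)) p, φ * MulAut.conj p * φ⁻¹ = MulAut.conj (φ p) := fun φ p =>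
    MulEquiv.ext fun q => by simp
  have hPc : Nat.card P = 25920 := by
    rw [hP, ← Nat.card_congr (MonoidHom.ofInjective hinj).toEquiv, hcard]
  have hPi : P.index = 2 := by
    have h := Subgroup.card_mul_index P
    rw [hPc, hAut] at h
    omega
  -- normal subgroups of the inner automorphisms
  have hnorm : ∀ N : Subgroup (MulAut (Cfsg.PSp 2 F)), N ≤ P → (∀ p, ∀ n ∈ N, MulAut.conj p * n * (MulAut.conj p)⁻¹ ∈ N) →
      N = ⊥ ∨ N = P := by
    intro N hN hn
    obtain ⟨N', hN'⟩ : ∃ N', N' = N.comap (MulAut.conj : Cfsg.PSp 2 F →* MulAut (Cfsg.PSp 2 F)) := ⟨_, rfl⟩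
    haveI : N'.Normal := ⟨fun n hn' p => by
      rw [hN', Subgroup.mem_comap] at hn' ⊢
      rw [map_mul, map_mul, map_inv]
      exact hn p _ hn'⟩
    have hmap : N'.map (MulAut.conj : Cfsg.PSp 2 F →* MulAut (Cfsg.PSp 2 F)) = N := by
      rw [hN', Subgroup.map_comap_eq, ← hP, inf_eq_right.2 hN]
    rcases IsSimpleGroup.eq_bot_or_eq_top_of_normal N' inferInstance with e | e
    · exact Or.inl (by rw [← hmap, e, Subgroup.map_bot])
    · exact Or.inr (by rw [← hmap, e, ← MonoidHom.range_eq_map, hP])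
  -- the inner half
  obtain ⟨K₀, hK₀⟩ : ∃ K₀, K₀ = P.comap π := ⟨_, rfl⟩
  have hK₀i : K₀.index = 2 := by rw [hK₀, Subgroup.index_comap_of_surjective _ hπ, hPi]
  have hker : π.ker = J.subgroupOf (Subgroup.centralizer ({z} : Set G)) := by
    ext x; rw [MonoidHom.mem_ker, hk, Subgroup.mem_subgroupOf]
  have hJle : J ≤ Subgroup.centralizer ({z} : Set G) := fun j hj => hup (X.cz j hj)
  have hH : Nat.card ↥(Subgroup.centralizer ({z} : Set G)) = 2 * (1024 * 25920) := by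
    rw [Subgroup.card_eq_card_quotient_mul_card_subgroup π.ker,
      Nat.card_congr (QuotientGroup.quotientKerEquivOfSurjective π hπ).toEquiv, hAut, hker,
      Nat.card_congr (Subgroup.subgroupOfEquivOfLe hJle).toEquiv, X.card]
  have hK₀c : Nat.card K₀ = 1024 * 25920 := by
    have h := Subgroup.card_mul_index K₀
    rw [hK₀i, hH] at h
    omega
  -- the inner half centralises the centre
  have horb : ∀ x : ↥(Subgroup.centralizer ({z} : Set G)), (x : G) * a * (x : G)⁻¹ = a ∨ (x : G) * a * (x : G)⁻¹ = a * z := by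
    intro x
    have hxa := X.norm x (hc x) a X.aJ
    have hcen' : ∀ k ∈ J, Commute ((x : G) * a * (x : G)⁻¹) k := fun k hk => by
      have h1 := (Commute.conj_iff (x : G)).2 (X.ca _ (X.norm _ (hc x).inv_left k hk)).symm
      rwa [show (x : G) * ((x : G)⁻¹ * k * (x : G)⁻¹⁻¹) * (x : G)⁻¹ = k by group] at h1
    rcases X.zc _ hxa hcen' with e | e | e | e
    · exact absurd (conj_eq_one_iff.1 e) X.a1
    · refine absurd ?_ X.az
      have h1 : (x : G) * a * (x : G)⁻¹ = (x : G) * z * (x : G)⁻¹ := by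
        rw [e, mul_inv_eq_iff_eq_mul.2 (hc x).eq]
      exact mul_left_cancel (mul_right_cancel h1)
    · exact Or.inl e
    · exact Or.inr e
  have hKa : ∀ x ∈ K₀, Commute (x : G) a := by
    let ε : ↥K₀ →* ℤˣ := MonoidHom.mk' (fun x => if (x.1 : G) * a * (x.1 : G)⁻¹ = a then 1 else -1) fun x y => by
      have hne : a * z ≠ a := fun e => X.z1 (mul_eq_left.1 e)
      have h1 : ((x * y : ↥K₀).1 : G) * a * ((x * y : ↥K₀).1 : G)⁻¹ =
          (x.1 : G) * ((y.1 : G) * a * (y.1 : G)⁻¹) * (x.1 : G)⁻¹ := by push_cast; group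
      have h2 : (x.1 : G) * (a * z) * (x.1 : G)⁻¹ = (x.1 : G) * a * (x.1 : G)⁻¹ * z := by
        rw [show (x.1 : G) * (a * z) * (x.1 : G)⁻¹ = (x.1 : G) * a * (x.1 : G)⁻¹ * ((x.1 : G) * z * (x.1 : G)⁻¹) by group,
          mul_inv_eq_iff_eq_mul.2 (hc x.1).eq]
      show (if ((x * y : ↥K₀).1 : G) * a * ((x * y : ↥K₀).1 : G)⁻¹ = a then (1 : ℤˣ) else -1) =
        (if (x.1 : G) * a * (x.1 : G)⁻¹ = a then 1 else -1) * (if (y.1 : G) * a * (y.1 : G)⁻¹ = a then 1 else -1)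
      rw [h1]
      rcases horb y.1 with e | e <;> rw [e]
      · simp
      · rw [h2]
        rcases horb x.1 with e' | e' <;> rw [e']
        · simp [hne]
        · rw [mul_assoc a z z, X.z2, mul_one]
          simp [hne]
    intro x hx
    refine mul_inv_eq_iff_eq_mul.1 ?_
    by_contra hne
    have hεx : ε ⟨x, hx⟩ = -1 := if_neg hne
    obtain ⟨N, hN⟩ : ∃ N, N = (ε.ker.map K₀.subtype).map π := ⟨_, rfl⟩
    have hNP : N ≤ P := by
      rintro _ hm
      rw [hN] at hm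
      obtain ⟨_, ⟨y, -, rfl⟩, rfl⟩ := hm
      exact (SetLike.ext_iff.1 hK₀ _).1 y.2
    have hNn : ∀ p, ∀ n ∈ N, MulAut.conj p * n * (MulAut.conj p)⁻¹ ∈ N := by
      intro p n hn
      rw [hN] at hn ⊢
      obtain ⟨_, ⟨y, hy, rfl⟩, rfl⟩ := hn
      obtain ⟨w, hw⟩ := hπ (MulAut.conj p)
      have hwK : w ∈ K₀ := by rw [hK₀, Subgroup.mem_comap, hw, hP]; exact ⟨p, rfl⟩
      refine ⟨_, ⟨⟨w, hwK⟩ * y * ⟨w, hwK⟩⁻¹, (MonoidHom.normal_ker ε).conj_mem y hy _, rfl⟩, ?_⟩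
      simp [hw]
    rcases hnorm N hNP hNn with e | e
    · have hle : ε.ker.map K₀.subtype ≤ J.subgroupOf (Subgroup.centralizer ({z} : Set G)) := by
        rw [← hker, ← Subgroup.map_eq_bot_iff, ← hN, e]
      have h1 := Subgroup.card_le_of_le hle
      rw [Subgroup.card_map_of_injective Subtype.val_injective,
        Nat.card_congr (Subgroup.subgroupOfEquivOfLe hJle).toEquiv, X.card] at h1
      have h2 := Subgroup.card_mul_index ε.ker
      rw [Subgroup.index_ker, hK₀c] at h2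
      have h3 : Nat.card ε.range ≤ 2 := by
        refine le_trans (Subgroup.card_le_card_group _) ?_
        simp [Nat.card_eq_fintype_card]
      nlinarith
    · have h1 : π x ∈ N := by rw [e]; rw [hK₀, Subgroup.mem_comap] at hx; exact hx
      rw [hN] at h1
      obtain ⟨_, ⟨y, hy, rfl⟩, hye⟩ := h1
      have hj : (x : G) * (y.1 : G)⁻¹ ∈ J := by
        have := (hk (x * y.1⁻¹)).1 (by rw [map_mul, map_inv, ← hye]; exact mul_inv_cancel _)
        simpa using this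
      have hy' : Commute (y.1 : G) a := mul_inv_eq_iff_eq_mul.1 (by
        by_contra h
        have : ε y = -1 := if_neg h
        rw [SetLike.mem_coe, MonoidHom.mem_ker, this] at hy
        exact absurd hy (by decide))
      have h2 := ((X.ca _ hj).mul_left hy')
      rw [inv_mul_cancel_right] at h2
      exact hne (mul_inv_eq_iff_eq_mul.2 h2.eq)
  -- small normal subgroups
  obtain ⟨K, hKd⟩ : ∃ K, K = K₀.map (Subgroup.centralizer ({z} : Set G)).subtype := ⟨_, rfl⟩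
  have hKmem : ∀ {x}, x ∈ K ↔ ∃ hx : Commute x z, (⟨x, hup hx⟩ : ↥(Subgroup.centralizer ({z} : Set G))) ∈ K₀ := by
    intro x
    rw [hKd]
    constructor
    · rintro ⟨y, hy, rfl⟩; exact ⟨hc y, hy⟩
    · rintro ⟨hx, h⟩; exact ⟨_, h, rfl⟩
  have hKc : Nat.card K = 1024 * 25920 := by
    rw [hKd, Subgroup.card_map_of_injective Subtype.val_injective, hK₀c]
  have hKz : ∀ k ∈ K, Commute k z := fun k hk => (hKmem.1 hk).1
  have hKa' : ∀ k ∈ K, Commute k a := fun k hk => by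
    obtain ⟨hx, h⟩ := hKmem.1 hk
    exact hKa _ h
  have hJK : J ≤ K := fun j hj => hKmem.2 ⟨X.cz j hj, by
    rw [hK₀, Subgroup.mem_comap, (hk _).2 hj]; exact one_mem _⟩
  -- acting trivially modulo the centre
  have hZcomm : ∀ h y : G, Commute h z → Commute h a → (y = 1 ∨ y = z ∨ y = a ∨ y = a * z) → Commute h y := by
    rintro h y hz ha (rfl | rfl | rfl | rfl)
    exacts [Commute.one_right h, hz, ha, ha.mul_right hz]
  have hself : ∀ h, Commute h z → Commute h a → (∀ j ∈ J, ∃ y, (y = 1 ∨ y = z ∨ y = a ∨ y = a * z) ∧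
      h * j * h⁻¹ = j * y) → h ∈ J := by
    intro h hhz hha hh
    have hinvy : ∀ {g : G}, Commute g z → Commute g a → (∀ j ∈ J, ∃ y, (y = 1 ∨ y = z ∨ y = a ∨ y = a * z) ∧
        g * j * g⁻¹ = j * y) → ∀ w : G, Commute w z → Commute w a → ∀ j ∈ J,
        ∃ y, (y = 1 ∨ y = z ∨ y = a ∨ y = a * z) ∧ w * g * w⁻¹ * j * (w * g * w⁻¹)⁻¹ = j * y := by
      intro g hgz hga hg w hwz hwa j hj
      obtain ⟨y, hy, e⟩ := hg _ (X.norm w⁻¹ hwz.inv_left j hj)
      refine ⟨y, hy, ?_⟩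
      rw [show w * g * w⁻¹ * j * (w * g * w⁻¹)⁻¹ = w * (g * (w⁻¹ * j * w⁻¹⁻¹) * g⁻¹) * w⁻¹ by group, e,
        show w * (w⁻¹ * j * w⁻¹⁻¹ * y) * w⁻¹ = j * (w * y * w⁻¹) by group,
        mul_inv_eq_iff_eq_mul.2 (hZcomm w y hwz hwa hy).eq]
    obtain ⟨N, hN⟩ : ∃ N, N = {x : ↥(Subgroup.centralizer ({z} : Set G)) | Commute (x : G) a ∧ ∀ j ∈ J,
        ∃ y, (y = 1 ∨ y = z ∨ y = a ∨ y = a * z) ∧ (x : G) * j * (x : G)⁻¹ = j * y} := ⟨_, rfl⟩
    have hNab : ∀ x ∈ N, ∀ y ∈ N, π x * π y = π y * π x := by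
      intro x hx y hy
      rw [hN] at hx hy
      have h1 : π (x * y * x⁻¹ * y⁻¹) = 1 := (hk _).2 (by
        push_cast
        refine X.self _ ((((hc x).mul_left (hc y)).mul_left (hc x).inv_left).mul_left (hc y).inv_left) fun j hj => ?_
        refine mul_inv_eq_iff_eq_mul.1 ?_
        obtain ⟨u, hu, eu⟩ := hx.2 j hj
        obtain ⟨v, hv, ev⟩ := hy.2 j hj
        have e1 : (y : G)⁻¹ * j * (y : G) = j * v⁻¹ := by
          have h0 : (y : G) * (j * v⁻¹) * (y : G)⁻¹ = j := by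
            rw [show (y : G) * (j * v⁻¹) * (y : G)⁻¹ = (y : G) * j * (y : G)⁻¹ * ((y : G) * v * (y : G)⁻¹)⁻¹ by
              group, ev, mul_inv_eq_iff_eq_mul.2 (hZcomm _ v (hc y) hy.1 hv).eq, mul_inv_cancel_right]
          conv_lhs => rw [← h0]
          group
        have e2 : (x : G)⁻¹ * j * (x : G) = j * u⁻¹ := by
          have h0 : (x : G) * (j * u⁻¹) * (x : G)⁻¹ = j := by
            rw [show (x : G) * (j * u⁻¹) * (x : G)⁻¹ = (x : G) * j * (x : G)⁻¹ * ((x : G) * u * (x : G)⁻¹)⁻¹ by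
              group, eu, mul_inv_eq_iff_eq_mul.2 (hZcomm _ u (hc x) hx.1 hu).eq, mul_inv_cancel_right]
          conv_lhs => rw [← h0]
          group
        have hvza : Commute v z ∧ Commute v a := by
          have haz := X.cz a X.aJ
          rcases hv with e | e | e | e <;> rw [e]
          exacts [⟨Commute.one_left _, Commute.one_left _⟩, ⟨Commute.refl _, haz.symm⟩, ⟨haz, Commute.refl _⟩,
            ⟨haz.mul_left (Commute.refl _), (Commute.refl _).mul_left haz.symm⟩]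
        have hvu : Commute v u := hZcomm v u hvza.1 hvza.2 hu
        calc (x : G) * y * (x : G)⁻¹ * (y : G)⁻¹ * j * ((x : G) * y * (x : G)⁻¹ * (y : G)⁻¹)⁻¹
            = (x : G) * y * ((x : G)⁻¹ * ((y : G)⁻¹ * j * y) * x) * (y : G)⁻¹ * (x : G)⁻¹ := by group
          _ = (x : G) * y * ((x : G)⁻¹ * j * x * ((x : G)⁻¹ * v⁻¹ * x)) * (y : G)⁻¹ * (x : G)⁻¹ := by
              rw [e1]; group
          _ = (x : G) * ((y : G) * j * (y : G)⁻¹ * ((y : G) * (u⁻¹ * v⁻¹) * (y : G)⁻¹)) * (x : G)⁻¹ := by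
              rw [e2, show (x : G)⁻¹ * v⁻¹ * x = v⁻¹ by
                rw [mul_assoc, (hZcomm _ v (hc x) hx.1 hv).symm.inv_left.eq, inv_mul_cancel_left]]
              group
          _ = (x : G) * j * (x : G)⁻¹ * ((x : G) * (v * (u⁻¹ * v⁻¹)) * (x : G)⁻¹) := by
              rw [ev, mul_inv_eq_iff_eq_mul.2 ((hZcomm _ u (hc y) hy.1 hu).inv_right.mul_right
                (hZcomm _ v (hc y) hy.1 hv).inv_right).eq]
              group
          _ = j := by
              rw [eu, show v * (u⁻¹ * v⁻¹) = u⁻¹ by rw [← mul_assoc, hvu.inv_right.eq, mul_inv_cancel_right],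
                mul_inv_eq_iff_eq_mul.2 (hZcomm _ u (hc x) hx.1 hu).inv_right.eq, mul_inv_cancel_right])
      rw [map_mul, map_mul, map_mul, map_inv, map_inv, mul_inv_eq_one, mul_inv_eq_iff_eq_mul] at h1
      exact h1
    obtain ⟨T, hT⟩ : ∃ T, T = Subgroup.closure (π '' N) ⊓ P := ⟨_, rfl⟩
    have hTab : ∀ x ∈ T, ∀ y ∈ T, x * y = y * x := by
      intro x hx y hy
      rw [hT, Subgroup.mem_inf] at hx hy
      haveI := Subgroup.isMulCommutative_closure (k := π '' N) (by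
        rintro _ ⟨p, hp, rfl⟩ _ ⟨q, hq, rfl⟩; exact hNab p hp q hq)
      exact congrArg Subtype.val (mul_comm' (⟨x, hx.1⟩ : Subgroup.closure (π '' N)) ⟨y, hy.1⟩)
    have hTn : T = ⊥ := by
      refine (hnorm T (hT ▸ inf_le_right) fun p n hn => ?_).resolve_right fun e => ?_
      · obtain ⟨w, hw⟩ := hπ (MulAut.conj p)
        have hwK : w ∈ K₀ := by rw [hK₀, Subgroup.mem_comap, hw, hP]; exact ⟨p, rfl⟩
        rw [hT, Subgroup.mem_inf] at hn ⊢
        refine ⟨?_, mul_mem (mul_mem (hP ▸ ⟨p, rfl⟩) hn.2) (inv_mem (hP ▸ ⟨p, rfl⟩))⟩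
        have hle : (Subgroup.closure (π '' N)).map (MulAut.conj (MulAut.conj p)).toMonoidHom ≤
            Subgroup.closure (π '' N) := by
          rw [MonoidHom.map_closure]
          refine Subgroup.closure_mono ?_
          rintro _ ⟨_, ⟨q, hq, rfl⟩, rfl⟩
          refine ⟨w * q * w⁻¹, ?_, by simp [hw]⟩
          rw [hN] at hq ⊢
          refine ⟨?_, fun j hj => ?_⟩
          · push_cast
            exact ((hKa w hwK).mul_left hq.1).mul_left (hKa w hwK).inv_left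
          · push_cast
            exact hinvy (hc q) hq.1 hq.2 _ (hc w) (hKa w hwK) j hj
        exact hle ⟨n, hn.1, rfl⟩
      · have hcm : ∀ p q : Cfsg.PSp 2 F, p * q = q * p := fun p q => hinj (by
          rw [map_mul, map_mul]
          exact hTab _ (e ▸ hP ▸ ⟨p, rfl⟩) _ (e ▸ hP ▸ ⟨q, rfl⟩))
        haveI : IsMulCommutative (Cfsg.PSp 2 F) := ⟨⟨hcm⟩⟩
        have hpr := (Group.is_simple_iff_prime_card (α := Cfsg.PSp 2 F)).1 hsimp
        rw [hcard] at hpr
        exact absurd hpr (by norm_num)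
    refine (hk ⟨h, hup hhz⟩).1 (hcen _ fun p => ?_)
    obtain ⟨w, hw⟩ := hπ (MulAut.conj p)
    have hwK : w ∈ K₀ := by rw [hK₀, Subgroup.mem_comap, hw, hP]; exact ⟨p, rfl⟩
    have hmem : π ⟨h, hup hhz⟩ ∈ π '' N := ⟨_, hN ▸ ⟨hha, hh⟩, rfl⟩
    have hmem' : π (w * ⟨h, hup hhz⟩ * w⁻¹) ∈ π '' N := by
      refine ⟨_, ?_, rfl⟩
      rw [hN]
      refine ⟨?_, fun j hj => ?_⟩
      · push_cast
        exact ((hKa w hwK).mul_left hha).mul_left (hKa w hwK).inv_left
      · push_cast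
        exact hinvy hhz hha hh _ (hc w) (hKa w hwK) j hj
    have h1 : π ⟨h, hup hhz⟩ * (π (w * ⟨h, hup hhz⟩ * w⁻¹))⁻¹ ∈ T := by
      rw [hT, Subgroup.mem_inf]
      refine ⟨mul_mem (Subgroup.subset_closure hmem) (inv_mem (Subgroup.subset_closure hmem')), ?_⟩
      rw [map_mul, map_mul, map_inv, hw,
        show π ⟨h, hup hhz⟩ * (MulAut.conj p * π ⟨h, hup hhz⟩ * (MulAut.conj p)⁻¹)⁻¹ =
          π ⟨h, hup hhz⟩ * MulAut.conj p * (π ⟨h, hup hhz⟩)⁻¹ * (MulAut.conj p)⁻¹ by group, hPn, hP]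
      exact mul_mem ⟨_, rfl⟩ (inv_mem ⟨p, rfl⟩)
    rw [hTn, Subgroup.mem_bot, mul_inv_eq_one, map_mul, map_mul, map_inv, hw] at h1
    rw [eq_mul_inv_iff_mul_eq] at h1
    exact h1
  have hsmall : ∀ N : Subgroup G, N ≤ K → IsPGroup 2 N → (∀ k ∈ K, ∀ n ∈ N, k * n * k⁻¹ ∈ N) → N ≤ J := by
    intro N hNK h2 hn
    obtain ⟨T, hT⟩ : ∃ T, T = (N.subgroupOf (Subgroup.centralizer ({z} : Set G))).map π := ⟨_, rfl⟩
    have hTP : T ≤ P := by
      rintro _ hm
      rw [hT] at hm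
      obtain ⟨y, hy, rfl⟩ := hm
      obtain ⟨_, h⟩ := hKmem.1 (hNK (Subgroup.mem_subgroupOf.1 hy))
      rw [hK₀, Subgroup.mem_comap] at h
      exact h
    have hT2 : IsPGroup 2 ↥T := hT ▸ (h2.comap_of_injective _ Subtype.val_injective).map _
    have hTn : ∀ p, ∀ n ∈ T, MulAut.conj p * n * (MulAut.conj p)⁻¹ ∈ T := by
      intro p n hn'
      obtain ⟨w, hw⟩ := hπ (MulAut.conj p)
      have hwK : (w : G) ∈ K := hKd ▸ ⟨w, by rw [SetLike.mem_coe, hK₀, Subgroup.mem_comap, hw, hP]; exact ⟨p, rfl⟩, rfl⟩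
      rw [hT] at hn' ⊢
      obtain ⟨y, hy, rfl⟩ := hn'
      refine ⟨w * y * w⁻¹, Subgroup.mem_subgroupOf.2 ?_, by rw [map_mul, map_mul, map_inv, hw]⟩
      push_cast
      exact hn _ hwK _ (Subgroup.mem_subgroupOf.1 hy)
    rcases hnorm T hTP hTn with e | e
    · intro x hx
      have hxz := hKz x (hNK hx)
      have h1 : π ⟨x, hup hxz⟩ ∈ T := hT ▸ ⟨_, Subgroup.mem_subgroupOf.2 hx, rfl⟩
      rw [e, Subgroup.mem_bot, hk] at h1
      exact h1
    · exfalso
      haveI : Fact (Nat.Prime 2) := ⟨Nat.prime_two⟩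
      obtain ⟨m, hm⟩ := IsPGroup.iff_card.1 hT2
      rw [e, hPc] at hm
      have h3 : 3 ∣ 2 ^ m := hm ▸ (by norm_num)
      exact absurd (Nat.prime_three.dvd_of_dvd_pow h3) (by norm_num)
  have hle2 : Nat.card ↥(Subgroup.centralizer ({z} : Set G)) ≤ 2 * Nat.card K := le_of_eq (by rw [hH, hKc])
  have hneA : ∀ g, g * z * g⁻¹ ≠ a := X.no_conj (Or.inl rfl) hle2 hKz hKa' hsmall
  have hneB : ∀ g, g * z * g⁻¹ ≠ a * z :=
    X.no_conj (Or.inr rfl) hle2 hKz (fun k hk => (hKa' k hk).mul_right (hKz k hk)) hsmall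
  -- the group modulo `a`
  obtain ⟨M, hM⟩ : ∃ M, M = Subgroup.centralizer ({z} : Set G) ⊓ Subgroup.centralizer ({a} : Set G) := ⟨_, rfl⟩
  have hmemM : ∀ {x}, x ∈ M ↔ Commute x z ∧ Commute x a := fun {x} => by
    rw [hM, Subgroup.mem_inf, Subgroup.mem_centralizer_singleton_iff, Subgroup.mem_centralizer_singleton_iff]
    exact Iff.rfl
  have hKM : K ≤ M := fun k hk => hmemM.2 ⟨hKz k hk, hKa' k hk⟩
  have hJM : J ≤ M := hJK.trans hKM
  obtain ⟨a', ha'⟩ : ∃ a' : M, a' = ⟨a, hJM X.aJ⟩ := ⟨_, rfl⟩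
  have ha2 : a' * a' = 1 := ha' ▸ Subtype.ext X.a2
  let Z : Subgroup M := Subgroup.zpowers a'
  haveI hZn : Z.Normal := ⟨fun n hn x => by
    rcases (mem_zpowers_two ha2).1 hn with e | e <;> rw [e]
    · rw [mul_one, mul_inv_cancel]; exact one_mem _
    · have h1 : x * a' * x⁻¹ = a' := mul_inv_eq_iff_eq_mul.2 (ha' ▸ Subtype.ext (hmemM.1 x.2).2.eq)
      rw [h1]; exact Subgroup.mem_zpowers _⟩
  have hmk : ∀ {x y : M}, (x : M ⧸ Z) = y → (y : G) = x ∨ (y : G) = x * a := by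
    intro x y h
    rw [QuotientGroup.eq, mem_zpowers_two ha2] at h
    rcases h with h | h
    · left; rw [inv_mul_eq_iff_eq_mul, mul_one] at h; rw [h]
    · right; rw [inv_mul_eq_iff_eq_mul] at h; rw [h, ha']; rfl
  have hka : ((a' : M) : M ⧸ Z) = 1 := (QuotientGroup.eq_one_iff _).2 (Subgroup.mem_zpowers _)
  have hZle : Z ≤ J.subgroupOf M := by
    rw [Subgroup.zpowers_le, Subgroup.mem_subgroupOf, ha']; exact X.aJ
  have hZc : Nat.card Z = 2 := by
    rw [Nat.card_zpowers, orderOf_eq_prime (p := 2) (by rw [pow_two, ha2])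
      (fun e => X.a1 (by rw [ha'] at e; exact congrArg Subtype.val e))]
  obtain ⟨Jb, hJb⟩ : ∃ Jb, Jb = (J.subgroupOf M).map (QuotientGroup.mk' Z) := ⟨_, rfl⟩
  have hJbc : Nat.card Jb = 512 := by
    have h := card_map_mk Z hZle
    rw [← hJb, hZc, Nat.card_congr (Subgroup.subgroupOfEquivOfLe hJM).toEquiv, X.card] at h
    omega
  have hJbmem : ∀ {x : M}, (x : M ⧸ Z) ∈ Jb ↔ (x : G) ∈ J := by
    intro x
    rw [hJb]
    constructor
    · rintro ⟨y, hy, e⟩
      rcases hmk e with h | h <;> rw [h]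
      exacts [hy, mul_mem hy X.aJ]
    · intro h; exact ⟨x, h, rfl⟩
  let zb : M ⧸ Z := ((⟨z, hJM X.zJ⟩ : M) : M ⧸ Z)
  have hcz : ∀ x : M ⧸ Z, Commute x zb := fun x => by
    obtain ⟨x, rfl⟩ := QuotientGroup.mk_surjective x
    exact congrArg (fun m : M => (m : M ⧸ Z)) (Subtype.ext (hmemM.1 x.2).1.eq : x * ⟨z, hJM X.zJ⟩ = ⟨z, hJM X.zJ⟩ * x)
  have hE : Ext zb Jb := by
    refine ⟨congrArg (fun m : M => (m : M ⧸ Z)) (Subtype.ext X.z2 : (⟨z, hJM X.zJ⟩ : M) * ⟨z, hJM X.zJ⟩ = 1),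
      fun e => ?_, hJbmem.2 X.zJ, fun j _ => hcz j, hJbc, ?_, ?_, ?_, ?_, ?_⟩
    · rcases hmk (x := 1) (y := ⟨z, hJM X.zJ⟩) e.symm with h | h
      · exact X.z1 h
      · exact X.az (by rw [show z = 1 * a from h, one_mul])
    · intro h _ j hj
      obtain ⟨h, rfl⟩ := QuotientGroup.mk_surjective h
      obtain ⟨j, rfl⟩ := QuotientGroup.mk_surjective j
      exact (hJbmem (x := h * j * h⁻¹)).2 (X.norm _ (hmemM.1 h.2).1 _ (hJbmem.1 hj))
    · intro j hj hcomm
      obtain ⟨j, rfl⟩ := QuotientGroup.mk_surjective j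
      have hjJ := hJbmem.1 hj
      rcases X.zc _ hjJ (fun k hkJ => by
        have h1 : ((j * ⟨k, hJM hkJ⟩ * j⁻¹ * (⟨k, hJM hkJ⟩ : M)⁻¹ : M) : M ⧸ Z) = ((1 : M) : M ⧸ Z) := by
          have h2 := (hcomm _ ((hJbmem (x := ⟨k, hJM hkJ⟩)).2 hkJ)).eq
          rw [← QuotientGroup.mk_mul, ← QuotientGroup.mk_mul] at h2
          simp only [QuotientGroup.mk_mul, QuotientGroup.mk_inv, QuotientGroup.mk_one] at h2 ⊢
          rw [h2]; group
        refine mul_inv_eq_iff_eq_mul.1 (mul_inv_eq_one.1 ?_)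
        rcases X.cmt _ hjJ k hkJ with e | e
        · exact e
        exfalso
        rcases hmk h1.symm with h3 | h3 <;> push_cast at h3 <;> rw [e] at h3
        · exact X.z1 h3
        · exact X.az (by rw [h3, one_mul])) with e | e | e | e
      · left; rw [show j = 1 from Subtype.ext e]; rfl
      · right; exact congrArg (fun m : M => (m : M ⧸ Z)) (Subtype.ext e)
      · left; rw [show j = a' by rw [ha']; exact Subtype.ext e, hka]
      · right
        rw [show j = a' * ⟨z, hJM X.zJ⟩ by rw [ha']; exact Subtype.ext e, QuotientGroup.mk_mul, hka, one_mul]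
    · intro j hj
      obtain ⟨j, rfl⟩ := QuotientGroup.mk_surjective j
      rcases X.sq _ (hJbmem.1 hj) with e | e
      · left; exact congrArg (fun m : M => (m : M ⧸ Z)) (Subtype.ext e : j * j = 1)
      · right; exact congrArg (fun m : M => (m : M ⧸ Z)) (Subtype.ext e : j * j = ⟨z, hJM X.zJ⟩)
    · intro j hj k hk'
      obtain ⟨j, rfl⟩ := QuotientGroup.mk_surjective j
      obtain ⟨k, rfl⟩ := QuotientGroup.mk_surjective k
      rcases X.cmt _ (hJbmem.1 hj) _ (hJbmem.1 hk') with e | e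
      · left; exact congrArg (fun m : M => (m : M ⧸ Z)) (Subtype.ext e : j * k * j⁻¹ * k⁻¹ = 1)
      · right; exact congrArg (fun m : M => (m : M ⧸ Z)) (Subtype.ext e : j * k * j⁻¹ * k⁻¹ = ⟨z, hJM X.zJ⟩)
    · intro h _ hcomm
      obtain ⟨h, rfl⟩ := QuotientGroup.mk_surjective h
      refine hJbmem.2 (hself _ (hmemM.1 h.2).1 (hmemM.1 h.2).2 fun j hj => ?_)
      have h1 := (hcomm _ ((hJbmem (x := ⟨j, hJM hj⟩)).2 hj)).eq
      rw [← QuotientGroup.mk_mul, ← QuotientGroup.mk_mul] at h1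
      have h2 : (((⟨j, hJM hj⟩ : M) : M) : M ⧸ Z) = ((h * ⟨j, hJM hj⟩ * h⁻¹ : M) : M ⧸ Z) := by
        rw [QuotientGroup.mk_mul, h1]; simp
      rcases hmk h2 with e | e <;> push_cast at e
      · exact ⟨1, Or.inl rfl, by rw [e, mul_one]⟩
      · exact ⟨a, Or.inr (Or.inr (Or.inl rfl)), e⟩
  -- lifts of the generators
  choose L hL using fun i => hπ (MulAut.conj (pGen (F := F) i))
  have hLK : ∀ i, (L i : G) ∈ K := fun i => hKd ▸ ⟨L i, by
    rw [SetLike.mem_coe, hK₀, Subgroup.mem_comap, hL, hP]; exact ⟨_, rfl⟩, rfl⟩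
  have hprod : ∀ w : List ℕ, π (w.map L).prod = MulAut.conj (w.map (pGen (F := F))).prod := fun w => by
    rw [map_list_prod, map_list_prod, List.map_map, List.map_map]
    congr 1
    exact List.map_congr_left fun i _ => hL i
  let L' : ℕ → M ⧸ Z := fun i => ((⟨L i, hKM (hLK i)⟩ : M) : M ⧸ Z)
  have hL'prod : ∀ w : List ℕ, ∃ m : M, (m : G) = ((w.map L).prod : ↥(Subgroup.centralizer ({z} : Set G))) ∧
      (w.map L').prod = (m : M ⧸ Z) := by
    intro w
    induction w with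
    | nil => exact ⟨1, rfl, rfl⟩
    | cons i w ih =>
      obtain ⟨m, hm, e⟩ := ih
      exact ⟨⟨L i, hKM (hLK i)⟩ * m, by simp [hm], by rw [List.map_cons, List.prod_cons, e]; rfl⟩
  obtain ⟨C, Fr, hFJ, hgen⟩ := exists_frame hE L' (fun i => hcz _)
    (fun w w' h => by
      obtain ⟨m, hm, e⟩ := hL'prod w
      obtain ⟨m', hm', e'⟩ := hL'prod w'
      rw [e, e', ← QuotientGroup.mk_inv, ← QuotientGroup.mk_mul]
      refine hJbmem.2 ?_
      have h1 := (hk ((w.map L).prod⁻¹ * (w'.map L).prod)).1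
        (by rw [map_mul, map_inv, hprod, hprod, pGen_rel h, inv_mul_cancel])
      simpa [hm, hm'] using h1)
    (fun h => by
      have h1 := (hk (L 0)).2 (hJbmem.1 h)
      rw [hL] at h1
      exact pGen_zero_ne (hinj (h1.trans (map_one _).symm)))
  -- the coordinates on the whole
  obtain ⟨vc, hvc⟩ : ∃ vc : G → ℕ, ∀ j (hj : j ∈ J), vc j = Fr.vc ((⟨j, hJM hj⟩ : M) : M ⧸ Z) :=
    ⟨fun j => if hj : j ∈ J then Fr.vc ((⟨j, hJM hj⟩ : M) : M ⧸ Z) else 0, fun j hj => dif_pos hj⟩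
  obtain ⟨vc', hvc'⟩ : ∃ vc' : G → ℕ, ∀ j, vc' j = if j ∈ J then vc j else 0 := ⟨_, fun _ => rfl⟩
  have hv : ∀ j (hj : j ∈ J), vc' j = Fr.vc ((⟨j, hJM hj⟩ : M) : M ⧸ Z) := fun j hj => by
    rw [hvc', if_pos hj, hvc j hj]
  have hvlt : ∀ j, vc' j < 256 := fun j => by
    by_cases hj : j ∈ J
    · rw [hv j hj]; exact Fr.vc_lt _
    · rw [hvc', if_neg hj]; norm_num
  have hmemb : ∀ {j}, (hj : j ∈ J) → ((⟨j, hJM hj⟩ : M) : M ⧸ Z) ∈ Fr.J := fun {j} hj => hFJ ▸ hJbmem.2 hj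
  have hvmul : ∀ j ∈ J, ∀ k ∈ J, vc' (j * k) = vc' j ^^^ vc' k := fun j hj k hk' => by
    rw [hv j hj, hv k hk', hv _ (mul_mem hj hk'), ← Fr.vc_mul _ (hmemb hj) _ (hmemb hk')]
    rfl
  have hvzero : ∀ j ∈ J, vc' j = 0 → j = 1 ∨ j = z ∨ j = a ∨ j = a * z := by
    intro j hj e
    rw [hv j hj] at e
    rcases Fr.vc_zero _ (hmemb hj) e with h | h
    · rcases hmk (x := 1) (y := ⟨j, hJM hj⟩) h.symm with e' | e'
      · exact Or.inl e'
      · exact Or.inr (Or.inr (Or.inl ((show j = 1 * a from e').trans (one_mul a))))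
    · rcases hmk (x := ⟨z, hJM X.zJ⟩) (y := ⟨j, hJM hj⟩) h.symm with e' | e'
      · exact Or.inr (Or.inl e')
      · exact Or.inr (Or.inr (Or.inr ((show j = z * a from e').trans (X.cz a X.aJ).eq.symm)))
  have hvz : vc' z = 0 := by rw [hv z X.zJ]; exact Fr.vc_z
  have hva : vc' a = 0 := by
    rw [hv a X.aJ, show ((⟨a, hJM X.aJ⟩ : M) : M ⧸ Z) = 1 from ha' ▸ hka]
    exact Fr.vc_one
  have hv1 : vc' 1 = 0 := by
    have h := hvmul 1 (one_mem _) 1 (one_mem _)
    rwa [one_mul, Nat.xor_self] at h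
  have hvsurj : ∀ v < 256, ∃ j ∈ J, vc' j = v := fun v hv' => by
    obtain ⟨j, hj, rfl⟩ := Fr.vc_surj v hv'
    obtain ⟨j, rfl⟩ := QuotientGroup.mk_surjective j
    have hjJ : (j : G) ∈ J := hJbmem.1 (hFJ ▸ hj)
    exact ⟨j, hjJ, hv _ hjJ⟩
  choose rp hrpJ hrpv using fun v : {v // v < 256} => hvsurj v.1 v.2
  let rp' : ℕ → G := fun v => if h : v < 256 then rp ⟨v, h⟩ else 1
  have hrp : ∀ v < 256, rp' v ∈ J ∧ vc' (rp' v) = v := fun v h => by
    simp only [rp', dif_pos h]; exact ⟨hrpJ _, hrpv _⟩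
  obtain ⟨κ, hκ⟩ : ∃ κ : G → ℕ, ∀ h, κ h = mkc fun i => vc' (h * rp' (2 ^ i) * h⁻¹) := ⟨_, fun _ => rfl⟩
  have hconj : ∀ h, Commute h z → ∀ j ∈ J, ∀ k ∈ J, vc' j = vc' k → vc' (h * j * h⁻¹) = vc' (h * k * h⁻¹) := by
    intro h hh j hj k hk' e
    have hd := hvzero _ (mul_mem (inv_mem hj) hk') (by
      have h1 := hvmul j hj _ (mul_mem (inv_mem hj) hk')
      rw [mul_inv_cancel_left, ← e] at h1
      calc vc' (j⁻¹ * k) = vc' j ^^^ (vc' j ^^^ vc' (j⁻¹ * k)) := by rw [← Nat.xor_assoc, Nat.xor_self, Nat.zero_xor]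
        _ = 0 := by rw [← h1, Nat.xor_self])
    rw [show h * k * h⁻¹ = h * j * h⁻¹ * (h * (j⁻¹ * k) * h⁻¹) by group,
      hvmul _ (X.norm h hh j hj) _ (X.norm h hh _ (mul_mem (inv_mem hj) hk'))]
    suffices vc' (h * (j⁻¹ * k) * h⁻¹) = 0 by rw [this, Nat.xor_zero]
    have ha0 : vc' (h * a * h⁻¹) = 0 := by
      rcases horb ⟨h, hup hh⟩ with e' | e' <;> rw [e']
      · exact hva
      · rw [hvmul a X.aJ z X.zJ, hva, hvz, Nat.xor_zero]
    rcases hd with e' | e' | e' | e' <;> rw [e']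
    · rw [mul_one, mul_inv_cancel]; exact hv1
    · rw [mul_inv_eq_iff_eq_mul.2 hh.eq]; exact hvz
    · exact ha0
    · rw [show h * (a * z) * h⁻¹ = h * a * h⁻¹ * (h * z * h⁻¹) by group, hvmul _ (X.norm h hh a X.aJ) _
        (X.norm h hh z X.zJ), ha0, mul_inv_eq_iff_eq_mul.2 hh.eq, hvz, Nat.xor_zero]
  have hκlt : ∀ h, κ h < 2 ^ 64 := fun h => hκ h ▸ mkc_lt fun i _ => hvlt _
  have hact : ∀ h, Commute h z → ∀ j ∈ J, vc' (h * j * h⁻¹) = ap (κ h) (vc' j) := by
    intro h hh j hj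
    rw [hκ]
    refine ((exists_code (f := fun v => vc' (h * rp' v * h⁻¹)) (fun v _ => hvlt _) (fun u hu v hv' => ?_)
      (hvlt j)).trans ?_).symm
    · rw [← hvmul _ (X.norm h hh _ (hrp u hu).1) _ (X.norm h hh _ (hrp v hv').1),
        show h * rp' u * h⁻¹ * (h * rp' v * h⁻¹) = h * (rp' u * rp' v) * h⁻¹ by group]
      exact hconj h hh _ (hrp _ (xor_lt hu hv')).1 _ (mul_mem (hrp u hu).1 (hrp v hv').1)
        (by rw [hvmul _ (hrp u hu).1 _ (hrp v hv').1, (hrp _ (xor_lt hu hv')).2, (hrp _ hu).2, (hrp _ hv').2])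
    · exact hconj h hh _ (hrp _ (hvlt j)).1 _ hj (hrp _ (hvlt j)).2
  have hagree : ∀ {h} (hh : h ∈ M), κ h = Fr.κ ((⟨h, hh⟩ : M) : M ⧸ Z) := by
    intro h hh
    refine code_ext (hκlt h) (Fr.κ_lt _) fun v hv' => ?_
    obtain ⟨j, hj, rfl⟩ := hvsurj v hv'
    have hz' := (hmemM.1 hh).1
    rw [← hact h hz' j hj, hv _ (X.norm h hz' j hj)]
    conv_rhs => rw [hv j hj, ← Fr.act _ (hcz _) _ (hmemb hj)]
    rfl
  have hκmul : ∀ g h, Commute g z → Commute h z → κ (g * h) = cm (κ g) (κ h) := by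
    intro g h hg hh
    refine code_ext (hκlt _) (cm_lt _ _) fun v hv' => ?_
    obtain ⟨j, hj, rfl⟩ := hvsurj v hv'
    rw [← hact _ (hg.mul_left hh) j hj, ap_cm, ← hact h hh j hj, ← hact g hg _ (X.norm h hh j hj)]
    congr 1
    group
  have hκJ : ∀ j ∈ J, κ j = idc := fun j hj => by rw [hagree (hJM hj), Fr.κ_mem (hmemb hj)]
  -- the inner half modulo `a`
  obtain ⟨Kb, hKb⟩ : ∃ Kb, Kb = (K.subgroupOf M).map (QuotientGroup.mk' Z) := ⟨_, rfl⟩
  have hKbc : Nat.card Kb = 512 * 25920 := by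
    have h := card_map_mk Z (S := K.subgroupOf M) (hZle.trans fun x hx => hJK hx)
    rw [← hKb, hZc, Nat.card_congr (Subgroup.subgroupOfEquivOfLe hKM).toEquiv, hKc] at h
    omega
  have hJKb : Fr.J ≤ Kb := by
    rw [hFJ, hJb, hKb]; exact Subgroup.map_mono fun x hx => hJK hx
  have hgKb : ∀ i < 4, ∃ h ∈ Kb, Commute h zb ∧ Fr.κ h = C.gens.getD i 0 := fun i hi =>
    ⟨L' i, hKb ▸ ⟨⟨L i, hKM (hLK i)⟩, hLK i, rfl⟩, hcz _, hgen i hi⟩
  let FK := Fr.restrict Kb hJKb hgKb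
  have hcK : Nat.card ↥(Subgroup.centralizer ({(⟨zb, hJKb Fr.ext.zJ⟩ : Kb)} : Set Kb)) = 512 * 25920 := by
    rw [card_centralizer_sub, inf_eq_left.2 fun x _ => Subgroup.mem_centralizer_singleton_iff.2 (hcz x).eq, hKbc]
  have hFK : ∀ {h} (hh : h ∈ K), ∃ y : Kb, Commute y ⟨zb, hJKb Fr.ext.zJ⟩ ∧ FK.κ y = κ h := fun {h} hh =>
    ⟨⟨((⟨h, hKM hh⟩ : M) : M ⧸ Z), hKb ▸ ⟨_, hh, rfl⟩⟩, Subtype.ext (hcz _).eq, (hagree (hKM hh)).symm⟩
  have hgenκ : ∀ i < 4, κ (L i : G) = C.gens.getD i 0 := fun i hi => by rw [hagree (hKM (hLK i))]; exact hgen i hi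
  have hlift : ∀ c, WordCode C.gens c → ∃ h ∈ K, κ h = c := by
    rintro c ⟨w, hw, rfl⟩
    induction w with
    | nil => exact ⟨1, one_mem _, by rw [cw_nil]; exact hκJ 1 (one_mem _)⟩
    | cons i w ih =>
      obtain ⟨h, hh, he⟩ := ih fun b hb => hw b (List.mem_cons_of_mem _ hb)
      exact ⟨L i * h, mul_mem (hLK i) hh, by
        rw [hκmul _ _ (hKz _ (hLK i)) (hKz h hh), he, hgenκ i (hw i List.mem_cons_self), cw_cons]⟩
  have hker' : ∀ h, Commute h z → κ h = idc → h ∈ J := by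
    intro h hh he
    refine (hk ⟨h, hup hh⟩).1 (hcen _ fun p => ?_)
    obtain ⟨w, hw⟩ := hπ (MulAut.conj p)
    have hwK : w ∈ K₀ := by rw [hK₀, Subgroup.mem_comap, hw, hP]; exact ⟨p, rfl⟩
    have hwz := hc w
    have hcomm : h * w * h⁻¹ * (w : G)⁻¹ ∈ J := by
      have hz' : Commute (h * w * h⁻¹ * (w : G)⁻¹) z := ((hh.mul_left hwz).mul_left hh.inv_left).mul_left hwz.inv_left
      have ha'' : Commute (h * w * h⁻¹ * (w : G)⁻¹) a := by
        refine hKa' _ (hKmem.2 ⟨hz', ?_⟩)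
        rw [hK₀, Subgroup.mem_comap, show (⟨h * w * h⁻¹ * (w : G)⁻¹, hup hz'⟩ : ↥(Subgroup.centralizer ({z} : Set G))) =
          ⟨h, hup hh⟩ * w * ⟨h, hup hh⟩⁻¹ * w⁻¹ from rfl, map_mul, map_mul, map_mul, map_inv, map_inv, hw, hPn, hP]
        exact mul_mem ⟨_, rfl⟩ (inv_mem ⟨p, rfl⟩)
      have hinv : ∀ {g}, Commute g z → κ g = idc → κ g⁻¹ = idc := fun {g} hg e => by
        have h1 := hκmul g g⁻¹ hg hg.inv_left
        rw [mul_inv_cancel, hκJ 1 (one_mem _), e, idc_cm (hκlt _)] at h1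
        exact h1.symm
      have hκc : κ (h * w * h⁻¹ * (w : G)⁻¹) = idc := by
        rw [hκmul _ _ ((hh.mul_left hwz).mul_left hh.inv_left) hwz.inv_left, hκmul _ _ (hh.mul_left hwz) hh.inv_left,
          hκmul _ _ hh hwz, hinv hh he, he, idc_cm (hκlt _), cm_idc (hκlt _), ← hκmul _ _ hwz hwz.inv_left,
          mul_inv_cancel, hκJ 1 (one_mem _)]
      refine hself _ hz' ha'' fun j hj => ?_
      refine ⟨j⁻¹ * (h * w * h⁻¹ * (w : G)⁻¹ * j * (h * w * h⁻¹ * (w : G)⁻¹)⁻¹), ?_, (mul_inv_cancel_left _ _).symm⟩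
      refine hvzero _ (mul_mem (inv_mem hj) (X.norm _ hz' j hj)) ?_
      have hinvv : vc' j⁻¹ = vc' j := by
        have h1 := hvmul j hj j⁻¹ (inv_mem hj)
        rw [mul_inv_cancel, hv1] at h1
        exact (Nat.xor_eq_zero_iff.1 h1.symm).symm
      rw [hvmul _ (inv_mem hj) _ (X.norm _ hz' j hj), hact _ hz' j hj, hκc, ap_idc (hvlt j), hinvv, Nat.xor_self]
    have h1 := (hk (⟨h, hup hh⟩ * w * ⟨h, hup hh⟩⁻¹ * w⁻¹)).2 hcomm
    rw [map_mul, map_mul, map_mul, map_inv, map_inv, hw, mul_inv_eq_one, mul_inv_eq_iff_eq_mul] at h1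
    exact h1
  have hword : ∀ {h}, Commute h z → (WordCode C.gens (κ h) ↔ h ∈ K) := by
    intro h hh
    constructor
    · intro hw
      obtain ⟨h', hh', he⟩ := hlift _ hw
      have hz' := hKz h' hh'
      have : h'⁻¹ * h ∈ J := hker' _ (hz'.inv_left.mul_left hh) (by
        rw [hκmul _ _ hz'.inv_left hh, ← he, ← hκmul _ _ hz'.inv_left hz', inv_mul_cancel]; exact hκJ 1 (one_mem _))
      have := mul_mem hh' (hJK this)
      rwa [mul_inv_cancel_left] at this
    · intro hK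
      obtain ⟨y, hy, e⟩ := hFK hK
      exact e ▸ FK.word_code hcK hy
  have hKi : ∀ g h, Commute g z → Commute h z → (g * h ∈ K ↔ (g ∈ K ↔ h ∈ K)) := by
    intro g h hg hh
    have h1 := Subgroup.mul_mem_iff_of_index_two hK₀i (a := ⟨g, hup hg⟩) (b := ⟨h, hup hh⟩)
    have e : ∀ {x} (hx : Commute x z), x ∈ K ↔ (⟨x, hup hx⟩ : ↥(Subgroup.centralizer ({z} : Set G))) ∈ K₀ :=
      fun {x} hx => ⟨fun h => (hKmem.1 h).2, fun h => hKmem.2 ⟨hx, h⟩⟩
    rw [e (hg.mul_left hh), e hg, e hh]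
    exact h1
  have hinvol : ∀ c, WordCode C.gens c → cm c c = idc → c ≠ idc →
      c ∈ invL C ∧ ∃ k < 2, ∃ e, WordCode C.gens e ∧ cm e c = cm (xC C.gens k) e := by
    intro c hw h2 h1
    obtain ⟨h, hh, rfl⟩ := hlift c hw
    obtain ⟨y, hy, ey⟩ := hFK hh
    obtain ⟨k, hk', g, hg, hge⟩ := FK.invol_class hcK hy (by rw [ey]; exact h2) (by rw [ey]; exact h1)
    refine ⟨?_, k, hk', FK.κ g, FK.word_code hcK hg, ?_⟩
    · have hcl := (FK.cover hcK hk' ((hg.mul_left hy).mul_left hg.inv_left) hge hg.inv_left).1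
      rw [show g⁻¹ * (g * y * g⁻¹) * g⁻¹⁻¹ = y by group, ey] at hcl
      simp only [invL, List.mem_append]
      interval_cases k
      exacts [Or.inl hcl, Or.inr hcl]
    · rw [FK.κ_conj hg hy, ey] at hge
      rw [← hge, cm_assoc _ (FK.κ g⁻¹), (FK.κ_inv hg).2, cm_idc (cm_lt _ _)]
  have hout : ∃ k ∈ outL C, ∃ s, Commute s z ∧ κ s = oC C k ∧ ¬ WordCode C.gens (oC C k) := by
    obtain ⟨h₀, hh₀⟩ := hπ (simPSp (F := F))
    have hh := hc h₀
    have heq : ∀ x y : ↥(Subgroup.centralizer ({z} : Set G)), π x = π y → κ (x : G) = κ (y : G) := fun x y e => by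
      have hJ : (x : G)⁻¹ * y ∈ J := by
        have := (hk (x⁻¹ * y)).1 (by rw [map_mul, map_inv, e, inv_mul_cancel])
        simpa using this
      conv_rhs => rw [show (y : G) = x * ((x : G)⁻¹ * y) by group]
      rw [hκmul _ _ (hc x) (X.cz _ hJ), hκJ _ hJ, cm_idc (hκlt _)]
    have hword' : ∀ w : List ℕ, (∀ i ∈ w, i < 4) →
        κ ((w.map L).prod : ↥(Subgroup.centralizer ({z} : Set G))).1 = cw C.gens w := by
      intro w hw
      induction w with
      | nil => rw [cw_nil]; exact hκJ 1 (one_mem _)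
      | cons i w ih =>
        rw [List.map_cons, List.prod_cons, Subgroup.coe_mul, hκmul _ _ (hc _) (hc _), cw_cons,
          ih fun b hb => hw b (List.mem_cons_of_mem _ hb), hgenκ i (hw i List.mem_cons_self)]
    have hsq : cm (κ (h₀ : G)) (κ (h₀ : G)) = idc := by
      rw [← hκmul _ _ hh hh]
      refine (heq (h₀ * h₀) 1 ?_).trans (hκJ 1 (one_mem _))
      rw [map_mul, hh₀, simPSp_sq, map_one]
    have himg : ∀ i < 4, cm (κ (h₀ : G)) (C.gens.getD i 0) = cm (imgC C.gens i) (κ (h₀ : G)) := by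
      intro i hi
      have hpi : π (h₀ * L i) = π (((imgW.getD i []).map L).prod * h₀) := by
        rw [map_mul, map_mul, hh₀, hL, hprod, ← simPSp_gen hi]
        refine MulEquiv.ext fun x => ?_
        simp [MulAut.mul_apply]
      have := heq _ _ hpi
      rw [Subgroup.coe_mul, Subgroup.coe_mul, hκmul _ _ hh (hc _), hκmul _ _ (hc _) hh, hgenκ i hi,
        hword' _ (imgW_lt i hi)] at this
      exact this
    have hq : ∀ v < 256, C.q (ap (κ (h₀ : G)) v) = C.q v := by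
      intro v hv'
      obtain ⟨j, hj, rfl⟩ := hvsurj v hv'
      rw [← hact _ hh j hj]
      have hj' := X.norm _ hh j hj
      have hb : ∀ {i} (hi : i ∈ J), C.q (vc' i) = 1 ↔ i * i = z := by
        intro i hi
        have h1 := Fr.sq _ (hmemb hi)
        rw [← hv i hi] at h1
        constructor
        · intro e
          rw [if_pos e] at h1
          rcases hmk (x := ⟨z, hJM X.zJ⟩) (y := (⟨i, hJM hi⟩ : M) * (⟨i, hJM hi⟩ : M)) h1.symm with e' | e'
          · exact e'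
          · push_cast at e'
            exfalso
            rcases X.sq i hi with s | s <;> rw [s] at e'
            · exact X.az (mul_left_cancel (a := z) (by rw [← e', X.z2])).symm
            · exact X.a1 (mul_eq_left.1 e'.symm)
        · intro e
          by_contra hne
          rw [if_neg hne] at h1
          rcases hmk (x := 1) (y := (⟨i, hJM hi⟩ : M) * (⟨i, hJM hi⟩ : M)) h1.symm with e' | e' <;> push_cast at e' <;> rw [e] at e'
          · exact X.z1 e'
          · exact X.az (by rw [e', one_mul])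
      have hlt : ∀ {i} (hi : i ∈ J), C.q (vc' i) < 2 := fun {i} _ => q_lt_two Fr.std (hvlt i)
      have e : (h₀ : G) * j * (h₀ : G)⁻¹ * ((h₀ : G) * j * (h₀ : G)⁻¹) = h₀ * (j * j) * (h₀ : G)⁻¹ := by group
      have hiff : C.q (vc' ((h₀ : G) * j * (h₀ : G)⁻¹)) = 1 ↔ C.q (vc' j) = 1 := by
        rw [hb hj', hb hj, e]
        constructor
        · intro e'
          exact mul_left_cancel (mul_right_cancel (e'.trans (mul_inv_eq_iff_eq_mul.2 hh.eq).symm))
        · intro e'; rw [e', mul_inv_eq_iff_eq_mul.2 hh.eq]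
      have := hlt hj'
      have := hlt hj
      omega
    have hkmem := Fr.out_code' (hκlt _) hq hsq himg
    refine ⟨_, hkmem, h₀ * L 3, hh.mul_left (hc _), ?_, fun hw => ?_⟩
    · rw [hκmul _ _ hh (hc _), hgenκ 3 (by norm_num)]; rfl
    · obtain ⟨-, -, -, hcc, hne, hni, -⟩ := Fr.out_ok hkmem
      exact hni (hinvol _ hw hcc hne).1
  let Q : Quad C z a :=
    { J := J, z2 := X.z2, z1 := X.z1, a2 := X.a2, a1 := X.a1, az := X.az, zJ := X.zJ, aJ := X.aJ,
      cz := X.cz, ca := X.ca, norm := X.norm, sq := X.sq, cmt := X.cmt, vc := vc', κ := κ, std := Fr.std,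
      vc_lt := hvlt, vc_mul := hvmul, vc_zero := hvzero, vc_z := hvz, vc_a := hva, vc_surj := hvsurj,
      sqf := fun j hj => by
        have h1 := Fr.sq _ (hmemb hj)
        rw [← hv j hj] at h1
        by_cases hq : C.q (vc' j) = 1
        · rw [if_pos hq] at h1 ⊢
          refine (X.sq j hj).resolve_left fun e => ?_
          rcases hmk (x := ⟨z, hJM X.zJ⟩) (y := (⟨j, hJM hj⟩ : M) * (⟨j, hJM hj⟩ : M)) h1.symm with e' | e' <;> push_cast at e' <;>
            rw [e] at e'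
          · exact X.z1 e'.symm
          · exact X.az (mul_left_cancel (a := z) (by rw [← e', X.z2])).symm
        · rw [if_neg hq] at h1 ⊢
          refine (X.sq j hj).resolve_right fun e => ?_
          rcases hmk (x := 1) (y := (⟨j, hJM hj⟩ : M) * (⟨j, hJM hj⟩ : M)) h1.symm with e' | e' <;> push_cast at e' <;> rw [e] at e'
          · exact X.z1 e'
          · exact X.az (by rw [e', one_mul]),
      κ_lt := hκlt, act := hact, ker := hker',
      gens := fun i hi => ⟨L i, hc _, hgenκ i hi⟩,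
      a_move := fun h hh => horb ⟨h, hup hh⟩,
      a_fix := fun h hh hw => hKa' h ((hword hh).1 hw),
      index := fun g h hg hh ng nh => (hword (hg.mul_left hh)).2 ((hKi g h hg hh).2
        (iff_of_false (fun e => ng ((hword hg).2 e)) fun e => nh ((hword hh).2 e))),
      cov := fun k hk' c hw e => by
        obtain ⟨h, hh, rfl⟩ := hlift c hw
        obtain ⟨y, hy, ey⟩ := hFK hh
        obtain ⟨x, hx, hxe⟩ := FK.lift_xC hk'
        have := (FK.cover hcK hk' hx hxe hy).2.2 (by rw [ey, hxe]; exact e.symm)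
        rwa [ey] at this,
      invol := hinvol,
      out := hout, neA := hneA, neB := hneB }
  refine ⟨C, Q, rfl, X.card, hH, ⟨K, hKc, fun h => ⟨fun hK => ⟨hKz h hK, (hword (hKz h hK)).2 hK⟩,
    fun hi => (hword hi.1).1 hi.2⟩⟩, X.self⟩

end Cfsg.Lib.U62Type
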