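import Cfsg.Prelude.Def_Classical
import Cfsg.Agent.S0245
import Cfsg.Agent.S0246
import Cfsg.Agent.Lib.FusionSys.LieSimplePSp

/-!
# Four generators of PSp₄(3) and the decision of relations between their words
-/

set_option autoImplicit false
set_option linter.unusedSectionVars false

namespace Cfsg.Lib.U62Type

/-- The `n`th generator's matrix, row by row. -/
def gmat : ℕ → List ℕ
  | 0 => [1, 0, 0, 0, 0, 1, 0, 0, 0, 1, 1, 0, 1, 2, 0, 1]
  | 1 => [1, 2, 0, 0, 0, 2, 0, 0, 0, 1, 1, 0, 2, 0, 2, 2]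
  | 2 => [1, 2, 0, 0, 1, 1, 0, 0, 2, 2, 2, 1, 0, 2, 2, 2]
  | 3 => [1, 2, 0, 1, 1, 2, 2, 0, 0, 2, 1, 1, 1, 0, 2, 2]
  | _ => [1, 0, 0, 0, 0, 1, 0, 0, 0, 0, 1, 0, 0, 0, 0, 1]

/-- The product. -/
def mulL (a b : List ℕ) : List ℕ :=
  (List.range 16).map fun k => (a.getD (4 * (k / 4)) 0 * b.getD (k % 4) 0 + a.getD (4 * (k / 4) + 1) 0 * b.getD (4 + k % 4) 0 +
    a.getD (4 * (k / 4) + 2) 0 * b.getD (8 + k % 4) 0 + a.getD (4 * (k / 4) + 3) 0 * b.getD (12 + k % 4) 0) % 3

/-- The transpose. -/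
def trL (a : List ℕ) : List ℕ := (List.range 16).map fun k => a.getD (4 * (k % 4) + k / 4) 0

/-- The form. -/
def formL : List ℕ := [0, 0, 2, 0, 0, 0, 0, 2, 1, 0, 0, 0, 0, 1, 0, 0]

/-- The identity. -/
def oneL : List ℕ := [1, 0, 0, 0, 0, 1, 0, 0, 0, 0, 1, 0, 0, 0, 0, 1]

/-- The negative. -/
def negL (a : List ℕ) : List ℕ := (List.range 16).map fun k => 2 * a.getD k 0 % 3

/-- The matrix of a word. -/
def wmat (w : List ℕ) : List ℕ := w.foldr (fun i m => mulL (gmat i) m) oneL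

/-- Two words have matrices equal up to sign. -/
def meq (w w' : List ℕ) : Bool := wmat w == wmat w' || wmat w == negL (wmat w')

/-- The position of an index. -/
def pos : Fin 2 ⊕ Fin 2 → ℕ
  | .inl i => i.1
  | .inr i => 2 + i.1

theorem pos_lt (i : Fin 2 ⊕ Fin 2) : pos i < 4 := by
  rcases i with i | i <;> fin_cases i <;> decide

variable {F : Type*} [Field F]

/-- The matrix of a list. -/
def toM (a : List ℕ) : Matrix (Fin 2 ⊕ Fin 2) (Fin 2 ⊕ Fin 2) F :=
  Matrix.of fun i j => ((a.getD (4 * pos i + pos j) 0 : ℕ) : F)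

theorem getD_map_range (f : ℕ → ℕ) {k n : ℕ} (hk : k < n) : ((List.range n).map f).getD k 0 = f k := by
  rw [List.getD_eq_getElem _ _ (by simpa using hk)]
  simp

variable [CharP F 3]

theorem cast_mod (n : ℕ) : ((n % 3 : ℕ) : F) = n := (CharP.cast_eq_mod F 3 n).symm

theorem toM_mul (a b : List ℕ) : (toM (mulL a b) : Matrix _ _ F) = toM a * toM b := by
  ext i j
  have hi := pos_lt i
  have hj := pos_lt j
  rw [toM, Matrix.of_apply, mulL, getD_map_range _ (by omega), cast_mod, Matrix.mul_apply,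
    Fintype.sum_sum_type, Fin.sum_univ_two, Fin.sum_univ_two,
    show (4 * pos i + pos j) / 4 = pos i by omega, show (4 * pos i + pos j) % 4 = pos j by omega]
  simp only [toM, Matrix.of_apply, pos, Fin.val_zero, Fin.val_one, Nat.cast_add, Nat.cast_mul]
  norm_num
  ring

omit [CharP F 3] in
theorem toM_tr (a : List ℕ) : (toM (trL a) : Matrix _ _ F) = (toM a).transpose := by
  ext i j
  have hi := pos_lt i
  have hj := pos_lt j
  rw [Matrix.transpose_apply, toM, toM, Matrix.of_apply, Matrix.of_apply, trL, getD_map_range _ (by omega),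
    show (4 * pos i + pos j) % 4 = pos j by omega, show (4 * pos i + pos j) / 4 = pos i by omega]

theorem toM_neg (a : List ℕ) : (toM (negL a) : Matrix _ _ F) = -toM a := by
  ext i j
  have hi := pos_lt i
  have hj := pos_lt j
  rw [toM, Matrix.of_apply, negL, getD_map_range _ (by omega), cast_mod, Matrix.neg_apply, toM, Matrix.of_apply]
  have h3 : ((3 : ℕ) : F) = 0 := CharP.cast_eq_zero F 3
  push_cast at h3 ⊢
  linear_combination (((a.getD (4 * pos i + pos j) 0 : ℕ) : F)) * h3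

omit [CharP F 3] in
theorem toM_one : (toM oneL : Matrix (Fin 2 ⊕ Fin 2) (Fin 2 ⊕ Fin 2) F) = 1 := by
  ext i j
  rcases i with i | i <;> rcases j with j | j <;> fin_cases i <;> fin_cases j <;>
    simp [toM, oneL, pos, Matrix.one_apply]

theorem toM_form : (toM formL : Matrix (Fin 2 ⊕ Fin 2) (Fin 2 ⊕ Fin 2) F) = Matrix.J (Fin 2) F := by
  have h3 : ((3 : ℕ) : F) = 0 := CharP.cast_eq_zero F 3
  push_cast at h3
  have h2 : (2 : F) = -1 := by linear_combination h3
  ext i j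
  rcases i with i | i <;> rcases j with j | j <;> fin_cases i <;> fin_cases j <;>
    simp [toM, formL, pos, Matrix.J, h2]

/-- The generators are symplectic. -/
def symL (a : List ℕ) : Bool := mulL (mulL a formL) (trL a) == formL

theorem sym_gmat : ∀ i < 5, symL (gmat i) = true := by decide +kernel

theorem gmat_big {i : ℕ} (hi : 4 ≤ i) : gmat i = gmat 4 := by
  rcases i with - | - | - | - | i
  · omega
  · omega
  · omega
  · omega
  · rfl

theorem toM_mem (i : ℕ) : (toM (gmat i) : Matrix _ _ F) ∈ Matrix.symplecticGroup (Fin 2) F := by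
  have h : symL (gmat i) = true := by
    by_cases hi : i < 5
    · exact sym_gmat i hi
    · rw [gmat_big (by omega)]; exact sym_gmat 4 (by norm_num)
  rw [SymplecticGroup.mem_iff, ← toM_form, ← toM_tr, ← toM_mul, ← toM_mul,
    eq_of_beq (show (mulL (mulL (gmat i) formL) (trL (gmat i)) == formL) = true from h)]

/-- The element of Sp₄(3). -/
def spGen (i : ℕ) : Matrix.symplecticGroup (Fin 2) F := ⟨toM (gmat i), toM_mem i⟩

/-- The element of PSp₄(3). -/
def pGen (i : ℕ) : Cfsg.PSp 2 F := QuotientGroup.mk (spGen i)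

theorem toM_wmat (w : List ℕ) :
    (toM (wmat w) : Matrix _ _ F) = ((w.map (spGen (F := F))).prod : Matrix.symplecticGroup (Fin 2) F).1 := by
  induction w with
  | nil => exact toM_one
  | cons i w ih =>
    rw [List.map_cons, List.prod_cons]
    show toM (mulL (gmat i) (wmat w)) = _
    rw [toM_mul, ih]
    rfl

theorem pGen_prod (w : List ℕ) :
    (w.map (pGen (F := F))).prod = QuotientGroup.mk (w.map (spGen (F := F))).prod := by
  induction w with
  | nil => rfl
  | cons i w ih => rw [List.map_cons, List.prod_cons, List.map_cons, List.prod_cons, ih, QuotientGroup.mk_mul]; rfl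

theorem pGen_rel {w w' : List ℕ} (h : meq w w' = true) :
    (w.map (pGen (F := F))).prod = (w'.map (pGen (F := F))).prod := by
  rw [pGen_prod, pGen_prod]
  obtain ⟨x, hx⟩ : ∃ x, x = (w.map (spGen (F := F))).prod := ⟨_, rfl⟩
  obtain ⟨y, hy⟩ : ∃ y, y = (w'.map (spGen (F := F))).prod := ⟨_, rfl⟩
  rw [← hx, ← hy]
  rw [meq, Bool.or_eq_true] at h
  rcases h with h | h
  · have e : (x : Matrix (Fin 2 ⊕ Fin 2) (Fin 2 ⊕ Fin 2) F) = y := by
      rw [hx, hy, ← toM_wmat, ← toM_wmat, eq_of_beq h]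
    rw [Subtype.ext e]
  · have e : (x : Matrix (Fin 2 ⊕ Fin 2) (Fin 2 ⊕ Fin 2) F) = -y := by
      rw [hx, hy, ← toM_wmat, ← toM_wmat, eq_of_beq h, toM_neg]
    refine QuotientGroup.eq.2 (Subgroup.mem_center_iff.2 fun g => ?_)
    have hg : ∀ a b : Matrix.symplecticGroup (Fin 2) F,
        (a : Matrix (Fin 2 ⊕ Fin 2) (Fin 2 ⊕ Fin 2) F) * (x⁻¹ * y : Matrix.symplecticGroup (Fin 2) F).1 = b →
        (b : Matrix (Fin 2 ⊕ Fin 2) (Fin 2 ⊕ Fin 2) F) = -a := by
      intro a b hab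
      have hxy : (x⁻¹ : Matrix.symplecticGroup (Fin 2) F).1 * (x : Matrix (Fin 2 ⊕ Fin 2) (Fin 2 ⊕ Fin 2) F) = 1 :=
        congrArg Subtype.val (inv_mul_cancel x)
      rw [← hab, Submonoid.coe_mul, show (y : Matrix (Fin 2 ⊕ Fin 2) (Fin 2 ⊕ Fin 2) F) = -x by rw [e, neg_neg],
        mul_neg, hxy, mul_neg, mul_one]
    have hc : ((x⁻¹ * y : Matrix.symplecticGroup (Fin 2) F) : Matrix (Fin 2 ⊕ Fin 2) (Fin 2 ⊕ Fin 2) F) = -1 :=
      hg 1 _ (by simp)
    refine Subtype.ext ?_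
    show (g : Matrix (Fin 2 ⊕ Fin 2) (Fin 2 ⊕ Fin 2) F) * (x⁻¹ * y : Matrix.symplecticGroup (Fin 2) F).1 =
      (x⁻¹ * y : Matrix.symplecticGroup (Fin 2) F).1 * g
    rw [hc, mul_neg, neg_mul, mul_one, one_mul]

theorem pGen_zero_ne : (pGen 0 : Cfsg.PSp 2 F) ≠ 1 := by
  intro h
  rw [pGen, QuotientGroup.eq_one_iff, Subgroup.mem_center_iff] at h
  have h1 := congrArg Subtype.val (h (spGen 1))
  have h2 : (toM (mulL (gmat 1) (gmat 0)) : Matrix _ _ F) = toM (mulL (gmat 0) (gmat 1)) := by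
    rw [toM_mul, toM_mul]
    exact h1
  obtain ⟨i, j, hij⟩ : ∃ i j : Fin 2 ⊕ Fin 2,
      (mulL (gmat 1) (gmat 0)).getD (4 * pos i + pos j) 0 % 3 ≠
        (mulL (gmat 0) (gmat 1)).getD (4 * pos i + pos j) 0 % 3 := by decide +kernel
  exact hij ((CharP.natCast_eq_natCast F 3).1 (congrFun (congrFun h2 i) j))

omit [CharP F 3] in
theorem card_psp [Fintype F] (hF : Fintype.card F = 3) : Nat.card (Cfsg.PSp 2 F) = 25920 := by
  have h := Subgroup.card_eq_card_quotient_mul_card_subgroup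
    (Subgroup.center (Matrix.symplecticGroup (Fin 2) F))
  rw [Cfsg.Agent.S0245.result hF 2, Cfsg.Agent.S0246.result hF 2 (by norm_num)] at h
  norm_num [Finset.prod_range_succ] at h
  show Nat.card (Matrix.symplecticGroup (Fin 2) F ⧸ Subgroup.center (Matrix.symplecticGroup (Fin 2) F)) = 25920
  omega

end Cfsg.Lib.U62Type
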