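import Cfsg.Agent.Lib.U62Type.Half

/-!
# In the orthogonal cases the involution is isolated
-/

set_option autoImplicit false
set_option linter.unusedSectionVars false
set_option linter.style.haveILetI false

namespace Cfsg.Lib.U62Type

theorem plane_form : ∀ C ∈ [cfgP, cfgM], ∀ v ∈ [64, 128, 192], ∃ w ∈ [64, 128, 192], cform C v w = 1 := by
  intro C hC
  simp only [List.mem_cons, List.not_mem_nil, or_false] at hC
  rcases hC with rfl | rfl <;> decide +kernel

theorem plane_fix : ∀ g < 4, ∀ v ∈ [0, 64, 128, 192], ap (gensP.getD g 0) v = v := by decide +kernel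

namespace Frame

variable {G : Type*} [Group G] [Finite G] {C : Cfg} {z : G} (F : Frame C z)

theorem plane_act (hC : C.gens = gensP) (hc : Nat.card ↥(Subgroup.centralizer ({z} : Set G)) = 512 * 25920)
    {h j : G} (hh : Commute h z) (hj : j ∈ F.J) (hv : F.vc j ∈ [0, 64, 128, 192]) :
    h * j * h⁻¹ = j ∨ h * j * h⁻¹ = j * z := by
  refine F.conj_cases hh hj ?_
  obtain ⟨w, hw, e⟩ := F.word_code hc hh
  rw [e, hC]
  clear e
  induction w with
  | nil => rw [cw_nil, ap_idc (F.vc_lt _)]
  | cons a w ih =>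
    rw [cw_cons, ap_cm, ih fun i hi => hw i (List.mem_cons_of_mem _ hi)]
    exact plane_fix a (hw a List.mem_cons_self) _ hv

include F in
theorem isolated_orth (hC : C = cfgP ∨ C = cfgM)
    (hc : Nat.card ↥(Subgroup.centralizer ({z} : Set G)) = 512 * 25920) {t : G} (hm : Mem z t) (ht : Commute t z) :
    t = z := by
  classical
  by_contra htz
  obtain ⟨k, hk, k', hk', F, T, -, P, hκ, hκ'⟩ := F.exists_pair hc hm ht htz
  have hgens : C.gens = gensP := by rcases hC with rfl | rfl <;> rfl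
  have hsq : ∀ k < 2, sqChk C k = true := fun k hk => by
    rcases hC with rfl | rfl <;> interval_cases k
    exacts [sq_P0, sq_P1, sq_M0, sq_M1]
  have hor : orthChk C k = true := by
    rcases hC with rfl | rfl <;> interval_cases k
    exacts [orth_P0, orth_P1, orth_M0, orth_M1]
  have hform : C ∈ [cfgP, cfgM] := by rcases hC with rfl | rfl <;> simp
  -- the preimage of the fixed plane at each involution commutes with the other
  have hcent : ∀ {u v : G} {U : Frame C u} {V : Frame C v}, Pair U V → ∀ {i : ℕ}, i < 2 → V.κ u = xC C.gens i →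
      ∀ p ∈ U.J, U.vc p ∈ [0, 64, 128, 192] → Commute p v := by
    intro u v U V Q i hi hvu p hp hpv
    obtain ⟨b, hb, hbu, hbb⟩ := Q.symm.sq_elem hvu (hsq i hi)
    have hbp : b * b * p * (b * b)⁻¹ = p := by
      rcases U.plane_act hgens Q.hcz hbu hp hpv with e | e
      · calc b * b * p * (b * b)⁻¹ = b * (b * p * b⁻¹) * b⁻¹ := by group
          _ = p := by rw [e, e]
      · calc b * b * p * (b * b)⁻¹ = b * (b * p * b⁻¹) * b⁻¹ := by group
          _ = b * (p * u) * b⁻¹ := by rw [e]
          _ = (b * p * b⁻¹) * (b * u * b⁻¹) := by group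
          _ = p := by rw [e, mul_inv_eq_iff_eq_mul.2 hbu.eq, mul_assoc, U.ext.z2, mul_one]
    rw [hbb] at hbp
    exact (mul_inv_eq_iff_eq_mul.1 hbp).symm
  have hT : ∀ p ∈ T.J, T.vc p ∈ [0, 64, 128, 192] → Commute p z :=
    fun p hp hpv => hcent P.symm hk hκ p hp hpv
  -- none of the plane at `t` is in the extraspecial group at `z`
  have hmeet : ∀ p ∈ T.J, T.vc p ∈ [0, 64, 128, 192] → p ∈ F.J → p = 1 := by
    intro p hp hpv hpF
    by_cases h0 : T.vc p = 0
    · exact (T.vc_zero p hp h0).resolve_right fun e => P.tJ (e ▸ hpF)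
    have hpv' : T.vc p ∈ [64, 128, 192] := by simpa [h0] using hpv
    obtain ⟨w, hw, hw1⟩ := plane_form C hform _ hpv'
    obtain ⟨q, hq, rfl⟩ := T.vc_surj w (by simp only [List.mem_cons, List.not_mem_nil, or_false] at hw; omega)
    have hqz : Commute q z := hT q hq (List.mem_cons_of_mem _ hw)
    exfalso
    refine P.tJ ?_
    rw [← T.comm_z hp hq hw1, show p * q * p⁻¹ * q⁻¹ = p * (q * p⁻¹ * q⁻¹) by group]
    exact mul_mem hpF (F.ext.norm q hqz _ (inv_mem hpF))
  -- two elements over the plane at `t` that do not commute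
  obtain ⟨p, hp, hpv⟩ := T.vc_surj 64 (by norm_num)
  obtain ⟨w, hw, hw1⟩ := plane_form C hform 64 (by simp)
  obtain ⟨q, hq, rfl⟩ := T.vc_surj w (by simp only [List.mem_cons, List.not_mem_nil, or_false] at hw; omega)
  have hpz : Commute p z := hT p hp (by simp [hpv])
  have hqz : Commute q z := hT q hq (List.mem_cons_of_mem _ hw)
  simp only [orthChk, Bool.and_eq_true, List.all_eq_true, List.mem_filter, Bool.or_eq_true, beq_iff_eq,
    nbeq_iff, Nat.ble_eq, Bool.not_eq_true'] at hor
  obtain ⟨hlen, hbig⟩ := hor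
  have hA := P.half hκ
  rw [hlen] at hA
  -- elements over the plane at `t` centralise those commuting with `t`
  have hfix : ∀ r ∈ T.J, T.vc r ∈ [0, 64, 128, 192] → ∀ v ∈ cvL C k, F.gam t v = 0 → ap (F.κ r) v = v := by
    intro r hr hrv v hv hv0
    obtain ⟨a, ha, rfl⟩ := F.vc_surj v (mem_cvL.1 hv).1
    have hat := (P.gam_zero ha).1 hv0
    have hrz := hT r hr hrv
    obtain ⟨h1, h2⟩ := P.comm_mem ha hat hr hrz
    refine F.fix_of_comm hrz ha (show r * a = a * r from ?_)
    have hvc : T.vc (a * r * a⁻¹ * r⁻¹) = 0 := by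
      rcases T.plane_act hgens P.hct hat hr hrv with e | e <;> rw [e]
      · rw [mul_inv_cancel, T.vc_one]
      · rw [(T.ext.cz r hr).eq, mul_inv_cancel_right, T.vc_z]
    rcases T.vc_zero _ h2 hvc with e | e
    · exact (mul_inv_eq_iff_eq_mul.1 (mul_inv_eq_one.1 e)).symm
    · exact absurd (e ▸ h1) P.tJ
  have hce : ∀ r ∈ T.J, Commute r z → F.κ r ∈ ceL C.gens k := fun r hr hrz => by
    refine (F.cover P.hcz hk P.comm hκ hrz).2.2 ?_
    rw [← F.κ_mul hrz P.comm, ← F.κ_mul P.comm hrz]
    exact congrArg F.κ (T.ext.cz r hr).eq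
  have hcount : ∀ (f : ℕ → Bool), (∀ v ∈ cvL C k, F.gam t v = 0 → f v = true) →
      32 ≤ ((cvL C k).filter f).length := fun f hf => by
    have h1 : ((cvL C k).filter fun v => decide (F.gam t v = 0)).length ≤ ((cvL C k).filter f).length := by
      rw [← List.countP_eq_length_filter, ← List.countP_eq_length_filter]
      exact List.countP_mono_left fun v hv h => hf v hv (of_decide_eq_true h)
    omega
  have hqv : T.vc q ∈ [0, 64, 128, 192] := List.mem_cons_of_mem _ hw
  have hpv' : T.vc p ∈ [0, 64, 128, 192] := by simp [hpv]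
  rcases hbig _ ⟨hce p hp hpz, hcount _ fun v hv h => by simpa [nbeq_iff] using hfix p hp hpv' v hv h⟩
      _ ⟨hce q hq hqz, hcount _ fun v hv h => by simpa [nbeq_iff] using hfix q hq hqv v hv h⟩ with e | e
  · rw [← F.κ_mul hpz hqz, ← F.κ_mul hqz hpz, F.κ_eq_iff (hpz.mul_left hqz) (hqz.mul_left hpz),
      show (p * q)⁻¹ * (q * p) = q⁻¹ * (p⁻¹ * q * p * q⁻¹) * q by group] at e
    have h1 := F.ext.norm q hqz _ e
    rw [show q * (q⁻¹ * (p⁻¹ * q * p * q⁻¹) * q) * q⁻¹ = p⁻¹ * q * p * q⁻¹ by group] at h1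
    have h2 : p⁻¹ * q * p⁻¹⁻¹ * q⁻¹ = t := by
      refine T.comm_z (inv_mem hp) hq ?_
      rw [T.vc_inv hp, hpv]; exact hw1
    rw [inv_inv] at h2
    exact P.tJ (h2 ▸ h1)
  · have := hcount (fun v => ap (F.κ p) v == v && ap (F.κ q) v == v) fun v hv h => by
      simp [hfix p hp hpv' v hv h, hfix q hq hqv v hv h]
    rw [← Nat.ble_eq] at this
    rw [this] at e
    exact Bool.noConfusion e

end Frame

end Cfsg.Lib.U62Type
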