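import Cfsg.Agent.Lib.U62Type.Order
import Cfsg.Agent.Lib.U62Type.Orth
import Cfsg.Agent.Lib.Fischer.Polar.Main
import Cfsg.Agent.Lib.MinusSix.Main
import Cfsg.Agent.Lib.A4Stab.Odd

/-!
# The group is U₆(2)
-/

set_option autoImplicit false
set_option linter.unusedSectionVars false
set_option linter.style.haveILetI false

namespace Cfsg.Lib.U62Type

open Cfsg.Lib.Fischer (perp)
open Cfsg.Lib.Fischer.Polar (F4 IsPolar ln)

variable {G : Type*} [Group G] [Finite G] {z : G}

theorem Uni.isPolar (hU : Uni z) : IsPolar (mems z) where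
  set := ⟨fun d hd => orderOf_eq_prime (by rw [pow_two]; exact hU.sq hd) (hU.ne_one hd),
    fun d hd e he => hU.three hd he⟩
  conj := fun g _ hd => mem_conj hd g
  trans := fun a ha b hb => Mem.trans (Mem.symm ha) hb
  gen := hU.gen
  ne := ⟨z, hU.self_mem⟩
  sol := fun _ hN hs => hU.no_solvable hN hs
  perf := by simp [hU.perfect, ← commutator_def]
  thick := fun x hx y hy => by
    obtain ⟨c, d, e, hnd, hmem, -⟩ := hU.line hx hy
    simp only [List.nodup_cons, List.mem_cons, List.not_mem_nil, or_false, not_or] at hnd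
    exact ⟨c, (hmem c).2 (by simp), Ne.symm hnd.1.2.1, Ne.symm hnd.2.1.1⟩

/-- The isomorphism with U₆(2). -/
theorem Uni.iso (hU : Uni z) {K : Type*} [Field K] [Fintype K] (hK : Fintype.card K = 4) :
    Nonempty (G ≃* Cfsg.PSU 6 K 2) := by
  obtain ⟨F⟩ := hU.frame
  obtain ⟨m, hm, hcard⟩ := order_two_part F hU.card
  rcases Cfsg.Lib.Fischer.Polar.classify_image hU.isPolar with ⟨n, -, e, -⟩ | ⟨n, hn, e, -⟩
  · exfalso
    have h := sp_exponent (F := ZMod 2) (ZMod.card 2) hm ((Nat.card_congr e.toEquiv).symm.trans hcard)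
    rcases lt_or_ge n 4 with h4 | h4
    · interval_cases n <;> omega
    · nlinarith
  · letI : Fintype F4 := Fintype.ofFinite F4
    have hF4 : Fintype.card F4 = 2 ^ 2 := by
      rw [← Nat.card_eq_fintype_card]; exact GaloisField.card 2 2 two_ne_zero
    have h := psu_exponent hF4 (by omega) hm ((Nat.card_congr e.toEquiv).symm.trans hcard)
    have h6 : n = 6 := by
      have hle : n ≤ 6 := by
        by_contra hlt
        have h7 : 7 * 6 / 2 ≤ n * (n - 1) / 2 :=
          Nat.div_le_div_right (Nat.mul_le_mul (by omega) (by omega))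
        omega
      interval_cases n <;> omega
    subst h6
    obtain ⟨u⟩ := Cfsg.Lib.MinusSix.psu_congr
      (FiniteField.ringEquivOfCardEq (K := F4) (K' := K) (by rw [hF4, hK]; norm_num)) 6 2
    exact ⟨e.trans u⟩

/-- Either isolated, or unitary. -/
theorem dichotomy {C : Cfg} (F : Frame C z)
    (hc : Nat.card ↥(Subgroup.centralizer ({z} : Set G)) = 512 * 25920) :
    Cfsg.IsIsolatedInvolution z ∨ Uni z := by
  by_cases h : ∃ t, Nb z t
  · obtain ⟨t, ht⟩ := h
    have hs := F.std
    simp only [List.mem_cons, List.not_mem_nil, or_false] at hs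
    rcases hs with rfl | hs
    · exact Or.inr ⟨hc, ⟨F⟩, t, ht⟩
    · exact absurd (F.isolated_orth hs hc ht.1 ht.2.1) ht.2.2
  · left
    push Not at h
    refine ⟨orderOf_eq_prime (by rw [pow_two]; exact F.ext.z2) F.ext.z1, fun g hg => ?_⟩
    by_contra hne
    exact h _ ⟨⟨g, rfl⟩, hg.symm, hne⟩

end Cfsg.Lib.U62Type
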