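import Cfsg.Agent.Lib.U62Type.OuterClass
import Cfsg.Agent.Lib.U62Type.Identify

/-!
# The subgroup of index two
-/

set_option autoImplicit false
set_option linter.unusedSectionVars false
set_option linter.style.haveILetI false

namespace Cfsg.Lib.U62Type

theorem g0_cube : ∀ gs ∈ [gensU, gensP], cw gs [0, 0, 0] = idc := by decide +kernel

theorem prod_letters {M : Type*} [CommMonoid M] (v : ℕ → M) (h0 : v 0 = 1) :
    ∀ w : List ℕ, (∀ a ∈ w, a < 4) → (w.map v).prod =
      v 1 ^ (w.filter fun b => Nat.beq b 1).length * v 2 ^ (w.filter fun b => Nat.beq b 2).length *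
        v 3 ^ (w.filter fun b => Nat.beq b 3).length
  | [], _ => by simp
  | a :: w, hw => by
    have ha := hw a List.mem_cons_self
    rw [List.map_cons, List.prod_cons, prod_letters v h0 w fun b hb => hw b (List.mem_cons_of_mem _ hb)]
    interval_cases a <;> simp [h0, pow_succ] <;> ac_rfl

variable {G : Type*} [Group G] [Finite G] {C : Cfg} {z : G} {F : Frame C z} (O : Outer F)

include O

theorem Outer.tr_word {h : G} {w : List ℕ} (hh : Commute h z) (hw : ∀ a ∈ w, a < 4)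
    (l : ℕ → G) (hl : ∀ a < 4, Commute (l a) z ∧ F.κ (l a) = C.gens.getD a 0) (e : F.κ h = cw C.gens w) :
    O.tr h = (w.map fun a => O.tr (l a)).prod := by
  induction w generalizing h with
  | nil =>
    rw [List.map_nil, List.prod_nil]
    exact O.tr_J (F.ker h hh (e.trans (cw_nil _)))
  | cons a w ih =>
    obtain ⟨hla, hle⟩ := hl a (hw a List.mem_cons_self)
    have h1 : F.κ ((l a)⁻¹ * h) = cw C.gens w := by
      rw [F.κ_mul hla.inv_left hh, e, cw_cons, ← hle, ← cm_assoc, (F.κ_inv hla).2, idc_cm (cw_lt _ _)]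
    rw [List.map_cons, List.prod_cons, ← ih (hla.inv_left.mul_left hh) (fun b hb => hw b (List.mem_cons_of_mem _ hb)) h1,
      ← map_mul, mul_inv_cancel_left]

theorem Outer.tr_inn {h : G} (hh : Inn F h) : O.tr h = 1 := by
  classical
  obtain ⟨hz, w, hw, e⟩ := hh
  choose l hl hle using fun a : {a // a < 4} => F.gens a.1 a.2
  let l' : ℕ → G := fun a => if ha : a < 4 then l ⟨a, ha⟩ else 1
  have hl' : ∀ a < 4, Commute (l' a) z ∧ F.κ (l' a) = C.gens.getD a 0 := fun a ha => by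
    simp only [l', dif_pos ha]; exact ⟨hl _, hle _⟩
  rw [O.tr_word hz hw l' hl' e]
  have hgens : C.gens ∈ [gensU, gensP] := by rcases F.gens_cases with e | e <;> simp [e]
  have hev : evenChk C.gens = true := by
    rcases F.gens_cases with e | e <;> rw [e]
    exacts [even_U, even_P]
  have hsq : ∀ u : ℤˣ, u * u = 1 := Int.units_mul_self
  have h0 : O.tr (l' 0) = 1 := by
    obtain ⟨h1, h2⟩ := hl' 0 (by norm_num)
    have h3 := O.tr_word (h := (1 : G)) (w := [0, 0, 0]) (Commute.one_left z) (by decide) l' hl'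
      (by rw [F.κ_one, g0_cube _ hgens])
    simp only [map_one, List.map_cons, List.map_nil, List.prod_cons, List.prod_nil, mul_one] at h3
    rwa [hsq, mul_one, eq_comm] at h3
  refine List.prod_eq_one fun x hx => ?_
  obtain ⟨a, ha, rfl⟩ := List.mem_map.1 hx
  have ha4 := hw a ha
  obtain ⟨hla, hlae⟩ := hl' a ha4
  simp only [evenChk, List.all_eq_true, List.mem_range, Bool.and_eq_true, Bool.or_eq_true, beq_iff_eq, nbeq_iff,
    Nat.blt_eq] at hev
  obtain ⟨⟨hu4, hue⟩, heven⟩ := hev a ha4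
  rw [O.tr_word hla hu4 l' hl' (hlae.trans hue.symm), prod_letters (fun a => O.tr (l' a)) h0 _ hu4]
  have hp : ∀ (u : ℤˣ) (n : ℕ), n % 2 = 0 → u ^ n = 1 := fun u n hn => by
    rw [← Nat.div_add_mod n 2, hn, add_zero, pow_mul, pow_two, hsq, one_pow]
  rw [hp _ _ ((heven 1 (by norm_num)).resolve_left (by norm_num)),
    hp _ _ ((heven 2 (by norm_num)).resolve_left (by norm_num)),
    hp _ _ ((heven 3 (by norm_num)).resolve_left (by norm_num)), mul_one, mul_one]

/-- The conclusion. -/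
theorem outer_main {K : Type*} [Field K] [Fintype K] (hK : Fintype.card K = 4) :
    (∃ G₀ : Subgroup G, G₀.index = 2 ∧ Nonempty (↥G₀ ≃* Cfsg.PSU 6 K 2) ∧ Subgroup.centralizer (G₀ : Set G) = ⊥) ∨
      Cfsg.IsIsolatedInvolution z := by
  classical
  obtain ⟨s, hs, hns, hst⟩ := O.exists_tr
  obtain ⟨G₁, hG₁⟩ : ∃ G₁, G₁ = O.tr.ker := ⟨_, rfl⟩
  have hmem : ∀ x, x ∈ G₁ ↔ O.tr x = 1 := fun x => by rw [hG₁, MonoidHom.mem_ker]
  haveI hnorm : G₁.Normal := hG₁ ▸ MonoidHom.normal_ker _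
  have hindex : G₁.index = 2 := by
    rw [hG₁, Subgroup.index_ker, MonoidHom.range_eq_top.2 fun u => ?_, Subgroup.card_top, Nat.card_eq_fintype_card,
      Fintype.card_units_int]
    rcases Int.units_eq_one_or u with rfl | rfl
    exacts [⟨1, map_one _⟩, ⟨s, hst⟩]
  have hin : ∀ h, Commute h z → (h ∈ G₁ ↔ Inn F h) := by
    intro h hh
    refine ⟨fun hg => ?_, fun hi => (hmem h).2 (O.tr_inn hi)⟩
    by_contra hn
    have h1 : Inn F (s * h) := (O.inn_mul hs hh).2 ⟨fun hi => absurd hi hns, fun hi => absurd hi hn⟩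
    have h2 := O.tr_inn h1
    rw [map_mul, hst, (hmem h).1 hg] at h2
    exact absurd h2 (by decide)
  have hJG : F.J ≤ G₁ := fun j hj => (hmem j).2 (O.tr_J hj)
  have hgG : ∀ i < 4, ∃ h ∈ G₁, Commute h z ∧ F.κ h = C.gens.getD i 0 := fun i hi => by
    obtain ⟨h, hh, he⟩ := F.gens i hi
    exact ⟨h, (hin h hh).2 ⟨hh, he ▸ wordCode_gen F.std hi⟩, hh, he⟩
  obtain ⟨K₁, hK₁, hK₁m, -⟩ := O.inn_index
  have hc : Nat.card ↥(Subgroup.centralizer ({(⟨z, hJG F.ext.zJ⟩ : G₁)} : Set G₁)) = 512 * 25920 := by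
    rw [card_centralizer_sub, ← hK₁]
    congr 1
    refine congrArg (fun P : Subgroup G => ↥P) (SetLike.ext fun x => ?_)
    rw [Subgroup.mem_inf, Subgroup.mem_centralizer_singleton_iff, hK₁m]
    exact ⟨fun h => (hin x h.2).1 h.1, fun h => ⟨(hin x h.1).2 h, h.1⟩⟩
  rcases dichotomy (F.restrict G₁ hJG hgG) hc with h | h
  · right
    refine ⟨orderOf_eq_prime (by rw [pow_two]; exact F.ext.z2) F.ext.z1, fun g hg => ?_⟩
    -- a representative in the subgroup
    obtain ⟨g₁, hg₁, he⟩ : ∃ g₁ ∈ G₁, g₁ * z * g₁⁻¹ = g * z * g⁻¹ := by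
      by_cases hgG₁ : g ∈ G₁
      · exact ⟨g, hgG₁, rfl⟩
      · refine ⟨g * s, ?_, by rw [show g * s * z * (g * s)⁻¹ = g * (s * z * s⁻¹) * g⁻¹ by group,
          mul_inv_eq_iff_eq_mul.2 hs.eq]⟩
        have hg' : O.tr g = -1 := (Int.units_eq_one_or _).resolve_left fun e => hgG₁ ((hmem g).2 e)
        rw [hmem, map_mul, hst, hg']
        decide
    have := congrArg Subtype.val (h.2 ⟨g₁, hg₁⟩ (Subtype.ext (show z * (g₁ * z * g₁⁻¹) = g₁ * z * g₁⁻¹ * z by
      rw [he]; exact hg.eq)))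
    exact he ▸ this
  · left
    refine ⟨G₁, hindex, h.iso hK, ?_⟩
    rw [Subgroup.eq_bot_iff_forall]
    intro c hcm
    rw [Subgroup.mem_centralizer_iff] at hcm
    have hcz : Commute c z := (hcm z (hJG F.ext.zJ)).symm
    have hcJ : c ∈ F.J := F.ext.self c hcz fun j hj => (hcm j (hJG hj)).symm
    rcases F.ext.zc c hcJ (fun j hj => (hcm j (hJG hj)).symm) with e | e
    · exact e
    exfalso
    subst e
    obtain ⟨t, ⟨⟨g, hg⟩, -, hne⟩⟩ := h.more
    refine hne (Subtype.ext ?_)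
    rw [← hg]
    show (g : G) * c * (g : G)⁻¹ = c
    exact mul_inv_eq_iff_eq_mul.2 (hcm g g.2)

end Cfsg.Lib.U62Type
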