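import Cfsg.Prelude.Def_Transfer
import Cfsg.Agent.Lib.PGroup.ExtraspecialClassify
import Cfsg.Agent.Lib.U62Type.Frame

/-!
# Coordinates from an extraspecial 2-core of order 2⁹ with quotient PSp₄(3)
-/

set_option autoImplicit false
set_option linter.unusedSectionVars false

namespace Cfsg.Lib.U62Type

open scoped commutatorElement

/-- An extraspecial normal subgroup of order `2⁹` containing its centraliser, seen in the group. -/
theorem ext_of_core {G : Type*} [Group G] [Finite G] {z : G} (hz : orderOf z = 2)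
    {J : Subgroup ↥(Subgroup.centralizer ({z} : Set G))} [J.Normal]
    (hJ : Cfsg.IsExtraspecial 2 ↥J) (hJc : Nat.card ↥J = 2 ^ 9)
    (hCJ : Subgroup.centralizer (J : Set ↥(Subgroup.centralizer ({z} : Set G))) ≤ J) :
    Ext z (J.map (Subgroup.centralizer ({z} : Set G)).subtype) := by
  haveI : Fact (Nat.Prime 2) := ⟨Nat.prime_two⟩
  obtain ⟨C, hC⟩ : ∃ C, C = Subgroup.centralizer ({z} : Set G) := ⟨_, rfl⟩
  have hz2 : z * z = 1 := by rw [← pow_two, ← hz, pow_orderOf_eq_one]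
  have hz1 : z ≠ 1 := fun h => by rw [h, orderOf_one] at hz; omega
  obtain ⟨c, hS, hcen⟩ := Cfsg.Lib.Extraspecial.exists_setting hJ
  have hzC : z ∈ Subgroup.centralizer ({z} : Set G) := Subgroup.mem_centralizer_singleton_iff.2 rfl
  have hzJ : (⟨z, hzC⟩ : ↥(Subgroup.centralizer ({z} : Set G))) ∈ J := hCJ (Subgroup.mem_centralizer_iff.2
    fun j _ => Subtype.ext (Subgroup.mem_centralizer_singleton_iff.1 j.2))
  have hzc : (⟨⟨z, hzC⟩, hzJ⟩ : J) ∈ Subgroup.center J := Subgroup.mem_center_iff.2 fun j =>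
    Subtype.ext (Subtype.ext (Subgroup.mem_centralizer_singleton_iff.1 j.1.2))
  have hceq : c = ⟨⟨z, hzC⟩, hzJ⟩ := by
    have h1 : (⟨⟨z, hzC⟩, hzJ⟩ : J) ∈ Subgroup.zpowers c :=
      hcen.2 _ (Subgroup.mem_top _) fun w _ => (Subgroup.mem_center_iff.1 hzc w).symm
    obtain ⟨k, hk, hk'⟩ := hS.exists_pow h1
    interval_cases k
    · exfalso
      rw [pow_zero] at hk'
      exact hz1 (congrArg (fun x : J => (x : G)) hk').symm
    · rwa [pow_one] at hk'
  subst hceq
  refine ⟨hz2, hz1, ⟨⟨z, hzC⟩, hzJ, rfl⟩, ?_, ?_, ?_, ?_, ?_, ?_, ?_⟩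
  · rintro _ ⟨j, -, rfl⟩
    exact Subgroup.mem_centralizer_singleton_iff.1 j.2
  · rw [Subgroup.card_map_of_injective Subtype.val_injective, hJc]; norm_num
  · rintro h hh _ ⟨j, hj, rfl⟩
    exact ⟨⟨h, Subgroup.mem_centralizer_singleton_iff.2 hh⟩ * j *
      ⟨h, Subgroup.mem_centralizer_singleton_iff.2 hh⟩⁻¹, Subgroup.Normal.conj_mem inferInstance j hj _, rfl⟩
  · rintro _ ⟨j, hj, rfl⟩ hk
    have h1 : (⟨j, hj⟩ : J) ∈ Subgroup.center J := Subgroup.mem_center_iff.2 fun k =>
      Subtype.ext (Subtype.ext (hk _ ⟨k.1, k.2, rfl⟩).eq.symm)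
    replace h1 := hcen.2 _ (Subgroup.mem_top _) fun w _ => (Subgroup.mem_center_iff.1 h1 w).symm
    obtain ⟨k, hk2, hk'⟩ := hS.exists_pow h1
    interval_cases k
    · left; rw [pow_zero] at hk'; exact (congrArg (fun x : J => (x : G)) hk').symm
    · right; rw [pow_one] at hk'; exact (congrArg (fun x : J => (x : G)) hk').symm
  · rintro _ ⟨j, hj, rfl⟩
    rcases hS.pow_two_cases (⟨j, hj⟩ : J) with h | h <;> rw [pow_two] at h
    exacts [Or.inl (congrArg (fun x : J => (x : G)) h), Or.inr (congrArg (fun x : J => (x : G)) h)]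
  · rintro _ ⟨j, hj, rfl⟩ _ ⟨k, hk, rfl⟩
    obtain ⟨n, hn, hn'⟩ := hS.exists_pow (hS.comm (⟨j, hj⟩ : J) ⟨k, hk⟩)
    interval_cases n
    · left; rw [pow_zero] at hn'; exact (congrArg (fun x : J => (x : G)) hn').symm
    · right; rw [pow_one] at hn'; exact (congrArg (fun x : J => (x : G)) hn').symm
  · intro h hh hc
    refine ⟨⟨h, Subgroup.mem_centralizer_singleton_iff.2 hh⟩, hCJ (Subgroup.mem_centralizer_iff.2 fun j hj =>
      Subtype.ext (hc _ ⟨j, hj, rfl⟩).eq.symm), rfl⟩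

/-- The frame of the hypothesis, and the order of the centraliser. -/
theorem frame_of_psp {G : Type*} [Group G] [Finite G] {z : G} (hz : orderOf z = 2)
    {F : Type*} [Field F] [Fintype F] (hF : Fintype.card F = 3)
    {J : Subgroup ↥(Subgroup.centralizer ({z} : Set G))} [J.Normal]
    (hJ : Cfsg.IsExtraspecial 2 ↥J) (hJc : Nat.card ↥J = 2 ^ 9)
    (hCJ : Subgroup.centralizer (J : Set ↥(Subgroup.centralizer ({z} : Set G))) ≤ J)
    (e : (↥(Subgroup.centralizer ({z} : Set G)) ⧸ J) ≃* Cfsg.PSp 2 F) :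
    Nat.card ↥(Subgroup.centralizer ({z} : Set G)) = 512 * 25920 ∧
      ∃ C : Cfg, Nonempty (Frame C z) := by
  haveI : CharP F 3 := charP_of_card_eq_prime (R := F) hF
  refine ⟨?_, ?_⟩
  · rw [Subgroup.card_eq_card_quotient_mul_card_subgroup J, Nat.card_congr e.toEquiv, card_psp hF, hJc]
    norm_num
  let π : ↥(Subgroup.centralizer ({z} : Set G)) →* Cfsg.PSp 2 F := e.toMonoidHom.comp (QuotientGroup.mk' J)
  have hπ : Function.Surjective π := e.surjective.comp (QuotientGroup.mk'_surjective J)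
  choose L hL using fun i => hπ (pGen i)
  have hk : ∀ x, π x = 1 ↔ x ∈ J := fun x => by
    show e (x : _ ⧸ J) = 1 ↔ _
    rw [MulEquiv.map_eq_one_iff, QuotientGroup.eq_one_iff]
  have hprod : ∀ w : List ℕ, π (w.map L).prod = (w.map (pGen (F := F))).prod := fun w => by
    rw [map_list_prod, List.map_map]
    congr 1
    exact List.map_congr_left fun i _ => hL i
  obtain ⟨C, F', -, -⟩ := exists_frame (ext_of_core hz hJ hJc hCJ) (fun i => (L i : G))
    (fun i => Subgroup.mem_centralizer_singleton_iff.1 (L i).2)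
    (fun w w' h => by
      refine ⟨(w.map L).prod⁻¹ * (w'.map L).prod, (hk _).1 ?_, ?_⟩
      · rw [map_mul, map_inv, hprod, hprod, pGen_rel h, inv_mul_cancel]
      · simp [map_list_prod, List.map_map, Function.comp_def])
    (fun h => by
      obtain ⟨x, hx, hxe⟩ := h
      have : x = L 0 := Subtype.val_injective hxe
      subst this
      have h1 := (hk _).2 hx
      rw [hL] at h1
      exact pGen_zero_ne h1)
  exact ⟨C, ⟨F'⟩⟩

end Cfsg.Lib.U62Type
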