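import Cfsg.Agent.Lib.U62Type.OuterClass
import Cfsg.Agent.Lib.U62Type.Setup
import Cfsg.Agent.Lib.Linear.AutPSp.Count
import Cfsg.Agent.S0814

/-!
# Coordinates from a quotient Aut PSp₄(3)
-/

set_option autoImplicit false
set_option linter.unusedSectionVars false
set_option linter.style.haveILetI false

namespace Cfsg.Lib.U62Type

section Sim

variable {F : Type*} [Field F] [CharP F 3]

theorem sim_facts : mulL dL dL = oneL ∧ mulL (mulL dL formL) (trL dL) = negL formL ∧
    ∀ i < 4, mulL (mulL dL (gmat i)) dL = wmat (imgW.getD i []) ∨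
      mulL (mulL dL (gmat i)) dL = negL (wmat (imgW.getD i [])) := by
  have h := sim_ok
  simp only [simChk, Bool.and_eq_true, List.all_eq_true, List.mem_range, Bool.or_eq_true, beq_iff_eq] at h
  exact ⟨h.1.1, h.1.2, h.2⟩

theorem sim_sq : (toM dL : Matrix _ _ F) * toM dL = 1 := by rw [← toM_mul, sim_facts.1, toM_one]

/-- Conjugation by the similitude. -/
def simAut : MulAut ↥(Matrix.symplecticGroup (Fin 2) F) :=
  let f : ↥(Matrix.symplecticGroup (Fin 2) F) → ↥(Matrix.symplecticGroup (Fin 2) F) := fun s =>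
    ⟨toM dL * s.1 * toM dL, by
      rw [SymplecticGroup.mem_iff]
      have h1 : (toM dL : Matrix _ _ F) * Matrix.J (Fin 2) F * (toM dL).transpose = -Matrix.J (Fin 2) F := by
        rw [← toM_form, ← toM_tr, ← toM_mul, ← toM_mul, sim_facts.2.1, toM_neg]
      have h2 := SymplecticGroup.mem_iff.1 s.2
      generalize Matrix.J (Fin 2) F = J at h1 h2 ⊢
      generalize (toM dL : Matrix (Fin 2 ⊕ Fin 2) (Fin 2 ⊕ Fin 2) F) = D at h1 ⊢
      calc D * s.1 * D * J * (D * s.1 * D).transpose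
          = D * s.1 * (D * J * D.transpose) * (s.1.transpose * D.transpose) := by
            simp only [Matrix.transpose_mul, Matrix.mul_assoc]
        _ = -(D * (s.1 * J * s.1.transpose) * D.transpose) := by
            simp only [h1, Matrix.mul_neg, Matrix.neg_mul, Matrix.mul_assoc]
        _ = J := by rw [h2, h1, neg_neg]⟩
  { toFun := f
    invFun := f
    left_inv := fun s => Subtype.ext (by
      show toM dL * (toM dL * s.1 * toM dL) * toM dL = s.1
      simp only [← Matrix.mul_assoc, sim_sq, Matrix.one_mul]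
      rw [Matrix.mul_assoc, sim_sq, Matrix.mul_one])
    right_inv := fun s => Subtype.ext (by
      show toM dL * (toM dL * s.1 * toM dL) * toM dL = s.1
      simp only [← Matrix.mul_assoc, sim_sq, Matrix.one_mul]
      rw [Matrix.mul_assoc, sim_sq, Matrix.mul_one])
    map_mul' := fun s t => Subtype.ext (by
      show toM dL * (s.1 * t.1) * toM dL = toM dL * s.1 * toM dL * (toM dL * t.1 * toM dL)
      simp only [Matrix.mul_assoc]
      rw [← Matrix.mul_assoc (toM dL) (toM dL) (t.1 * toM dL), sim_sq, Matrix.one_mul]) }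

theorem simAut_sq : (simAut : MulAut ↥(Matrix.symplecticGroup (Fin 2) F)) * simAut = 1 :=
  MulEquiv.ext fun s => (simAut (F := F)).left_inv s

theorem psp_eq {x y : ↥(Matrix.symplecticGroup (Fin 2) F)}
    (h : (x : Matrix (Fin 2 ⊕ Fin 2) (Fin 2 ⊕ Fin 2) F) = y ∨
      (x : Matrix (Fin 2 ⊕ Fin 2) (Fin 2 ⊕ Fin 2) F) = -(y : Matrix (Fin 2 ⊕ Fin 2) (Fin 2 ⊕ Fin 2) F)) :
    (QuotientGroup.mk x : Cfsg.PSp 2 F) = QuotientGroup.mk y := by
  rcases h with h | h
  · rw [Subtype.ext h]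
  refine QuotientGroup.eq.2 (Subgroup.mem_center_iff.2 fun g => ?_)
  obtain ⟨c, hc⟩ : ∃ c, c = x⁻¹ * y := ⟨_, rfl⟩
  have h1 : (c : Matrix (Fin 2 ⊕ Fin 2) (Fin 2 ⊕ Fin 2) F) = -1 := by
    have hxy : (x⁻¹ : ↥(Matrix.symplecticGroup (Fin 2) F)).1 * (x : Matrix (Fin 2 ⊕ Fin 2) (Fin 2 ⊕ Fin 2) F) = 1 :=
      congrArg Subtype.val (inv_mul_cancel x)
    rw [hc, Submonoid.coe_mul, show (y : Matrix (Fin 2 ⊕ Fin 2) (Fin 2 ⊕ Fin 2) F) = -x by rw [h, neg_neg],
      mul_neg, hxy]
  refine Subtype.ext ?_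
  rw [← hc]
  show (g : Matrix (Fin 2 ⊕ Fin 2) (Fin 2 ⊕ Fin 2) F) * c.1 = c.1 * g
  rw [h1, mul_neg, neg_mul, mul_one, one_mul]

/-- The outer automorphism. -/
def simPSp : MulAut (Cfsg.PSp 2 F) := Cfsg.Lib.Linear.AutPSp.descend simAut

theorem simPSp_sq : (simPSp : MulAut (Cfsg.PSp 2 F)) * simPSp = 1 := by
  rw [simPSp, ← map_mul, simAut_sq, map_one]

theorem simPSp_gen {i : ℕ} (hi : i < 4) :
    (simPSp (F := F)) (pGen i) = ((imgW.getD i []).map (pGen (F := F))).prod := by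
  rw [pGen_prod]
  show (QuotientGroup.mk (simAut (spGen i)) : Cfsg.PSp 2 F) = _
  refine psp_eq ?_
  show toM dL * toM (gmat i) * toM dL = _ ∨ toM dL * toM (gmat i) * toM dL = _
  rw [← toM_mul, ← toM_mul, ← toM_wmat]
  rcases sim_facts.2.2 i hi with e | e
  · exact Or.inl (by rw [e])
  · exact Or.inr (by rw [e, toM_neg])

end Sim

theorem imgC_zero : ∀ gs ∈ [gensU, gensP], cm (imgC gs 0) (imgC gs 0) = gs.getD 0 0 := by decide +kernel

theorem imgC_other : ∀ gs ∈ [gensU, gensP], ∀ i < 4, i ≠ 0 → imgC gs i = gs.getD i 0 := by decide +kernel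

theorem imgW_lt : ∀ i < 4, ∀ a ∈ imgW.getD i [], a < 4 := by decide +kernel

theorem exprU_zero : ∀ e ∈ exprU, ∀ p ∈ e, p.1 = 0 := by decide +kernel

variable {G : Type*} [Group G] [Finite G] {z : G} {C : Cfg}

theorem Frame.cand_ok (Fr : Frame C z) : candChk C = true := by
  rcases list_cases Fr.std with rfl | rfl | rfl
  exacts [cand_U, cand_P, cand_M]

theorem intertwine (gs : List ℕ) {k : ℕ} (h : ∀ i < 4, cm k (gs.getD i 0) = cm (imgC gs i) k) :
    ∀ (w : List ℕ), (∀ a ∈ w, a < 4) → ∀ x < 256,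
      ap k (ap (cw gs w) x) = ap (cw ((List.range 4).map (imgC gs)) w) (ap k x) := by
  intro w hw x hx
  induction w with
  | nil => rw [cw_nil, cw_nil, ap_idc hx, ap_idc (ap_lt _ _)]
  | cons a w ih =>
    have ha := hw a List.mem_cons_self
    rw [cw_cons, cw_cons, ap_cm, ap_cm, ← ap_cm k, h a ha, ap_cm, ih fun b hb => hw b (List.mem_cons_of_mem _ hb)]
    congr 1
    rw [List.getD_eq_getElem _ _ (by simpa using ha)]
    simp

theorem exVal_map {gs igs : List ℕ} {k : ℕ} {seeds ims : List ℕ} (e : List (ℕ × List ℕ))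
    (h : ∀ p ∈ e, ap k (ap (cw gs p.2) (seeds.getD p.1 0)) = ap (cw igs p.2) (ims.getD p.1 0)) :
    ap k (exVal gs seeds e) = exVal igs ims e := by
  induction e with
  | nil => exact ap_zero k
  | cons p e ih =>
    show ap k (ap (cw gs p.2) (seeds.getD p.1 0) ^^^ exVal gs seeds e) = _
    rw [ap_xor, h p List.mem_cons_self, ih fun q hq => h q (List.mem_cons_of_mem _ hq)]
    rfl

/-- An element inducing the outer automorphism has a listed code. -/
theorem Frame.out_code (Fr : Frame C z) {h : G} (hh : Commute h z) (h2 : cm (Fr.κ h) (Fr.κ h) = idc)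
    (himg : ∀ i < 4, cm (Fr.κ h) (C.gens.getD i 0) = cm (imgC C.gens i) (Fr.κ h)) : Fr.κ h ∈ outL C := by
  have hc := Fr.cand_ok
  simp only [candChk, Bool.and_eq_true, List.all_eq_true, Bool.or_eq_true, List.mem_range, nbeq_iff, Nat.blt_eq,
    List.contains_iff_mem, Bool.not_eq_true', List.mem_filter, vecs] at hc
  obtain ⟨⟨hex, hst⟩, hseed, hall⟩ := hc
  obtain ⟨k, hk⟩ : ∃ k, k = Fr.κ h := ⟨_, rfl⟩
  rw [← hk] at h2 himg ⊢
  have hklt : k < 2 ^ 64 := hk ▸ Fr.κ_lt h
  have hq : ∀ v < 256, C.q (ap k v) = C.q v := fun v hv => hk ▸ Fr.q_inv hh hv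
  have hint := intertwine C.gens himg
  have hgens : C.gens ∈ [gensU, gensP] := by rcases Fr.gens_cases with e | e <;> simp [e]
  have hplane : ∀ v ∈ planeL C, v < 256 → ap k v ∈ planeL C := by
    intro v hv hv256
    refine (plane_ok Fr _ (ap_lt _ _)).1 fun i hi => ?_
    have hfix : ∀ i < 4, ap (imgC C.gens i) (ap k v) = ap k v := fun i hi => by
      rw [← ap_cm, ← himg i hi, ap_cm, (plane_ok Fr v hv256).2 hv i hi]
    by_cases h0 : i = 0
    · subst h0
      rw [← imgC_zero _ hgens, ap_cm, hfix 0 hi, hfix 0 hi]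
    · rw [← imgC_other _ hgens i hi h0]; exact hfix i hi
  obtain ⟨a, ha⟩ : ∃ a, a = ap k 1 := ⟨_, rfl⟩
  have hal : a < 256 ∧ ∀ w ∈ stbL C, ap (cw ((List.range 4).map (imgC C.gens)) w) a = a := by
    refine ⟨ha ▸ ap_lt _ _, fun w hw => ?_⟩
    obtain ⟨hw4, hw1⟩ := hst w hw
    rw [ha, ← hint w hw4 1 (by norm_num), hw1]
  have h0 : 0 ∈ planeL C := by unfold planeL; split <;> decide
  obtain ⟨b, c, hb, hc', hbc⟩ : ∃ b c, b ∈ planeL C ∧ c ∈ planeL C ∧ ∀ i < 8,
      exVal ((List.range 4).map (imgC C.gens)) [a, b, c] ((exprL C).getD i []) = ap k (2 ^ i) := by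
    by_cases hU : isU C.gens = true
    · refine ⟨0, 0, h0, h0, fun i hi => ?_⟩
      obtain ⟨e, he⟩ := hex i hi
      rw [← e]
      refine (exVal_map _ fun p hp => ?_).symm
      obtain ⟨-, hw⟩ := he p hp
      have hp0 : p.1 = 0 := by
        rw [exprL, if_pos hU] at hp
        by_cases hlt : i < exprU.length
        · rw [List.getD_eq_getElem _ _ hlt] at hp
          exact exprU_zero _ (List.getElem_mem _) p hp
        · rw [List.getD_eq_default _ _ (not_lt.1 hlt)] at hp; simp at hp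
      rw [hp0, hint p.2 hw _ (by decide), ha]
      rfl
    · have hs : ∀ j, j = 1 ∨ j = 2 → seedL.getD j 0 ∈ planeL C := fun j hj => by
        rcases hj with rfl | rfl
        · rcases hseed 1 (by norm_num) with (e | e) | e
          exacts [absurd e (by norm_num), absurd e hU, e]
        · rcases hseed 2 (by norm_num) with (e | e) | e
          exacts [absurd e (by norm_num), absurd e hU, e]
      refine ⟨ap k 64, ap k 128, hplane _ (hs 1 (Or.inl rfl)) (by norm_num),
        hplane _ (hs 2 (Or.inr rfl)) (by norm_num), fun i hi => ?_⟩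
      obtain ⟨e, he⟩ := hex i hi
      rw [← e]
      refine (exVal_map _ fun p hp => ?_).symm
      obtain ⟨h3, hw⟩ := he p hp
      obtain ⟨n, hn⟩ : ∃ n, n = p.1 := ⟨_, rfl⟩
      rw [← hn] at h3 ⊢
      interval_cases n <;> rw [hint p.2 hw _ (by decide)] <;> first | (rw [ha]; rfl) | rfl
  have hmk : (mkc fun i => exVal ((List.range 4).map (imgC C.gens)) [a, b, c] ((exprL C).getD i [])) = k := by
    conv_rhs => rw [← mkc_byte hklt]
    exact mkc_congr fun i hi => by rw [hbc i hi, ap_pow hi]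
  have := hall a hal b hb c hc'
  rw [hmk] at this
  refine this.resolve_left fun hbad => ?_
  rw [Bool.eq_false_iff] at hbad
  refine hbad ?_
  simp only [Bool.and_eq_true, List.all_eq_true, List.mem_range, beq_iff_eq, nbeq_iff]
  exact ⟨⟨h2, himg⟩, fun i hi => hq _ (lt_of_lt_of_le (Nat.pow_lt_pow_right (by norm_num) hi) le_rfl)⟩

/-- The coordinates of the hypothesis. -/
theorem outer_of_aut (hz : orderOf z = 2) {F : Type*} [Field F] [Fintype F] (hF : Fintype.card F = 3)
    {J : Subgroup ↥(Subgroup.centralizer ({z} : Set G))} [J.Normal]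
    (hJ : Cfsg.IsExtraspecial 2 ↥J) (hJc : Nat.card ↥J = 2 ^ 9)
    (hCJ : Subgroup.centralizer (J : Set ↥(Subgroup.centralizer ({z} : Set G))) ≤ J)
    (e : (↥(Subgroup.centralizer ({z} : Set G)) ⧸ J) ≃* MulAut (Cfsg.PSp 2 F)) :
    ∃ (C : Cfg) (Fr : Frame C z), Outer Fr := by
  haveI : Fact (Nat.Prime 3) := ⟨Nat.prime_three⟩
  haveI : CharP F 3 := charP_of_card_eq_prime (R := F) hF
  have hinj : Function.Injective (MulAut.conj : Cfsg.PSp 2 F →* MulAut (Cfsg.PSp 2 F)) := by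
    refine (injective_iff_map_eq_one _).2 fun x hx => ?_
    obtain ⟨s, rfl⟩ := QuotientGroup.mk_surjective x
    rw [Cfsg.Lib.Linear.AutPSp.conj_mk_eq] at hx
    exact Cfsg.Lib.Linear.AutPSp.eq_one_of_innd_toGS 3 (by norm_num) hx
  have hA : Nat.card (MulAut (Cfsg.PSp 2 F)) = 2 * 25920 := by
    rw [Cfsg.Agent.S0814.result 3 1 le_rfl (by rw [hF, pow_one]) 2 le_rfl (fun _ => by norm_num), card_psp hF]
    norm_num
  let π : ↥(Subgroup.centralizer ({z} : Set G)) →* MulAut (Cfsg.PSp 2 F) := e.toMonoidHom.comp (QuotientGroup.mk' J)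
  have hπ : Function.Surjective π := e.surjective.comp (QuotientGroup.mk'_surjective J)
  have hk : ∀ x, π x = 1 ↔ x ∈ J := fun x => by
    show e (x : _ ⧸ J) = 1 ↔ _
    rw [MulEquiv.map_eq_one_iff, QuotientGroup.eq_one_iff]
  choose L hL using fun i => hπ (MulAut.conj (pGen (F := F) i))
  have hprod : ∀ w : List ℕ, π (w.map L).prod = MulAut.conj (w.map (pGen (F := F))).prod := fun w => by
    rw [map_list_prod, map_list_prod, List.map_map, List.map_map]
    congr 1
    exact List.map_congr_left fun i _ => hL i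
  obtain ⟨C, Fr, hFJ, hgen⟩ := exists_frame (ext_of_core hz hJ hJc hCJ) (fun i => (L i : G))
    (fun i => Subgroup.mem_centralizer_singleton_iff.1 (L i).2)
    (fun w w' h => by
      refine ⟨(w.map L).prod⁻¹ * (w'.map L).prod, (hk _).1 ?_, ?_⟩
      · rw [map_mul, map_inv, hprod, hprod, pGen_rel h, inv_mul_cancel]
      · simp [map_list_prod, List.map_map, Function.comp_def])
    (fun h => by
      obtain ⟨x, hx, hxe⟩ := h
      have : x = L 0 := Subtype.val_injective hxe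
      subst this
      have h1 := (hk _).2 hx
      rw [hL] at h1
      exact pGen_zero_ne (hinj (h1.trans (map_one _).symm)))
  refine ⟨C, Fr, ?_⟩
  have hc : ∀ x : ↥(Subgroup.centralizer ({z} : Set G)), Commute (x : G) z := fun x =>
    Subgroup.mem_centralizer_singleton_iff.1 x.2
  have hκJ : ∀ x y : ↥(Subgroup.centralizer ({z} : Set G)), π x = π y → Fr.κ (x : G) = Fr.κ (y : G) := fun x y h => by
    refine (Fr.κ_eq_iff (hc x) (hc y)).2 ?_
    rw [hFJ]
    exact ⟨x⁻¹ * y, (hk _).1 (by rw [map_mul, map_inv, h, inv_mul_cancel]), by simp⟩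
  have hword : ∀ w : List ℕ, (∀ a ∈ w, a < 4) →
      Fr.κ ((w.map L).prod : ↥(Subgroup.centralizer ({z} : Set G))).1 = cw C.gens w := by
    intro w hw
    induction w with
    | nil => rw [cw_nil]; exact Fr.κ_one
    | cons a w ih =>
      rw [List.map_cons, List.prod_cons, Subgroup.coe_mul, Fr.κ_mul (hc _) (hc _), cw_cons,
        ih fun b hb => hw b (List.mem_cons_of_mem _ hb), hgen a (hw a List.mem_cons_self)]
  -- the inner half
  obtain ⟨K₀, hK₀⟩ : ∃ K₀, K₀ = ((MulAut.conj : Cfsg.PSp 2 F →* MulAut (Cfsg.PSp 2 F)).range).comap π := ⟨_, rfl⟩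
  have hJcard : Nat.card J = 512 := by rw [hJc]; norm_num
  have hcardC : Nat.card ↥(Subgroup.centralizer ({z} : Set G)) = 2 * (512 * 25920) := by
    rw [Subgroup.card_eq_card_quotient_mul_card_subgroup J, Nat.card_congr e.toEquiv, hA, hJcard]
  have hK₀c : Nat.card K₀ = 512 * 25920 := by
    have hr : Nat.card (MulAut.conj : Cfsg.PSp 2 F →* MulAut (Cfsg.PSp 2 F)).range = 25920 := by
      rw [← Nat.card_congr (MonoidHom.ofInjective hinj).toEquiv, card_psp hF]
    have h1 := Subgroup.card_mul_index K₀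
    have h2 := Subgroup.card_mul_index (MulAut.conj : Cfsg.PSp 2 F →* MulAut (Cfsg.PSp 2 F)).range
    rw [hr, hA] at h2
    have h3 : (MulAut.conj : Cfsg.PSp 2 F →* MulAut (Cfsg.PSp 2 F)).range.index = 2 := by omega
    conv_lhs at h1 => rw [hK₀, Subgroup.index_comap_of_surjective _ hπ, h3, ← hK₀]
    rw [hcardC] at h1
    omega
  obtain ⟨K, hKd⟩ : ∃ K, K = K₀.map (Subgroup.centralizer ({z} : Set G)).subtype := ⟨_, rfl⟩
  have hK : Nat.card K = 512 * 25920 := by
    rw [hKd, Subgroup.card_map_of_injective Subtype.val_injective, hK₀c]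
  have hLK : ∀ w : List ℕ, ((w.map L).prod : ↥(Subgroup.centralizer ({z} : Set G))) ∈ K₀ := fun w => by
    rw [hK₀, Subgroup.mem_comap, hprod]; exact ⟨_, rfl⟩
  have hKz : K ≤ Subgroup.centralizer ({z} : Set G) := by rw [hKd]; exact Subgroup.map_subtype_le _
  have hJK : Fr.J ≤ K := by
    rw [hFJ, hKd]
    refine Subgroup.map_mono fun x hx => ?_
    rw [hK₀, Subgroup.mem_comap, (hk x).2 hx]
    exact one_mem _
  have hgK : ∀ i < 4, ∃ h ∈ K, Commute h z ∧ Fr.κ h = C.gens.getD i 0 := fun i hi =>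
    ⟨L i, hKd ▸ ⟨L i, by simpa using hLK [i], rfl⟩, hc _, hgen i hi⟩
  refine ⟨hcardC, ⟨K, hK, fun h => ⟨fun hh => ?_, fun hh => ?_⟩⟩, ?_⟩
  · have hhz : Commute h z := Subgroup.mem_centralizer_singleton_iff.1 (hKz hh)
    refine ⟨hhz, ?_⟩
    have hcK : Nat.card ↥(Subgroup.centralizer ({(⟨z, hJK Fr.ext.zJ⟩ : K)} : Set K)) = 512 * 25920 := by
      rw [card_centralizer_sub, inf_eq_left.2 hKz, hK]
    exact (Fr.restrict K hJK hgK).word_code hcK (h := ⟨h, hh⟩) (Subtype.ext hhz.eq)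
  · obtain ⟨hhz, w, hw, he⟩ := hh
    have hmem : ((w.map L).prod : ↥(Subgroup.centralizer ({z} : Set G))).1 ∈ K :=
      hKd ▸ ⟨_, hLK w, rfl⟩
    have hj := (Fr.κ_eq_iff (hc ((w.map L).prod)) hhz).1 ((hword w hw).trans he.symm)
    have := mul_mem hmem (hJK hj)
    rwa [mul_inv_cancel_left] at this
  · obtain ⟨h₀, hh₀⟩ := hπ (simPSp (F := F))
    have h2 : π (h₀ * h₀) = π 1 := by rw [map_mul, hh₀, simPSp_sq, map_one]
    have hsq : cm (Fr.κ (h₀ : G)) (Fr.κ (h₀ : G)) = idc := by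
      rw [← Fr.κ_mul (hc h₀) (hc h₀)]
      exact (hκJ (h₀ * h₀) 1 h2).trans Fr.κ_one
    have himg : ∀ i < 4, cm (Fr.κ (h₀ : G)) (C.gens.getD i 0) = cm (imgC C.gens i) (Fr.κ (h₀ : G)) := by
      intro i hi
      have hpi : π (h₀ * L i) = π (((imgW.getD i []).map L).prod * h₀) := by
        rw [map_mul, map_mul, hh₀, hL, hprod, ← simPSp_gen hi]
        refine MulEquiv.ext fun x => ?_
        simp [MulAut.mul_apply]
      have := hκJ _ _ hpi
      rw [Subgroup.coe_mul, Subgroup.coe_mul, Fr.κ_mul (hc _) (hc _), Fr.κ_mul (hc _) (hc _), hgen i hi,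
        hword _ (imgW_lt i hi)] at this
      exact this
    refine ⟨h₀ * L 3, (hc h₀).mul_left (hc (L 3)), _, Fr.out_code (hc h₀) hsq himg, ?_⟩
    rw [Fr.κ_mul (hc h₀) (hc (L 3)), hgen 3 (by norm_num)]
    rfl

end Cfsg.Lib.U62Type
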