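import Cfsg.Agent.Lib.U62Type.OuterChecks

/-!
# The checks on the extension evaluated
-/

set_option autoImplicit false

namespace Cfsg.Lib.U62Type

theorem sim_ok : simChk = true := by decide +kernel

theorem plane_U : planeChk cfgU = true := by decide +kernel

theorem plane_P : planeChk cfgP = true := by decide +kernel

theorem cand_U : candChk cfgU = true := by decide +kernel

theorem cand_P : candChk cfgP = true := by decide +kernel

theorem cand_M : candChk cfgM = true := by decide +kernel

theorem out_U : outChk cfgU = true := by decide +kernel

theorem out_P : outChk cfgP = true := by decide +kernel

theorem out_M : outChk cfgM = true := by decide +kernel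

theorem half_P : halfChk cfgP = true := by decide +kernel

theorem half_M : halfChk cfgM = true := by decide +kernel

theorem triple_P : tripleChk cfgP = true := by decide +kernel

theorem triple_M : tripleChk cfgM = true := by decide +kernel

theorem outPerp_U : outPerpChk cfgU = true := by decide +kernel

theorem outPerp_P : outPerpChk cfgP = true := by decide +kernel

theorem outPerp_M : outPerpChk cfgM = true := by decide +kernel

theorem outerThin_ok : outerThinChk = true := by decide +kernel

theorem even_U : evenChk gensU = true := by decide +kernel

theorem even_P : evenChk gensP = true := by decide +kernel

theorem commut_U : commutChk gensU = true := by decide +kernel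

theorem commut_P : commutChk gensP = true := by decide +kernel

theorem inside_U : insideChk cfgU = true := by decide +kernel

theorem inside_P : insideChk cfgP = true := by decide +kernel

theorem inside_M : insideChk cfgM = true := by decide +kernel

end Cfsg.Lib.U62Type
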