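import Cfsg.Agent.Lib.U62Type.Inside
import Cfsg.Agent.Lib.U62Type.OuterTables

/-!
# A centraliser with an outer automorphism of PSp₄(3): the inner half
-/

set_option autoImplicit false
set_option linter.unusedSectionVars false
set_option linter.style.haveILetI false

namespace Cfsg.Lib.U62Type

variable {G : Type*} [Group G] {C : Cfg} {z : G}

/-- The coordinates in a subgroup containing the extraspecial group and lifts of the generators. -/
def Frame.restrict (F : Frame C z) (M : Subgroup G) (hJ : F.J ≤ M)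
    (hg : ∀ i < 4, ∃ h ∈ M, Commute h z ∧ F.κ h = C.gens.getD i 0) : Frame C (⟨z, hJ F.ext.zJ⟩ : M) where
  J := F.J.subgroupOf M
  ext := by
    have hval : ∀ {a b : M}, Commute a b → Commute (a : G) b := fun h => congrArg Subtype.val h
    refine ⟨Subtype.ext F.ext.z2, fun e => F.ext.z1 (congrArg Subtype.val e), F.ext.zJ,
      fun j hj => Subtype.ext (F.ext.cz _ hj).eq, ?_, fun h hh j hj => F.ext.norm _ (hval hh) _ hj, ?_, ?_, ?_, ?_⟩
    · rw [Nat.card_congr (Subgroup.subgroupOfEquivOfLe hJ).toEquiv, F.ext.card]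
    · intro j hj hc
      rcases F.ext.zc _ hj (fun k hk => hval (hc ⟨k, hJ hk⟩ hk)) with e | e
      exacts [Or.inl (Subtype.ext e), Or.inr (Subtype.ext e)]
    · intro j hj
      rcases F.ext.sq _ hj with e | e
      exacts [Or.inl (Subtype.ext e), Or.inr (Subtype.ext e)]
    · intro j hj k hk
      rcases F.ext.cmt _ hj _ hk with e | e
      exacts [Or.inl (Subtype.ext e), Or.inr (Subtype.ext e)]
    · exact fun h hh hc => F.ext.self _ (hval hh) fun k hk => hval (hc ⟨k, hJ hk⟩ hk)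
  vc := fun x => F.vc x
  κ := fun x => F.κ x
  std := F.std
  vc_lt := fun _ => F.vc_lt _
  vc_mul := fun j hj k hk => F.vc_mul _ hj _ hk
  vc_zero := fun j hj h => by
    rcases F.vc_zero _ hj h with e | e
    exacts [Or.inl (Subtype.ext e), Or.inr (Subtype.ext e)]
  vc_z := F.vc_z
  vc_surj := fun v hv => by
    obtain ⟨j, hj, rfl⟩ := F.vc_surj v hv
    exact ⟨⟨j, hJ hj⟩, hj, rfl⟩
  sq := fun j hj => Subtype.ext (by
    rw [Subgroup.coe_mul]
    refine (F.sq (j : G) hj).trans ?_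
    split <;> rfl)
  κ_lt := fun _ => F.κ_lt _
  act := fun h hh j hj => F.act _ (congrArg Subtype.val hh) _ hj
  gens := fun i hi => by
    obtain ⟨h, hM, hh, he⟩ := hg i hi
    exact ⟨⟨h, hM⟩, Subtype.ext hh.eq, he⟩
  ker := fun h hh he => F.ker _ (congrArg Subtype.val hh) he

/-- The centraliser of the involution in a subgroup. -/
theorem card_centralizer_sub (M : Subgroup G) (hz : z ∈ M) :
    Nat.card ↥(Subgroup.centralizer ({(⟨z, hz⟩ : M)} : Set M)) =
      Nat.card ↥(M ⊓ Subgroup.centralizer ({z} : Set G)) :=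
  Nat.card_congr {
    toFun := fun x => ⟨x.1.1, x.1.2, Subgroup.mem_centralizer_singleton_iff.2
      (congrArg Subtype.val (Subgroup.mem_centralizer_singleton_iff.1 x.2))⟩
    invFun := fun x => ⟨⟨x.1, x.2.1⟩, Subgroup.mem_centralizer_singleton_iff.2
      (Subtype.ext (Subgroup.mem_centralizer_singleton_iff.1 x.2.2))⟩
    left_inv := fun _ => rfl
    right_inv := fun _ => rfl }

/-- An element of the centraliser acting as a word in the generators. -/
def Inn (F : Frame C z) (h : G) : Prop := Commute h z ∧ WordCode C.gens (F.κ h)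

/-- The centraliser is twice as big, with a listed outer element. -/
structure Outer (F : Frame C z) : Prop where
  card : Nat.card ↥(Subgroup.centralizer ({z} : Set G)) = 2 * (512 * 25920)
  inner : ∃ K : Subgroup G, Nat.card K = 512 * 25920 ∧ ∀ h, h ∈ K ↔ Inn F h
  out : ∃ s, Commute s z ∧ ∃ k ∈ outL C, F.κ s = oC C k

theorem Frame.inn_J (F : Frame C z) {j : G} (hj : j ∈ F.J) : Inn F j :=
  ⟨F.ext.cz j hj, by rw [F.κ_mem hj]; exact wordCode_idc _⟩

theorem Frame.inn_word (F : Frame C z) {h : G} (hh : Commute h z) {w : List ℕ} (hw : ∀ i ∈ w, i < 4)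
    (e : F.κ h = cw C.gens w) : Inn F h := ⟨hh, w, hw, e⟩

theorem omega_comm {c : ℕ} (hc : WordCode gensU c) : cm c omC = cm omC c := by
  have hp := pt_U
  simp only [ptChk, List.all_eq_true, List.mem_range, show isU gensU = true from rfl, if_true, beq_iff_eq] at hp
  obtain ⟨w, hw, rfl⟩ := hc
  induction w with
  | nil => rw [cw_nil, cm_idc, idc_cm] <;> decide
  | cons a w ih =>
    rw [cw_cons, cm_assoc, ih fun i hi => hw i (List.mem_cons_of_mem _ hi), ← cm_assoc, hp a (hw a List.mem_cons_self),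
      cm_assoc]

variable {F : Frame C z} [Finite G] (O : Outer F)

theorem Frame.out_ok (F : Frame C z) {k : ℕ} (hk : k ∈ outL C) :
    cm (C.gens.getD 3 0) (C.gens.getD 3 0) = idc ∧ k < 2 ^ 64 ∧ cm k k = idc ∧ cm (oC C k) (oC C k) = idc ∧
      oC C k ≠ idc ∧ oC C k ∉ invL C ∧ ∀ i < 4, cm k (C.gens.getD i 0) = cm (imgC C.gens i) k := by
  have h : outChk C = true := by
    have h := F.std
    simp only [List.mem_cons, List.not_mem_nil, or_false] at h
    rcases h with rfl | rfl | rfl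
    exacts [out_U, out_P, out_M]
  simp only [outChk, Bool.and_eq_true, List.all_eq_true, List.mem_range, beq_iff_eq, Bool.not_eq_true',
    beq_eq_false_iff_ne, List.any_eq_false] at h
  obtain ⟨h3, hall⟩ := h
  obtain ⟨⟨⟨⟨⟨hlt, hkk⟩, hcc⟩, hne⟩, hni⟩, himg⟩ := hall k hk
  exact ⟨h3, Nat.blt_eq ▸ hlt, hkk, hcc, hne, fun hm => hni _ hm (Nat.beq_refl _), himg⟩

include O

theorem Outer.inn_index : ∃ K : Subgroup G, Nat.card K = 512 * 25920 ∧ (∀ h, h ∈ K ↔ Inn F h) ∧
    (K.subgroupOf (Subgroup.centralizer ({z} : Set G))).index = 2 ∧ F.J ≤ K ∧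
    ∀ i < 4, ∃ h ∈ K, Commute h z ∧ F.κ h = C.gens.getD i 0 := by
  obtain ⟨K, hK, hmem⟩ := O.inner
  refine ⟨K, hK, hmem, ?_, fun j hj => (hmem j).2 (F.inn_J hj), fun i hi => ?_⟩
  · have hle : K ≤ Subgroup.centralizer ({z} : Set G) := fun h hh =>
      Subgroup.mem_centralizer_singleton_iff.2 ((hmem h).1 hh).1.eq
    have h1 := Subgroup.card_mul_index (K.subgroupOf (Subgroup.centralizer ({z} : Set G)))
    rw [Nat.card_congr (Subgroup.subgroupOfEquivOfLe hle).toEquiv, hK, O.card] at h1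
    omega
  · obtain ⟨h, hh, he⟩ := F.gens i hi
    exact ⟨h, (hmem h).2 ⟨hh, by rw [he]; exact wordCode_gen F.std hi⟩, hh, he⟩

theorem Outer.inn_mul {a b : G} (ha : Commute a z) (hb : Commute b z) :
    Inn F (a * b) ↔ (Inn F a ↔ Inn F b) := by
  obtain ⟨K, -, hmem, hind, -⟩ := O.inn_index
  have := Subgroup.mul_mem_iff_of_index_two hind (a := ⟨a, Subgroup.mem_centralizer_singleton_iff.2 ha.eq⟩)
    (b := ⟨b, Subgroup.mem_centralizer_singleton_iff.2 hb.eq⟩)
  simpa [Subgroup.mem_subgroupOf, hmem] using this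

theorem Outer.inn_sq {a : G} (ha : Commute a z) : Inn F (a * a) := (O.inn_mul ha ha).2 Iff.rfl

theorem Outer.inn_inv {a : G} (ha : Commute a z) : Inn F a⁻¹ ↔ Inn F a := by
  have h := O.inn_mul ha ha.inv_left
  rw [mul_inv_cancel] at h
  exact (h.1 (F.inn_J (one_mem _))).symm

theorem Outer.inn_conj {a b : G} (ha : Commute a z) (hb : Commute b z) :
    Inn F (a * b * a⁻¹) ↔ Inn F b := by
  rw [O.inn_mul (ha.mul_left hb) ha.inv_left, O.inn_mul ha hb, O.inn_inv ha]
  tauto

/-- The codes of inner involutions are listed. -/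
theorem Outer.invol_code {h : G} (hh : Inn F h) (h2 : cm (F.κ h) (F.κ h) = idc) :
    F.κ h = idc ∨ F.κ h ∈ invL C := by
  by_cases h1 : F.κ h = idc
  · exact Or.inl h1
  right
  obtain ⟨K, hK, hmem, -, hJK, hg⟩ := O.inn_index
  let FK := F.restrict K hJK hg
  have hc : Nat.card ↥(Subgroup.centralizer ({(⟨z, hJK F.ext.zJ⟩ : K)} : Set K)) = 512 * 25920 := by
    rw [card_centralizer_sub, inf_eq_left.2 fun x hx => Subgroup.mem_centralizer_singleton_iff.2
      ((hmem x).1 hx).1.eq, hK]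
  have hhz : Commute (⟨h, (hmem h).2 hh⟩ : K) ⟨z, hJK F.ext.zJ⟩ := Subtype.ext hh.1.eq
  obtain ⟨k, hk, g, hg', hgx⟩ := FK.invol_class hc hhz h2 h1
  have := (FK.cover hc hk ((hg'.mul_left hhz).mul_left hg'.inv_left) hgx hg'.inv_left).1
  rw [show g⁻¹ * (g * ⟨h, (hmem h).2 hh⟩ * g⁻¹) * g⁻¹⁻¹ = ⟨h, (hmem h).2 hh⟩ by group] at this
  simp only [invL, List.mem_append]
  interval_cases k
  exacts [Or.inl this, Or.inr this]

theorem Outer.code_not_word {k : ℕ} (hk : k ∈ outL C) : ¬ WordCode C.gens (oC C k) := by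
  intro hw
  obtain ⟨-, -, -, hcc, hne, hni, -⟩ := F.out_ok hk
  obtain ⟨a, ha, hae⟩ := F.lift_code hw
  rcases O.invol_code (h := a) ⟨ha, hae ▸ hw⟩ (hae ▸ hcc) with e | e
  · exact hne (hae ▸ e)
  · exact hni (hae ▸ e)

/-- The listed outer element, and the codes outside the inner half. -/
theorem Outer.out_spec : ∃ s k, k ∈ outL C ∧ Commute s z ∧ F.κ s = oC C k ∧ ¬ Inn F s ∧
    ∀ h, Commute h z → ¬ Inn F h → ∃ e, WordCode C.gens e ∧ F.κ h = cm (oC C k) e := by
  obtain ⟨s, hs, k, hk, hse⟩ := O.out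
  have hns : ¬ Inn F s := fun h => O.code_not_word hk (hse ▸ h.2)
  refine ⟨s, k, hk, hs, hse, hns, fun h hh hn => ⟨F.κ (s⁻¹ * h), ?_, ?_⟩⟩
  · exact ((O.inn_mul hs.inv_left hh).2 ⟨fun hi => absurd ((O.inn_inv hs).1 hi) hns, fun hi => absurd hi hn⟩).2
  · rw [← hse, ← F.κ_mul hs (hs.inv_left.mul_left hh), mul_inv_cancel_left]

omit [Finite G] in
/-- The same at a conjugate. -/
theorem Outer.conj (g : G) : Outer (F.conj g) := by
  obtain ⟨K, hK, hmem⟩ := O.inner
  refine ⟨by rw [card_centralizer_conj]; exact O.card, ⟨K.map (MulAut.conj g).toMonoidHom, ?_, fun h => ?_⟩, ?_⟩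
  · rw [Subgroup.card_map_of_injective (MulAut.conj g).injective, hK]
  · rw [Subgroup.mem_map_equiv, MulAut.conj_symm_apply, hmem]
    show Commute (g⁻¹ * h * g) z ∧ _ ↔ Commute h (g * z * g⁻¹) ∧ WordCode C.gens (F.κ (g⁻¹ * h * g))
    have : Commute (g⁻¹ * h * g) z ↔ Commute h (g * z * g⁻¹) := by
      rw [← Commute.conj_iff g (a := g⁻¹ * h * g)]
      simp [mul_assoc]
    rw [this]
  · obtain ⟨s, hs, k, hk, hse⟩ := O.out
    refine ⟨g * s * g⁻¹, (Commute.conj_iff g).2 hs, k, hk, ?_⟩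
    show F.κ (g⁻¹ * (g * s * g⁻¹) * g) = _
    rwa [show g⁻¹ * (g * s * g⁻¹) * g = s by group]

end Cfsg.Lib.U62Type
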