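import Cfsg.Agent.Lib.U62Type.Tables

/-!
# The class and centraliser of a transvection, unitary codes
-/

set_option autoImplicit false
set_option Elab.async false

namespace Cfsg.Lib.U62Type

theorem class_U0 : classChk gensU 0 = true := by
  simp only [classChk, Bool.and_eq_true]
  refine ⟨⟨⟨⟨⟨⟨⟨⟨?_, ?_⟩, ?_⟩, ?_⟩, ?_⟩, ?_⟩, ?_⟩, ?_⟩, ?_⟩ <;> decide +kernel

end Cfsg.Lib.U62Type
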