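import Cfsg.Agent.Lib.U62Type.Tables

/-!
# The second class, Sylow subgroups, fixed vectors
-/

set_option autoImplicit false

namespace Cfsg.Lib.U62Type

theorem class_U1 : classChk gensU 1 = true := by decide +kernel

theorem class_P1 : classChk gensP 1 = true := by decide +kernel

theorem syl_U : sylChk gensU = true := by decide +kernel

theorem syl_P : sylChk gensP = true := by decide +kernel

theorem pt_U : ptChk gensU = true := by decide +kernel

theorem pt_P : ptChk gensP = true := by decide +kernel

end Cfsg.Lib.U62Type
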