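import Cfsg.Agent.Lib.U62Type.Basic
import Cfsg.Agent.Lib.U62Type.ClassU
import Cfsg.Agent.Lib.U62Type.ClassP
import Cfsg.Agent.Lib.U62Type.GroupChecks

/-!
# The image of the centraliser: two classes of involutions, a Sylow subgroup
-/

set_option autoImplicit false
set_option linter.unusedSectionVars false
set_option linter.style.haveILetI false

namespace Cfsg.Lib.U62Type

theorem nbeq_iff {a b : ℕ} : Nat.beq a b = true ↔ a = b :=
  ⟨Nat.eq_of_beq_eq_true, fun h => h ▸ Nat.beq_refl a⟩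

theorem distinct_nodup : ∀ {l : List ℕ}, distinct l = true → l.Nodup
  | [], _ => List.nodup_nil
  | a :: l, h => by
    simp only [distinct, Bool.and_eq_true, Bool.not_eq_true', List.any_eq_false] at h
    exact List.nodup_cons.2 ⟨fun ha => h.1 a ha (Nat.beq_refl a), distinct_nodup h.2⟩

theorem tree_ind {start : ℕ} {L : List ℕ} {T : List (ℕ × ℕ)} {step : ℕ → ℕ → ℕ}
    (h : treeChk start L T step = true) (P : ℕ → Prop) (h0 : P start)
    (hs : ∀ i < L.length, ∀ a, P a → P (step a (T.getD i (0, 0)).2)) : ∀ x ∈ L, P x := by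
  simp only [treeChk, List.all_eq_true, List.mem_range] at h
  have key : ∀ i, i < L.length → P (L.getD i 0) := by
    intro i
    induction i using Nat.strong_induction_on with
    | _ i ih =>
      intro hi
      have h1 := h i hi
      split at h1
      · rwa [beq_iff_eq.1 h1]
      · simp only [Bool.and_eq_true, Nat.blt_eq, beq_iff_eq] at h1
        rw [h1.2]
        exact hs i hi _ (ih _ h1.1 (lt_trans h1.1 hi))
  intro x hx
  obtain ⟨i, hi, rfl⟩ := List.getElem_of_mem hx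
  have := key i hi
  rwa [List.getD_eq_getElem _ _ hi] at this

theorem inv_gen : ∀ gs ∈ [gensU, gensP], ∀ g < 4, cm (cw gs (iW [g])) (gs.getD g 0) = idc := by decide +kernel

theorem iW_lt : ∀ g < 4, ∀ i ∈ iW [g], i < 4 := by decide +kernel

theorem xW_lt : ∀ k < 2, ∀ i ∈ xW k, i < 4 := by decide +kernel

/-- A word in the four generators. -/
def WordCode (gs : List ℕ) (c : ℕ) : Prop := ∃ w : List ℕ, (∀ i ∈ w, i < 4) ∧ c = cw gs w

theorem WordCode.mul {gs : List ℕ} {a b : ℕ} (ha : WordCode gs a) (hb : WordCode gs b) : WordCode gs (cm a b) := by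
  obtain ⟨u, hu, rfl⟩ := ha
  obtain ⟨w, hw, rfl⟩ := hb
  exact ⟨u ++ w, fun i hi => (List.mem_append.1 hi).elim (hu i) (hw i), (cw_append gs u w).symm⟩

theorem wordCode_idc (gs : List ℕ) : WordCode gs idc := ⟨[], by simp, (cw_nil gs).symm⟩

theorem wordCode_gen {C : Cfg} (hC : C ∈ [cfgU, cfgP, cfgM]) {g : ℕ} (hg : g < 4) :
    WordCode C.gens (C.gens.getD g 0) :=
  ⟨[g], by simpa using hg, by rw [cw_cons, cw_nil, cm_idc (gens_lt C hC g hg)]⟩

namespace Frame

variable {G : Type*} [Group G] {C : Cfg} {z : G} (F : Frame C z)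

include F in
theorem gens_cases : C.gens = gensU ∨ C.gens = gensP := by
  have h := F.std
  simp only [List.mem_cons, List.not_mem_nil, or_false] at h
  rcases h with rfl | rfl | rfl
  exacts [Or.inl rfl, Or.inr rfl, Or.inr rfl]

include F in
theorem class_ok {k : ℕ} (hk : k < 2) : classChk C.gens k = true := by
  rcases F.gens_cases with h | h <;> rw [h] <;> interval_cases k
  exacts [class_U0, class_U1, class_P0, class_P1]

include F in
theorem syl_ok : sylChk C.gens = true := by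
  rcases F.gens_cases with h | h <;> rw [h]
  exacts [syl_U, syl_P]

theorem κ_gen_inv {a : G} (ha : Commute a z) {g : ℕ} (hg : g < 4) (h : F.κ a = C.gens.getD g 0) :
    F.κ a⁻¹ = cw C.gens (iW [g]) := by
  have hmem : C.gens ∈ [gensU, gensP] := by rcases F.gens_cases with e | e <;> simp [e]
  have e := congrArg (cm (cw C.gens (iW [g]))) (F.κ_inv ha).1
  rw [h, ← cm_assoc, inv_gen _ hmem g hg, idc_cm (F.κ_lt _), cm_idc (cw_lt _ _)] at e
  exact e

theorem κ_conj {h x : G} (hh : Commute h z) (hx : Commute x z) :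
    F.κ (h * x * h⁻¹) = cm (cm (F.κ h) (F.κ x)) (F.κ h⁻¹) := by
  rw [F.κ_mul (hh.mul_left hx) hh.inv_left, F.κ_mul hh hx]

theorem κ_conj_fix {h x : G} (hh : Commute h z) (hx : Commute x z) :
    F.κ (h * x * h⁻¹) = F.κ x ↔ cm (F.κ h) (F.κ x) = cm (F.κ x) (F.κ h) := by
  rw [F.κ_conj hh hx]
  constructor <;> intro e
  · conv_rhs => rw [← e]
    rw [cm_assoc, cm_assoc, (F.κ_inv hh).2, cm_idc (F.κ_lt _)]
  · rw [e, cm_assoc, (F.κ_inv hh).1, cm_idc (F.κ_lt _)]

theorem lift_code {c : ℕ} (h : WordCode C.gens c) : ∃ a, Commute a z ∧ F.κ a = c := by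
  obtain ⟨w, hw, rfl⟩ := h
  exact F.lift_word w hw

theorem lift_xC {k : ℕ} (hk : k < 2) : ∃ x, Commute x z ∧ F.κ x = xC C.gens k :=
  F.lift_word _ (xW_lt k hk)

include F in
theorem ce_spec {k : ℕ} (hk : k < 2) {e : ℕ} (he : e ∈ ceL C.gens k) :
    WordCode C.gens e ∧ cm (xC C.gens k) e = cm e (xC C.gens k) := by
  have h := F.class_ok hk
  simp only [classChk, Bool.and_eq_true, List.all_eq_true, beq_iff_eq] at h
  obtain ⟨⟨⟨⟨⟨⟨⟨⟨htree, -⟩, -⟩, hw⟩, hcomm⟩, -⟩, -⟩, -⟩, -⟩ := h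
  refine ⟨tree_ind htree (WordCode C.gens) (wordCode_idc _) (fun i _ a ha => ha.mul ?_) e he, hcomm e he⟩
  refine ⟨_, fun j hj => ?_, rfl⟩
  by_cases hlt : ((ceTreeL k).getD i (0, 0)).2 < (ceGensL k).length
  · rw [List.getD_eq_getElem _ _ hlt] at hj
    have := hw _ (List.getElem_mem hlt) j hj
    rwa [Nat.blt_eq] at this
  · rw [List.getD_eq_default _ _ (not_lt.1 hlt)] at hj
    simp at hj

theorem cl_spec {k : ℕ} (hk : k < 2) {x : G} (hx : Commute x z) (hxe : F.κ x = xC C.gens k) {c : ℕ}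
    (hc : c ∈ clL C.gens k) : ∃ g, Commute g z ∧ F.κ (g * x * g⁻¹) = c ∧ WordCode C.gens (F.κ g) := by
  have h := F.class_ok hk
  simp only [classChk, Bool.and_eq_true, List.all_eq_true, beq_iff_eq] at h
  obtain ⟨⟨⟨⟨⟨⟨⟨⟨-, htree⟩, hg4⟩, -⟩, -⟩, -⟩, -⟩, -⟩, -⟩ := h
  refine tree_ind htree (fun c => ∃ g, Commute g z ∧ F.κ (g * x * g⁻¹) = c ∧ WordCode C.gens (F.κ g))
    ⟨1, Commute.one_left z, by simpa using hxe, by rw [F.κ_one]; exact wordCode_idc _⟩ ?_ c hc
  rintro i hi a ⟨g, hgz, rfl, hgw⟩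
  have hg := hg4 i (List.mem_range.2 hi)
  rw [Nat.blt_eq] at hg
  obtain ⟨s, hs, hse⟩ := F.gens _ hg
  refine ⟨s * g, hs.mul_left hgz, ?_, ?_⟩
  · rw [show s * g * x * (s * g)⁻¹ = s * (g * x * g⁻¹) * s⁻¹ by group,
      F.κ_conj hs ((hgz.mul_left hx).mul_left hgz.inv_left), hse, F.κ_gen_inv hs hg hse]
  · rw [F.κ_mul hs hgz, hse]
    exact (wordCode_gen F.std hg).mul hgw

include F in
theorem class_counts {k : ℕ} (hk : k < 2) : (ceL C.gens k).Nodup ∧ (clL C.gens k).Nodup ∧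
    (clL C.gens k).length * (ceL C.gens k).length = 25920 ∧
    (clL C.gens k).length = if k == 0 then 45 else 270 := by
  have h := F.class_ok hk
  simp only [classChk, Bool.and_eq_true] at h
  exact ⟨distinct_nodup h.1.1.1.2, distinct_nodup h.1.1.2, nbeq_iff.1 h.1.2, nbeq_iff.1 h.2⟩

variable [Finite G]

/-- The class and the centraliser of a listed involution are complete. -/
theorem cover (hc : Nat.card ↥(Subgroup.centralizer ({z} : Set G)) = 512 * 25920) {k : ℕ} (hk : k < 2) {x : G}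
    (hx : Commute x z) (hxe : F.κ x = xC C.gens k) {h : G} (hh : Commute h z) :
    F.κ (h * x * h⁻¹) ∈ clL C.gens k ∧ WordCode C.gens (F.κ h) ∧
      (cm (F.κ h) (F.κ x) = cm (F.κ x) (F.κ h) → F.κ h ∈ ceL C.gens k) := by
  classical
  obtain ⟨hnd1, hnd2, hmn, -⟩ := F.class_counts hk
  have hex : ∀ c : {c // c ∈ clL C.gens k}, ∃ g, Commute g z ∧ F.κ (g * x * g⁻¹) = c ∧ WordCode C.gens (F.κ g) ∧
      (c.1 = F.κ x → F.κ g = idc) := by
    rintro ⟨c, hc'⟩
    by_cases hcx : c = F.κ x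
    · exact ⟨1, Commute.one_left z, by simpa using hcx.symm, by rw [F.κ_one]; exact wordCode_idc _,
        fun _ => F.κ_one⟩
    · obtain ⟨g, h1, h2, h3⟩ := F.cl_spec hk hx hxe hc'
      exact ⟨g, h1, h2, h3, fun h => absurd h hcx⟩
  choose g hg hgx hgw hg1 using hex
  choose e he hee using fun d : {d // d ∈ ceL C.gens k} => F.lift_code (F.ce_spec hk d.2).1
  let φ : {c // c ∈ clL C.gens k} × {d // d ∈ ceL C.gens k} × F.J → ↥(Subgroup.centralizer ({z} : Set G)) :=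
    fun p => ⟨g p.1 * e p.2.1 * p.2.2, Subgroup.mem_centralizer_singleton_iff.2
      (((hg _).mul_left (he _)).mul_left (F.ext.cz _ p.2.2.2)).eq⟩
  have hkk : ∀ p : {c // c ∈ clL C.gens k} × {d // d ∈ ceL C.gens k} × F.J, F.κ (g p.1 * e p.2.1 * (p.2.2 : G)) = cm (F.κ (g p.1)) p.2.1.1 := fun p => by
    rw [F.κ_mulJ ((hg _).mul_left (he _)) p.2.2.2, F.κ_mul (hg _) (he _), hee]
  have hconj : ∀ p : {c // c ∈ clL C.gens k} × {d // d ∈ ceL C.gens k} × F.J, F.κ (g p.1 * e p.2.1 * (p.2.2 : G) * x * (g p.1 * e p.2.1 * (p.2.2 : G))⁻¹) = p.1.1 := by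
    intro p
    have h1 := hg p.1
    have h2 := he p.2.1
    have h3 := F.ext.cz _ p.2.2.2
    have hy : F.κ (e p.2.1 * (p.2.2 : G) * x * (e p.2.1 * (p.2.2 : G))⁻¹) = F.κ x := by
      refine (F.κ_conj_fix (h2.mul_left h3) hx).2 ?_
      rw [F.κ_mulJ h2 p.2.2.2, hee, hxe]
      exact (F.ce_spec hk p.2.1.2).2.symm
    rw [show g p.1 * e p.2.1 * (p.2.2 : G) * x * (g p.1 * e p.2.1 * (p.2.2 : G))⁻¹ =
      g p.1 * (e p.2.1 * (p.2.2 : G) * x * (e p.2.1 * (p.2.2 : G))⁻¹) * (g p.1)⁻¹ by group,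
      F.κ_conj h1 (((h2.mul_left h3).mul_left hx).mul_left (h2.mul_left h3).inv_left), hy,
      ← F.κ_conj h1 hx, hgx]
  have hinj : Function.Injective φ := by
    intro p q h
    have h' : g p.1 * e p.2.1 * (p.2.2 : G) = g q.1 * e q.2.1 * (q.2.2 : G) := congrArg Subtype.val h
    have e1 : p.1 = q.1 := Subtype.ext (by rw [← hconj p, ← hconj q, h'])
    have e2 : p.2.1 = q.2.1 := by
      refine Subtype.ext ?_
      have h2 := congrArg F.κ h'
      rw [hkk, hkk, e1] at h2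
      have h3 := congrArg (cm (F.κ (g q.1)⁻¹)) h2
      rwa [← cm_assoc, ← cm_assoc, (F.κ_inv (hg _)).2, idc_cm, idc_cm] at h3
      · exact (hee q.2.1) ▸ F.κ_lt _
      · exact (hee p.2.1) ▸ F.κ_lt _
    refine Prod.ext e1 (Prod.ext e2 (Subtype.ext ?_))
    rw [e1, e2] at h'
    exact mul_left_cancel h'
  have hsub : ∀ {l : List ℕ}, l.Nodup → Nat.card {c // c ∈ l} = l.length := fun {l} hl => by
    rw [← List.toFinset_card_of_nodup hl, ← Nat.card_eq_finsetCard]
    exact Nat.card_congr (Equiv.subtypeEquivRight fun c => List.mem_toFinset.symm)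
  haveI : ∀ l : List ℕ, Finite {c // c ∈ l} := fun l =>
    Finite.of_equiv _ (Equiv.subtypeEquivRight (p := (· ∈ l.toFinset)) fun c => List.mem_toFinset)
  have hcard : Nat.card ↥(Subgroup.centralizer ({z} : Set G)) ≤
      Nat.card ({c // c ∈ clL C.gens k} × {d // d ∈ ceL C.gens k} × F.J) := by
    rw [hc, Nat.card_prod, Nat.card_prod, hsub hnd2, hsub hnd1, F.ext.card, ← mul_assoc, hmn, mul_comm]
  obtain ⟨p, hp⟩ := (Function.Injective.bijective_of_nat_card_le hinj hcard).2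
    ⟨h, Subgroup.mem_centralizer_singleton_iff.2 hh.eq⟩
  have hp' : g p.1 * e p.2.1 * (p.2.2 : G) = h := congrArg Subtype.val hp
  subst hp'
  refine ⟨by rw [hconj]; exact p.1.2, by rw [hkk]; exact (hgw _).mul (F.ce_spec hk p.2.1.2).1, fun hcm => ?_⟩
  have h1 := (F.κ_conj_fix hh hx).2 hcm
  rw [hconj] at h1
  rw [hkk, hg1 _ h1, idc_cm ((hee p.2.1) ▸ F.κ_lt _)]
  exact p.2.1.2

/-- Every code is a word. -/
theorem word_code (hc : Nat.card ↥(Subgroup.centralizer ({z} : Set G)) = 512 * 25920) {h : G} (hh : Commute h z) :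
    WordCode C.gens (F.κ h) := by
  obtain ⟨x, hx, hxe⟩ := F.lift_xC (k := 0) (by norm_num)
  exact (F.cover hc (by norm_num) hx hxe hh).2.1

include F in
theorem syl_spec : (∀ s ∈ sylL C.gens, WordCode C.gens s) ∧ (sylL C.gens).Nodup ∧ (sylL C.gens).length = 64 ∧
    (∀ a ∈ sylL C.gens, ∀ b ∈ sylL C.gens, cm a b ∈ sylL C.gens) ∧
    (∃ a ∈ sylL C.gens, ∃ b ∈ sylL C.gens, cm a b ≠ cm b a) ∧
    ∀ e ∈ sylL C.gens, cm e e = idc → e = idc ∨ e ∈ clL C.gens 0 ∨ e ∈ clL C.gens 1 := by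
  have h := F.syl_ok
  simp only [sylChk, Bool.and_eq_true, List.all_eq_true, List.any_eq_true, Bool.not_eq_true', beq_eq_false_iff_ne,
    Bool.or_eq_true, beq_iff_eq, List.contains_iff_mem] at h
  obtain ⟨⟨⟨⟨⟨⟨htree, hw⟩, hd⟩, hl⟩, hm⟩, hnc⟩, hi⟩ := h
  refine ⟨fun s hs => tree_ind htree (WordCode C.gens) (wordCode_idc _) (fun i _ a ha => ha.mul ?_) s hs,
    distinct_nodup hd, nbeq_iff.1 hl, fun a ha b hb => ?_, hnc, fun e he h2 => ?_⟩
  · refine ⟨_, fun j hj => ?_, rfl⟩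
    by_cases hlt : (sylTree.getD i (0, 0)).2 < sylGens.length
    · rw [List.getD_eq_getElem _ _ hlt] at hj
      have := hw _ (List.getElem_mem hlt) j hj
      rwa [Nat.blt_eq] at this
    · rw [List.getD_eq_default _ _ (not_lt.1 hlt)] at hj
      simp at hj
  · obtain ⟨c, hc, hce⟩ := hm a ha b hb
    rwa [nbeq_iff.1 hce]
  · rcases hi e he with ((h1 | h1) | h1) | h1
    exacts [absurd h2 h1, Or.inl h1, Or.inr (Or.inl h1), Or.inr (Or.inr h1)]

/-- Every 2-subgroup of the centraliser is, up to conjugacy, mapped into the listed Sylow subgroup. -/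
theorem syl_conj (hc : Nat.card ↥(Subgroup.centralizer ({z} : Set G)) = 512 * 25920) (P : Subgroup G)
    (hP : ∀ p ∈ P, Commute p z) (h2 : IsPGroup 2 P) :
    ∃ g, Commute g z ∧ ∀ p ∈ P, F.κ (g * p * g⁻¹) ∈ sylL C.gens := by
  classical
  haveI : Fact (Nat.Prime 2) := ⟨Nat.prime_two⟩
  obtain ⟨hword, hnd, hlen, hmul, -, -⟩ := F.syl_spec
  have hidc : idc ∈ sylL C.gens := by
    have h := F.syl_ok
    simp only [sylChk, Bool.and_eq_true] at h
    have htree := h.1.1.1.1.1.1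
    simp only [treeChk, List.all_eq_true, List.mem_range] at htree
    have h0 := htree 0 (by omega)
    simp only [beq_self_eq_true, if_true, beq_iff_eq] at h0
    rw [← h0, List.getD_eq_getElem _ _ (by omega)]
    exact List.getElem_mem _
  let Mo : Submonoid ↥(Subgroup.centralizer ({z} : Set G)) :=
    { carrier := {h | F.κ h.1 ∈ sylL C.gens}
      one_mem' := by show F.κ 1 ∈ sylL C.gens; rw [F.κ_one]; exact hidc
      mul_mem' := fun {a b} ha hb => by
        show F.κ (a.1 * b.1) ∈ sylL C.gens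
        rw [F.κ_mul (Subgroup.mem_centralizer_singleton_iff.1 a.2) (Subgroup.mem_centralizer_singleton_iff.1 b.2)]
        exact hmul _ ha _ hb }
  let S : Subgroup ↥(Subgroup.centralizer ({z} : Set G)) :=
    { Mo with
      inv_mem' := fun {a} ha => by
        have h1 : a ^ (orderOf a - 1) ∈ Mo := pow_mem ha _
        rwa [← inv_eq_of_mul_eq_one_right (show a * a ^ (orderOf a - 1) = 1 by
          rw [← pow_succ', Nat.sub_add_cancel (orderOf_pos a), pow_orderOf_eq_one])] at h1 }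
  choose l hl hle using fun s : {s // s ∈ sylL C.gens} => F.lift_code (hword _ s.2)
  let ψ : {s // s ∈ sylL C.gens} × F.J → S := fun p =>
    ⟨⟨l p.1 * p.2, Subgroup.mem_centralizer_singleton_iff.2 ((hl _).mul_left (F.ext.cz _ p.2.2)).eq⟩,
      show F.κ (l p.1 * p.2) ∈ _ by rw [F.κ_mulJ (hl _) p.2.2, hle]; exact p.1.2⟩
  have hψ : Function.Bijective ψ := by
    constructor
    · intro p q h
      have h' : l p.1 * (p.2 : G) = l q.1 * (q.2 : G) := congrArg (fun s : S => (s.1 : G)) h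
      have e1 : p.1 = q.1 := Subtype.ext (by
        have := congrArg F.κ h'
        rwa [F.κ_mulJ (hl _) p.2.2, F.κ_mulJ (hl _) q.2.2, hle, hle] at this)
      rw [e1] at h'
      exact Prod.ext e1 (Subtype.ext (mul_left_cancel h'))
    · rintro ⟨⟨h, hh⟩, hS⟩
      have hh' : Commute h z := Subgroup.mem_centralizer_singleton_iff.1 hh
      refine ⟨(⟨_, hS⟩, ⟨(l ⟨_, hS⟩)⁻¹ * h, (F.κ_eq_iff (hl _) hh').1 (hle ⟨_, hS⟩)⟩), ?_⟩
      exact Subtype.ext (Subtype.ext (mul_inv_cancel_left _ _))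
  have hScard : Nat.card S = 2 ^ 15 := by
    rw [← Nat.card_eq_of_bijective ψ hψ, Nat.card_prod, F.ext.card]
    rw [show Nat.card {s // s ∈ sylL C.gens} = 64 by
      rw [← hlen, ← List.toFinset_card_of_nodup hnd, ← Nat.card_eq_finsetCard]
      exact Nat.card_congr (Equiv.subtypeEquivRight fun c => List.mem_toFinset.symm)]
    norm_num
  obtain ⟨Q, hQ⟩ := (IsPGroup.of_card hScard).exists_le_sylow
  have hQcard : Nat.card Q ≤ 2 ^ 15 := by
    obtain ⟨n, hn⟩ := IsPGroup.iff_card.1 Q.isPGroup'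
    have hd := Subgroup.card_subgroup_dvd_card (Q : Subgroup ↥(Subgroup.centralizer ({z} : Set G)))
    rw [hn, hc] at hd
    rw [show Nat.card Q = 2 ^ n from hn]
    by_contra hlt
    rw [not_le] at hlt
    have h16 : 2 ^ 16 ∣ 512 * 25920 := (pow_dvd_pow 2 ((Nat.pow_lt_pow_iff_right (by norm_num)).1 hlt)).trans hd
    norm_num at h16
  have hSQ : S = (Q : Subgroup ↥(Subgroup.centralizer ({z} : Set G))) :=
    Subgroup.eq_of_le_of_card_ge hQ (by rw [hScard]; exact hQcard)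
  obtain ⟨R, hR⟩ := (h2.comap_of_injective (Subgroup.centralizer ({z} : Set G)).subtype
    Subtype.val_injective).exists_le_sylow
  obtain ⟨g, hg⟩ := MulAction.exists_smul_eq ↥(Subgroup.centralizer ({z} : Set G)) R Q
  refine ⟨g, Subgroup.mem_centralizer_singleton_iff.1 g.2, fun p hp => ?_⟩
  have hpc : p ∈ Subgroup.centralizer ({z} : Set G) := Subgroup.mem_centralizer_singleton_iff.2 (hP p hp).eq
  have hmem : g * ⟨p, hpc⟩ * g⁻¹ ∈ S := by
    rw [hSQ, ← hg]
    exact Subgroup.smul_mem_pointwise_smul ⟨p, hpc⟩ (MulAut.conj g) _ (hR hp)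
  exact hmem

/-- An involution of the image is conjugate to a listed one. -/
theorem invol_class (hc : Nat.card ↥(Subgroup.centralizer ({z} : Set G)) = 512 * 25920) {t : G} (ht : Commute t z)
    (h2 : cm (F.κ t) (F.κ t) = idc) (h1 : F.κ t ≠ idc) :
    ∃ k < 2, ∃ g, Commute g z ∧ F.κ (g * t * g⁻¹) = xC C.gens k := by
  haveI : Fact (Nat.Prime 2) := ⟨Nat.prime_two⟩
  have ht2 : t * t ∈ F.J := F.ker _ (ht.mul_left ht) (by rw [F.κ_mul ht ht, h2])
  have ht8 : t ^ 8 = 1 := by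
    rw [show t ^ 8 = (t * t * (t * t)) * (t * t * (t * t)) by simp [pow_succ, mul_assoc]]
    rcases F.ext.sq _ ht2 with e | e <;> rw [e]
    · rw [mul_one]
    · exact F.ext.z2
  have hord : IsPGroup 2 (Subgroup.zpowers t) := by
    obtain ⟨n, -, hn⟩ := (Nat.dvd_prime_pow Nat.prime_two).1
      (show orderOf t ∣ 2 ^ 3 from orderOf_dvd_of_pow_eq_one ht8)
    exact IsPGroup.of_card (n := n) (by rw [Nat.card_zpowers, hn])
  obtain ⟨g, hg, hgS⟩ := F.syl_conj hc _ (fun p hp => by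
    obtain ⟨n, rfl⟩ := Subgroup.mem_zpowers_iff.1 hp
    exact ht.zpow_left n) hord
  have hs := hgS t (Subgroup.mem_zpowers t)
  have hgt := (hg.mul_left ht).mul_left hg.inv_left
  have hsq : cm (F.κ (g * t * g⁻¹)) (F.κ (g * t * g⁻¹)) = idc := by
    rw [← F.κ_mul hgt hgt, show g * t * g⁻¹ * (g * t * g⁻¹) = g * (t * t) * g⁻¹ by group,
      F.κ_mem (F.ext.norm g hg _ ht2)]
  have hne : F.κ (g * t * g⁻¹) ≠ idc := fun e => h1 (by
    have hJ := F.ext.norm g⁻¹ hg.inv_left _ (F.ker _ hgt e)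
    rw [show g⁻¹ * (g * t * g⁻¹) * g⁻¹⁻¹ = t by group] at hJ
    exact F.κ_mem hJ)
  obtain ⟨-, -, -, -, -, hcl⟩ := F.syl_spec
  obtain ⟨k, hk, hmem⟩ : ∃ k < 2, F.κ (g * t * g⁻¹) ∈ clL C.gens k := by
    rcases hcl _ hs hsq with e | e | e
    exacts [absurd e hne, ⟨0, by norm_num, e⟩, ⟨1, by norm_num, e⟩]
  obtain ⟨x, hx, hxe⟩ := F.lift_xC hk
  obtain ⟨b, hb, hbx, -⟩ := F.cl_spec hk hx hxe hmem
  refine ⟨k, hk, b⁻¹ * g, hb.inv_left.mul_left hg, ?_⟩
  rw [show b⁻¹ * g * t * (b⁻¹ * g)⁻¹ = b⁻¹ * (g * t * g⁻¹) * b⁻¹⁻¹ by group, F.κ_conj hb.inv_left hgt, ← hbx,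
    ← F.κ_conj hb.inv_left ((hb.mul_left hx).mul_left hb.inv_left),
    show b⁻¹ * (b * x * b⁻¹) * b⁻¹⁻¹ = x by group, hxe]

end Frame

end Cfsg.Lib.U62Type
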