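import Cfsg.Agent.Lib.U62Type.OuterData
import Cfsg.Agent.Lib.U62Type.Group
import Cfsg.Agent.Lib.U62Type.Mats

/-!
# What is checked about the extension by an outer automorphism
-/

set_option autoImplicit false
set_option maxRecDepth 10000

namespace Cfsg.Lib.U62Type

/-- The words giving the images of the generators. -/
def imgW : List (List ℕ) := [[0, 0], [1], [2], [3]]

/-- The codes of those images. -/
def imgC (gs : List ℕ) (i : ℕ) : ℕ := cw gs (imgW.getD i [])

/-- The similitude reverses the form, is an involution, maps the generators as intended. -/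
def simChk : Bool :=
  mulL dL dL == oneL && mulL (mulL dL formL) (trL dL) == negL formL &&
    (List.range 4).all fun i =>
      let m := mulL (mulL dL (gmat i)) dL
      m == wmat (imgW.getD i []) || m == negL (wmat (imgW.getD i []))

/-- The possible codes of the outer automorphism. -/
def outL (C : Cfg) : List ℕ := if isU C.gens then outU else if C.q 64 == 0 then outP else outM

/-- The basis from the seeds. -/
def exprL (C : Cfg) : List (List (ℕ × List ℕ)) := if isU C.gens then exprU else exprP

/-- The seeds. -/
def seedL : List ℕ := [1, 64, 128]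

/-- Words fixing the first seed. -/
def stbL (C : Cfg) : List (List ℕ) := if isU C.gens then stbU else stbP

/-- The vectors fixed by all four generators. -/
def planeL (C : Cfg) : List ℕ := if isU C.gens then [0] else [0, 64, 128, 192]

/-- Combination along an expression. -/
def exVal (gs : List ℕ) (ims : List ℕ) (e : List (ℕ × List ℕ)) : ℕ :=
  e.foldr (fun p x => ap (cw gs p.2) (ims.getD p.1 0) ^^^ x) 0

/-- The plane is the set of common fixed vectors. -/
def planeChk (C : Cfg) : Bool :=
  vecs.all fun v => ((List.range 4).all fun i => Nat.beq (ap (C.gens.getD i 0) v) v) == (planeL C).contains v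

/-- The expressions are right, and every candidate is listed. -/
def candChk (C : Cfg) : Bool :=
  (List.range 8).all (fun i => Nat.beq (exVal C.gens seedL ((exprL C).getD i [])) (2 ^ i) &&
    ((exprL C).getD i []).all fun p => Nat.blt p.1 3 && p.2.all fun a => Nat.blt a 4) &&
  (stbL C).all (fun w => w.all (fun a => Nat.blt a 4) && Nat.beq (ap (cw C.gens w) 1) 1) &&
  let igs := (List.range 4).map (imgC C.gens)
  let al := vecs.filter fun a => (stbL C).all fun w => Nat.beq (ap (cw igs w) a) a
  (List.range 3).all (fun k => Nat.beq k 0 || isU C.gens || (planeL C).contains (seedL.getD k 0)) &&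
  al.all fun a => (planeL C).all fun b => (planeL C).all fun c =>
    let k := mkc fun i => exVal igs [a, b, c] ((exprL C).getD i [])
    !(cm k k == idc && (List.range 4).all (fun i => cm k (C.gens.getD i 0) == cm (imgC C.gens i) k) &&
      (List.range 8).all fun i => Nat.beq (C.q (ap k (2 ^ i))) (C.q (2 ^ i))) || (outL C).contains k

/-- The outer involution. -/
def oC (C : Cfg) (k : ℕ) : ℕ := cm k (C.gens.getD 3 0)

/-- Its fixed vectors. -/
def ovL (C : Cfg) (k : ℕ) : List ℕ := vecs.filter fun v => ap (oC C k) v == v

/-- The codes of the inner involutions. -/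
def invL (C : Cfg) : List ℕ := clL C.gens 0 ++ clL C.gens 1

/-- An involution outside the inner codes. -/
def outChk (C : Cfg) : Bool :=
  cm (C.gens.getD 3 0) (C.gens.getD 3 0) == idc &&
  (outL C).all fun k => Nat.blt k (2 ^ 64) && cm k k == idc && cm (oC C k) (oC C k) == idc &&
    !(oC C k == idc) && !((invL C).any fun e => Nat.beq e (oC C k)) &&
    (List.range 4).all fun i => cm k (C.gens.getD i 0) == cm (imgC C.gens i) k

/-- Three fixed vectors, a sum of two being the third, all non-singular. -/
def triple (C : Cfg) (F : List ℕ) : Bool :=
  F.any fun a => Nat.beq (C.q a) 1 && F.any fun b => Nat.beq (C.q b) 1 && Nat.beq (C.q (a ^^^ b)) 1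

/-- No inner involution commuting with the outer one fixes a suitable half of its fixed vectors. -/
def halfChk (C : Cfg) : Bool :=
  (outL C).all fun k =>
    triple C (ovL C k) &&
    (invL C).all fun e => !(cm (oC C k) e == cm e (oC C k)) ||
      let n := ((ovL C k).filter fun v => ap e v == v).length
      Nat.blt (2 * n) (ovL C k).length ||
        (Nat.beq (2 * n) (ovL C k).length && vecs.any fun u =>
          let r := ap (oC C k) u ^^^ u
          (Nat.beq (C.q r) 1 && Nat.beq (ap e r) r) || (Nat.beq (C.q r) 0 && !(Nat.beq (ap e r) r)))

/-- The inner involutions in the orthogonal cases have non-singular triples among their fixed vectors. -/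
def tripleChk (C : Cfg) : Bool := (invL C).all fun e => triple C (vecs.filter fun v => ap e v == v)

/-- What is orthogonal to the fixed vectors of the outer involution is in its range. -/
def outPerpChk (C : Cfg) : Bool :=
  (outL C).all fun k => vecs.all fun v =>
    (ovL C k).any (fun f => Nat.beq (cform C v f) 1) || vecs.any fun u => Nat.beq (ap (oC C k) u ^^^ u) v

/-- The outer involution in the unitary case. -/
def outerThinChk : Bool :=
  outU.all fun k =>
    let F := ovL cfgU k
    Nat.beq F.length 16 &&
    F.all (fun v => Nat.beq (qU v) 0 && vecs.any fun u => Nat.beq (ap (oC cfgU k) u ^^^ u) v) &&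
    (List.range 8).all (fun i => F.any fun u => F.any fun w => Nat.beq (u ^^^ ap omC w) (2 ^ i)) &&
    vecs.all fun v =>
      let u := ap (oC cfgU k) v ^^^ v
      Nat.beq u 0 || witW.any fun w => w.all (fun a => Nat.blt a 4) &&
        cm (oC cfgU k) (cw gensU w) == cm (cw gensU w) (oC cfgU k) &&
        !(Nat.beq (ap (cw gensU w) u) u) && Nat.beq (cform cfgU v (ap (cw gensU w) u)) 0

/-- The generators are products of words with each of the last three letters an even number of times. -/
def evenChk (gs : List ℕ) : Bool :=
  (List.range 4).all fun i =>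
    let w := ((oddW.getD i []).map fun p => p.1 ++ List.replicate p.2 0 ++ iW p.1).flatten
    w.all (fun a => Nat.blt a 4) && cw gs w == gs.getD i 0 &&
      (List.range 4).all fun a => Nat.beq a 0 || Nat.beq ((w.filter fun b => Nat.beq b a).length % 2) 0

/-- Two different commutators in the Sylow subgroup. -/
def commutChk (gs : List ℕ) : Bool :=
  let S := sylL gs
  let at' := fun i => S.getD i 0
  (List.range 64).any fun x => (List.range 64).any fun y =>
    !(cm (at' x) (at' y) == cm (at' y) (at' x)) && (List.range 64).any fun c =>
      cm (at' x) (at' y) == cm (at' c) (cm (at' y) (at' x)) && (List.range 64).any fun u => (List.range 64).any fun v =>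
        !(cm (at' u) (at' v) == cm (at' v) (at' u)) &&
          !(cm (at' u) (at' v) == cm (at' c) (cm (at' v) (at' u)))

/-- The orbit's words. -/
def fixL (C : Cfg) (v : ℕ) : List (List ℕ) :=
  let l := if isU C.gens then fixWU else if C.q 64 == 0 then fixWP else fixWM
  ((l.find? fun p => Nat.beq p.1 v).getD (0, [])).2

/-- What the meet can be over `v` in the small case. -/
def smallL (C : Cfg) (v : ℕ) : List ℕ :=
  if isU C.gens then [0, v, ap omC v, ap omC (ap omC v)] else [0, v]

/-- The Lagrangians. -/
def lagL (C : Cfg) : List (List ℕ) := if isU C.gens then lagU else []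

/-- Sums. -/
def spanL (l : List ℕ) : List ℕ := l.foldl (fun acc x => acc ++ acc.map (x ^^^ ·)) [0]

/-- The data over the orbit representatives. -/
def insideChk (C : Cfg) : Bool :=
  (orbL C).all fun o =>
    let v := o.1
    let ws := fixL C v
    let S := smallL C v
    Nat.blt v 256 && ws.all (fun w => w.all (fun a => Nat.blt a 4) && Nat.beq (ap (cw C.gens w) v) v &&
      cm (cw C.gens w) (cw C.gens (iW w)) == idc && (iW w).all fun a => Nat.blt a 4) &&
    vecs.all (fun u => Nat.beq (C.q u) 1 || Nat.beq (cform C u v) 1 || S.contains u ||
      (ws.any fun w => Nat.beq (cform C u (ap (cw C.gens w) u)) 1) ||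
      (!(isU C.gens) && !((planeL C).contains v) && ((planeL C).contains u || (planeL C).contains (u ^^^ v))) ||
      (lagL C).any fun L =>
        let sp := spanL (v :: u :: ws.map fun w => ap (cw C.gens w) u)
        L.all fun l => sp.contains l) &&
    Nat.blt (2 * S.length * (((invL C).filter fun e => Nat.beq (ap e v) v &&
      vecs.all fun x => Nat.beq (cform C x v) 1 || S.contains (ap e x ^^^ x)).length + 1)) 128 &&
    (lagL C).all fun L => Nat.beq L.length 16 &&
      vecs.all (fun x => L.any (fun l => Nat.beq (cform C x l) 1) || L.contains x) &&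
      (invL C).all fun e => !(Nat.beq (ap e v) v) ||
        L.any (fun l => !(Nat.beq (ap e l ^^^ l) 0) && !(Nat.beq (ap e l ^^^ l) v)) ||
        L.all (fun l => Nat.beq (ap e l) l) ||
        ws.any fun w =>
          let p := cm e (cm (cm (cw C.gens w) e) (cw C.gens (iW w)))
          !(p == idc) && L.all fun l => Nat.beq (ap p l) l

end Cfsg.Lib.U62Type
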