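import Cfsg.Agent.Lib.U62Type.Tables

/-!
# The two classes acting on the module
-/

set_option autoImplicit false

namespace Cfsg.Lib.U62Type

theorem orth_P0 : orthChk cfgP 0 = true := by decide +kernel

theorem orth_P1 : orthChk cfgP 1 = true := by decide +kernel

theorem orth_M0 : orthChk cfgM 0 = true := by decide +kernel

theorem orth_M1 : orthChk cfgM 1 = true := by decide +kernel

theorem perp_U0 : perpChk cfgU 0 = true := by decide +kernel

theorem thick_U : thickChk cfgU = true := by decide +kernel

theorem count_U : countChk cfgU = true := by decide +kernel

theorem thin_U : thinChk cfgU = true := by decide +kernel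

end Cfsg.Lib.U62Type
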