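import Cfsg.Agent.Lib.U62Type.Mats

/-!
# Weight spaces of the elementary abelian subgroup of order 27 on an eight-dimensional binary module
-/

set_option autoImplicit false
set_option linter.unusedSectionVars false

namespace Cfsg.Lib.U62Type

/-- The value of the alternating form of `Q`. -/
def bform {V : Type*} [Mul V] (Q : V → ℕ) (x y : V) : ℕ := Q (x * y) ^^^ Q x ^^^ Q y

/-- A module of order 256 with an invariant quadratic form, given by the action of four generators. -/
structure Hyp (V : Type*) [CommGroup V] where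
  fin : Finite V
  sq : ∀ v : V, v * v = 1
  card : Nat.card V = 256
  ρ : ℕ → V →* V
  rel : ∀ w w' : List ℕ, meq w w' = true → ∀ v : V, w.foldr (fun i u => ρ i u) v = w'.foldr (fun i u => ρ i u) v
  Q : V → ℕ
  Q_lt : ∀ v, Q v < 2
  Q_one : Q 1 = 0
  Q_inv : ∀ i v, Q (ρ i v) = Q v
  bf_mul : ∀ x y w : V, bform Q x (y * w) = bform Q x y ^^^ bform Q x w
  nd : ∀ x : V, x ≠ 1 → ∃ y, bform Q x y = 1
  moved : ∃ v, ρ 0 v ≠ v

/-- The three generators of the elementary abelian subgroup. -/
def aW : ℕ → List ℕ
  | 0 => [0]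
  | 1 => [2, 0, 2, 2, 2]
  | _ => [2, 2, 0, 2, 2]

/-- The inverse of a word. -/
def iW : List ℕ → List ℕ
  | [] => []
  | i :: w => iW w ++ (if i = 0 then [0, 0] else if i = 1 then [1] else if i = 2 then [2, 2, 2] else if i = 3 then [3] else [i])

/-- The power of a word. -/
def pW (w : List ℕ) (n : ℕ) : List ℕ := (List.replicate n w).flatten

namespace Hyp

variable {V : Type*} [CommGroup V] (H : Hyp V)

/-- The action of a word. -/
def act (w : List ℕ) : V →* V :=
  { toFun := fun v => w.foldr (fun i u => H.ρ i u) v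
    map_one' := by induction w with
      | nil => rfl
      | cons i w ih => rw [List.foldr_cons, ih, map_one]
    map_mul' := fun x y => by induction w with
      | nil => rfl
      | cons i w ih => rw [List.foldr_cons, ih, map_mul]; rfl }

theorem act_nil (v : V) : H.act [] v = v := rfl

theorem act_cons (i : ℕ) (w : List ℕ) (v : V) : H.act (i :: w) v = H.ρ i (H.act w v) := rfl

theorem act_append (u w : List ℕ) (v : V) : H.act (u ++ w) v = H.act u (H.act w v) :=
  List.foldr_append

theorem act_eq {w w' : List ℕ} (h : meq w w' = true) (v : V) : H.act w v = H.act w' v := H.rel w w' h v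

theorem act_pW_fix {w : List ℕ} {v : V} (h : H.act w v = v) : ∀ n, H.act (pW w n) v = v
  | 0 => rfl
  | n + 1 => by rw [pW, List.replicate_succ, List.flatten_cons, H.act_append, ← pW, act_pW_fix h n, h]

include H in
theorem inv_eq_self (v : V) : v⁻¹ = v := inv_eq_of_mul_eq_one_right (H.sq v)

include H in
theorem cancel (v w : V) : v * (v * w) = w := by rw [← mul_assoc, H.sq, one_mul]

theorem Q_act (w : List ℕ) (v : V) : H.Q (H.act w v) = H.Q v := by
  induction w with
  | nil => rfl
  | cons i w ih => rw [H.act_cons, H.Q_inv, ih]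

theorem bform_act (w : List ℕ) (x y : V) :
    bform H.Q (H.act w x) (H.act w y) = bform H.Q x y := by
  rw [bform, bform, ← map_mul, H.Q_act, H.Q_act, H.Q_act]

/-- Fixed-point-free action of an element of order three. -/
def Fp (M : List ℕ) (v : V) : Prop := v * H.act M v * H.act (M ++ M) v = 1

/-- The average over a word of order three. -/
def avg (k : List ℕ) : V →* V :=
  { toFun := fun v => v * H.act k v * H.act (k ++ k) v
    map_one' := by simp only [map_one, mul_one]
    map_mul' := fun x y => by rw [map_mul, map_mul]; ac_rfl }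

theorem avg_def (k : List ℕ) (v : V) : H.avg k v = v * H.act k v * H.act (k ++ k) v := rfl

theorem avg_fix {k : List ℕ} {v : V} (h : H.act k v = v) : H.avg k v = v := by
  rw [avg_def, H.act_append, h, h, H.sq, one_mul]

theorem act_avg {k : List ℕ} (h3 : meq (k ++ (k ++ k)) [] = true) (v : V) : H.act k (H.avg k v) = H.avg k v := by
  rw [avg_def, map_mul, map_mul, ← H.act_append, ← H.act_append, H.act_eq h3, H.act_nil]
  ac_rfl

theorem avg_comm {k l : List ℕ} (h : meq (k ++ l) (l ++ k) = true) (v : V) :
    H.act l (H.avg k v) = H.avg k (H.act l v) := by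
  have e : ∀ u, H.act k (H.act l u) = H.act l (H.act k u) := fun u => by
    rw [← H.act_append, H.act_eq h, H.act_append]
  rw [avg_def, avg_def, map_mul, map_mul, H.act_append k k v, H.act_append k k (H.act l v)]
  rw [e v, e (H.act k v)]

theorem fp_iff {M : List ℕ} {v : V} : H.Fp M v ↔ H.avg M v = 1 := Iff.rfl

theorem fp_act {M l : List ℕ} (h : meq (M ++ l) (l ++ M) = true) {v : V} (hv : H.Fp M v) :
    H.Fp M (H.act l v) := by
  rw [fp_iff] at hv ⊢
  rw [← H.avg_comm h, hv, map_one]

/-- A commuting pair of elements of order three: a vector moved by the first yields one on which the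
second acts as a power of the first. -/
theorem refine_pair {x y : List ℕ} (hxy : meq (x ++ y) (y ++ x) = true) (hy : meq (y ++ (y ++ y)) [] = true)
    {v : V} (hv1 : v ≠ 1) (hv : H.Fp x v) {S : Subgroup V} (hvS : v ∈ S) (hSx : ∀ u ∈ S, H.act x u ∈ S)
    (hSy : ∀ u ∈ S, H.act y u ∈ S) :
    ∃ u ∈ S, u ≠ 1 ∧ H.Fp x u ∧ ∃ i < 3, H.act y u = H.act (pW x i) u := by
  have hyx : ∀ u, H.act y (H.act x u) = H.act x (H.act y u) := fun u => by
    rw [← H.act_append, ← H.act_eq hxy, H.act_append]
  by_cases h1 : H.avg y v = 1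
  swap
  · refine ⟨H.avg y v, mul_mem (mul_mem hvS (hSy v hvS)) (by rw [H.act_append]; exact hSy _ (hSy v hvS)), h1, ?_,
      0, by norm_num, ?_⟩
    · rw [fp_iff] at hv ⊢
      have e : ∀ u, H.avg x (H.act y u) = H.act y (H.avg x u) := fun u => (H.avg_comm hxy u).symm
      rw [avg_def H y, map_mul, map_mul, H.act_append, e, e, e, hv, map_one, map_one, one_mul, one_mul]
    · rw [H.act_avg hy]; rfl
  have hvy : H.act y (H.act y v) = v * H.act y v := by
    rw [avg_def, H.act_append] at h1
    calc _ = v * H.act y v * (v * H.act y v * H.act y (H.act y v)) := (H.cancel _ _).symm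
      _ = _ := by rw [h1, mul_one]
  have hxx : ∀ u, H.Fp x u → H.act x (H.act x u) = u * H.act x u := fun u hu => by
    rw [fp_iff, avg_def, H.act_append] at hu
    calc _ = u * H.act x u * (u * H.act x u * H.act x (H.act x u)) := (H.cancel _ _).symm
      _ = _ := by rw [hu, mul_one]
  by_cases h2 : H.act x v * H.act y v = 1
  · refine ⟨v, hvS, hv1, hv, 1, by norm_num, ?_⟩
    rw [show pW x 1 = x by simp [pW]]
    exact ((eq_inv_of_mul_eq_one_left h2).trans (H.inv_eq_self _)).symm
  refine ⟨_, mul_mem (hSx v hvS) (hSy v hvS), h2, ?_, 2, by norm_num, ?_⟩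
  · have := mul_mem (show H.act x v ∈ (H.avg x).ker from H.fp_act (by
        rw [meq, Bool.or_eq_true]; exact Or.inl (beq_self_eq_true _)) hv)
      (show H.act y v ∈ (H.avg x).ker from H.fp_act hxy hv)
    exact this
  · have hxyv : H.Fp x (H.act y v) := H.fp_act hxy hv
    rw [show pW x 2 = x ++ x by simp [pW], H.act_append, map_mul, map_mul, map_mul, hyx, hvy, hxx v hv, map_mul,
      hxx v hv, hxx _ hxyv]
    calc H.act x (H.act y v) * (v * H.act y v) = v * (H.act y v * H.act x (H.act y v)) := by ac_rfl
      _ = v * H.act x v * H.act x v * (H.act y v * H.act x (H.act y v)) := by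
          rw [mul_assoc v, H.sq, mul_one]
      _ = _ := by ac_rfl

end Hyp

end Cfsg.Lib.U62Type
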