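import Cfsg.Agent.Lib.U62Type.Data
import Cfsg.Agent.Lib.U62Type.Weights

/-!
# What is checked about the lists
-/

set_option autoImplicit false

namespace Cfsg.Lib.U62Type

/-- The unitary case. -/
def isU (gs : List ℕ) : Bool := gs == gensU

/-- The code of an involution. -/
def xC (gs : List ℕ) (k : ℕ) : ℕ := cw gs (xW k)

/-- The codes of its centraliser. -/
def ceL (gs : List ℕ) (k : ℕ) : List ℕ :=
  if isU gs then (if k == 0 then ceU0 else ceU1) else (if k == 0 then ceP0 else ceP1)

/-- The codes of its class. -/
def clL (gs : List ℕ) (k : ℕ) : List ℕ :=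
  if isU gs then (if k == 0 then clU0 else clU1) else (if k == 0 then clP0 else clP1)

/-- The codes of a Sylow subgroup. -/
def sylL (gs : List ℕ) : List ℕ := if isU gs then sylU else sylP

/-- The orbits on singular vectors. -/
def orbL (C : Cfg) : List (ℕ × List ℕ × List (ℕ × ℕ) × List (List ℕ)) :=
  if isU C.gens then orbU else if C.q 64 == 0 then orbP else orbM

/-- The generators of the centraliser. -/
def ceGensL (k : ℕ) : List (List ℕ) := if k == 0 then ceGens0 else ceGens1

/-- The centraliser as a tree. -/
def ceTreeL (k : ℕ) : List (ℕ × ℕ) := if k == 0 then ceTree0 else ceTree1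

/-- The class as a tree. -/
def clTreeL (k : ℕ) : List (ℕ × ℕ) := if k == 0 then clTree0 else clTree1

/-- A list is obtained from its first entry along a tree. -/
def treeChk (start : ℕ) (L : List ℕ) (T : List (ℕ × ℕ)) (step : ℕ → ℕ → ℕ) : Bool :=
  (List.range L.length).all fun i =>
    let p := T.getD i (0, 0)
    if i == 0 then L.getD i 0 == start else Nat.blt p.1 i && L.getD i 0 == step (L.getD p.1 0) p.2

/-- No repetitions. -/
def distinct : List ℕ → Bool
  | [] => true
  | a :: l => !(l.any fun b => Nat.beq a b) && distinct l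

/-- The centraliser and the class of an involution. -/
def classChk (gs : List ℕ) (k : ℕ) : Bool :=
  treeChk idc (ceL gs k) (ceTreeL k) (fun a g => cm a (cw gs ((ceGensL k).getD g []))) &&
    treeChk (xC gs k) (clL gs k) (clTreeL k)
      (fun a g => cm (cm (gs.getD g 0) a) (cw gs (iW [g]))) &&
    (List.range (clL gs k).length).all (fun i => Nat.blt ((clTreeL k).getD i (0, 0)).2 4) &&
    (ceGensL k).all (fun w => w.all fun i => Nat.blt i 4) &&
    (ceL gs k).all (fun e => cm (xC gs k) e == cm e (xC gs k)) &&
    distinct (ceL gs k) && distinct (clL gs k) &&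
    Nat.beq ((clL gs k).length * (ceL gs k).length) 25920 &&
    Nat.beq (clL gs k).length (if k == 0 then 45 else 270)

/-- A Sylow subgroup. -/
def sylChk (gs : List ℕ) : Bool :=
  treeChk idc (sylL gs) sylTree (fun a g => cm a (cw gs (sylGens.getD g []))) &&
    sylGens.all (fun w => w.all fun i => Nat.blt i 4) &&
    distinct (sylL gs) && Nat.beq (sylL gs).length 64 &&
    (sylL gs).all (fun a => (sylL gs).all fun b => (sylL gs).any fun c => Nat.beq (cm a b) c) &&
    (sylL gs).any (fun a => (sylL gs).any fun b => !(cm a b == cm b a)) &&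
    (sylL gs).all fun e => !(cm e e == idc) || e == idc || (clL gs 0).contains e || (clL gs 1).contains e

/-- Multiplication by a primitive element in the unitary case. -/
def omC : ℕ := mkc fun i => [2, 3, 8, 12, 32, 48, 128, 192].getD i 0

/-- The projection killing the fixed plane in the orthogonal case. -/
def p6C : ℕ := mkc fun i => if i < 6 then 2 ^ i else 0

/-- Vectors fixed by everything fixing `v`. -/
def ptL (gs : List ℕ) (v : ℕ) : List ℕ :=
  if isU gs then [ap omC v, ap omC (ap omC v)]
  else [ap p6C v, ap p6C v ^^^ 64, ap p6C v ^^^ 128, ap p6C v ^^^ 192, 64, 128, 192]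

/-- The maps behind `ptL` commute with the generators. -/
def ptChk (gs : List ℕ) : Bool :=
  (List.range 4).all fun i =>
    let g := gs.getD i 0
    if isU gs then cm g omC == cm omC g
    else cm g p6C == cm p6C g && ap g 64 == 64 && ap g 128 == 128 && ap g 192 == 192

/-- The data for a singular vector. -/
def orbChk (C : Cfg) : Bool :=
  vecs.all (fun v => Nat.beq v 0 || Nat.beq (C.q v) 1 || (orbL C).any fun o => o.2.1.contains v) &&
    (orbL C).all fun o =>
      let v := o.1
      treeChk v o.2.1 o.2.2.1 (fun a g => ap (C.gens.getD g 0) a) &&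
      (List.range o.2.1.length).all (fun i => Nat.blt (o.2.2.1.getD i (0, 0)).2 4) &&
      o.2.2.2.all (fun w => w.all (fun i => Nat.blt i 4) && ap (cw C.gens w) v == v) &&
      vecs.all fun u =>
        Nat.beq u 0 || Nat.beq u v || Nat.beq (C.q u) 1 || Nat.beq (cform C u v) 1 || (ptL C.gens v).contains u ||
          o.2.2.2.any fun w => Nat.beq (cform C u (ap (cw C.gens w) u)) 1 ||
            ((ptL C.gens v).contains (u ^^^ ap (cw C.gens w) u) && !(Nat.beq (u ^^^ ap (cw C.gens w) u) 0) &&
              !(Nat.beq (u ^^^ ap (cw C.gens w) u) v))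

/-- The fixed vectors of an involution. -/
def cvL (C : Cfg) (k : ℕ) : List ℕ := vecs.filter fun v => ap (xC C.gens k) v == v

/-- The vectors `x v - v`. -/
def rL (C : Cfg) (k : ℕ) : List ℕ := vecs.filter fun u => vecs.any fun v => (ap (xC C.gens k) v ^^^ v) == u

/-- In the orthogonal case: elements commuting with `x` that fix half of its fixed vectors commute. -/
def orthChk (C : Cfg) (k : ℕ) : Bool :=
  let big := (ceL C.gens k).filter fun e => Nat.ble 32 ((cvL C k).filter fun v => ap e v == v).length
  Nat.beq (cvL C k).length 64 && big.all fun a => big.all fun b => cm a b == cm b a ||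
    !(Nat.ble 32 ((cvL C k).filter fun v => ap a v == v && ap b v == v).length)

/-- The orthogonal perps of the fixed vectors. -/
def perpChk (C : Cfg) (k : ℕ) : Bool :=
  vecs.all fun u => ((cvL C k).all fun v => Nat.beq (cform C u v) 0) == ((rL C k).contains u)

/-- Roots of a transvection, and what fixes its fixed vectors. -/
def thickChk (C : Cfg) : Bool :=
  Nat.beq (cvL C 0).length 64 &&
    (ceL C.gens 0).all (fun e => !(cm e e == xC C.gens 0) || (cvL C 0).all fun v => Nat.beq (C.q (ap e v ^^^ v)) 0) &&
    Nat.ble ((ceL C.gens 0).filter fun e => (cvL C 0).all fun v => ap e v == v).length 2 &&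
    (clL C.gens 0).all (fun c => !((cvL C 0).all fun v => ap c v == v) || c == xC C.gens 0) &&
    (rL C 0).all (fun r => (cvL C 0).contains r && Nat.beq (C.q r) 0) &&
    (ceL C.gens 0).all (fun e => !(cm e e == idc) || (rL C 0).all fun r => ap e r == r) &&
    vecs.all (fun v => let u := ap (xC C.gens 0) v ^^^ v
      Nat.beq u 0 || (rL C 0).all fun r => Nat.beq r 0 || Nat.beq r u || Nat.beq (cform C v r) 1)

/-- A basis of the fixed vectors of the transvection. -/
def cvBasis (C : Cfg) : ℕ :=
  let step (acc : List ℕ) (v : ℕ) : List ℕ :=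
    if (List.range (2 ^ acc.length)).any fun n => ap (mkc fun i => acc.getD i 0) n == v then acc else acc ++ [v]
  mkc fun i => ((cvL C 0).foldl step []).getD i 0

/-- No functional agrees with the form on more than forty-seven fixed vectors. -/
def countChk (C : Cfg) : Bool :=
  (List.range 64).all (fun n => (cvL C 0).contains (ap (cvBasis C) n)) &&
    distinct ((List.range 64).map fun n => ap (cvBasis C) n) &&
    (List.range 64).all fun m => Nat.ble
      ((List.range 64).filter fun n => C.q (ap (cvBasis C) n) == ap (mkc fun i => bit m i) n).length 47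

/-- The second class in the unitary case. -/
def thinChk (C : Cfg) : Bool :=
  Nat.beq (cvL C 1).length 16 &&
    (cvL C 1).all (fun v => Nat.beq (C.q v) 0 && (rL C 1).contains v) &&
    Nat.ble ((ceL C.gens 1).filter fun e => (cvL C 1).all fun v => ap e v == v).length 16 &&
    vecs.all fun v => let u := ap (xC C.gens 1) v ^^^ v
      Nat.beq u 0 || (ceL C.gens 1).any fun e => !(Nat.beq (ap e u) u) && Nat.beq (cform C v (ap e u)) 0

end Cfsg.Lib.U62Type
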