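import Cfsg.Agent.Lib.U62Type.Frame
import Cfsg.Agent.Lib.U62Type.Tables

/-!
# First consequences of coordinates: commutators, the action as a homomorphism, conjugates
-/

set_option autoImplicit false
set_option linter.unusedSectionVars false

namespace Cfsg.Lib.U62Type

theorem qU_lt : ∀ v < 256, qU v < 2 ∧ qP v < 2 := by decide +kernel

theorem q_lt_two {C : Cfg} (hC : C ∈ [cfgU, cfgP, cfgM]) {v : ℕ} (hv : v < 256) : C.q v < 2 := by
  simp only [List.mem_cons, List.not_mem_nil, or_false] at hC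
  rcases hC with rfl | rfl | rfl
  exacts [(qU_lt v hv).1, (qU_lt v hv).2, (qU_lt v hv).1]

theorem cform_comm (C : Cfg) (u v : ℕ) : cform C u v = cform C v u := by
  rw [cform, cform, Nat.xor_comm u v, Nat.xor_assoc, Nat.xor_comm (C.q u), ← Nat.xor_assoc]

theorem cw_append (gs : List ℕ) (u w : List ℕ) : cw gs (u ++ w) = cm (cw gs u) (cw gs w) := by
  induction u with
  | nil => rw [List.nil_append, cw_nil, idc_cm (cw_lt _ _)]
  | cons a u ih => rw [List.cons_append, cw_cons, cw_cons, ih, cm_assoc]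

variable {G : Type*} [Group G]

theorem Ext.conj {z : G} {J : Subgroup G} (X : Ext z J) (g : G) :
    Ext (g * z * g⁻¹) (J.map (MulAut.conj g).toMonoidHom) := by
  have hmem : ∀ x, x ∈ J.map (MulAut.conj g).toMonoidHom ↔ g⁻¹ * x * g ∈ J := fun x => by
    rw [Subgroup.mem_map_equiv, MulAut.conj_symm_apply]
  have hpull : ∀ h, Commute h (g * z * g⁻¹) → Commute (g⁻¹ * h * g) z := fun h hh => by
    have := (Commute.conj_iff g⁻¹).2 hh
    simpa [mul_assoc] using this
  refine ⟨?_, fun e => X.z1 (conj_eq_one_iff.1 e), ?_, ?_, ?_, ?_, ?_, ?_, ?_, ?_⟩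
  · rw [show g * z * g⁻¹ * (g * z * g⁻¹) = g * (z * z) * g⁻¹ by group, X.z2, mul_one, mul_inv_cancel]
  · rw [hmem, show g⁻¹ * (g * z * g⁻¹) * g = z by group]; exact X.zJ
  · intro j hj
    have := (Commute.conj_iff g).2 (X.cz _ ((hmem j).1 hj))
    simpa [mul_assoc] using this
  · rw [Subgroup.card_map_of_injective (MulAut.conj g).injective, X.card]
  · intro h hh j hj
    rw [hmem] at hj ⊢
    have := X.norm _ (hpull h hh) _ hj
    rwa [show g⁻¹ * h * g * (g⁻¹ * j * g) * (g⁻¹ * h * g)⁻¹ = g⁻¹ * (h * j * h⁻¹) * g by group] at this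
  · intro j hj hc
    rcases X.zc _ ((hmem j).1 hj) (fun k hk => by
      have h1 := hc (g * k * g⁻¹) ((hmem _).2 (by rwa [show g⁻¹ * (g * k * g⁻¹) * g = k by group]))
      have := (Commute.conj_iff g⁻¹).2 h1
      simpa [mul_assoc] using this) with e | e
    · left; rw [show j = g * (g⁻¹ * j * g) * g⁻¹ by group, e]; group
    · right; rw [show j = g * (g⁻¹ * j * g) * g⁻¹ by group, e]
  · intro j hj
    rcases X.sq _ ((hmem j).1 hj) with e | e
    · left; rw [show j * j = g * (g⁻¹ * j * g * (g⁻¹ * j * g)) * g⁻¹ by group, e]; group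
    · right; rw [show j * j = g * (g⁻¹ * j * g * (g⁻¹ * j * g)) * g⁻¹ by group, e]
  · intro j hj k hk
    rcases X.cmt _ ((hmem j).1 hj) _ ((hmem k).1 hk) with e | e
    · left
      rw [show j * k * j⁻¹ * k⁻¹ = g * (g⁻¹ * j * g * (g⁻¹ * k * g) * (g⁻¹ * j * g)⁻¹ * (g⁻¹ * k * g)⁻¹) * g⁻¹ by
        group, e]
      group
    · right
      rw [show j * k * j⁻¹ * k⁻¹ = g * (g⁻¹ * j * g * (g⁻¹ * k * g) * (g⁻¹ * j * g)⁻¹ * (g⁻¹ * k * g)⁻¹) * g⁻¹ by
        group, e]
  · intro h hh hc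
    rw [hmem]
    refine X.self _ (hpull h hh) fun k hk => ?_
    have h1 := hc (g * k * g⁻¹) ((hmem _).2 (by rwa [show g⁻¹ * (g * k * g⁻¹) * g = k by group]))
    have := (Commute.conj_iff g⁻¹).2 h1
    simpa [mul_assoc] using this

namespace Frame

variable {C : Cfg} {z : G} (F : Frame C z)

theorem vc_one : F.vc 1 = 0 := by
  have h := F.vc_mul 1 (one_mem _) 1 (one_mem _)
  rw [one_mul, Nat.xor_self] at h
  exact h

theorem vc_inv {j : G} (hj : j ∈ F.J) : F.vc j⁻¹ = F.vc j := by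
  have h := F.vc_mul j hj _ (inv_mem hj)
  rw [mul_inv_cancel, F.vc_one] at h
  exact (Nat.xor_eq_zero_iff.1 h.symm).symm

theorem vc_conjJ {j k : G} (hj : j ∈ F.J) (hk : k ∈ F.J) : F.vc (k * j * k⁻¹) = F.vc j := by
  rw [F.vc_mul _ (mul_mem hk hj) _ (inv_mem hk), F.vc_mul _ hk _ hj, F.vc_inv hk, Nat.xor_comm (F.vc k),
    Nat.xor_assoc, Nat.xor_self, Nat.xor_zero]

theorem vc_eq {j k : G} (hj : j ∈ F.J) (hk : k ∈ F.J) (h : F.vc j = F.vc k) : k = j ∨ k = j * z := by
  rcases F.vc_zero _ (mul_mem (inv_mem hj) hk)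
    (by rw [F.vc_mul _ (inv_mem hj) _ hk, F.vc_inv hj, h, Nat.xor_self]) with e | e
  · exact Or.inl (inv_mul_eq_one.1 e).symm
  · exact Or.inr (inv_mul_eq_iff_eq_mul.1 e)

theorem z_comm {j : G} (hj : j ∈ F.J) : Commute z j := (F.ext.cz j hj).symm

theorem vc_mul_z {j : G} (hj : j ∈ F.J) : F.vc (j * z) = F.vc j := by
  rw [F.vc_mul _ hj _ F.ext.zJ, F.vc_z, Nat.xor_zero]

theorem κ_mul {h k : G} (hh : Commute h z) (hk : Commute k z) : F.κ (h * k) = cm (F.κ h) (F.κ k) := by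
  refine code_ext (F.κ_lt _) (cm_lt _ _) fun v hv => ?_
  obtain ⟨j, hj, rfl⟩ := F.vc_surj v hv
  rw [← F.act _ (hh.mul_left hk) j hj, ap_cm, ← F.act k hk j hj, ← F.act h hh _ (F.ext.norm k hk j hj)]
  congr 1
  group

theorem κ_mem {j : G} (hj : j ∈ F.J) : F.κ j = idc := by
  refine code_ext (F.κ_lt _) idc_lt fun v hv => ?_
  obtain ⟨k, hk, rfl⟩ := F.vc_surj v hv
  rw [← F.act j (F.ext.cz j hj) k hk, ap_idc hv, F.vc_conjJ hk hj]

theorem κ_one : F.κ 1 = idc := F.κ_mem (one_mem _)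

theorem κ_inv {h : G} (hh : Commute h z) : cm (F.κ h) (F.κ h⁻¹) = idc ∧ cm (F.κ h⁻¹) (F.κ h) = idc := by
  rw [← F.κ_mul hh hh.inv_left, ← F.κ_mul hh.inv_left hh, mul_inv_cancel, inv_mul_cancel, F.κ_one]
  exact ⟨rfl, rfl⟩

theorem κ_eq_iff {h k : G} (hh : Commute h z) (hk : Commute k z) : F.κ h = F.κ k ↔ h⁻¹ * k ∈ F.J := by
  constructor
  · intro e
    refine F.ker _ (hh.inv_left.mul_left hk) ?_
    rw [F.κ_mul hh.inv_left hk, ← e, (F.κ_inv hh).2]
  · intro hj
    rw [show k = h * (h⁻¹ * k) by group, F.κ_mul hh (hh.inv_left.mul_left hk), F.κ_mem hj,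
      cm_idc (F.κ_lt _)]

theorem κ_mulJ {h j : G} (hh : Commute h z) (hj : j ∈ F.J) : F.κ (h * j) = F.κ h := by
  rw [F.κ_mul hh (F.ext.cz j hj), F.κ_mem hj, cm_idc (F.κ_lt _)]

theorem κ_Jmul {h j : G} (hh : Commute h z) (hj : j ∈ F.J) : F.κ (j * h) = F.κ h := by
  rw [F.κ_mul (F.ext.cz j hj) hh, F.κ_mem hj, idc_cm (F.κ_lt _)]

include F in
theorem q_lt (v : ℕ) (hv : v < 256) : C.q v < 2 := q_lt_two F.std hv

theorem sq_one {j : G} (hj : j ∈ F.J) (h : C.q (F.vc j) = 0) : j * j = 1 := by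
  rw [F.sq j hj, h, if_neg (by norm_num)]

theorem sq_z {j : G} (hj : j ∈ F.J) (h : C.q (F.vc j) = 1) : j * j = z := by
  rw [F.sq j hj, h, if_pos rfl]

theorem q_of_sq {j : G} (hj : j ∈ F.J) (h : j * j = 1) : C.q (F.vc j) = 0 := by
  have h2 := F.q_lt _ (F.vc_lt j)
  by_contra hne
  exact F.ext.z1 ((F.sq_z hj (by omega)).symm.trans h)

theorem q_inv {h : G} (hh : Commute h z) {v : ℕ} (hv : v < 256) : C.q (ap (F.κ h) v) = C.q v := by
  obtain ⟨j, hj, rfl⟩ := F.vc_surj v hv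
  rw [← F.act h hh j hj]
  have hm := F.ext.norm h hh j hj
  have e1 : h * j * h⁻¹ * (h * j * h⁻¹) = h * (j * j) * h⁻¹ := by group
  have h1 := F.q_lt _ (F.vc_lt (h * j * h⁻¹))
  rcases (show C.q (F.vc j) = 0 ∨ C.q (F.vc j) = 1 by have := F.q_lt _ (F.vc_lt j); omega) with e | e
  · rw [F.sq_one hj e, mul_one, mul_inv_cancel] at e1
    rw [e, F.q_of_sq hm e1]
  · rw [F.sq_z hj e, mul_inv_eq_iff_eq_mul.2 hh.eq] at e1
    by_contra hne
    rw [F.sq_one hm (by omega)] at e1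
    exact F.ext.z1 e1.symm

include F in
theorem cform_lt {j k : G} (hj : j ∈ F.J) (hk : k ∈ F.J) : cform C (F.vc j) (F.vc k) < 2 := by
  have h := F.q_lt _ (xor_lt (F.vc_lt j) (F.vc_lt k))
  have h1 := F.q_lt _ (F.vc_lt j)
  have h2 := F.q_lt _ (F.vc_lt k)
  exact Nat.xor_lt_two_pow (n := 1) (Nat.xor_lt_two_pow (n := 1) h h1) h2

/-- The commutator is given by the form. -/
theorem comm_iff {j k : G} (hj : j ∈ F.J) (hk : k ∈ F.J) :
    Commute j k ↔ cform C (F.vc j) (F.vc k) = 0 := by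
  have hjk : j * k * (j * k) = if C.q (F.vc j ^^^ F.vc k) = 1 then z else 1 := by
    rw [← F.vc_mul j hj k hk]; exact F.sq _ (mul_mem hj hk)
  have hval : ∀ a : ℕ, a < 2 → a = 0 ∨ a = 1 := fun a ha => by omega
  rw [cform]
  rcases F.ext.cmt j hj k hk with e | e
  · have hc : Commute j k := by
      show j * k = k * j
      rw [mul_inv_eq_one] at e
      conv_rhs => rw [← e]
      group
    refine ⟨fun _ => ?_, fun _ => hc⟩
    rw [hc.symm.mul_mul_mul_comm, F.sq j hj, F.sq k hk] at hjk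
    rcases hval _ (F.q_lt _ (F.vc_lt j)) with a | a <;> rcases hval _ (F.q_lt _ (F.vc_lt k)) with b | b <;>
      rcases hval _ (F.q_lt _ (xor_lt (F.vc_lt j) (F.vc_lt k))) with c | c <;>
      simp [a, b, c, F.ext.z2, F.ext.z1, Ne.symm F.ext.z1] at hjk ⊢
  · refine ⟨fun hc => absurd ?_ F.ext.z1, fun h0 => absurd ?_ F.ext.z1⟩
    · rw [← e, hc.eq]; group
    have hkj : j * k = z * (k * j) := by rw [← e]; group
    have e2 : j * k * (j * k) = j * j * (k * k) * z := by
      calc j * k * (j * k) = j * (k * (j * k)) := by group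
        _ = j * (k * (z * (k * j))) := by rw [hkj]
        _ = j * (z * (k * k * j)) := by
          rw [← mul_assoc k z, ← (F.z_comm hk).eq]; group
        _ = j * (k * k * j) * z := by
          rw [(F.z_comm (mul_mem (mul_mem hk hk) hj)).eq]; group
        _ = j * j * (k * k) * z := by
          have : Commute (k * k) j := by
            rcases F.ext.sq k hk with a | a <;> rw [a]
            exacts [Commute.one_left _, F.z_comm hj]
          rw [this.eq]; group
    rw [e2, F.sq j hj, F.sq k hk] at hjk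
    rcases hval _ (F.q_lt _ (F.vc_lt j)) with a | a <;> rcases hval _ (F.q_lt _ (F.vc_lt k)) with b | b <;>
      rcases hval _ (F.q_lt _ (xor_lt (F.vc_lt j) (F.vc_lt k))) with c | c <;>
      simp [a, b, c, F.ext.z2, F.ext.z1, Ne.symm F.ext.z1] at hjk h0 ⊢

theorem comm_z {j k : G} (hj : j ∈ F.J) (hk : k ∈ F.J) (h : cform C (F.vc j) (F.vc k) = 1) :
    j * k * j⁻¹ * k⁻¹ = z := by
  rcases F.ext.cmt j hj k hk with e | e
  · exfalso
    have : Commute j k := by
      show j * k = k * j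
      rw [mul_inv_eq_one] at e
      conv_rhs => rw [← e]
      group
    rw [(F.comm_iff hj hk).1 this] at h
    exact absurd h (by norm_num)
  · exact e

include F in
theorem cform_xor {u v w : ℕ} (hu : u < 256) (hv : v < 256) (hw : w < 256) :
    cform C u (v ^^^ w) = cform C u v ^^^ cform C u w := by
  obtain ⟨i, hi, rfl⟩ := F.vc_surj u hu
  obtain ⟨j, hj, rfl⟩ := F.vc_surj v hv
  obtain ⟨k, hk, rfl⟩ := F.vc_surj w hw
  rw [← F.vc_mul j hj k hk]
  have hjk := mul_mem hj hk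
  have hval : ∀ a : ℕ, a < 2 → a = 0 ∨ a = 1 := fun a ha => by omega
  have e : i * (j * k) * i⁻¹ * (j * k)⁻¹ = i * j * i⁻¹ * j⁻¹ * (j * (i * k * i⁻¹ * k⁻¹) * j⁻¹) := by group
  have hz' : j * z * j⁻¹ = z := mul_inv_eq_iff_eq_mul.2 (F.ext.cz j hj).eq
  rcases hval _ (F.cform_lt hi hj) with a | a <;> rcases hval _ (F.cform_lt hi hk) with b | b <;>
    rcases hval _ (F.cform_lt hi hjk) with c | c <;> rw [a, b, c] <;> (try rfl) <;> exfalso
  all_goals
    have h1 := fun h => F.ext.z1 h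
    first
      | (have e1 := F.comm_z hi hjk c
         rw [e, show i * j * i⁻¹ * j⁻¹ = 1 by rw [((F.comm_iff hi hj).2 a).eq]; group,
           show i * k * i⁻¹ * k⁻¹ = 1 by rw [((F.comm_iff hi hk).2 b).eq]; group] at e1
         exact h1 (by rw [← e1]; group))
      | (have e1 := F.comm_z hi hjk c
         rw [e, F.comm_z hi hj a, F.comm_z hi hk b, hz', F.ext.z2] at e1
         exact h1 e1.symm)
      | (have e1 := (F.comm_iff hi hjk).2 c
         rw [show i * (j * k) * i⁻¹ * (j * k)⁻¹ = 1 by rw [e1.eq]; group, F.comm_z hi hj a,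
           show i * k * i⁻¹ * k⁻¹ = 1 by rw [((F.comm_iff hi hk).2 b).eq]; group] at e
         exact h1 (by rw [eq_comm] at e; rw [← e]; group))
      | (have e1 := (F.comm_iff hi hjk).2 c
         rw [show i * (j * k) * i⁻¹ * (j * k)⁻¹ = 1 by rw [e1.eq]; group, F.comm_z hi hk b,
           show i * j * i⁻¹ * j⁻¹ = 1 by rw [((F.comm_iff hi hj).2 a).eq]; group, one_mul, hz'] at e
         exact h1 e.symm)

include F in
theorem cform_zero_right {u : ℕ} (hu : u < 256) : cform C u 0 = 0 := by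
  obtain ⟨j, hj, rfl⟩ := F.vc_surj u hu
  conv_lhs => rw [← F.vc_one]
  exact (F.comm_iff hj (one_mem _)).1 (Commute.one_right j)

include F in
theorem cform_self {u : ℕ} (hu : u < 256) : cform C u u = 0 := by
  obtain ⟨j, hj, rfl⟩ := F.vc_surj u hu
  exact (F.comm_iff hj hj).1 (Commute.refl j)

include F in
theorem nondeg {u : ℕ} (hu : u < 256) (h : ∀ v < 256, cform C u v = 0) : u = 0 := by
  obtain ⟨j, hj, rfl⟩ := F.vc_surj u hu
  rcases F.ext.zc j hj (fun k hk => (F.comm_iff hj hk).2 (h _ (F.vc_lt k))) with rfl | rfl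
  exacts [F.vc_one, F.vc_z]

theorem lift_word : ∀ w : List ℕ, (∀ i ∈ w, i < 4) → ∃ h, Commute h z ∧ F.κ h = cw C.gens w
  | [], _ => ⟨1, Commute.one_left z, by rw [F.κ_one, cw_nil]⟩
  | i :: w, hw => by
    obtain ⟨g, hg, hge⟩ := F.gens i (hw i List.mem_cons_self)
    obtain ⟨h, hh, hhe⟩ := lift_word w fun a ha => hw a (List.mem_cons_of_mem _ ha)
    exact ⟨g * h, hg.mul_left hh, by rw [F.κ_mul hg hh, hge, hhe, cw_cons]⟩

/-- The coordinates at a conjugate. -/
def conj (g : G) : Frame C (g * z * g⁻¹) where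
  J := F.J.map (MulAut.conj g).toMonoidHom
  ext := F.ext.conj g
  vc := fun x => F.vc (g⁻¹ * x * g)
  κ := fun h => F.κ (g⁻¹ * h * g)
  std := F.std
  vc_lt := fun _ => F.vc_lt _
  vc_mul := fun j hj k hk => by
    rw [Subgroup.mem_map_equiv, MulAut.conj_symm_apply] at hj hk
    rw [← F.vc_mul _ hj _ hk]; congr 1; group
  vc_zero := fun j hj h => by
    rw [Subgroup.mem_map_equiv, MulAut.conj_symm_apply] at hj
    rcases F.vc_zero _ hj h with e | e
    · left; rw [show j = g * (g⁻¹ * j * g) * g⁻¹ by group, e]; group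
    · right; rw [show j = g * (g⁻¹ * j * g) * g⁻¹ by group, e]
  vc_z := by rw [show g⁻¹ * (g * z * g⁻¹) * g = z by group]; exact F.vc_z
  vc_surj := fun v hv => by
    obtain ⟨j, hj, rfl⟩ := F.vc_surj v hv
    exact ⟨g * j * g⁻¹, ⟨j, hj, rfl⟩, by rw [show g⁻¹ * (g * j * g⁻¹) * g = j by group]⟩
  sq := fun j hj => by
    rw [Subgroup.mem_map_equiv, MulAut.conj_symm_apply] at hj
    rw [show j * j = g * (g⁻¹ * j * g * (g⁻¹ * j * g)) * g⁻¹ by group, F.sq _ hj]
    split <;> group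
  κ_lt := fun _ => F.κ_lt _
  act := fun h hh j hj => by
    rw [Subgroup.mem_map_equiv, MulAut.conj_symm_apply] at hj
    have h1 : Commute (g⁻¹ * h * g) z := by
      have := (Commute.conj_iff g⁻¹).2 hh
      simpa [mul_assoc] using this
    rw [← F.act _ h1 _ hj]; congr 1; group
  gens := fun i hi => by
    obtain ⟨h, hh, he⟩ := F.gens i hi
    exact ⟨g * h * g⁻¹, (Commute.conj_iff g).2 hh, by rw [show g⁻¹ * (g * h * g⁻¹) * g = h by group]; exact he⟩
  ker := fun h hh he => by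
    rw [Subgroup.mem_map_equiv, MulAut.conj_symm_apply]
    refine F.ker _ ?_ he
    have := (Commute.conj_iff g⁻¹).2 hh
    simpa [mul_assoc] using this

end Frame

end Cfsg.Lib.U62Type
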