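import Cfsg.Agent.Lib.U62Type.Distance
import Cfsg.Agent.Lib.Small.SecRankFour.RadQuot

/-!
# The conjugates form a class of 3-transpositions generating the group
-/

set_option autoImplicit false
set_option linter.unusedSectionVars false
set_option linter.style.haveILetI false

namespace Cfsg.Lib.U62Type

open Cfsg.Lib.Fischer (perp)
open Cfsg.Lib.Fischer.Polar (ln)

variable {G : Type*} [Group G] [Finite G] {z a b : G}

theorem Uni.self_mem (hU : Uni z) : z ∈ mems z := Mem.refl z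

theorem exists_ncomm_code {i : ℕ} (hi : i < 45) : ∃ j < 45, cm (cl i) (cl j) ≠ cm (cl j) (cl i) := by
  have h := quad_ok
  simp only [quadChk, idx, Bool.and_eq_true, List.all_eq_true, List.any_eq_true, List.mem_range,
    Bool.not_eq_true'] at h
  obtain ⟨j, hj, hij⟩ := h.1.1 i hi
  exact ⟨j, hj, fun e => by rw [(adjB_iff hi hj).2 e] at hij; exact Bool.noConfusion hij⟩

/-- The centraliser lies in the subgroup generated. -/
theorem Uni.cent_le (hU : Uni z) {h : G} (hh : Commute h z) : h ∈ Subgroup.closure (mems z) := by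
  obtain ⟨F⟩ := hU.frame
  obtain ⟨N, hN⟩ : ∃ N, N = Subgroup.closure (mems z) := ⟨_, rfl⟩
  rw [← hN]
  have hmemN : ∀ t ∈ mems z, t ∈ N := fun t ht => hN ▸ Subgroup.subset_closure ht
  have hg := gen_ok
  simp only [genChk, idx, vecs, Bool.and_eq_true, List.all_eq_true, List.mem_range, Nat.blt_eq, nbeq_iff,
    List.contains_iff_mem] at hg
  obtain ⟨⟨hgen, hspan⟩, -⟩ := hg
  have hfold : ∀ l : List ℕ, (∀ i ∈ l, i < 45) →
      ∃ n ∈ N, Commute n z ∧ F.κ n = l.foldr (fun i k => cm (cl i) k) idc := by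
    intro l
    induction l with
    | nil => exact fun _ => ⟨1, one_mem _, Commute.one_left z, F.κ_one⟩
    | cons i l ih =>
      intro hl
      obtain ⟨n, hn, hnz, he⟩ := ih fun a ha => hl a (List.mem_cons_of_mem _ ha)
      obtain ⟨t, ht, hte⟩ := F.exists_code hU (hl i List.mem_cons_self)
      exact ⟨t * n, mul_mem (hmemN t ht.1) hn, ht.2.1.mul_left hnz,
        by rw [F.κ_mul ht.2.1 hnz, hte, he, List.foldr_cons]⟩
  have hwordN : ∀ w : List ℕ, (∀ i ∈ w, i < 4) → ∃ n ∈ N, Commute n z ∧ F.κ n = cw gensU w := by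
    intro w
    induction w with
    | nil => exact fun _ => ⟨1, one_mem _, Commute.one_left z, by rw [F.κ_one, cw_nil]⟩
    | cons g w ih =>
      intro hw
      obtain ⟨n, hn, hnz, he⟩ := ih fun a ha => hw a (List.mem_cons_of_mem _ ha)
      obtain ⟨m, hm, hmz, hme⟩ := hfold _ (hgen g (hw g List.mem_cons_self)).1
      exact ⟨m * n, mul_mem hm hn, hmz.mul_left hnz,
        by rw [F.κ_mul hmz hnz, hme, he, cw_cons, (hgen g (hw g List.mem_cons_self)).2]⟩
  have hJ : ∀ v < 256, ∃ j ∈ N, j ∈ F.J ∧ F.vc j = v := by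
    have hadd : ∀ {u v : ℕ}, (∃ j ∈ N, j ∈ F.J ∧ F.vc j = u) → (∃ j ∈ N, j ∈ F.J ∧ F.vc j = v) →
        ∃ j ∈ N, j ∈ F.J ∧ F.vc j = u ^^^ v := by
      rintro u v ⟨j, hj, hjJ, rfl⟩ ⟨k, hk, hkJ, rfl⟩
      exact ⟨j * k, mul_mem hj hk, mul_mem hjJ hkJ, F.vc_mul j hjJ k hkJ⟩
    have h0 : ∃ j ∈ N, j ∈ F.J ∧ F.vc j = 0 := ⟨1, one_mem _, one_mem _, F.vc_one⟩
    have hr : ∀ i < 45, ∀ r ∈ rT.getD i [], ∃ j ∈ N, j ∈ F.J ∧ F.vc j = r := by
      intro i hi r hr
      obtain ⟨v, hv, rfl⟩ := range_surj hi (List.mem_cons_of_mem _ hr)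
      obtain ⟨k, hk, rfl⟩ := F.vc_surj v hv
      obtain ⟨t, ht, hte⟩ := F.exists_code hU hi
      have hconj := F.ext.norm t ht.2.1 _ (inv_mem hk)
      refine ⟨t * k⁻¹ * t⁻¹ * k, ?_, mul_mem hconj hk, ?_⟩
      · rw [show t * k⁻¹ * t⁻¹ * k = t * (k⁻¹ * t⁻¹ * k) by group]
        refine mul_mem (hmemN t ht.1) (hmemN _ ?_)
        rw [hU.inv ht.1]
        show Mem z _
        simpa using ht.1.conj k⁻¹
      · rw [F.vc_mul _ hconj _ hk, F.act t ht.2.1 _ (inv_mem hk), F.vc_inv hk, hte]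
    have hpow : ∀ b < 8, ∃ j ∈ N, j ∈ F.J ∧ F.vc j = 2 ^ b := by
      intro b hb
      obtain ⟨h1, h2⟩ := hspan b hb
      rw [h2]
      generalize spanT.getD b [] = l at h1
      induction l with
      | nil => exact h0
      | cons p l ih =>
        rw [List.foldr_cons]
        exact hadd (hr p.1 (h1 p List.mem_cons_self).1 p.2 (h1 p List.mem_cons_self).2)
          (ih fun q hq => h1 q (List.mem_cons_of_mem _ hq))
    have hbit : ∀ (v i : ℕ), i < 8 → ∃ j ∈ N, j ∈ F.J ∧ F.vc j = bit v i * 2 ^ i := fun v i hi => by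
      rcases bit_cases v i with e | e <;> rw [e]
      · rw [zero_mul]; exact h0
      · rw [one_mul]; exact hpow i hi
    intro v hv
    rw [vec_eq v hv]
    exact hadd (hadd (hadd (hadd (hadd (hadd (hadd (hbit v 0 (by norm_num)) (hbit v 1 (by norm_num)))
      (hbit v 2 (by norm_num))) (hbit v 3 (by norm_num))) (hbit v 4 (by norm_num))) (hbit v 5 (by norm_num)))
      (hbit v 6 (by norm_num))) (hbit v 7 (by norm_num))
  obtain ⟨w, hw, hwe⟩ := F.word_code hU.card hh
  obtain ⟨n, hn, hnz, hne⟩ := hwordN w hw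
  have hj : n⁻¹ * h ∈ F.J := (F.κ_eq_iff hnz hh).1 (hne.trans hwe.symm)
  obtain ⟨j, hjN, hjJ, hje⟩ := hJ _ (F.vc_lt (n⁻¹ * h))
  have hin : n⁻¹ * h ∈ N := by
    rcases F.vc_eq hjJ hj hje with e | e <;> rw [e]
    exacts [hjN, mul_mem hjN (hmemN z hU.self_mem)]
  have := mul_mem hn hin
  rwa [mul_inv_cancel_left] at this

/-- The conjugates are conjugate in the subgroup they generate. -/
theorem Uni.trans_closure (hU : Uni z) (ha : a ∈ mems z) :
    ∃ n ∈ Subgroup.closure (mems z), n * z * n⁻¹ = a := by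
  have hbraid : ∀ {x y e : G}, e ∈ mems z → x ∈ perp (mems z) e → y ∈ perp (mems z) e → ¬ Commute x y →
      ∃ n ∈ Subgroup.closure (mems z), n * x * n⁻¹ = y := by
    intro x y e he hx hy hn
    refine ⟨x * y, mul_mem (Subgroup.subset_closure hx.1) (Subgroup.subset_closure hy.1), ?_⟩
    rw [mul_inv_rev, hU.inv hx.1, hU.inv hy.1, ← mul_assoc, hU.braid he hx hy hn, mul_assoc (y * x) y y, hU.sq hy.1,
      mul_one, mul_assoc, hU.sq hx.1, mul_one]
  have h := hU.linked hU.self_mem ha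
  induction h with
  | refl => exact ⟨1, one_mem _, by simp⟩
  | @tail u v _ huv ih =>
    obtain ⟨huv, hu⟩ := huv
    obtain ⟨n, hn, rfl⟩ := ih hu
    obtain ⟨c, d, f, hnd, hmem, -⟩ := hU.line hu huv
    have hc : c ∈ ln (mems z) (n * z * n⁻¹) v := (hmem c).2 (by simp)
    simp only [List.nodup_cons, List.mem_cons, List.not_mem_nil, or_false, not_or] at hnd
    have hc' : c ≠ n * z * n⁻¹ := Ne.symm hnd.1.2.1
    have hcv : c ≠ v := Ne.symm hnd.2.1.1
    have hUc := hU.move hc.1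
    obtain ⟨F⟩ := hUc.frame
    have hun : n * z * n⁻¹ ∈ perp (mems z) c :=
      ⟨hu, hc'.symm, (hU.ln_perp hu huv hc hc').2.2.symm⟩
    have hu' := (nb_iff_perp hc.1).2 hun
    have hvin : v ∈ ln (mems z) c (n * z * n⁻¹) := by
      rw [Cfsg.Lib.Fischer.Polar.ln_comm, hU.ln_eq_left hu huv hc hc']
      exact Cfsg.Lib.Fischer.Polar.right_mem huv.1
    rw [← mems_eq hc.1, F.ln_at hUc hu'] at hvin
    obtain ⟨hv', hve⟩ := hvin.resolve_left hcv.symm
    obtain ⟨i, hi, hie⟩ := F.nb_code hUc hu'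
    obtain ⟨j, hj, hij⟩ := exists_ncomm_code hi
    obtain ⟨x, hx, hxe⟩ := F.exists_code hUc hj
    have hxp := (nb_iff_perp hc.1).1 hx
    obtain ⟨m₁, hm₁, e₁⟩ := hbraid hc.1 hun hxp
      (fun h => hij (by rw [← hie, ← hxe]; exact (F.comm_iff_code hUc hu' hx).1 h))
    obtain ⟨m₂, hm₂, e₂⟩ := hbraid hc.1 hxp ((nb_iff_perp hc.1).1 hv')
      (fun h => hij (by rw [← hie, ← hxe, ← hve]; exact (F.comm_iff_code hUc hv' hx).1 h.symm))
    exact ⟨m₂ * m₁ * n, mul_mem (mul_mem hm₂ hm₁) hn, by rw [← e₂, ← e₁]; group⟩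

theorem Uni.gen (hU : Uni z) : Subgroup.closure (mems z) = ⊤ := by
  rw [eq_top_iff]
  intro g _
  obtain ⟨n, hn, hne⟩ := hU.trans_closure (mem_conj hU.self_mem g)
  have h : Commute (n⁻¹ * g) z := by
    refine mul_inv_eq_iff_eq_mul.1 ?_
    calc n⁻¹ * g * z * (n⁻¹ * g)⁻¹ = n⁻¹ * (g * z * g⁻¹) * n := by group
      _ = z := by rw [← hne]; group
  have := mul_mem hn (hU.cent_le h)
  rwa [mul_inv_cancel_left] at this

theorem Uni.perfect (hU : Uni z) : commutator G = ⊤ := by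
  obtain ⟨F⟩ := hU.frame
  obtain ⟨j, hj, hjv⟩ := F.vc_surj 1 (by norm_num)
  obtain ⟨v, hv, hne⟩ : ∃ v < 256, cform cfgU (F.vc j) v ≠ 0 := by
    by_contra h
    push Not at h
    have := F.nondeg (F.vc_lt j) h
    omega
  obtain ⟨k, hk, rfl⟩ := F.vc_surj v hv
  have hlt := F.cform_lt hj hk
  have hz : z ∈ commutator G := by
    rw [← F.comm_z hj hk (by omega), commutator_eq_closure]
    exact Subgroup.subset_closure ⟨j, k, rfl⟩
  rw [eq_top_iff, ← hU.gen, Subgroup.closure_le]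
  rintro a ⟨g, rfl⟩
  exact (inferInstance : (commutator G).Normal).conj_mem z hz g

/-- Two commuting conjugates have no product in an abelian normal subgroup. -/
theorem Uni.no_pair_abelian (hU : Uni z) {A : Subgroup G} [hA : A.Normal]
    (hab : ∀ x ∈ A, ∀ y ∈ A, Commute x y) (ha : a ∈ mems z) (hb : b ∈ perp (mems z) a) : a * b ∉ A := by
  intro h
  have hUa := hU.move ha
  obtain ⟨F⟩ := hUa.frame
  have hb' := (nb_iff_perp ha).2 hb
  obtain ⟨i, hi, hie⟩ := F.nb_code hUa hb'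
  obtain ⟨j, hj, hij⟩ := exists_ncomm_code hi
  obtain ⟨x, hx, hxe⟩ := F.exists_code hUa hj
  have hxp := (nb_iff_perp ha).1 hx
  have hn : ¬ Commute b x := fun h => hij (by rw [← hie, ← hxe]; exact (F.comm_iff_code hUa hb' hx).1 h)
  obtain ⟨y, hy⟩ : ∃ y, y = x * b * x := ⟨_, rfl⟩
  have hyp : y ∈ perp (mems z) a := by
    refine (nb_iff_perp ha).1 ?_
    have := hb'.conj hx.2.1
    rwa [hU.inv hxp.1, ← hy] at this
  have h2 : a * y ∈ A := by
    have := hA.conj_mem _ h x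
    rwa [show x * (a * b) * x⁻¹ = a * (x * b * x⁻¹) by rw [← mul_assoc x, ← hxp.2.2.eq]; group, hU.inv hxp.1,
      ← hy] at this
  have hc := (hab _ h _ h2).eq
  rw [hb.2.2.symm.mul_mul_mul_comm, hyp.2.2.symm.mul_mul_mul_comm] at hc
  have hby : Commute b y := mul_left_cancel hc
  apply hn
  have hbr : b * x * b = y := by rw [hy]; exact hU.braid ha hb hxp hn
  have h3 := hby.eq
  rw [← hbr, show b * (b * x * b) = b * b * (x * b) by simp only [mul_assoc], hU.sq hb.1, one_mul,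
    mul_assoc (b * x) b b, hU.sq hb.1, mul_one] at h3
  exact h3.symm

theorem Uni.no_abelian (hU : Uni z) {A : Subgroup G} [hA : A.Normal] (hab : ∀ x ∈ A, ∀ y ∈ A, Commute x y) :
    A = ⊥ := by
  rw [Subgroup.eq_bot_iff_forall]
  by_contra h
  push Not at h
  obtain ⟨a, ha, ha1⟩ := h
  obtain ⟨d, hd, hnc⟩ : ∃ d ∈ mems z, ¬ Commute a d := by
    by_contra hall
    push Not at hall
    have hcent : ∀ g : G, Commute a g := fun g => by
      have hg : g ∈ Subgroup.closure (mems z) := hU.gen ▸ Subgroup.mem_top g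
      induction hg using Subgroup.closure_induction with
      | mem d hd => exact hall d hd
      | one => exact Commute.one_right a
      | mul u v _ _ hu hv => exact hu.mul_right hv
      | inv u _ hu => exact hu.inv_right
    obtain ⟨F⟩ := hU.frame
    have haJ := F.ext.self a (hcent z) fun j _ => hcent j
    rcases F.ext.zc a haJ fun j _ => hcent j with e | e
    · exact ha1 e
    obtain ⟨t, ⟨g, hg⟩, -, hne⟩ := hU.more
    subst e
    exact hne (hg.symm.trans (by rw [← (hcent g).eq, mul_inv_cancel_right]))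
  obtain ⟨x, hx, rfl⟩ : ∃ x ∈ mems z, x = a * d * a⁻¹ := ⟨_, mem_conj hd a, rfl⟩
  have hxd : d * (a * d * a⁻¹) ∈ A := by
    rw [show d * (a * d * a⁻¹) = d * a * d * a⁻¹ by group]
    refine mul_mem ?_ (inv_mem ha)
    have := hA.conj_mem a ha d
    rwa [hU.inv hd] at this
  have hne : a * d * a⁻¹ ≠ d := fun e => hnc (mul_inv_eq_iff_eq_mul.1 e)
  by_cases hc : Commute d (a * d * a⁻¹)
  · exact hU.no_pair_abelian hab hd ⟨hx, hne, hc⟩ hxd
  obtain ⟨y, hy⟩ : ∃ y, y = a * d * a⁻¹ := ⟨_, rfl⟩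
  rw [← hy] at hx hxd hne hc
  obtain ⟨c, hcd, hyc⟩ := (hU.near hd hx).resolve_left hc
  have hUc := hU.move hcd.1
  obtain ⟨F⟩ := hUc.frame
  have hdp : d ∈ perp (mems z) c := ⟨hd, hcd.2.1.symm, hcd.2.2.symm⟩
  have hyp : y ∈ perp (mems z) c := ⟨hx, fun e => hc (e ▸ hcd.2.2), hyc.symm⟩
  have hdn := (nb_iff_perp hcd.1).2 hdp
  have hyn := (nb_iff_perp hcd.1).2 hyp
  obtain ⟨i, hi, hie⟩ := F.nb_code hUc hdn
  obtain ⟨j, hj, hje⟩ := F.nb_code hUc hyn
  have hs := split_ok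
  simp only [splitChk, idx, List.all_eq_true, List.any_eq_true, List.mem_range, Bool.or_eq_true, Bool.and_eq_true,
    Bool.not_eq_true'] at hs
  rcases hs i hi j hj with e | ⟨k, hk, ⟨hki, hik⟩, hjk⟩
  · exact hc (F.comm_of_code hUc hdn hyn (by rw [hie, hje]; exact (adjB_iff hi hj).1 e))
  obtain ⟨w, hw, hwe⟩ := F.exists_code hUc hk
  have hwp := (nb_iff_perp hcd.1).1 hw
  have hwd : Commute w d := F.comm_of_code hUc hw hdn (by rw [hwe, hie]; exact ((adjB_iff hi hk).1 hik).symm)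
  have hwy : ¬ Commute w y := fun h => by
    rw [(adjB_iff hj hk).2 (by rw [← hwe, ← hje]; exact ((F.comm_iff_code hUc hw hyn).1 h).symm)] at hjk
    exact Bool.noConfusion hjk
  have hwd' : w ≠ d := fun e => by
    have : cl k = cl i := by rw [← hwe, ← hie, e]
    rw [nbeq_iff.2 (cl_inj k hk i hi this)] at hki
    exact Bool.noConfusion hki
  -- the product of `d` and `w` lands in the subgroup
  have h2 : d * (y * w * y) ∈ A := by
    have := hA.conj_mem _ hxd w
    rwa [show w * (d * y) * w⁻¹ = w * d * (y * w⁻¹) by group, hwd.eq, hU.inv hwp.1,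
      show d * w * (y * w) = d * (w * y * w) by simp only [mul_assoc], hU.braid hcd.1 hwp hyp hwy] at this
  have h3 : w * y ∈ A := by
    have h4 := mul_mem (inv_mem hxd) h2
    rwa [mul_inv_rev, mul_assoc, inv_mul_cancel_left, hU.inv hx,
      show y * (y * w * y) = y * y * (w * y) by simp only [mul_assoc], hU.sq hx, one_mul] at h4
  refine hU.no_pair_abelian hab hd ⟨hwp.1, hwd', hwd.symm⟩ ?_
  have := mul_mem hxd (inv_mem h3)
  rwa [mul_inv_rev, ← mul_assoc, mul_inv_cancel_right, hU.inv hwp.1] at this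

theorem Uni.no_solvable (hU : Uni z) {N : Subgroup G} (hN : N.Normal) (hs : Group.IsSolvable N) : N = ⊥ := by
  by_contra hne
  obtain ⟨q, M, -, hM, hM1, hMc, -⟩ := Cfsg.Lib.Small.SecRankFour.exists_abelian_normal hN hne hs
  haveI := hM
  exact hM1 (hU.no_abelian (A := M) fun x hx y hy =>
    congrArg Subtype.val (hMc.is_comm.comm (⟨x, hx⟩ : M) ⟨y, hy⟩))

end Cfsg.Lib.U62Type
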