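import Mathlib

/-!
# Linear maps of an eight-dimensional binary space as numbers

A vector is a number below `256`, a linear map the number with the eight images of the basis as bytes.
-/

set_option autoImplicit false

namespace Cfsg.Lib.U62Type

/-- The image of the `i`th basis vector. -/
def byte (k i : ℕ) : ℕ := (k >>> (8 * i)) &&& 255

/-- The `i`th coordinate. -/
def bit (v i : ℕ) : ℕ := (v >>> i) &&& 1

/-- The value of a map. -/
def ap (k v : ℕ) : ℕ :=
  bit v 0 * byte k 0 ^^^ bit v 1 * byte k 1 ^^^ bit v 2 * byte k 2 ^^^ bit v 3 * byte k 3 ^^^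
    bit v 4 * byte k 4 ^^^ bit v 5 * byte k 5 ^^^ bit v 6 * byte k 6 ^^^ bit v 7 * byte k 7

/-- The map with given images of the basis. -/
def mkc (f : ℕ → ℕ) : ℕ :=
  f 0 + 256 * f 1 + 65536 * f 2 + 16777216 * f 3 + 4294967296 * f 4 + 1099511627776 * f 5 +
    281474976710656 * f 6 + 72057594037927936 * f 7

/-- The product, the right factor acting first. -/
def cm (k l : ℕ) : ℕ := mkc fun i => ap k (byte l i)

/-- The identity. -/
def idc : ℕ := mkc fun i => 2 ^ i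

/-- The vectors. -/
def vecs : List ℕ := List.range 256

theorem byte_eq (k i : ℕ) : byte k i = k / 2 ^ (8 * i) % 256 := by
  rw [byte, Nat.shiftRight_eq_div_pow, show (255 : ℕ) = 2 ^ 8 - 1 by norm_num, Nat.and_two_pow_sub_one_eq_mod]

theorem byte_lt (k i : ℕ) : byte k i < 256 := by
  rw [byte_eq]; exact Nat.mod_lt _ (by norm_num)

theorem byte_mkc {f : ℕ → ℕ} (hf : ∀ i < 8, f i < 256) {i : ℕ} (hi : i < 8) : byte (mkc f) i = f i := by
  have h0 := hf 0 (by norm_num)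
  have h1 := hf 1 (by norm_num)
  have h2 := hf 2 (by norm_num)
  have h3 := hf 3 (by norm_num)
  have h4 := hf 4 (by norm_num)
  have h5 := hf 5 (by norm_num)
  have h6 := hf 6 (by norm_num)
  have h7 := hf 7 (by norm_num)
  rw [byte_eq, mkc]
  interval_cases i <;> norm_num <;> omega

theorem mkc_byte {k : ℕ} (hk : k < 2 ^ 64) : mkc (byte k) = k := by
  simp only [mkc, byte_eq]
  norm_num at hk ⊢
  omega

theorem mkc_congr {f g : ℕ → ℕ} (h : ∀ i < 8, f i = g i) : mkc f = mkc g := by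
  simp only [mkc, h 0 (by norm_num), h 1 (by norm_num), h 2 (by norm_num), h 3 (by norm_num), h 4 (by norm_num),
    h 5 (by norm_num), h 6 (by norm_num), h 7 (by norm_num)]

theorem mkc_lt {f : ℕ → ℕ} (hf : ∀ i < 8, f i < 256) : mkc f < 2 ^ 64 := by
  have h0 := hf 0 (by norm_num)
  have h1 := hf 1 (by norm_num)
  have h2 := hf 2 (by norm_num)
  have h3 := hf 3 (by norm_num)
  have h4 := hf 4 (by norm_num)
  have h5 := hf 5 (by norm_num)
  have h6 := hf 6 (by norm_num)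
  have h7 := hf 7 (by norm_num)
  rw [mkc]
  norm_num
  omega

theorem bit_cases (v i : ℕ) : bit v i = 0 ∨ bit v i = 1 := by
  rw [bit, show (1 : ℕ) = 2 ^ 1 - 1 by norm_num, Nat.and_two_pow_sub_one_eq_mod]
  omega

theorem bit_mul_xor (u v i x : ℕ) : bit (u ^^^ v) i * x = bit u i * x ^^^ bit v i * x := by
  have h : bit (u ^^^ v) i = bit u i ^^^ bit v i := by
    rw [bit, bit, bit, Nat.shiftRight_xor_distrib, Nat.and_xor_distrib_right]
  rw [h]
  rcases bit_cases u i with e | e <;> rcases bit_cases v i with e' | e' <;> simp [e, e']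

theorem bit_mul_lt {x : ℕ} (hx : x < 256) (v i : ℕ) : bit v i * x < 256 := by
  rcases bit_cases v i with e | e <;> simp [e, hx]

theorem xor_lt {a b : ℕ} (ha : a < 256) (hb : b < 256) : a ^^^ b < 256 :=
  Nat.xor_lt_two_pow (n := 8) ha hb

theorem ap_lt (k v : ℕ) : ap k v < 256 :=
  xor_lt (xor_lt (xor_lt (xor_lt (xor_lt (xor_lt (xor_lt (bit_mul_lt (byte_lt _ _) _ _)
    (bit_mul_lt (byte_lt _ _) _ _)) (bit_mul_lt (byte_lt _ _) _ _)) (bit_mul_lt (byte_lt _ _) _ _))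
    (bit_mul_lt (byte_lt _ _) _ _)) (bit_mul_lt (byte_lt _ _) _ _)) (bit_mul_lt (byte_lt _ _) _ _))
    (bit_mul_lt (byte_lt _ _) _ _)

theorem xor4 (a b c d : ℕ) : (a ^^^ b) ^^^ (c ^^^ d) = (a ^^^ c) ^^^ (b ^^^ d) := by
  rw [Nat.xor_assoc, Nat.xor_assoc, ← Nat.xor_assoc b c d, Nat.xor_comm b c, Nat.xor_assoc]

theorem ap_xor (k u v : ℕ) : ap k (u ^^^ v) = ap k u ^^^ ap k v := by
  simp only [ap, bit_mul_xor]
  simp only [← xor4]

theorem ap_zero (k : ℕ) : ap k 0 = 0 := by simp [ap, bit]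

theorem ap_bit_mul (k v i x : ℕ) : ap k (bit v i * x) = bit v i * ap k x := by
  rcases bit_cases v i with e | e <;> simp [e, ap_zero]

theorem ap_pow {i : ℕ} (hi : i < 8) (k : ℕ) : ap k (2 ^ i) = byte k i := by
  interval_cases i <;> simp [ap, bit]

theorem ap_cm (k l v : ℕ) : ap (cm k l) v = ap k (ap l v) := by
  have hb : ∀ i < 8, byte (cm k l) i = ap k (byte l i) := fun i hi =>
    byte_mkc (fun j _ => ap_lt _ _) hi
  conv_lhs => rw [ap, hb 0 (by norm_num), hb 1 (by norm_num), hb 2 (by norm_num), hb 3 (by norm_num),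
    hb 4 (by norm_num), hb 5 (by norm_num), hb 6 (by norm_num), hb 7 (by norm_num)]
  conv_rhs => rw [show ap l v = bit v 0 * byte l 0 ^^^ bit v 1 * byte l 1 ^^^ bit v 2 * byte l 2 ^^^
    bit v 3 * byte l 3 ^^^ bit v 4 * byte l 4 ^^^ bit v 5 * byte l 5 ^^^ bit v 6 * byte l 6 ^^^
    bit v 7 * byte l 7 from rfl]
  simp only [ap_xor, ap_bit_mul]

theorem cm_lt (k l : ℕ) : cm k l < 2 ^ 64 := mkc_lt fun _ _ => ap_lt _ _

theorem vec_eq : ∀ v < 256, v = bit v 0 * 1 ^^^ bit v 1 * 2 ^^^ bit v 2 * 4 ^^^ bit v 3 * 8 ^^^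
    bit v 4 * 16 ^^^ bit v 5 * 32 ^^^ bit v 6 * 64 ^^^ bit v 7 * 128 := by
  decide +kernel

theorem ap_idc {v : ℕ} (hv : v < 256) : ap idc v = v := by
  conv_rhs => rw [vec_eq v hv]
  rfl

/-- Two maps agreeing on all vectors are equal. -/
theorem code_ext {k l : ℕ} (hk : k < 2 ^ 64) (hl : l < 2 ^ 64) (h : ∀ v < 256, ap k v = ap l v) : k = l := by
  rw [← mkc_byte hk, ← mkc_byte hl]
  refine mkc_congr fun i hi => ?_
  rw [← ap_pow hi, ← ap_pow hi]
  exact h _ (lt_of_lt_of_le (Nat.pow_lt_pow_right (by norm_num) hi) le_rfl)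

theorem cm_idc {k : ℕ} (hk : k < 2 ^ 64) : cm k idc = k := by
  refine code_ext (cm_lt _ _) hk fun v hv => ?_
  rw [ap_cm, ap_idc hv]

theorem idc_cm {k : ℕ} (hk : k < 2 ^ 64) : cm idc k = k := by
  refine code_ext (cm_lt _ _) hk fun v _ => ?_
  rw [ap_cm, ap_idc (ap_lt _ _)]

theorem cm_assoc (k l m : ℕ) : cm (cm k l) m = cm k (cm l m) := by
  refine code_ext (cm_lt _ _) (cm_lt _ _) fun v _ => ?_
  simp only [ap_cm]

/-- Words read from the left. -/
def cw (gs : List ℕ) (w : List ℕ) : ℕ := w.foldr (fun i k => cm (gs.getD i 0) k) idc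

end Cfsg.Lib.U62Type
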