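import Cfsg.Agent.Lib.U62Type.Code

/-!
# The three possible actions of PSp₄(3) on the central quotient of the extraspecial group

The unitary one, and the two orthogonal ones in which a plane is centralised, hyperbolic or elliptic.
-/

set_option autoImplicit false

namespace Cfsg.Lib.U62Type

/-- A coordinate pair is nonzero. -/
def nz (v i : ℕ) : ℕ := bit v (2 * i) ||| bit v (2 * i + 1)

/-- The number of nonzero pairs modulo two. -/
def qU (v : ℕ) : ℕ := nz v 0 ^^^ nz v 1 ^^^ nz v 2 ^^^ nz v 3

/-- Three elliptic planes and a hyperbolic one. -/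
def qP (v : ℕ) : ℕ := nz v 0 ^^^ nz v 1 ^^^ nz v 2 ^^^ (bit v 6 &&& bit v 7)

/-- A form and four maps. -/
structure Cfg where
  q : ℕ → ℕ
  gens : List ℕ

/-- The generators of U₄(2) on its natural module. -/
def gensU : List ℕ := [9241421688523719426, 9241421688489445380, 144537675956750340, 3032481955784534100]

/-- The generators of Ω₆⁻(2), centralising a plane. -/
def gensP : List ℕ := [9241439349563195905, 9241399647490015745, 9241388638884081680, 9241427186433660417]

/-- The unitary action. -/
def cfgU : Cfg := ⟨qU, gensU⟩

/-- The orthogonal action with a hyperbolic fixed plane. -/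
def cfgP : Cfg := ⟨qP, gensP⟩

/-- The orthogonal action with an elliptic fixed plane. -/
def cfgM : Cfg := ⟨qU, gensP⟩

/-- The alternating form of a quadratic form on the vectors. -/
def cform (C : Cfg) (u v : ℕ) : ℕ := C.q (u ^^^ v) ^^^ C.q u ^^^ C.q v

end Cfsg.Lib.U62Type
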