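import Cfsg.Agent.Lib.U62Type.LinePairs
import Cfsg.Agent.Lib.Fischer.FromCent.Connected

/-!
# The commuting graph is connected
-/

set_option autoImplicit false
set_option linter.unusedSectionVars false
set_option linter.style.haveILetI false

namespace Cfsg.Lib.U62Type

open Cfsg.Lib.Fischer (perp)
open Cfsg.Lib.Fischer.Polar (ln com)
open Cfsg.Lib.Fischer.FromCent (Linked IsPair linked_of_commute)

variable {G : Type*} [Group G] [Finite G] {z a b r s x p : G}

theorem Uni.commute_line (hU : Uni z) (hr : r ∈ mems z) (hs : s ∈ perp (mems z) r) {e f : G}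
    (he : e ∈ ln (mems z) r s) (hf : f ∈ ln (mems z) r s) : Commute e f := by
  by_cases h : e = f
  · rw [h]
  · exact (hU.ln_eq hr hs he hf h).1.2.2

theorem Uni.pair_sq (hU : Uni z) (hr : r ∈ mems z) (hs : s ∈ perp (mems z) r) : r * s * (r * s) = 1 := by
  rw [hs.2.2.symm.mul_mul_mul_comm, hU.sq hr, hU.sq hs.1, mul_one]

/-- Three points of a line multiply to a pair. -/
theorem Uni.three_on_line (hU : Uni z) (hr : r ∈ mems z) (hs : s ∈ perp (mems z) r) {e : G}
    (he : e ∈ ln (mems z) r s) (her : e ≠ r) (hes : e ≠ s) : IsPair (mems z) (r * s * e) := by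
  obtain ⟨c, d, f, hnd, hmem, hprod⟩ := hU.line hr hs
  simp only [List.nodup_cons, List.mem_cons, List.not_mem_nil, or_false, not_or, List.nodup_nil, and_true,
    not_false_eq_true] at hnd
  obtain ⟨-, -, ⟨hcd, hcf⟩, hdf⟩ := hnd
  have hL : ∀ q ∈ [r, s, c, d, f], q ∈ ln (mems z) r s := fun q hq => (hmem q).2 hq
  have hc : ∀ q ∈ [r, s, c, d, f], ∀ q' ∈ [r, s, c, d, f], Commute q q' := fun q hq q' hq' =>
    hU.commute_line hr hs (hL q hq) (hL q' hq')
  have hi : ∀ q ∈ [r, s, c, d, f], q⁻¹ = q := fun q hq => hU.inv (hL q hq).1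
  have key : ∀ e' g h : G, g ∈ [r, s, c, d, f] → h ∈ [r, s, c, d, f] → h ≠ g → r * s * e' * g * h = 1 →
      IsPair (mems z) (r * s * e') := by
    intro e' g h hg hh hne h1
    refine ⟨h, (hL h hh).1, g, ⟨(hL g hg).1, hne.symm, hc h hh g hg⟩, ?_⟩
    rw [mul_assoc] at h1
    rw [eq_inv_of_mul_eq_one_left h1, mul_inv_rev, hi h hh, hi g hg]
  rw [hmem] at he
  simp only [List.mem_cons, List.not_mem_nil, or_false] at he
  rcases he with rfl | rfl | rfl | rfl | rfl
  · exact absurd rfl her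
  · exact absurd rfl hes
  · exact key _ d f (by simp) (by simp) (Ne.symm hdf) hprod
  · refine key _ c f (by simp) (by simp) (Ne.symm hcf) ?_
    rw [mul_assoc (r * s) _ c, (hc e (by simp) c (by simp)).eq, ← mul_assoc]
    exact hprod
  · refine key _ c d (by simp) (by simp) (Ne.symm hcd) ?_
    rw [mul_assoc (r * s * e) c d, mul_assoc (r * s) e (c * d),
      ((hc e (by simp) c (by simp)).mul_right (hc e (by simp) d (by simp))).eq, ← mul_assoc, ← mul_assoc]
    exact hprod

/-- The group fixing a pair fixes a point of its line. -/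
theorem Uni.fixed_of_pair (hU : Uni z) (hr : r ∈ mems z) (hs : s ∈ perp (mems z) r) {U : Subgroup G}
    (hsq : ∀ u ∈ U, u * u = 1) (hpU : ∀ u ∈ U, Commute u (r * s)) :
    ∃ e ∈ ln (mems z) r s, ∀ u ∈ U, Commute u e := by
  refine hU.fixed_point hr hs hsq fun u hu q hq => ?_
  have h := ln_conj u hq
  rcases hU.cent_pair hr hs (hpU u hu) with ⟨h1, h2⟩ | ⟨h1, h2⟩ <;> rw [h1, h2] at h
  · exact h
  · rwa [Cfsg.Lib.Fischer.Polar.ln_comm] at h

theorem linked_line (hr : r ∈ mems z) (hs : s ∈ perp (mems z) r) {e : G} (he : e ∈ ln (mems z) r s) :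
    Linked (mems z) r e :=
  linked_of_commute hr he.1 (he.2 r ⟨hr, Commute.refl r, hs.2.2.symm⟩).symm

theorem Uni.linked_pair (hU : Uni z) (hx : x ∈ mems z) (hr : r ∈ mems z) (hs : s ∈ perp (mems z) r)
    (h : Commute x (r * s)) : Linked (mems z) r x :=
  linked_of_commute hr hx (hU.member_commute_pair hr hs hx h).1.symm

theorem Uni.pair_notMem (hU : Uni z) (hr : r ∈ mems z) (hs : s ∈ perp (mems z) r) : r * s ∉ mems z :=
  hU.pair_nmem hr hs

/-- An involution commuting with a pair and with a member apart from it is neither member nor pair. -/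
theorem Uni.neither (hU : Uni z) {k : G} (hk : k * k = 1) (hr : r ∈ mems z) (hs : s ∈ perp (mems z) r)
    (hx : x ∈ mems z) (hkp : Commute k (r * s)) (hkx : Commute k x) (hfar : ¬ Linked (mems z) r x) :
    k ∉ mems z ∧ ¬ IsPair (mems z) k := by
  refine ⟨fun hkD => hfar ((hU.linked_pair hkD hr hs hkp).trans (linked_of_commute hkD hx hkx)), ?_⟩
  rintro ⟨r', hr', s', hs', rfl⟩
  refine hfar (Cfsg.Lib.Fischer.FromCent.Linked.trans ?_ (hU.linked_pair hx hr' hs' hkx.symm))
  obtain ⟨e, he, hfix⟩ := hU.fixed_of_pair hr hs (U := Subgroup.zpowers (r' * s'))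
    (fun u hu => by rcases mem_zpowers_invol hk hu with rfl | rfl; exacts [one_mul 1, hk])
    (fun u hu => by rcases mem_zpowers_invol hk hu with rfl | rfl; exacts [Commute.one_left _, hkp])
  exact (linked_line hr hs he).trans
    (hU.linked_pair he.1 hr' hs' (hfix _ (Subgroup.mem_zpowers _)).symm).symm

/-- A group apart: free of members and of pairs, fixing a member and a pair not linked to it. -/
def Apart (z : G) (U : Subgroup G) : Prop :=
  (∀ u ∈ U, u * u = 1) ∧ (∀ u ∈ U, u ≠ 1 → u ∉ mems z ∧ ¬ IsPair (mems z) u) ∧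
    ∃ x ∈ mems z, (∀ u ∈ U, Commute u x) ∧ ∃ r ∈ mems z, ∃ s ∈ perp (mems z) r,
      (∀ u ∈ U, Commute u (r * s)) ∧ ¬ Linked (mems z) r x

theorem comm_of_sq {U : Subgroup G} (hU : ∀ u ∈ U, u * u = 1) {u v : G} (hu : u ∈ U) (hv : v ∈ U) :
    Commute u v := by
  have e : ∀ w ∈ U, w⁻¹ = w := fun w hw => inv_eq_of_mul_eq_one_right (hU w hw)
  show u * v = v * u
  rw [← e _ (U.mul_mem hu hv), mul_inv_rev, e u hu, e v hv]

/-- Four divides the number of other points in a clique that is closed under lines. -/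
theorem Uni.clique_card [DecidableEq G] (hU : Uni z) {y : G} (hy : y ∈ mems z) (X : Finset G)
    (hX : ∀ q ∈ X, q ∈ mems z ∧ Commute q y) (hline : ∀ q ∈ X, q ≠ y → ∀ p ∈ ln (mems z) y q, p ∈ X) :
    4 ∣ (X.erase y).card := by
  have hUy := hU.move hy
  obtain ⟨F⟩ := hUy.frame
  have hN : ∀ q ∈ X.erase y, Nb y q := fun q hq => by
    rw [Finset.mem_erase] at hq
    exact (nb_iff_perp hy).2 ⟨(hX q hq.2).1, hq.1, (hX q hq.2).2.symm⟩
  rw [Finset.card_eq_sum_card_image F.κ (X.erase y)]
  refine Finset.dvd_sum fun c hc => ?_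
  obtain ⟨q, hq, rfl⟩ := Finset.mem_image.1 hc
  obtain ⟨a, b, d, hnd, hmem, -⟩ := F.nb_four hUy (hN q hq)
  have hq' := Finset.mem_erase.1 hq
  have : (X.erase y).filter (fun p => F.κ p = F.κ q) = [q, a, b, d].toFinset := by
    ext p
    rw [Finset.mem_filter, List.mem_toFinset, ← hmem]
    constructor
    · exact fun h => ⟨hN p h.1, h.2⟩
    · rintro ⟨hp, hpe⟩
      refine ⟨Finset.mem_erase.2 ⟨hp.2.2, hline q hq'.2 hq'.1 p ?_⟩, hpe⟩
      rw [← mems_eq hy, F.ln_at hUy (hN q hq)]
      exact Or.inr ⟨hp, hpe⟩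
  rw [this, List.toFinset_card_of_nodup hnd]
  exact dvd_refl 4

/-- The pair may be moved off the members. -/
theorem Uni.exists_good_pair (hU : Uni z) {U : Subgroup G} (hA : Apart z U) :
    ∃ x ∈ mems z, (∀ u ∈ U, Commute u x) ∧ ∃ r ∈ mems z, ∃ s ∈ perp (mems z) r,
      (∀ u ∈ U, Commute u (r * s)) ∧ ¬ Linked (mems z) r x ∧ ∀ u ∈ U, r * s * u ∉ mems z := by
  classical
  haveI : Fintype G := Fintype.ofFinite G
  obtain ⟨hsq, hnei, x, hx, hxU, r, hr, s, hs, hpU, hfar⟩ := hA
  by_contra hall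
  push Not at hall
  obtain ⟨u₀, hu₀, hyD⟩ := hall x hx hxU r hr s hs hpU hfar
  obtain ⟨y, hy⟩ : ∃ y, y = r * s * u₀ := ⟨_, rfl⟩
  rw [← hy] at hyD
  have hUy : ∀ u ∈ U, Commute u y := fun u hu => hy ▸ (hpU u hu).mul_right (comm_of_sq hsq hu hu₀)
  obtain ⟨hyr, hys⟩ := hU.member_commute_pair hr hs hyD (hy ▸ (Commute.refl _).mul_left (hpU u₀ hu₀))
  have hu1 : u₀ ≠ 1 := fun e => hU.pair_nmem hr hs (by rw [← mul_one (r * s), ← e, ← hy]; exact hyD)
  have hne_r : y ≠ r := fun e => (hnei u₀ hu₀ hu1).1 (by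
    have : s * u₀ = 1 := by rw [hy, mul_assoc] at e; exact mul_eq_left.1 e
    rw [eq_inv_of_mul_eq_one_right this, hU.inv hs.1]; exact hs.1)
  have hne_s : y ≠ s := fun e => (hnei u₀ hu₀ hu1).1 (by
    have : r * u₀ = 1 := by rw [hy, hs.2.2.eq, mul_assoc] at e; exact mul_eq_left.1 e
    rw [eq_inv_of_mul_eq_one_right this, hU.inv hr]; exact hr)
  obtain ⟨e, he, hUe⟩ := hU.fixed_of_pair hr hs hsq hpU
  have hye : Commute e y := he.2 y ⟨hyD, hyr.symm, hys.symm⟩
  have hne : e ≠ y := by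
    rintro rfl
    refine (hnei u₀ hu₀ hu1).2 ?_
    have : u₀ = r * s * e := by rw [hy, ← mul_assoc, hU.pair_sq hr hs, one_mul]
    rw [this]
    exact hU.three_on_line hr hs he hne_r hne_s
  -- a largest clique of fixed members through `y` and `e`
  let Q : Finset G → Prop := fun X =>
    (∀ q ∈ X, q ∈ mems z ∧ ∀ u ∈ U, Commute u q) ∧ ∀ q ∈ X, ∀ q' ∈ X, Commute q q'
  obtain ⟨X, hXmem, hmax⟩ := Finset.exists_max_image
    ((Finset.univ : Finset (Finset G)).filter fun X => Q X ∧ y ∈ X ∧ e ∈ X) Finset.card ⟨{y, e}, by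
      simp only [Finset.mem_filter, Finset.mem_univ, true_and, Q, Finset.mem_insert, Finset.mem_singleton,
        forall_eq_or_imp, forall_eq, true_or, or_true, and_true]
      exact ⟨⟨⟨hyD, hUy⟩, he.1, hUe⟩, ⟨Commute.refl y, hye.symm⟩, hye, Commute.refl e⟩⟩
  simp only [Finset.mem_filter, Finset.mem_univ, true_and] at hXmem hmax
  obtain ⟨⟨hXf, hXc⟩, hyX, heX⟩ := hXmem
  have hmaxi : ∀ q ∈ mems z, (∀ u ∈ U, Commute u q) → (∀ q' ∈ X, Commute q q') → q ∈ X := by
    intro q hq hqU hqX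
    by_contra hnot
    have h := hmax (insert q X) ⟨⟨fun a ha => ?_, fun a ha b hb => ?_⟩,
      Finset.mem_insert_of_mem hyX, Finset.mem_insert_of_mem heX⟩
    · rw [Finset.card_insert_of_notMem hnot] at h; omega
    · rcases Finset.mem_insert.1 ha with rfl | ha
      exacts [⟨hq, hqU⟩, hXf a ha]
    · rcases Finset.mem_insert.1 ha with e1 | ha' <;> rcases Finset.mem_insert.1 hb with e2 | hb'
      · rw [e1, e2]
      · rw [e1]; exact hqX b hb'
      · rw [e2]; exact (hqX a ha').symm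
      · exact hXc a ha' b hb'
  have hperp : ∀ a ∈ X, ∀ b ∈ X, a ≠ b → b ∈ perp (mems z) a := fun a ha b hb hab =>
    ⟨(hXf b hb).1, hab.symm, hXc a ha b hb⟩
  -- products of two of its points are points modulo `U`
  have hclosed : ∀ a ∈ X, ∀ b ∈ X, a ≠ b → ∃ c ∈ X, ∃ u ∈ U, a * b = c * u := by
    intro a ha b hb hab
    have hlink : Linked (mems z) r a :=
      (linked_of_commute hr hyD hyr.symm).trans (linked_of_commute hyD (hXf a ha).1 (hXc y hyX a ha))
    obtain ⟨u, hu, hc⟩ := hall x hx hxU a (hXf a ha).1 b (hperp a ha b hb hab)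
      (fun u hu => ((hXf a ha).2 u hu).mul_right ((hXf b hb).2 u hu)) fun h => hfar (hlink.trans h)
    refine ⟨_, hmaxi _ hc (fun w hw =>
      (((hXf a ha).2 w hw).mul_right ((hXf b hb).2 w hw)).mul_right (comm_of_sq hsq hw hu))
      (fun q hq => ((hXc a ha q hq).mul_left (hXc b hb q hq)).mul_left ((hXf q hq).2 u hu)), u, hu, ?_⟩
    rw [mul_assoc _ u u, hsq u hu, mul_one]
  let rep : Option {q // q ∈ X} → G := fun o => o.elim 1 (fun q => q.1)
  let T : Set G := {g | ∃ o, ∃ u ∈ U, g = rep o * u}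
  have hrU : ∀ o, ∀ u ∈ U, Commute u (rep o) := fun o u hu => by
    cases o with
    | none => exact Commute.one_right u
    | some q => exact (hXf q.1 q.2).2 u hu
  have hrr : ∀ o, rep o * rep o = 1 := fun o => by
    cases o with
    | none => exact one_mul 1
    | some q => exact hU.sq (hXf q.1 q.2).1
  have hmulrep : ∀ o o', ∃ o'', ∃ u ∈ U, rep o * rep o' = rep o'' * u := by
    intro o o'
    cases o with
    | none => exact ⟨o', 1, one_mem _, by simp [rep]⟩
    | some q =>
      cases o' with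
      | none => exact ⟨some q, 1, one_mem _, by simp [rep]⟩
      | some q' =>
        by_cases h : q.1 = q'.1
        · refine ⟨none, 1, one_mem _, ?_⟩
          show q.1 * q'.1 = 1 * 1
          rw [← h, one_mul]
          exact hU.sq (hXf q.1 q.2).1
        · obtain ⟨c, hc, u, hu, e⟩ := hclosed _ q.2 _ q'.2 h
          exact ⟨some ⟨c, hc⟩, u, hu, e⟩
  have hTsq : ∀ g ∈ T, g * g = 1 := by
    rintro g ⟨o, u, hu, rfl⟩
    rw [(hrU o u hu).mul_mul_mul_comm, hrr, hsq u hu, one_mul]
  let TS : Subgroup G :=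
    { carrier := T
      one_mem' := ⟨none, 1, one_mem _, by simp [rep]⟩
      mul_mem' := by
        rintro _ _ ⟨o, u, hu, rfl⟩ ⟨o', v, hv, rfl⟩
        obtain ⟨o'', w, hw, e⟩ := hmulrep o o'
        refine ⟨o'', w * (u * v), U.mul_mem hw (U.mul_mem hu hv), ?_⟩
        rw [(hrU o' u hu).mul_mul_mul_comm, e, mul_assoc]
      inv_mem' := fun {g} hg => by rwa [inv_eq_of_mul_eq_one_right (hTsq g hg)] }
  let φ : Option {q // q ∈ X} × U → TS := fun p => ⟨rep p.1 * p.2, p.1, p.2, p.2.2, rfl⟩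
  have hφ : Function.Bijective φ := by
    constructor
    · rintro ⟨o, u, hu⟩ ⟨o', v, hv⟩ h
      have h' : rep o * u = rep o' * v := congrArg Subtype.val h
      have hmemU : rep o * rep o' ∈ U := by
        have : rep o * rep o' = v * u := by
          calc rep o * rep o' = rep o * u * (u * rep o') := by
                rw [mul_assoc, ← mul_assoc u u, hsq u hu, one_mul]
            _ = rep o' * v * (rep o' * u) := by rw [h', (hrU o' u hu).eq]
            _ = v * u := by rw [← (hrU o' v hv).eq, mul_assoc, ← mul_assoc (rep o'), hrr, one_mul]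
        rw [this]; exact U.mul_mem hv hu
      have ho : o = o' := by
        cases o with
        | none =>
          cases o' with
          | none => rfl
          | some q' =>
            have hq : q'.1 ∈ U := by simpa [rep] using hmemU
            exact ((hnei _ hq (hU.ne_one (hXf q'.1 q'.2).1)).1 (hXf q'.1 q'.2).1).elim
        | some q =>
          cases o' with
          | none =>
            have hq : q.1 ∈ U := by simpa [rep] using hmemU
            exact ((hnei _ hq (hU.ne_one (hXf q.1 q.2).1)).1 (hXf q.1 q.2).1).elim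
          | some q' =>
            by_contra hqq
            have hne' : q.1 ≠ q'.1 := fun h => hqq (congrArg some (Subtype.ext h))
            refine (hnei _ hmemU fun h1 => hne' ?_).2
              ⟨q.1, (hXf q.1 q.2).1, q'.1, hperp _ q.2 _ q'.2 hne', rfl⟩
            exact (eq_inv_of_mul_eq_one_left h1).trans (hU.inv (hXf q'.1 q'.2).1)
      subst ho
      exact Prod.ext rfl (Subtype.ext (mul_left_cancel h'))
    · rintro ⟨g, o, u, hu, rfl⟩
      exact ⟨(o, ⟨u, hu⟩), rfl⟩
  haveI : Fact (Nat.Prime 2) := ⟨Nat.prime_two⟩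
  obtain ⟨n, hn⟩ := IsPGroup.iff_card.1
    (show IsPGroup 2 TS from fun g => ⟨1, Subtype.ext (by
      rw [pow_one, SubgroupClass.coe_pow, pow_two]; exact hTsq g g.2)⟩)
  have hcard : (X.card + 1) * Nat.card U = 2 ^ n := by
    rw [← hn, ← Nat.card_eq_of_bijective φ hφ, Nat.card_prod, Nat.card_eq_fintype_card (α := Option _),
      Fintype.card_option, Fintype.card_coe]
  obtain ⟨k, -, hk⟩ := (Nat.dvd_prime_pow Nat.prime_two).1 (Dvd.intro _ hcard)
  have hline : ∀ q ∈ X, q ≠ y → ∀ p ∈ ln (mems z) y q, p ∈ X := fun q hq hqy p hp => by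
    refine hmaxi p hp.1 (fun u hu => hU.fix_line hyD (hperp y hyX q hq hqy.symm) (hsq u hu) (hUy u hu)
      ((hXf q hq).2 u hu) hp) fun q' hq' => hp.2 q' ⟨(hXf q' hq').1, hXc y hyX q' hq', hXc q hq q' hq'⟩
  obtain ⟨m, hm⟩ := hU.clique_card hyD X (fun q hq => ⟨(hXf q hq).1, hXc q hq y hyX⟩) hline
  rw [Finset.card_erase_of_mem hyX] at hm
  have h2 : 2 ≤ X.card := Finset.one_lt_card.2 ⟨y, hyX, e, heX, hne.symm⟩
  rcases k with _ | _ | k
  · simp only [pow_zero] at hk; omega
  · simp only [zero_add, pow_one] at hk; omega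
  · have : 2 ^ (k + 1 + 1) = 4 * 2 ^ k := by ring
    omega

/-- The group can be enlarged. -/
theorem Uni.apart_grow (hU : Uni z) {U : Subgroup G} (hA : Apart z U) :
    ∃ U' : Subgroup G, Apart z U' ∧ U < U' := by
  obtain ⟨x, hx, hxU, r, hr, s, hs, hpU, hfar, hgood⟩ := hU.exists_good_pair hA
  obtain ⟨hsq, hnei, -⟩ := hA
  obtain ⟨p, hp⟩ : ∃ p, p = r * s := ⟨_, rfl⟩
  rw [← hp] at hpU hgood
  have hpp : p * p = 1 := hp ▸ hU.pair_sq hr hs
  have hxx : x * x = 1 := hU.sq hx
  have hpi : p⁻¹ = p := inv_eq_of_mul_eq_one_right hpp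
  have hxi : x⁻¹ = x := hU.inv hx
  obtain ⟨n, hn⟩ : ∃ n, n = orderOf (p * x) := ⟨_, rfl⟩
  have hxj : ∀ j : ℕ, x * (p * x) ^ j * x = ((p * x) ^ j)⁻¹ := fun j => by
    have h1 : x * (p * x) * x⁻¹ = (p * x)⁻¹ := by rw [mul_inv_rev, hxi, hpi, mul_assoc, mul_assoc, hxx, mul_one]
    have h2 := congrArg (· ^ j) h1
    simp only [conj_pow, inv_pow] at h2
    rwa [hxi] at h2
  have hpj : ∀ j : ℕ, p * (p * x) ^ j * p = ((p * x) ^ j)⁻¹ := fun j => by
    have h1 : p * (p * x) * p⁻¹ = (p * x)⁻¹ := by rw [mul_inv_rev, hxi, hpi, ← mul_assoc, hpp, one_mul]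
    have h2 := congrArg (· ^ j) h1
    simp only [conj_pow, inv_pow] at h2
    rwa [hpi] at h2
  have hrot : ∀ i : ℕ, (p * x) ^ (2 * i) * x ∈ mems z := fun i => by
    have h := mem_conj hx ((p * x) ^ i)
    rwa [show (p * x) ^ i * x * ((p * x) ^ i)⁻¹ = (p * x) ^ (2 * i) * x by
      rw [← hxj, two_mul, pow_add]
      calc (p * x) ^ i * x * (x * (p * x) ^ i * x) = (p * x) ^ i * (x * x) * (p * x) ^ i * x := by
            simp only [mul_assoc]
        _ = (p * x) ^ i * (p * x) ^ i * x := by rw [hxx, mul_one]] at h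
  rcases Nat.even_or_odd n with ⟨m, hm⟩ | ⟨m, hm⟩
  swap
  · exfalso
    have h := hrot m
    have e : (p * x) ^ (2 * m) * x = x * p * x := by
      have : (p * x) ^ (2 * m) = (p * x)⁻¹ :=
        eq_inv_of_mul_eq_one_left (by rw [← pow_succ, ← hm, hn, pow_orderOf_eq_one])
      rw [this, mul_inv_rev, hxi, hpi]
    rw [e] at h
    have h' := mem_conj h x
    rw [hxi, show x * (x * p * x) * x = (x * x) * p * (x * x) by simp only [mul_assoc], hxx, one_mul,
      mul_one] at h'
    exact hU.pair_notMem hr hs (hp ▸ h')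
  have hnpos : 0 < n := hn ▸ orderOf_pos _
  obtain ⟨k, hk⟩ : ∃ k, k = (p * x) ^ m := ⟨_, rfl⟩
  have hk2 : k * k = 1 := by rw [hk, ← pow_add, ← hm, hn, pow_orderOf_eq_one]
  have hk1 : k ≠ 1 := hk ▸ pow_ne_one_of_lt_orderOf (by omega) (by omega)
  have hki : k⁻¹ = k := inv_eq_of_mul_eq_one_right hk2
  have hkx : Commute k x := by
    have h := hxj m
    rw [← hk, hki] at h
    show k * x = x * k
    conv_lhs => rw [← h]
    rw [mul_assoc (x * k) x x, hxx, mul_one]
  have hkp : Commute k p := by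
    have h := hpj m
    rw [← hk, hki] at h
    show k * p = p * k
    conv_lhs => rw [← h]
    rw [mul_assoc (p * k) p p, hpp, mul_one]
  have hkU : ∀ u ∈ U, Commute u k := fun u hu => hk ▸ ((hpU u hu).mul_right (hxU u hu)).pow_right m
  have hnotU : k ∉ U := by
    intro hkmem
    rcases Nat.even_or_odd m with ⟨i, hi⟩ | ⟨i, hi⟩
    · have h := hrot i
      rw [two_mul, ← hi, ← hk] at h
      refine (hnei k hkmem hk1).2 ⟨x, hx, k * x, ⟨h, fun e => hk1 (mul_eq_right.1 e),
        hkx.symm.mul_right (Commute.refl x)⟩, ?_⟩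
      rw [hkx.eq, ← mul_assoc, hxx, one_mul]
    · refine hgood k hkmem ?_
      have h := hrot i
      have e : p * k = x * (p * x) ^ (2 * i) := by
        rw [hk, hi, pow_succ', ← mul_assoc, ← mul_assoc, hpp, one_mul]
      have h' := mem_conj h x
      rw [hxi, ← mul_assoc, mul_assoc _ x x, hxx, mul_one] at h'
      exact e ▸ h'
  let U' : Subgroup G :=
    { carrier := {g | g ∈ U ∨ g * k ∈ U}
      one_mem' := Or.inl U.one_mem
      mul_mem' := by
        intro g h hg hh
        rcases hg with hg | hg <;> rcases hh with hh | hh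
        · exact Or.inl (U.mul_mem hg hh)
        · exact Or.inr (by rw [mul_assoc]; exact U.mul_mem hg hh)
        · refine Or.inr ?_
          have := U.mul_mem hg hh
          rwa [mul_assoc, ← (hkU h hh).eq, ← mul_assoc] at this
        · refine Or.inl ?_
          have hhk : Commute h k := by
            have := (hkU _ hh).mul_left (Commute.refl k).inv_left
            rwa [mul_inv_cancel_right] at this
          have := U.mul_mem hg hh
          rwa [mul_assoc, hhk.eq, ← mul_assoc k k h, hk2, one_mul] at this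
      inv_mem' := by
        intro g hg
        rcases hg with hg | hg
        · exact Or.inl (U.inv_mem hg)
        · refine Or.inr ?_
          have hgk : Commute g k := by
            have := (hkU _ hg).mul_left (Commute.refl k).inv_left
            rwa [mul_inv_cancel_right] at this
          have := U.inv_mem hg
          rwa [hgk.eq, mul_inv_rev, hki] at this }
  have hdec : ∀ g ∈ U', ∀ {y : G}, (∀ u ∈ U, Commute u y) → Commute k y → Commute g y := by
    intro g hg y hy hky
    rcases hg with hg | hg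
    · exact hy g hg
    · have := (hy _ hg).mul_left hky.inv_left
      rwa [mul_inv_cancel_right] at this
  refine ⟨U', ⟨fun g hg => ?_, fun g hg hg1 => ?_, x, hx, fun g hg => hdec g hg hxU hkx, r, hr, s, hs,
    fun g hg => hp ▸ hdec g hg hpU hkp, hfar⟩, ?_⟩
  · rcases hg with hg | hg
    · exact hsq g hg
    · have hgk : Commute g k := by
        have := (hkU _ hg).mul_left (Commute.refl k).inv_left
        rwa [mul_inv_cancel_right] at this
      have h2 := hsq _ hg
      rwa [hgk.symm.mul_mul_mul_comm, hk2, mul_one] at h2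
  · by_cases hgU : g ∈ U
    · exact hnei g hgU hg1
    · have hgk : g * k ∈ U := (hg : g ∈ U ∨ g * k ∈ U).resolve_left hgU
      refine hU.neither ?_ hr hs hx (hp ▸ hdec g hg hpU hkp) (hdec g hg hxU hkx) hfar
      have hgk' : Commute g k := by
        have := (hkU _ hgk).mul_left (Commute.refl k).inv_left
        rwa [mul_inv_cancel_right] at this
      have h2 := hsq _ hgk
      rwa [hgk'.symm.mul_mul_mul_comm, hk2, mul_one] at h2
  · refine lt_of_le_of_ne (fun g hg => Or.inl hg) fun e => hnotU ?_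
    rw [e]
    exact Or.inr (hk2 ▸ U.one_mem)

/-- The commuting graph is connected. -/
theorem Uni.linked (hU : Uni z) {a b : G} (ha : a ∈ mems z) (hb : b ∈ mems z) : Linked (mems z) a b := by
  by_contra hfar
  obtain ⟨s, hs⟩ : (perp (mems z) a).Nonempty := by
    obtain ⟨t, ht⟩ := (hU.move ha).more
    exact ⟨t, (nb_iff_perp ha).1 ht⟩
  have h0 : Apart z (⊥ : Subgroup G) := by
    refine ⟨fun u hu => by rw [Subgroup.mem_bot.1 hu, one_mul], fun u hu h => absurd (Subgroup.mem_bot.1 hu) h,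
      b, hb, fun u hu => ?_, a, ha, s, hs, fun u hu => ?_, hfar⟩ <;>
      rw [Subgroup.mem_bot.1 hu] <;> exact Commute.one_left _
  obtain ⟨U, hV', hmax⟩ : ∃ U, Apart z U ∧ ∀ V, Apart z V → ¬ U < V := by
    obtain ⟨U, hU', hmax⟩ := (wellFounded_gt : WellFounded fun U V : Subgroup G => U > V).has_min
      {U : Subgroup G | Apart z U} ⟨⊥, h0⟩
    exact ⟨U, hU', hmax⟩
  obtain ⟨V, hV, hlt⟩ := hU.apart_grow hV'
  exact hmax V hV hlt

end Cfsg.Lib.U62Type
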