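import Cfsg.Agent.Lib.U62Type.Decompose
import Cfsg.Agent.Lib.U62Type.Config

/-!
# Coordinates: the relations that force the images of a basis
-/

set_option autoImplicit false
set_option linter.unusedSectionVars false

namespace Cfsg.Lib.U62Type

/-- The exponent of the mover belonging to a value at a place. -/
def eW (t pos p : ℕ) : ℕ := if t == 1 && pos == 2 then [0, 0, 2, 1].getD p 0 else p - 1

/-- The word taking the base vector to a vector in one plane. -/
def wW (t pos p : ℕ) : List ℕ := (tP t).getD pos [] ++ pW (tM t) (eW t pos p)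

/-- The word fixing the base vector besides the kernel. -/
def tS : ℕ → List (List ℕ)
  | 0 => [[2, 1, 2, 2, 2], [2, 2, 1, 2, 2]]
  | _ => [[1], [2, 2, 1, 2, 2], [2, 2]]

/-- All the words known to fix the base vector. -/
def tF (t : ℕ) : List (List ℕ) := [tK t 0, tK t 1] ++ tS t

/-- For each generator and basis vector, the word fixing the base vector that realises the image. -/
def tImg : ℕ → List (List ℕ)
  | 0 => [[], [], [0, 0, 1, 1], [0, 0, 1, 1], [1], [1], [0], [0], [3, 2], [3, 0, 2], [2, 3], [0, 2, 3], [3], [3],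
      [2], [0, 2], [], [], [], [], [], [], [], []]
  | _ => [[0], [0], [0, 1], [0, 1], [0, 0, 1, 1], [0, 0, 1, 1], [2], [0, 2], [], [], [], [], [], [], [3, 4],
      [0, 0, 3, 4], [4], [0, 1, 4]]

/-- The orbit's generators. -/
def tGens : ℕ → List ℕ
  | 0 => gensU
  | _ => gensP

/-- The checks on the images of the basis. -/
def imgChk (t : ℕ) : Bool :=
  (List.range 3).all fun i => (List.range (2 * tN t)).all fun j =>
    let u := (((tImg t).getD (2 * tN t * i + j) []).map fun k => (tF t).getD k []).flatten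
    (List.range (tN t)).any fun pos => [1, 2, 3].any fun p =>
      byte ((tGens t).getD i 0) j == p * 4 ^ pos &&
        meq ([i] ++ wW t (j / 2) (j % 2 + 1)) (wW t pos p ++ u)

theorem imgChk_true : imgChk 0 = true ∧ imgChk 1 = true := by decide +kernel

theorem vec_planes : ∀ v < 256, v = (v &&& 3) ^^^ (v &&& 12) ^^^ (v &&& 48) ^^^ (v &&& 192) := by decide +kernel

namespace Hyp

variable {V : Type*} [CommGroup V] (H : Hyp V)

/-- The product of basis vectors. -/
def comb (b : ℕ → V) (v : ℕ) : V :=
  b 0 ^ bit v 0 * b 1 ^ bit v 1 * b 2 ^ bit v 2 * b 3 ^ bit v 3 * b 4 ^ bit v 4 * b 5 ^ bit v 5 *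
    b 6 ^ bit v 6 * b 7 ^ bit v 7

include H in
theorem pow_bit_xor (x : V) (u v i : ℕ) : x ^ bit (u ^^^ v) i = x ^ bit u i * x ^ bit v i := by
  have h : bit (u ^^^ v) i = bit u i ^^^ bit v i := by
    rw [bit, bit, bit, Nat.shiftRight_xor_distrib, Nat.and_xor_distrib_right]
  rw [h]
  rcases bit_cases u i with e | e <;> rcases bit_cases v i with e' | e' <;> simp [e, e', H.sq]

include H in
theorem comb_xor (b : ℕ → V) (u v : ℕ) : comb b (u ^^^ v) = comb b u * comb b v := by
  simp only [comb, H.pow_bit_xor]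
  ac_rfl

theorem comb_zero (b : ℕ → V) : comb b 0 = 1 := by simp [comb, bit]

theorem comb_pow (b : ℕ → V) {j : ℕ} (hj : j < 8) : comb b (2 ^ j) = b j := by
  interval_cases j <;> simp [comb, bit]

theorem comb_bit_mul (b : ℕ → V) (v i x : ℕ) : comb b (bit v i * x) = comb b x ^ bit v i := by
  rcases bit_cases v i with e | e <;> simp [e, comb_zero]

include H in
/-- A homomorphism is determined in coordinates by the images of the basis. -/
theorem comb_act (b : ℕ → V) (f : V →* V) (g : ℕ) (h : ∀ j < 8, f (b j) = comb b (byte g j)) (v : ℕ) :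
    f (comb b v) = comb b (ap g v) := by
  rw [ap]
  simp only [H.comb_xor, comb_bit_mul]
  conv_lhs => rw [comb]
  simp only [map_mul, map_pow, h 0 (by norm_num), h 1 (by norm_num), h 2 (by norm_num), h 3 (by norm_num),
    h 4 (by norm_num), h 5 (by norm_num), h 6 (by norm_num), h 7 (by norm_num)]

/-- The base vector's basis for an orbit, completed by two further vectors. -/
def tBasis (t : ℕ) (w f₁ f₂ : V) (j : ℕ) : V :=
  if j < 2 * tN t then H.act (wW t (j / 2) (j % 2 + 1)) w else if j = 6 then f₁ else f₂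

theorem tN_eq : tN 0 = 4 ∧ tN 1 = 3 := ⟨rfl, rfl⟩

theorem comb_plane (t : ℕ) (ht : t < 2) {w f₁ f₂ : V} (hw : H.Fp (tM t) w) {pos p : ℕ} (hpos : pos < tN t)
    (hp : p ∈ [1, 2, 3]) : comb (H.tBasis t w f₁ f₂) (p * 4 ^ pos) = H.act (wW t pos p) w := by
  have h3 : H.act (tM t) (H.act (tM t) w) = w * H.act (tM t) w := by
    rw [Fp, H.act_append] at hw
    calc _ = w * H.act (tM t) w * (w * H.act (tM t) w * H.act (tM t) (H.act (tM t) w)) := (H.cancel _ _).symm
      _ = _ := by rw [hw, mul_one]
  have key : ∀ (P : List ℕ), H.act (P ++ pW (tM t) 2) w = H.act (P ++ pW (tM t) 0) w * H.act (P ++ pW (tM t) 1) w ∧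
      H.act (P ++ pW (tM t) 1) w = H.act (P ++ pW (tM t) 0) w * H.act (P ++ pW (tM t) 2) w := by
    intro P
    rw [show pW (tM t) 2 = tM t ++ tM t by simp [pW], show pW (tM t) 1 = tM t by simp [pW],
      show pW (tM t) 0 = [] by simp [pW], List.append_nil, H.act_append, H.act_append, H.act_append, h3, map_mul]
    exact ⟨rfl, (H.cancel _ _).symm⟩
  simp only [List.mem_cons, List.not_mem_nil, or_false] at hp
  interval_cases t <;>
    (simp only [tN_eq] at hpos) <;> interval_cases pos <;> rcases hp with rfl | rfl | rfl <;>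
    simp [comb, bit, tBasis, tN_eq, wW, eW] <;>
    first | exact (key _).1.symm | exact (key _).2.symm

theorem act_fixers {t : ℕ} {w : V} (hF : ∀ u ∈ tF t, H.act u w = w) (L : List ℕ)
    (hL : ∀ k ∈ L, k < (tF t).length) : H.act ((L.map fun k => (tF t).getD k []).flatten) w = w := by
  induction L with
  | nil => rfl
  | cons k L ih =>
    rw [List.map_cons, List.flatten_cons, H.act_append, ih fun a ha => hL a (List.mem_cons_of_mem _ ha),
      List.getD_eq_getElem _ _ (hL k List.mem_cons_self)]
    exact hF _ (List.getElem_mem _)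

theorem img_lt : ∀ t < 2, ∀ L ∈ tImg t, ∀ k ∈ L, k < (tF t).length := by decide +kernel

theorem getD_fixers (t : ℕ) (ht : t < 2) (n : ℕ) : ∀ k ∈ (tImg t).getD n [], k < (tF t).length := by
  by_cases hn : n < (tImg t).length
  · rw [List.getD_eq_getElem _ _ hn]
    exact img_lt t ht _ (List.getElem_mem _)
  · rw [List.getD_eq_default _ _ (not_lt.1 hn)]
    simp

/-- The images of the basis under the first three generators. -/
theorem img_spec (t : ℕ) (ht : t < 2) {w f₁ f₂ : V} (hw : H.Fp (tM t) w) (hF : ∀ u ∈ tF t, H.act u w = w)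
    {i j : ℕ} (hi : i < 3) (hj : j < 2 * tN t) :
    H.ρ i (H.tBasis t w f₁ f₂ j) = comb (H.tBasis t w f₁ f₂) (byte ((tGens t).getD i 0) j) := by
  have h : imgChk t = true := by interval_cases t; exacts [imgChk_true.1, imgChk_true.2]
  simp only [imgChk, List.all_eq_true, List.mem_range, List.any_eq_true, Bool.and_eq_true, beq_iff_eq] at h
  obtain ⟨pos, hpos, p, hp, hb, hm⟩ := h i hi j hj
  have hL := H.act_fixers hF _ (getD_fixers t ht (2 * tN t * i + j))
  rw [hb, H.comb_plane t ht hw hpos hp, tBasis, if_pos hj]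
  have := H.act_eq hm w
  rw [H.act_append, H.act_append, hL] at this
  exact this

end Hyp

end Cfsg.Lib.U62Type
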