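import Cfsg.Agent.Lib.U62Type.Families

/-!
# The two shapes of the module and the form on the planes
-/

set_option autoImplicit false
set_option linter.unusedSectionVars false

namespace Cfsg.Lib.U62Type

/-- The kernels and movers of the second orbit as elements of the abelian subgroup. -/
def fixChk : Bool :=
  (List.range 3).all fun i =>
    [kc 1 i 0, kc 1 i 1, mc 1 i].all fun w =>
      (List.range 27).any fun e => meq w (pW (aW 0) (e % 3) ++ (pW (aW 1) (e / 3 % 3) ++ pW (aW 2) (e / 9)))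

theorem fixChk_true : fixChk = true := by decide +kernel

theorem bform_one_right {V : Type*} [CommGroup V] (H : Hyp V) (x : V) : bform H.Q x 1 = 0 := by
  rw [bform, mul_one, H.Q_one, Nat.xor_self, Nat.zero_xor]

theorem bform_comm {V : Type*} [CommGroup V] (Q : V → ℕ) (x y : V) : bform Q x y = bform Q y x := by
  rw [bform, bform, mul_comm x y, Nat.xor_assoc, Nat.xor_comm (Q x), ← Nat.xor_assoc]

namespace Hyp

variable {V : Type*} [CommGroup V] (H : Hyp V)

theorem xor_self_eq {a b : ℕ} (h : a = b) : a ^^^ b = 0 := h ▸ Nat.xor_self a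

theorem bf_moved {k : List ℕ} {x y : V} (hx : H.act k x = x) : bform H.Q x (y * H.act k y) = 0 := by
  rw [H.bf_mul]
  refine xor_self_eq ?_
  conv_rhs => rw [← hx]
  rw [H.bform_act]

theorem Q_mul {x y : V} (h : bform H.Q x y = 0) : H.Q (x * y) = H.Q x ^^^ H.Q y := by
  rw [bform, Nat.xor_assoc] at h
  exact Nat.xor_eq_zero_iff.1 h

theorem bf_prod {ι : Type*} (s : Finset ι) (f : ι → V) (x : V) (h : ∀ i ∈ s, bform H.Q x (f i) = 0) :
    bform H.Q x (∏ i ∈ s, f i) = 0 := by
  classical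
  induction s using Finset.induction_on with
  | empty => simpa using bform_one_right H x
  | insert a s ha ih =>
    rw [Finset.prod_insert ha, H.bf_mul, h a (Finset.mem_insert_self a s),
      ih fun i hi => h i (Finset.mem_insert_of_mem hi), Nat.xor_self]

section Orbit

variable {t : ℕ} (ht : t < 3)
include ht

theorem tr_mem_weight {i : ℕ} (hi : i < tN t) {u : V} (h0 : H.act (kc t i 0) u = u) (h1 : H.act (kc t i 1) u = u)
    (h2 : H.Fp (mc t i) u) : ∃ w ∈ H.Wt t, H.tr t i w = u := by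
  obtain ⟨hl, hr, hm⟩ := ok_tr ht hi
  obtain ⟨w, hw⟩ : ∃ w, w = H.act (iW ((tP t).getD i [])) u := ⟨_, rfl⟩
  have he : H.tr t i w = u := by rw [hw, tr, ← H.act_append, H.act_eq hr, H.act_nil]
  have hK : ∀ b < 2, H.act (kc t i b) u = u → H.act (tK t b) w = w := fun b hb e => by
    refine H.tr_inj ht hi ?_
    rw [tr, ← H.act_append, ← H.act_eq (ok_kc ht hi hb).2, H.act_append, ← tr, he, e]
  refine ⟨w, H.mem_Wt.2 ⟨hK 0 (by norm_num) h0, hK 1 (by norm_num) h1, ?_⟩, he⟩
  have hm' : ∀ v, H.act (mc t i) (H.tr t i v) = H.tr t i (H.act (tM t) v) := fun v => by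
    rw [tr, ← H.act_append, H.act_eq hm, H.act_append]
  rw [Fp, H.act_append, ← he, hm', hm', ← map_mul, ← map_mul] at h2
  rw [Fp, H.act_append]
  exact H.tr_inj ht hi (h2.trans (map_one _).symm)

theorem proj_mem {i : ℕ} (hi : i < tN t) (v : V) : ∃ w ∈ H.Wt t, H.tr t i w = H.proj t i v := by
  obtain ⟨hc01, hc0, hc1, -⟩ := ok_comm ht hi
  obtain ⟨h30, -⟩ := ok_kc ht hi (b := 0) (by norm_num)
  obtain ⟨h31, -⟩ := ok_kc ht hi (b := 1) (by norm_num)
  obtain ⟨y, hy⟩ : ∃ y, y = H.proj0 t i v := ⟨_, rfl⟩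
  have y0 : H.act (kc t i 0) y = y := hy ▸ H.act_avg h30 _
  have y1 : H.act (kc t i 1) y = y := by
    rw [hy]
    show H.act (kc t i 1) (H.avg (kc t i 0) (H.avg (kc t i 1) v)) = _
    rw [H.avg_comm hc01, H.act_avg h31]
    rfl
  have hcm : ∀ {k : List ℕ}, meq (k ++ mc t i) (mc t i ++ k) = true → H.act k y = y →
      H.act k (H.avg (mc t i) y) = H.avg (mc t i) y := by
    intro k hk e
    have hs : meq (mc t i ++ k) (k ++ mc t i) = true := by
      rw [meq, Bool.or_eq_true] at hk ⊢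
      rcases hk with hk | hk
      · exact Or.inl (beq_iff_eq.2 (eq_of_beq hk).symm)
      · refine Or.inr (beq_iff_eq.2 ?_)
        rw [eq_of_beq hk]
        have hn : ∀ w : List ℕ, negL (negL (wmat w)) = wmat w := fun w => by
          apply List.ext_getElem
          · rcases w with - | ⟨a, w⟩ <;> simp [negL, wmat, mulL, oneL]
          intro n h1 h2
          have hn16 : n < 16 := by simpa [negL] using h1
          have hlt : (wmat w).getD n 0 < 3 := by
            rcases w with - | ⟨a, w⟩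
            · show oneL.getD n 0 < 3
              interval_cases n <;> decide
            · show (mulL _ _).getD n 0 < 3
              rw [mulL, getD_map_range _ hn16]
              exact Nat.mod_lt _ (by norm_num)
          rw [← List.getD_eq_getElem _ 0 h1, ← List.getD_eq_getElem _ 0 h2, negL, getD_map_range _ hn16, negL,
            getD_map_range _ hn16]
          omega
        rw [hn]
    rw [H.avg_comm hs, e]
  refine H.tr_mem_weight ht hi ?_ ?_ ?_
  · rw [proj_def, ← hy, map_mul, y0, hcm hc0 y0]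
  · rw [proj_def, ← hy, map_mul, y1, hcm hc1 y1]
  · have hM3 : meq (mc t i ++ (mc t i ++ mc t i)) [] = true := by
      have := tOK_all t ht
      interval_cases t <;> (simp only [tN, tP, List.length_cons, List.length_nil] at hi) <;> interval_cases i <;>
        decide +kernel
    rw [fp_iff, proj_def, ← hy, map_mul, H.avg_fix (H.act_avg hM3 y), H.sq]

/-- Vectors in different translates are orthogonal. -/
theorem bf_tr {i j : ℕ} (hi : i < tN t) (hj : j < tN t) (hij : i ≠ j) {u w : V} (hu : u ∈ H.Wt t)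
    (hw : w ∈ H.Wt t) : bform H.Q (H.tr t i u) (H.tr t j w) = 0 := by
  obtain ⟨hs, hne⟩ := ok_sep ht hi hj hij
  obtain ⟨b, hb, hbe⟩ : ∃ b < 2, (sepE t i j b).2.2 ≠ 0 := by
    rcases hne with h | h
    exacts [⟨0, by norm_num, h⟩, ⟨1, by norm_num, h⟩]
  obtain ⟨he, hm⟩ := hs b hb
  obtain ⟨e, he'⟩ : ∃ e, e = (sepE t i j b).2.2 := ⟨_, rfl⟩
  rw [← he'] at hbe he hm
  obtain ⟨hfix0, hfix1, hfp⟩ := H.mem_Wt.1 hu
  have hx : H.act (kc t i b) (H.tr t i u) = H.tr t i u := by
    rw [tr, ← H.act_append, H.act_eq (ok_kc ht hi hb).2, H.act_append]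
    interval_cases b
    exacts [by rw [hfix0], by rw [hfix1]]
  have hk : ∀ v ∈ H.Wt t, H.act (kc t i b) (H.tr t j v) = H.tr t j (H.act (pW (tM t) e) v) := by
    intro v hv
    have hv' := H.Wt_pow ht hv e
    rw [tr, ← H.act_append, H.act_eq hm, H.act_append, H.act_append, H.act_append,
      H.act_pW_fix (H.mem_Wt.1 hv').2.1, H.act_pW_fix (H.mem_Wt.1 hv').1]
  obtain ⟨hM3, -⟩ := ok_basic ht
  have hwfp : w * H.act (tM t) w * H.act (tM t) (H.act (tM t) w) = 1 := by
    rw [← H.act_append]; exact (H.mem_Wt.1 hw).2.2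
  have hback : H.act (tM t) (H.act (tM t) (H.act (tM t) w)) = w := by
    rw [← H.act_append, ← H.act_append, List.append_assoc, H.act_eq hM3, H.act_nil]
  have heq : H.act (tM t) w * H.act (tM t) (H.act (tM t) w) = w := by
    rw [mul_assoc] at hwfp
    exact (eq_inv_of_mul_eq_one_right hwfp).trans (H.inv_eq_self w)
  obtain ⟨y, hy, hye⟩ : ∃ y ∈ H.Wt t, y * H.act (pW (tM t) e) y = w := by
    interval_cases e
    · exact absurd rfl hbe
    · refine ⟨_, H.Wt_act ht hw, ?_⟩
      rw [show pW (tM t) 1 = tM t by simp [pW]]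
      exact heq
    · refine ⟨_, H.Wt_act ht (H.Wt_act ht hw), ?_⟩
      rw [show pW (tM t) 2 = tM t ++ tM t by simp [pW], H.act_append, hback, mul_comm]
      exact heq
  rw [← hye, map_mul, ← hk y hy]
  exact H.bf_moved hx

/-- In a plane the form takes one value off the identity. -/
theorem Q_plane {u w : V} (hu : u ∈ H.Wt t) (hu1 : u ≠ 1) (hw : w ∈ H.Wt t) (hw1 : w ≠ 1) :
    H.Q u = H.Q w := by
  haveI := H.fin
  obtain ⟨-, hc⟩ := H.card_Wt ht hu hu1
  have hm1 : H.act (tM t) u ∈ H.Wt t := H.Wt_act ht hu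
  by_contra hne
  obtain ⟨hfix0, hfix1, hfp⟩ := H.mem_Wt.1 hu
  rw [Fp, H.act_append] at hfp
  have hn1 : w ≠ u := fun e => hne (by rw [e])
  have hn2 : w ≠ H.act (tM t) u := fun e => hne (by rw [e, H.Q_act])
  have hn3 : w ≠ H.act (tM t) (H.act (tM t) u) := fun e => hne (by rw [e, H.Q_act, H.Q_act])
  have hinj : Function.Injective (H.act (tM t)) := fun x y h => by
    have := congrArg (H.act (tM t ++ tM t)) h
    rwa [← H.act_append, ← H.act_append, List.append_assoc, H.act_eq (ok_basic ht).1,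
      H.act_eq (ok_basic ht).1, H.act_nil, H.act_nil] at this
  have hm : H.act (tM t) u ≠ u := fun e => by rw [e, e, H.sq, one_mul] at hfp; exact hu1 hfp
  have hmn1 : H.act (tM t) u ≠ 1 := fun e => hu1 (hinj (e.trans (map_one _).symm))
  have hmm1 : H.act (tM t) (H.act (tM t) u) ≠ 1 := fun e => hmn1 (hinj (e.trans (map_one _).symm))
  have hn : H.act (tM t) (H.act (tM t) u) ≠ H.act (tM t) u := fun e => hm (hinj e)
  have hmm : H.act (tM t) (H.act (tM t) u) ≠ u := fun e => by
    rw [e, mul_right_comm, H.sq, one_mul] at hfp; exact hmn1 hfp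
  let f : Fin 5 → H.Wt t := ![1, ⟨u, hu⟩, ⟨_, hm1⟩, ⟨_, H.Wt_act ht hm1⟩, ⟨w, hw⟩]
  have hf : Function.Injective f := by
    intro a b h
    fin_cases a <;> fin_cases b <;>
      simp [f, Subtype.ext_iff, hu1, hu1.symm, hm, hm.symm, hmn1, hmn1.symm, hmm1, hmm1.symm, hn, hn.symm,
        hmm, hmm.symm, hn1, hn1.symm, hn2, hn2.symm, hn3, hn3.symm, hw1, hw1.symm] at h ⊢
  have := Nat.card_le_card_of_injective f hf
  rw [Nat.card_fin, hc] at this
  omega

end Orbit

/-- The first shape: four planes. -/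
theorem shape_four {u : V} (hu : u ∈ H.Wt 0) (hu1 : u ≠ 1) : Function.Bijective (H.famMap (t := 0)) := by
  haveI := H.fin
  refine (Nat.bijective_iff_injective_and_card _).2 ⟨H.famMap_inj (by norm_num), ?_⟩
  rw [Nat.card_fun, Nat.card_fin, (H.card_Wt (by norm_num) hu hu1).2, H.card]
  rfl

theorem exists_orbit : ∃ t < 2, ∃ u ∈ H.Wt t, u ≠ 1 := by
  obtain ⟨v, hv⟩ := H.moved
  obtain ⟨t, ht, i, hi, u, -, hu1, h0, h1, h2⟩ := H.exists_weight (S := ⊤) (v := v) trivial (fun _ _ _ _ => trivial)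
    (fun h => hv (H.mem_Fx.1 h 0 (by norm_num)))
  obtain ⟨w, hw, rfl⟩ := H.tr_mem_weight ht hi h0 h1 h2
  have hw1 : w ≠ 1 := fun e => hu1 (by rw [e, map_one])
  exact ⟨t, by have := (H.card_Wt ht hw hw1).1; omega, w, hw, hw1⟩

theorem Fx_fix {v : V} (hv : v ∈ H.Fx) {i : ℕ} (hi : i < 3) :
    H.act (kc 1 i 0) v = v ∧ H.act (kc 1 i 1) v = v ∧ H.act (mc 1 i) v = v := by
  have h := fixChk_true
  simp only [fixChk, List.all_eq_true, List.mem_range, List.any_eq_true] at h
  have hv' := H.mem_Fx.1 hv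
  have hfix : ∀ w ∈ [kc 1 i 0, kc 1 i 1, mc 1 i], H.act w v = v := fun w hw => by
    obtain ⟨e, -, he⟩ := h i hi w hw
    rw [H.act_eq he, H.act_append, H.act_append, H.act_pW_fix (hv' 2 (by norm_num)),
      H.act_pW_fix (hv' 1 (by norm_num)), H.act_pW_fix (hv' 0 (by norm_num))]
  exact ⟨hfix _ (by simp), hfix _ (by simp), hfix _ (by simp)⟩

theorem proj_Fx {v : V} (hv : v ∈ H.Fx) {i : ℕ} (hi : i < 3) : H.proj 1 i v = 1 := by
  obtain ⟨h0, h1, h2⟩ := H.Fx_fix hv hi
  rw [proj_def, show H.proj0 1 i v = v by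
    show H.avg (kc 1 i 0) (H.avg (kc 1 i 1) v) = v
    rw [H.avg_fix h1, H.avg_fix h0], H.avg_fix h2, H.sq]

/-- The second shape: three planes and the fixed vectors. -/
theorem shape_three (hno : ∀ u ∈ H.Wt 0, u = 1) {u : V} (hu : u ∈ H.Wt 1) (hu1 : u ≠ 1) :
    Nat.card H.Fx = 4 ∧
      Function.Bijective (fun p : (Fin (tN 1) → H.Wt 1) × H.Fx => H.famMap p.1 * (p.2 : V)) := by
  haveI := H.fin
  have ht : (1 : ℕ) < 3 := by norm_num
  have hN : tN 1 = 3 := rfl
  have hinj : Function.Injective (fun p : (Fin (tN 1) → H.Wt 1) × H.Fx => H.famMap p.1 * (p.2 : V)) := by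
    rintro ⟨a, r⟩ ⟨b, s⟩ h
    have hab : a = b := funext fun i => Subtype.ext (H.tr_inj ht i.2 (by
      have e := congrArg (H.proj 1 i) h
      have hi3 : (i : ℕ) < 3 := lt_of_lt_of_eq i.2 hN
      simp only [map_mul, H.proj_famMap ht, H.proj_Fx r.2 hi3, H.proj_Fx s.2 hi3, mul_one] at e
      exact e))
    subst hab
    simp only [mul_right_inj] at h
    rw [Subtype.ext h]
  have hsurj : Function.Surjective (fun p : (Fin (tN 1) → H.Wt 1) × H.Fx => H.famMap p.1 * (p.2 : V)) := by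
    intro v
    choose w hw hwe using fun i : Fin (tN 1) => H.proj_mem ht i.2 v
    obtain ⟨r, hr⟩ : ∃ r, r = v * H.famMap fun i => (⟨w i, hw i⟩ : H.Wt 1) := ⟨_, rfl⟩
    refine ⟨(fun i => ⟨w i, hw i⟩, ⟨r, ?_⟩), by
      refine (congrArg (fun x => H.famMap (fun i => (⟨w i, hw i⟩ : H.Wt 1)) * x) hr).trans ?_
      show _ * (v * _) = v
      rw [mul_comm v, H.cancel]⟩
    let S : Subgroup V := ⨅ i : Fin (tN 1), (H.proj 1 i).ker
    have hrS : r ∈ S := by
      refine Subgroup.mem_iInf.2 fun i => ?_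
      rw [MonoidHom.mem_ker, hr, map_mul, H.proj_famMap ht, ← hwe i, H.sq]
    have hSA : ∀ x < 3, ∀ u ∈ S, H.act (aW x) u ∈ S := by
      intro x hx z hz
      refine Subgroup.mem_iInf.2 fun i => ?_
      have hzi : H.proj 1 i z = 1 := Subgroup.mem_iInf.1 hz i
      obtain ⟨-, -, -, hcx⟩ := ok_comm ht i.2
      obtain ⟨hx0, hx1, hxm⟩ := hcx x hx
      rw [MonoidHom.mem_ker]
      have e : H.proj 1 i (H.act (aW x) z) = H.act (aW x) (H.proj 1 i z) := by
        simp only [proj_def, proj0, MonoidHom.comp_apply, map_mul]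
        rw [← H.avg_comm hx1, ← H.avg_comm hx0, ← H.avg_comm hxm]
      rw [e, hzi, map_one]
    by_contra hmv
    obtain ⟨t, ht', i, hi, z, hzS, hz1, h0, h1, h2⟩ := H.exists_weight hrS hSA hmv
    obtain ⟨z', hz', rfl⟩ := H.tr_mem_weight ht' hi h0 h1 h2
    have hz'1 : z' ≠ 1 := fun e => hz1 (by rw [e, map_one])
    have ht2 := (H.card_Wt ht' hz' hz'1).1
    interval_cases t
    · exact hz'1 (hno _ hz')
    · have := Subgroup.mem_iInf.1 hzS ⟨i, hi⟩
      rw [MonoidHom.mem_ker, H.proj_own ht hi hz'] at this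
      exact hz1 this
    · exact ht2 rfl
  have hb : Function.Bijective (fun p : (Fin (tN 1) → H.Wt 1) × H.Fx => H.famMap p.1 * (p.2 : V)) :=
    ⟨hinj, hsurj⟩
  refine ⟨?_, hb⟩
  have e := Nat.card_eq_of_bijective _ hb
  rw [Nat.card_prod, Nat.card_fun, Nat.card_fin, (H.card_Wt ht hu hu1).2, H.card, hN] at e
  omega

end Hyp

end Cfsg.Lib.U62Type
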