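import Cfsg.Agent.Lib.U62Type.Connected

/-!
# The commuting graph has diameter two
-/

set_option autoImplicit false
set_option linter.unusedSectionVars false
set_option linter.style.haveILetI false

namespace Cfsg.Lib.U62Type

open Cfsg.Lib.Fischer (perp)
open Cfsg.Lib.Fischer.Polar (ln com)
open Cfsg.Lib.Fischer.FromCent (Linked)

theorem noClique_false : ∀ (n : ℕ) (L K : List ℕ), K.Nodup → K.length = n → (∀ k ∈ K, k ∈ L) →
    (∀ k ∈ K, ∀ k' ∈ K, adjB k k' = true) → noClique n L = false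
  | 0, _, _, _, _, _, _ => rfl
  | n + 1, L, a :: K, hnd, hlen, hsub, hadj => by
    rw [noClique, List.all_eq_false]
    refine ⟨a, hsub a List.mem_cons_self, ?_⟩
    rw [List.nodup_cons] at hnd
    rw [noClique_false n _ K hnd.2 (by simpa using hlen) (fun k hk => List.mem_filter.2
      ⟨hsub k (List.mem_cons_of_mem _ hk), by
        rw [Bool.and_eq_true, Bool.not_eq_true', Bool.eq_false_iff]
        exact ⟨fun h => hnd.1 (nbeq_iff.1 h ▸ hk), hadj a List.mem_cons_self k (List.mem_cons_of_mem _ hk)⟩⟩)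
      (fun k hk k' hk' => hadj k (List.mem_cons_of_mem _ hk) k' (List.mem_cons_of_mem _ hk'))]
    simp

variable {G : Type*} [Group G] [Finite G] {z a b c d : G}

/-- A line all of whose points commute with a common neighbour of `b` and `d` meets the perp of `d`. -/
theorem Uni.meet_near (hU : Uni z) (hb : b ∈ mems z) (ha : a ∈ perp (mems z) b) (hd : d ∈ mems z)
    (hbd : ¬ Commute b d) (hc : c ∈ perp (mems z) b) (hcd : Commute c d) (hac : Commute a c) :
    ∃ e ∈ ln (mems z) b a, e ≠ b ∧ Commute e d := by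
  classical
  by_contra hall
  push Not at hall
  have hne_b : ∀ e ∈ ln (mems z) b a, ¬ Commute e d := fun e he h => by
    by_cases he' : e = b
    · exact hbd (he' ▸ h)
    · exact hall e he he' h
  have hcl : c ∉ ln (mems z) b a := fun h => hne_b c h hcd
  have hUc := hU.move hc.1
  obtain ⟨F⟩ := hUc.frame
  have hcc : c ∈ com (mems z) b a := ⟨hc.1, hc.2.2, hac⟩
  have hnb : ∀ e ∈ ln (mems z) b a, Nb c e := fun e he => (nb_iff_perp hc.1).2
    ⟨he.1, fun h => hcl (h ▸ he), (he.2 c hcc).symm⟩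
  have hnd : Nb c d := (nb_iff_perp hc.1).2 ⟨hd, fun h => hbd (h ▸ hc.2.2), hcd⟩
  obtain ⟨p, q, r, hdis, hmem, -⟩ := hU.line hb ha
  have hL : ∀ e ∈ [b, a, p, q, r], e ∈ ln (mems z) b a := fun e he => (hmem e).2 he
  have hex : ∀ e : G, ∃ i, e ∈ ln (mems z) b a → i < 45 ∧ F.κ e = cl i := fun e => by
    by_cases he : e ∈ ln (mems z) b a
    · obtain ⟨i, hi, hie⟩ := F.nb_code hUc (hnb e he); exact ⟨i, fun _ => ⟨hi, hie⟩⟩
    · exact ⟨0, fun h => absurd h he⟩
  choose code hcode using hex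
  obtain ⟨j, hj, hje⟩ := F.nb_code hUc hnd
  have hinj : ∀ e ∈ ln (mems z) b a, ∀ f ∈ ln (mems z) b a, e ≠ f → code e ≠ code f := by
    intro e he f hf hef hcf
    have hf' : f ∈ ln (mems z) c e := by
      rw [← mems_eq hc.1, F.ln_at hUc (hnb e he)]
      exact Or.inr ⟨hnb f hf, by rw [(hcode e he).2, (hcode f hf).2, hcf]⟩
    have h1 := (hU.ln_eq hc.1 ((nb_iff_perp hc.1).1 (hnb e he))
      (Cfsg.Lib.Fischer.Polar.right_mem he.1) hf' hef).2
    rw [(hU.ln_eq hb ha he hf hef).2] at h1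
    exact hcl (h1 ▸ Cfsg.Lib.Fischer.Polar.left_mem hc.1)
  have hadj : ∀ e ∈ ln (mems z) b a, ∀ f ∈ ln (mems z) b a, adjB (code e) (code f) = true := by
    intro e he f hf
    rw [adjB_iff (hcode e he).1 (hcode f hf).1, ← (hcode e he).2, ← (hcode f hf).2]
    exact (F.comm_iff_code hUc (hnb e he) (hnb f hf)).1 (hU.commute_line hb ha he hf)
  have hnadj : ∀ e ∈ ln (mems z) b a, adjB j (code e) = false := fun e he => by
    rw [Bool.eq_false_iff]
    intro h
    rw [adjB_iff hj (hcode e he).1, ← hje, ← (hcode e he).2] at h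
    exact hne_b e he ((F.comm_iff_code hUc hnd (hnb e he)).2 h).symm
  have hbL := hL b (by simp)
  have hq := quad_ok
  simp only [quadChk, idx, Bool.and_eq_true, List.all_eq_true, List.mem_range, Bool.or_eq_true] at hq
  rcases hq.2 (code b) (hcode b hbL).1 j hj with h | h
  · rw [adjB_iff (hcode b hbL).1 hj, ← hje, ← (hcode b hbL).2] at h
    exact hne_b b hbL ((F.comm_iff_code hUc (hnb b hbL) hnd).2 h)
  have hmap : ([a, p, q, r].map code).Nodup := by
    refine List.Nodup.map_on (fun x hx y hy hxy => ?_) (List.nodup_cons.1 hdis).2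
    by_contra hne
    exact hinj x (hL x (List.mem_cons_of_mem _ hx)) y (hL y (List.mem_cons_of_mem _ hy)) hne hxy
  rw [noClique_false 4 _ _ hmap rfl ?_ ?_] at h
  · exact Bool.noConfusion h
  · intro k hk
    obtain ⟨x, hx, rfl⟩ := List.mem_map.1 hk
    have hxl := hL x (List.mem_cons_of_mem _ hx)
    have hxb : code b ≠ code x := hinj b hbL x hxl fun e => (List.nodup_cons.1 hdis).1 (e ▸ hx)
    refine List.mem_filter.2 ⟨List.mem_range.2 (hcode x hxl).1, ?_⟩
    rw [hadj b hbL x hxl, hnadj x hxl, Bool.eq_false_iff.2 (fun e => hxb (nbeq_iff.1 e))]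
    rfl
  · intro k hk k' hk'
    obtain ⟨x, hx, rfl⟩ := List.mem_map.1 hk
    obtain ⟨y, hy, rfl⟩ := List.mem_map.1 hk'
    exact hadj x (hL x (List.mem_cons_of_mem _ hx)) y (hL y (List.mem_cons_of_mem _ hy))

/-- Every line at `b` meets the perp of `d` when `b` and `d` have a common neighbour. -/
theorem Uni.meet (hU : Uni z) (hb : b ∈ mems z) (ha : a ∈ perp (mems z) b) (hd : d ∈ mems z)
    (hbd : ¬ Commute b d) (hc : c ∈ perp (mems z) b) (hcd : Commute c d) :
    ∃ e ∈ ln (mems z) b a, e ≠ b ∧ Commute e d := by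
  have hUb := hU.move hb
  obtain ⟨F⟩ := hUb.frame
  have hna := (nb_iff_perp hb).2 ha
  have hnc := (nb_iff_perp hb).2 hc
  obtain ⟨i, hi, hie⟩ := F.nb_code hUb hna
  obtain ⟨j, hj, hje⟩ := F.nb_code hUb hnc
  have hq := quad_ok
  simp only [quadChk, idx, Bool.and_eq_true, List.all_eq_true, List.mem_range, List.any_eq_true] at hq
  obtain ⟨k, hk, hki, hkj⟩ := hq.1.2 i hi j hj
  obtain ⟨m, hm, hme⟩ := F.exists_code hUb hk
  have hma : Commute m a := F.comm_of_code hUb hm hna (by rw [hme, hie]; exact ((adjB_iff hi hk).1 hki).symm)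
  have hmc : Commute m c := F.comm_of_code hUb hm hnc (by rw [hme, hje]; exact ((adjB_iff hj hk).1 hkj).symm)
  obtain ⟨e, he, heb, hed⟩ := hU.meet_near hb ((nb_iff_perp hb).1 hm) hd hbd hc hcd hmc
  have hea : Commute e a := he.2 a ⟨ha.1, ha.2.2, hma⟩
  exact hU.meet_near hb ha hd hbd (hU.ln_perp hb ((nb_iff_perp hb).1 hm) he heb) hed hea.symm

/-- Two conjugates commute or have a common neighbour. -/
theorem Uni.near (hU : Uni z) (ha : a ∈ mems z) (hb : b ∈ mems z) :
    Commute a b ∨ ∃ y ∈ perp (mems z) a, Commute b y := by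
  have h := hU.linked ha hb
  induction h with
  | refl => exact Or.inl (Commute.refl a)
  | @tail u v _ huv ih =>
    obtain ⟨huv, hu⟩ := huv
    by_cases hav : Commute a v
    · exact Or.inl hav
    right
    by_cases hau : Commute a u
    · exact ⟨u, ⟨hu, fun e => hav (e ▸ huv.2.2), hau⟩, huv.2.2.symm⟩
    obtain ⟨y, hy, hyu⟩ := (ih hu).resolve_left hau
    obtain ⟨e, he, heu, hea⟩ := hU.meet hu huv ha (fun h => hau h.symm)
      (c := y) ⟨hy.1, fun e => hau (e ▸ hy.2.2), hyu⟩ hy.2.2.symm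
    refine ⟨e, ⟨he.1, fun e' => hau ?_, hea.symm⟩, hU.commute_line hu huv (Cfsg.Lib.Fischer.Polar.right_mem huv.1) he⟩
    rw [← e']
    exact (hU.ln_perp hu huv he heu).2.2.symm

/-- The conjugates are 3-transpositions. -/
theorem Uni.three (hU : Uni z) (ha : a ∈ mems z) (hb : b ∈ mems z) : (a * b) ^ 2 = 1 ∨ (a * b) ^ 3 = 1 := by
  by_cases h : Commute a b
  · left; rw [h.mul_pow, pow_two, pow_two, hU.sq ha, hU.sq hb, one_mul]
  right
  obtain ⟨y, hy, hby⟩ := (hU.near ha hb).resolve_left h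
  have hbr := hU.braid hy.1 ⟨ha, hy.2.1.symm, hy.2.2.symm⟩ ⟨hb, fun e => h (e ▸ hy.2.2), hby.symm⟩ h
  calc (a * b) ^ 3 = a * b * a * (b * a * b) := by simp [pow_succ, mul_assoc]
    _ = b * a * b * (b * a * b) := by rw [hbr]
    _ = b * a * (b * b) * a * b := by simp only [mul_assoc]
    _ = b * (a * a) * b := by rw [hU.sq hb, mul_one, mul_assoc b a a]
    _ = 1 := by rw [hU.sq ha, mul_one, hU.sq hb]

end Cfsg.Lib.U62Type
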