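import Cfsg.Agent.Lib.U62Type.EightFinal

/-!
# The quotient by a normal four-group
-/

set_option autoImplicit false
set_option linter.unusedSectionVars false
set_option linter.style.haveILetI false

namespace Cfsg.Lib.U62Type

namespace Eight

variable {G : Type*} [Group G] [Finite G] {z : G} {J W : Subgroup G} (E : Eight z J W)

include E

theorem ncard_ne_one : Nat.card ↥{u : G | u ∈ W ∧ u ≠ 1} = 3 := by
  classical
  haveI := Fintype.ofFinite ↥W
  have h : Nat.card {u : ↥W // u ≠ 1} = 3 := by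
    rw [Nat.card_eq_fintype_card, Fintype.card_subtype_compl, Fintype.card_subtype_eq, ← Nat.card_eq_fintype_card,
      E.cardW]
  rw [← h]
  exact Nat.card_congr
    { toFun := fun u => ⟨⟨u.1, u.2.1⟩, fun e => u.2.2 (congrArg Subtype.val e)⟩
      invFun := fun u => ⟨u.1.1, u.1.2, fun e => u.2 (Subtype.ext e)⟩
      left_inv := fun u => rfl
      right_inv := fun u => rfl }

/-- The quotient is the automorphism group of the unitary group. -/
theorem aut8 [hWn : W.Normal] {K : Type*} [Field K] [Fintype K] (hK : Fintype.card K = 4) {w w' : G} (hw : w ∈ W)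
    (h1 : w ≠ 1) (hw' : w' ∈ W) (h1' : w' ≠ 1) (hne : w ≠ w') (hI : ¬ Iso z w) (hwc : Commute w' w)
    (hU : UType (CQ w) (qmk w w' hwc) K) : Nonempty ((G ⧸ W) ≃* MulAut (Cfsg.PSU 6 K 2)) := by
  classical
  haveI : Fact (Nat.Prime 2) := ⟨Nat.prime_two⟩
  have hK' : Fintype.card K = 2 ^ 2 := by rw [hK]; norm_num
  haveI hsimple : IsSimpleGroup (Cfsg.PSU 6 K 2) :=
    Cfsg.Agent.S0283.result hK' 6 (by norm_num) (by norm_num)
  have hw2 := E.W2 w hw
  obtain ⟨C, hC⟩ : ∃ C, C = Subgroup.centralizer (W : Set G) := ⟨_, rfl⟩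
  have hmC : ∀ {x}, x ∈ C ↔ ∀ u ∈ W, Commute x u := fun {x} => by
    rw [hC, Subgroup.mem_centralizer_iff]
    exact ⟨fun h u hu => (h u hu).symm, fun h u hu => (h u hu).eq.symm⟩
  haveI hCn : C.Normal := ⟨fun x hx g => hmC.2 fun u hu => by
    have h := (Commute.conj_iff g).2 (hmC.1 hx _ (hWn.conj_mem u hu g⁻¹))
    rwa [show g * (g⁻¹ * u * g⁻¹⁻¹) * g⁻¹ = u by group] at h⟩
  have hcl : ∀ {u : G}, u ∈ W → u = 1 ∨ u = w ∨ u = w' ∨ u = w * w' := fun hu => E.w_cases hw hw' h1 h1' hne hu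
  have hCw : ∀ {x}, x ∈ C ↔ Commute x w ∧ Commute x w' := fun {x} => by
    refine ⟨fun h => ⟨hmC.1 h w hw, hmC.1 h w' hw'⟩, fun h => hmC.2 fun u hu => ?_⟩
    rcases hcl hu with rfl | rfl | rfl | rfl
    exacts [Commute.one_right _, h.1, h.2, h.1.mul_right h.2]
  obtain ⟨A, hA⟩ : ∃ A, A = Subgroup.centralizer ({w} : Set G) := ⟨_, rfl⟩
  have hmA : ∀ {x}, x ∈ A ↔ Commute x w := fun {x} => by rw [hA]; exact mem_cent
  have hWC : W ≤ C := fun u hu => hmC.2 fun v hv => E.wcomm hu hv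
  have hJC : ∀ {j}, j ∈ J → j ∈ C := fun hj => hmC.2 fun u hu => E.cW _ hj u hu
  -- an element of `C(w)` moves `w'` into one of two
  have htwo : ∀ {g}, Commute g w → g * w' * g⁻¹ = w' ∨ g * w' * g⁻¹ = w * w' := by
    intro g hg
    rcases hcl (hWn.conj_mem w' hw' g) with e | e | e | e
    · exact absurd (conj_eq_one_iff.1 e) h1'
    · refine absurd ?_ hne.symm
      rw [← mul_inv_eq_iff_eq_mul.2 hg.eq] at e
      exact mul_left_cancel (mul_right_cancel e)
    · exact Or.inl e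
    · exact Or.inr e
  obtain ⟨s, hsz, hsw, hse⟩ := E.swap w hw w' hw' h1 h1' hne
  -- the orders
  have hcA : Nat.card G = 3 * Nat.card A := by
    rw [← Subgroup.card_top (G := G), card_eq_orbit ⊤ A w {u : G | u ∈ W ∧ u ≠ 1}
      (fun x => by rw [hmA]; exact ⟨fun h => ⟨Subgroup.mem_top _, h⟩, fun h => h.2⟩)
      (fun x _ => ⟨hWn.conj_mem w hw x, fun e => h1 (conj_eq_one_iff.1 e)⟩)
      (fun u hu => by
        obtain ⟨h, -, he⟩ := E.trans w hw u hu.1 h1 hu.2
        exact ⟨h, Subgroup.mem_top _, he⟩), E.ncard_ne_one]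
  have hcC : Nat.card A = 2 * Nat.card C := by
    rw [card_eq_orbit A C w' {w', w * w'} (fun x => by rw [hCw, hmA]) (fun x hx => htwo (hmA.1 hx))
      (fun u hu => by
        rcases hu with rfl | rfl
        · exact ⟨1, one_mem _, by group⟩
        · exact ⟨s, hmA.2 hsw, hse⟩), Nat.card_coe_set_eq,
      Set.ncard_pair (fun e => h1 (mul_eq_right.1 e.symm))]
  -- the subgroup of index two of the quotient
  obtain ⟨-, G₀, haG, hidx, hn0, ⟨eU⟩⟩ := hU
  haveI := hn0
  obtain ⟨ι, hι⟩ : ∃ ι : C →* CQ w, ∀ x : C, ι x = qmk w x (hCw.1 x.2).1 :=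
    ⟨(QuotientGroup.mk' _).comp (Subgroup.inclusion fun x hx => mem_cent.2 (hCw.1 hx).1), fun _ => rfl⟩
  have hιk : ∀ x : C, ι x = 1 ↔ ((x : G) = 1 ∨ (x : G) = w) := fun x => by
    rw [hι, ← qmk_one, eq_comm, qmk_eq hw2, one_mul]
  have hιa : ∀ x : C, ι x = qmk w w' hwc ↔ ((x : G) = w' ∨ (x : G) = w' * w) := fun x => by
    rw [hι, eq_comm, qmk_eq hw2]
  have hkc : Nat.card ι.ker = 2 := by
    have h : (ι.ker : Set C) = {1, ⟨w, hWC hw⟩} := by
      ext x
      rw [SetLike.mem_coe, MonoidHom.mem_ker, hιk, Set.mem_insert_iff, Set.mem_singleton_iff]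
      exact ⟨fun h => h.imp (fun e => Subtype.ext e) (fun e => Subtype.ext e),
        fun h => h.imp (fun e => congrArg Subtype.val e) (fun e => congrArg Subtype.val e)⟩
    rw [show Nat.card ι.ker = Nat.card ↥(ι.ker : Set C) from rfl, Nat.card_coe_set_eq, h,
      Set.ncard_pair (fun e => h1 (congrArg Subtype.val e).symm)]
  have hQ : Nat.card (CQ w) * 2 = Nat.card A := by
    rw [hA, Subgroup.card_eq_card_quotient_mul_card_subgroup ((Subgroup.zpowers w).subgroupOf
      (Subgroup.centralizer ({w} : Set G))), Nat.card_congr (Subgroup.subgroupOfEquivOfLe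
      (Subgroup.zpowers_le.2 (mem_cent.2 (Commute.refl w)))).toEquiv, Nat.card_zpowers,
      orderOf_eq_prime (p := 2) (by rw [pow_two, hw2]) h1]
  have hPc : Nat.card ι.range * 2 = Nat.card C := by
    rw [← hkc, ← Nat.card_congr (QuotientGroup.quotientKerEquivRange ι).toEquiv,
      ← Subgroup.card_eq_card_quotient_mul_card_subgroup]
  have hPi : ι.range.index = 2 := by
    have h := Subgroup.card_mul_index ι.range
    have hp : 0 < Nat.card ι.range := Nat.card_pos
    exact Nat.eq_of_mul_eq_mul_left hp (by omega)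
  haveI : ι.range.Normal := Subgroup.normal_of_index_eq_two hPi
  have haP : qmk w w' hwc ∈ ι.range := ⟨⟨w', hWC hw'⟩, (hιa _).2 (Or.inl rfl)⟩
  obtain ⟨π₀, hπs, hπk⟩ : ∃ π₀ : G₀ →* Cfsg.PSU 6 K 2, Function.Surjective π₀ ∧
      ∀ x : G₀, π₀ x = 1 ↔ ((x : CQ w) = 1 ∨ (x : CQ w) = qmk w w' hwc) := by
    refine ⟨eU.toMonoidHom.comp (QuotientGroup.mk' _), eU.surjective.comp (QuotientGroup.mk'_surjective _),
      fun x => ?_⟩
    rw [MonoidHom.comp_apply, MulEquiv.coe_toMonoidHom, map_eq_one_iff _ eU.injective, QuotientGroup.mk'_apply,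
      QuotientGroup.eq_one_iff, Subgroup.mem_subgroupOf, mem_zpowers_two]
    rw [← qmk_mul hwc hwc, ← qmk_one, qmk_eq hw2]
    exact Or.inl (E.W2 w' hw').symm
  have hGP : ι.range = G₀ := by
    rcases (((inferInstance : ι.range.Normal).subgroupOf G₀).map π₀ hπs).eq_bot_or_eq_top with h | h
    · exfalso
      have hsub : ((ι.range.subgroupOf G₀ : Subgroup G₀) : Set G₀).ncard ≤ 2 := by
        refine le_trans (Set.ncard_le_ncard (t := {1, ⟨qmk w w' hwc, haG⟩}) ?_ (Set.toFinite _))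
          ((Set.ncard_insert_le _ _).trans (by rw [Set.ncard_singleton]))
        intro x hx
        have hx1 : π₀ x ∈ (ι.range.subgroupOf G₀).map π₀ := ⟨x, hx, rfl⟩
        rw [h, Subgroup.mem_bot, hπk] at hx1
        exact hx1.imp (fun e => Subtype.ext e) (fun e => Subtype.ext e)
      have h2 : (ι.range.subgroupOf G₀).index ≤ 2 := by
        rw [← Subgroup.relIndex, ← hPi]
        exact Nat.le_of_dvd (Nat.pos_of_ne_zero Subgroup.index_ne_zero_of_finite)
          (Subgroup.relIndex_dvd_index_of_normal _ _)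
      have h3 := Subgroup.card_mul_index (ι.range.subgroupOf G₀)
      have h4 : Nat.card (ι.range.subgroupOf G₀) ≤ 2 := by
        rw [show Nat.card (ι.range.subgroupOf G₀) = Nat.card ↥((ι.range.subgroupOf G₀ : Subgroup G₀) : Set G₀) from rfl,
          Nat.card_coe_set_eq]
        exact hsub
      have h5 : Nat.card G₀ ≤ 4 := h3 ▸ Nat.mul_le_mul h4 h2
      have h6 := Subgroup.card_mul_index G₀
      rw [hidx] at h6
      have h7 : Nat.card J ≤ Nat.card C := Subgroup.card_le_of_le fun j hj => hJC hj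
      rw [E.card] at h7
      omega
    · refine (SetLike.coe_injective (Set.eq_of_subset_of_ncard_le (fun x hx => ?_) ?_ (Set.toFinite _))).symm
      · have h' : π₀ ⟨x, hx⟩ ∈ (ι.range.subgroupOf G₀).map π₀ := h ▸ Subgroup.mem_top _
        obtain ⟨p, hp, he⟩ := h'
        have hq : π₀ (p⁻¹ * ⟨x, hx⟩) = 1 := by rw [map_mul, map_inv, he, inv_mul_cancel]
        rw [show x = (p : CQ w) * ((p⁻¹ * ⟨x, hx⟩ : G₀) : CQ w) by push_cast; rw [mul_inv_cancel_left]]
        refine mul_mem hp ?_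
        rcases (hπk _).1 hq with e | e <;> rw [e]
        exacts [one_mem _, haP]
      · have ha := Subgroup.card_mul_index G₀
        have hb := Subgroup.card_mul_index ι.range
        rw [hidx] at ha
        rw [hPi] at hb
        rw [← Nat.card_coe_set_eq, ← Nat.card_coe_set_eq]
        show Nat.card ι.range ≤ Nat.card G₀
        omega
  -- the centraliser of `W` modulo `W`
  obtain ⟨φ, hφs, hφk⟩ : ∃ φ : C →* Cfsg.PSU 6 K 2, Function.Surjective φ ∧ ∀ x : C, φ x = 1 ↔ (x : G) ∈ W := by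
    refine ⟨π₀.comp (ι.codRestrict G₀ fun x => hGP ▸ ⟨x, rfl⟩), fun u => ?_, fun x => ?_⟩
    · obtain ⟨y, rfl⟩ := hπs u
      obtain ⟨x, hx⟩ : (y : CQ w) ∈ ι.range := hGP.symm ▸ y.2
      exact ⟨x, congrArg π₀ (Subtype.ext hx)⟩
    · rw [MonoidHom.comp_apply, hπk]
      show (ι x = 1 ∨ ι x = qmk w w' hwc) ↔ _
      rw [hιk, hιa]
      constructor
      · rintro ((e | e) | (e | e)) <;> rw [e]
        exacts [one_mem _, hw, hw', mul_mem hw' hw]
      · intro hx
        rcases hcl hx with e | e | e | e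
        · exact Or.inl (Or.inl e)
        · exact Or.inl (Or.inr e)
        · exact Or.inr (Or.inl e)
        · exact Or.inr (Or.inr (e.trans (E.wcomm hw hw').eq))
  have hmap : ∀ g : G, φ.ker.map (MulAut.conjNormal g : MulAut C).toMonoidHom = φ.ker := by
    intro g
    ext x
    rw [Subgroup.mem_map_equiv, MonoidHom.mem_ker, MonoidHom.mem_ker, hφk, hφk, MulAut.conjNormal_symm_apply]
    constructor
    · intro h
      have := hWn.conj_mem _ h g
      rwa [show g * (g⁻¹ * (x : G) * g) * g⁻¹ = x by group] at this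
    · intro h
      have := hWn.conj_mem _ h g⁻¹
      rwa [inv_inv] at this
  obtain ⟨ρ, hρ⟩ : ∃ ρ : G →* MulAut (↥C ⧸ φ.ker), ∀ (g : G) (x : C),
      ρ g (QuotientGroup.mk x) = QuotientGroup.mk (MulAut.conjNormal g x) := by
    refine ⟨MonoidHom.mk' (fun g => QuotientGroup.congr φ.ker φ.ker (MulAut.conjNormal g) (hmap g))
      fun g g' => MulEquiv.ext fun q => ?_, fun g x => rfl⟩
    obtain ⟨x, rfl⟩ := QuotientGroup.mk_surjective q
    show QuotientGroup.mk ((MulAut.conjNormal (g * g') : MulAut C) x) = _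
    rw [map_mul]
    rfl
  obtain ⟨ψ, hψ⟩ : ∃ ψ : G →* MulAut (Cfsg.PSU 6 K 2),
      ψ = (MulAut.congr (QuotientGroup.quotientKerEquivOfSurjective φ hφs)).toMonoidHom.comp ρ := ⟨_, rfl⟩
  have hker : ∀ {g : G}, g ∈ ψ.ker ↔ ∀ x ∈ C, g * x * g⁻¹ * x⁻¹ ∈ W := by
    intro g
    rw [MonoidHom.mem_ker, hψ, MonoidHom.comp_apply, MulEquiv.coe_toMonoidHom,
      map_eq_one_iff _ (MulEquiv.injective _)]
    constructor
    · intro h x hx
      have e := hρ g ⟨x, hx⟩
      rw [h] at e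
      have e' := (QuotientGroup.eq.1 e.symm)
      rw [MonoidHom.mem_ker, hφk] at e'
      push_cast at e'
      rw [MulAut.conjNormal_apply] at e'
      have := inv_mem (hWn.conj_mem _ e' x)
      rwa [show (x * ((g * x * g⁻¹)⁻¹ * x) * x⁻¹)⁻¹ = g * x * g⁻¹ * x⁻¹ by group] at this
    · intro h
      refine MulEquiv.ext fun q => ?_
      obtain ⟨x, rfl⟩ := QuotientGroup.mk_surjective q
      rw [hρ]
      show QuotientGroup.mk _ = QuotientGroup.mk x
      rw [QuotientGroup.eq, MonoidHom.mem_ker, hφk]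
      push_cast
      rw [MulAut.conjNormal_apply]
      have := hWn.conj_mem _ (inv_mem (h x x.2)) (x : G)⁻¹
      rwa [show (x : G)⁻¹ * (g * x * g⁻¹ * (x : G)⁻¹)⁻¹ * (x : G)⁻¹⁻¹ = (g * x * g⁻¹)⁻¹ * x by group] at this
  have hψk : ψ.ker = W := by
    refine le_antisymm (fun g hg => ?_) (fun g hg => hker.2 fun x hx => ?_)
    swap
    · rw [mul_inv_eq_iff_eq_mul.2 (hmC.1 hx g hg).symm.eq, mul_inv_cancel]
      exact one_mem _
    have hzC : z ∈ C := hJC E.zJ
    have hgz : Commute g z := mul_inv_eq_iff_eq_mul.1 (E.ne_conj (Or.inr (by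
      have := hker.1 hg z hzC
      rwa [E.zinv] at this)) rfl)
    have hgJ : g ∈ J := E.triv g hgz fun j hj => hker.1 hg j (hJC hj)
    have hg8 : Z8 z W g := E.zc g hgJ fun j hj => by
      rcases E.cmt g hgJ j hj with e | e
      · exact mul_inv_eq_iff_eq_mul.1 (mul_inv_eq_one.1 e)
      · exact absurd (e ▸ hker.1 hg j (hJC hj)) E.zW
    refine hg8.resolve_right fun hgw => ?_
    -- `z` would be in the kernel
    have hzk : z ∈ ψ.ker := by
      have h : g * z ∈ ψ.ker := hker.2 fun x hx => by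
        rw [mul_inv_eq_iff_eq_mul.2 (hmC.1 hx _ hgw).symm.eq, mul_inv_cancel]
        exact one_mem _
      have h' := mul_mem (inv_mem hg) h
      rwa [inv_mul_cancel_left] at h'
    have hall : ∀ x ∈ C, x * z * x⁻¹ = z := fun x hx => E.ne_conj (Or.inr (by
      have := inv_mem (hker.1 hzk x hx)
      rwa [show (z * x * z⁻¹ * x⁻¹)⁻¹ = x * z * x⁻¹ * z⁻¹ by group, E.zinv] at this)) rfl
    simp only [Iso, not_forall, exists_prop] at hI
    obtain ⟨g₀, hg₀, -, hne₀⟩ := hI
    rcases htwo hg₀ with e | e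
    · exact hne₀ (hall g₀ (hCw.2 ⟨hg₀, mul_inv_eq_iff_eq_mul.1 e⟩))
    · have he : g₀ * s * z * (g₀ * s)⁻¹ = g₀ * z * g₀⁻¹ := by
        rw [show g₀ * s * z * (g₀ * s)⁻¹ = g₀ * (s * z * s⁻¹) * g₀⁻¹ by group, mul_inv_eq_iff_eq_mul.2 hsz.eq]
      refine hne₀ (he.symm.trans (hall _ (hCw.2 ⟨hg₀.mul_left hsw, mul_inv_eq_iff_eq_mul.1 ?_⟩)))
      rw [show g₀ * s * w' * (g₀ * s)⁻¹ = g₀ * (s * w' * s⁻¹) * g₀⁻¹ by group, hse,
        show g₀ * (w * w') * g₀⁻¹ = g₀ * w * g₀⁻¹ * (g₀ * w' * g₀⁻¹) by group,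
        mul_inv_eq_iff_eq_mul.2 hg₀.eq, e, ← mul_assoc, hw2, one_mul]
  -- surjective
  have hψs : Function.Surjective ψ := by
    haveI : Finite (MulAut (Cfsg.PSU 6 K 2)) :=
      Finite.of_injective (fun t => (t : Cfsg.PSU 6 K 2 → Cfsg.PSU 6 K 2)) DFunLike.coe_injective
    rw [← MonoidHom.range_eq_top]
    refine Subgroup.eq_top_of_card_eq _ ?_
    have e1 : Nat.card ↥ψ.range * Nat.card ↥ψ.ker = Nat.card G := by
      rw [← Nat.card_congr (QuotientGroup.quotientKerEquivRange ψ).toEquiv,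
        ← Subgroup.card_eq_card_quotient_mul_card_subgroup]
    have e2 : Nat.card C = Nat.card (Cfsg.PSU 6 K 2) * 4 := by
      rw [Subgroup.card_eq_card_quotient_mul_card_subgroup φ.ker,
        Nat.card_congr (QuotientGroup.quotientKerEquivOfSurjective φ hφs).toEquiv]
      congr 1
      have : φ.ker = W.subgroupOf C := by
        ext x; rw [MonoidHom.mem_ker, hφk, Subgroup.mem_subgroupOf]
      rw [this, Nat.card_congr (Subgroup.subgroupOfEquivOfLe hWC).toEquiv, E.cardW]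
    rw [hψk, E.cardW, hcA, hcC, e2] at e1
    rw [Cfsg.Agent.S0815.result 2 1 le_rfl (q := 2) rfl hK' 6 (by norm_num) (by norm_num),
      show Nat.gcd 6 (2 + 1) * (2 * 1) = 6 by decide]
    omega
  exact ⟨(QuotientGroup.quotientMulEquivOfEq hψk.symm).trans (QuotientGroup.quotientKerEquivOfSurjective ψ hψs)⟩

end Eight

end Cfsg.Lib.U62Type
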