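import Cfsg.Agent.Lib.U62Type.EightHyp

/-!
# The data of a 2-core with centre of order eight
-/

set_option autoImplicit false
set_option linter.unusedSectionVars false
set_option linter.style.haveILetI false

namespace Cfsg.Lib.U62Type

variable {G : Type*} [Group G] [Finite G]

/-- A nontrivial normal subgroup contains the inner automorphisms. -/
theorem inn_le {P : Type*} [Group P] [IsSimpleGroup P] (hinj : Function.Injective (MulAut.conj : P →* MulAut P))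
    (M : Subgroup (MulAut P)) [hM : M.Normal] (hne : M ≠ ⊥) (p : P) : MulAut.conj p ∈ M := by
  obtain ⟨N, hN⟩ : ∃ N, N = M.comap (MulAut.conj : P →* MulAut P) := ⟨_, rfl⟩
  haveI : N.Normal := hN ▸ hM.comap _
  rcases IsSimpleGroup.eq_bot_or_eq_top_of_normal N inferInstance with e | e
  · refine absurd ((Subgroup.eq_bot_iff_forall _).2 fun m hm => MulEquiv.ext fun q => ?_) hne
    have h1 : m * MulAut.conj q * m⁻¹ = MulAut.conj (m q) := MulEquiv.ext fun r => by simp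
    have h2 : m q * q⁻¹ ∈ N := by
      rw [hN, Subgroup.mem_comap, map_mul, map_inv, ← h1, mul_assoc m, mul_assoc m]
      refine mul_mem hm ?_
      exact hM.conj_mem _ (inv_mem hm) _
    rw [e, Subgroup.mem_bot, mul_inv_eq_one] at h2
    exact h2
  · have h : p ∈ N := e ▸ Subgroup.mem_top p
    rwa [hN] at h

theorem eight_of_core8 {z c : G} {J : Subgroup G} (X : Core8 z c J) {F : Type*} [Field F] [Fintype F]
    (hF : Fintype.card F = 3) (π : ↥(Subgroup.centralizer ({z} : Set G)) →* MulAut (Cfsg.PSp 2 F))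
    (hπ : Function.Surjective π)
    (hk : ∀ x, π x = 1 ↔ ∃ j ∈ J, (x : G) = j ∨ (x : G) = j * c ∨ (x : G) = j * (c * c))
    (hcount : Nat.card ↥(Subgroup.centralizer ({z} : Set G)) =
      2048 * Nat.card ↥(Subgroup.centralizer ({z} : Set G) ⊓ Subgroup.centralizer ({c} : Set G))) :
    ∃ W : Subgroup G, Eight z J W ∧ Proj z J W F := by
  classical
  haveI : Fact (Nat.Prime 2) := ⟨Nat.prime_two⟩
  haveI : Fact (Nat.Prime 3) := ⟨Nat.prime_three⟩
  haveI : CharP F 3 := charP_of_card_eq_prime (R := F) hF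
  obtain ⟨hsimp, hcard, hinj, -, -⟩ := psp_facts (F := F) hF
  haveI := hsimp
  obtain ⟨Z, hZd⟩ : ∃ Z, Z = J ⊓ Subgroup.centralizer (J : Set G) := ⟨_, rfl⟩
  have hmZ : ∀ {x}, x ∈ Z ↔ x ∈ J ∧ ∀ k ∈ J, Commute x k := fun {x} => by
    rw [hZd, Subgroup.mem_inf, Subgroup.mem_centralizer_iff]
    exact ⟨fun h => ⟨h.1, fun k hk' => (h.2 k hk').symm⟩, fun h => ⟨h.1, fun k hk' => (h.2 k hk').eq.symm⟩⟩
  have hZc : ∀ {x y}, x ∈ Z → y ∈ Z → Commute x y := fun hx hy => (hmZ.1 hx).2 _ (hmZ.1 hy).1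
  have hZsq : ∀ {x}, x ∈ Z → x * x = 1 := fun hx => X.zsq _ (hmZ.1 hx).1 (hmZ.1 hx).2
  have hZinv : ∀ {x}, x ∈ Z → x⁻¹ = x := fun hx => inv_eq_of_mul_eq_one_right (hZsq hx)
  have hZconj : ∀ {h x}, Commute h z → x ∈ Z → h * x * h⁻¹ ∈ Z := fun {h x} hh hx => hmZ.2
    ⟨X.norm h hh x (hmZ.1 hx).1, fun k hk' => by
      have := (Commute.conj_iff h).2 ((hmZ.1 hx).2 _ (X.norm h⁻¹ hh.inv_left k hk'))
      rwa [show h * (h⁻¹ * k * h⁻¹⁻¹) * h⁻¹ = k by group] at this⟩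
  have hzZ : z ∈ Z := hmZ.2 ⟨X.zJ, fun k hk' => (X.cz k hk').symm⟩
  have hzi : z⁻¹ = z := inv_eq_of_mul_eq_one_right X.z2
  have hcc : Commute (c * c) z := X.cc.mul_left X.cc
  have hc1 : c ≠ 1 := fun e => by
    have hsub : (J : Set G) ⊆ {1, z} := fun j hj => X.fpf j hj (e ▸ Commute.one_left j)
    have h := Set.ncard_le_ncard hsub (Set.toFinite _)
    rw [← Nat.card_coe_set_eq, show Nat.card ↥(J : Set G) = Nat.card J from rfl, X.card,
      Set.ncard_pair X.z1.symm] at h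
    omega
  have hci : c⁻¹ = c * c := inv_eq_of_mul_eq_one_right (by rw [← mul_assoc, X.c3])
  have hcJ : c ∉ J := fun h => by
    rcases X.fpf c h (Commute.refl c) with e | e
    · exact hc1 e
    · have := X.c3
      rw [e, X.z2, one_mul] at this
      exact X.z1 this
  have hccJ : c * c ∉ J := fun h => hcJ (by
    have := inv_mem h
    rwa [← hci, inv_inv] at this)
  -- the norm
  obtain ⟨σ, hσ⟩ : ∃ σ : G → G, ∀ x, σ x = c * x * c⁻¹ := ⟨_, fun _ => rfl⟩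
  have hσmul : ∀ x y, σ (x * y) = σ x * σ y := fun x y => by rw [hσ, hσ, hσ]; group
  have hσ3 : ∀ x, σ (σ (σ x)) = x := fun x => by
    rw [hσ, hσ, hσ, show c * (c * (c * x * c⁻¹) * c⁻¹) * c⁻¹ = c * c * c * x * (c * c * c)⁻¹ by group, X.c3]; group
  have hσz : σ z = z := by rw [hσ]; exact mul_inv_eq_iff_eq_mul.2 X.cc.eq
  have hσZ : ∀ {x}, x ∈ Z → σ x ∈ Z := fun hx => by rw [hσ]; exact hZconj X.cc hx
  obtain ⟨N, hN⟩ : ∃ N : G → G, ∀ x, N x = x * σ x * σ (σ x) := ⟨_, fun _ => rfl⟩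
  have hNmul : ∀ {x y}, x ∈ Z → y ∈ Z → N (x * y) = N x * N y := fun {x y} hx hy => by
    rw [hN, hN, hN, hσmul, hσmul, (hZc hy (hσZ hx)).mul_mul_mul_comm,
      ((hZc hy (hσZ (hσZ hx))).mul_left (hZc (hσZ hy) (hσZ (hσZ hx)))).mul_mul_mul_comm]
  have hNσ : ∀ {x}, x ∈ Z → N (σ x) = N x := fun {x} hx => by
    rw [hN, hN, hσ3, mul_assoc x, ((hZc hx (hσZ hx)).mul_right (hZc hx (hσZ (hσZ hx)))).eq]
  have hNmem : ∀ {x}, x ∈ Z → N x ∈ Z := fun hx => by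
    rw [hN]; exact mul_mem (mul_mem hx (hσZ hx)) (hσZ (hσZ hx))
  have hNfix : ∀ {x}, x ∈ Z → N x = 1 ∨ N x = z := fun {x} hx => X.fpf _ (hmZ.1 (hNmem hx)).1 (by
    refine mul_inv_eq_iff_eq_mul.1 ?_
    rw [← hσ, show σ (N x) = N (σ x) by rw [hN, hN, hσmul, hσmul]]
    exact hNσ hx)
  have hNz : N z = z := by rw [hN, hσz, hσz, X.z2, one_mul]
  have hσ1 : σ 1 = 1 := by rw [hσ]; group
  have hN1 : N 1 = 1 := by rw [hN, hσ1, hσ1, one_mul, one_mul]
  -- the four-group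
  obtain ⟨W, hW⟩ : ∃ W : Subgroup G, ∀ x, x ∈ W ↔ x ∈ Z ∧ N x = 1 := by
    refine ⟨{ carrier := {x | x ∈ Z ∧ N x = 1}, mul_mem' := ?_, one_mem' := ⟨one_mem _, hN1⟩, inv_mem' := ?_ },
      fun _ => Iff.rfl⟩
    · intro x y hx hy
      exact ⟨mul_mem hx.1 hy.1, by rw [hNmul hx.1 hy.1, hx.2, hy.2, one_mul]⟩
    · intro x hx
      show x⁻¹ ∈ Z ∧ N x⁻¹ = 1
      rw [hZinv hx.1]
      exact hx
  have hWZ : ∀ {x}, x ∈ W → x ∈ Z := fun hx => ((hW _).1 hx).1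
  have hWJ : W ≤ J := fun x hx => (hmZ.1 (hWZ hx)).1
  have hzW : z ∉ W := fun h => X.z1 (hNz ▸ ((hW z).1 h).2)
  have hdec : ∀ {x}, x ∈ Z → x ∈ W ∨ x * z ∈ W := fun {x} hx => by
    rcases hNfix hx with e | e
    · exact Or.inl ((hW x).2 ⟨hx, e⟩)
    · exact Or.inr ((hW _).2 ⟨mul_mem hx hzZ, by rw [hNmul hx hzZ, e, hNz, X.z2]⟩)
  have hcardW : Nat.card W = 4 := by
    have h2 : (W.subgroupOf Z).index = 2 := by
      refine Subgroup.index_eq_two_iff.2 ⟨⟨z, hzZ⟩, fun b => ?_⟩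
      rw [Subgroup.mem_subgroupOf, Subgroup.mem_subgroupOf, Subgroup.coe_mul]
      rcases hdec b.2 with h | h
      · exact Or.inr ⟨h, fun h' => hzW (by simpa using mul_mem (inv_mem h) h')⟩
      · exact Or.inl ⟨h, fun h' => hzW (by simpa using mul_mem (inv_mem h') h)⟩
    have h := Subgroup.card_mul_index (W.subgroupOf Z)
    rw [h2, Nat.card_congr (Subgroup.subgroupOfEquivOfLe (fun x hx => hWZ hx)).toEquiv, hZd, X.zcard] at h
    omega
  have hσW : ∀ {x}, x ∈ W → σ x ∈ W := fun hx =>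
    (hW _).2 ⟨hσZ (hWZ hx), by rw [hNσ (hWZ hx)]; exact ((hW _).1 hx).2⟩
  have hσne : ∀ {w}, w ∈ W → w ≠ 1 → σ w ≠ w := fun {w} hw h1 e => by
    rw [hσ] at e
    rcases X.fpf w (hWJ hw) (mul_inv_eq_iff_eq_mul.1 e) with e' | e'
    exacts [h1 e', hzW (e' ▸ hw)]
  have hσσ : ∀ {w}, w ∈ W → σ (σ w) = w * σ w := fun {w} hw => by
    have h := ((hW w).1 hw).2
    rw [hN] at h
    exact (eq_inv_of_mul_eq_one_right h).trans (hZinv (mul_mem (hWZ hw) (hσZ (hWZ hw))))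
  have hall : ∀ {w}, w ∈ W → w ≠ 1 → ∀ {u}, u ∈ W → u = 1 ∨ u = w ∨ u = σ w ∨ u = σ (σ w) := by
    intro w hw h1 u hu
    have hs1 : σ w ≠ 1 := fun e => h1 (by rw [← hσ3 w, e, hσ, hσ]; group)
    have hs2 : σ (σ w) ≠ 1 := fun e => h1 (by rw [← hσ3 w, e, hσ]; group)
    have hs3 : σ (σ w) ≠ w := fun e => hσne hw h1 (by conv_rhs => rw [← hσ3 w, e])
    have h4 : ({1, w, σ w, σ (σ w)} : Set G).ncard = 4 := by
      rw [Set.ncard_insert_of_notMem (by simp [h1.symm, hs1.symm, hs2.symm]) (Set.toFinite _),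
        Set.ncard_insert_of_notMem (by simp [(hσne hw h1).symm, hs3.symm]) (Set.toFinite _),
        Set.ncard_insert_of_notMem (by simp [(hσne (hσW hw) hs1).symm]) (Set.toFinite _), Set.ncard_singleton]
    have heq : ({1, w, σ w, σ (σ w)} : Set G) = (W : Set G) := by
      refine Set.eq_of_subset_of_ncard_le ?_ ?_ (Set.toFinite _)
      · simp only [Set.insert_subset_iff, Set.singleton_subset_iff, SetLike.mem_coe]
        exact ⟨one_mem _, hw, hσW hw, hσW (hσW hw)⟩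
      · rw [h4, ← Nat.card_coe_set_eq, show Nat.card ↥(W : Set G) = Nat.card W from rfl, hcardW]
    have hu' : u ∈ ({1, w, σ w, σ (σ w)} : Set G) := heq ▸ hu
    simpa using hu'
  -- conjugates of `c`
  have hcj : ∀ {h}, Commute h z → ∃ j ∈ J, h * c * h⁻¹ = j * c ∨ h * c * h⁻¹ = j * (c * c) := by
    intro h hh
    obtain ⟨x, hxd⟩ : ∃ x : ↥(Subgroup.centralizer ({z} : Set G)), x =
      ⟨h, mem_cent.2 hh⟩ * ⟨c, mem_cent.2 X.cc⟩ * ⟨h, mem_cent.2 hh⟩⁻¹ := ⟨_, rfl⟩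
    have hx : π x = 1 := by
      rw [hxd, map_mul, map_mul, map_inv, (hk ⟨c, mem_cent.2 X.cc⟩).2 ⟨1, one_mem _, Or.inr (Or.inl (one_mul c).symm)⟩,
        mul_one, mul_inv_cancel]
    obtain ⟨j, hj, e | e | e⟩ := (hk x).1 hx <;> rw [hxd] at e
    · exfalso
      refine hcJ ?_
      have h' := X.norm h⁻¹ hh.inv_left j hj
      rw [← e] at h'
      push_cast at h'
      rwa [show h⁻¹ * (h * c * h⁻¹) * h⁻¹⁻¹ = c by group] at h'
    · exact ⟨j, hj, Or.inl e⟩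
    · exact ⟨j, hj, Or.inr e⟩
  have hjσ : ∀ {j x}, j ∈ J → x ∈ Z → j * x * j⁻¹ = x := fun hj hx => mul_inv_eq_iff_eq_mul.2 ((hmZ.1 hx).2 _ hj).eq.symm
  have hnormW : ∀ h, Commute h z → ∀ w ∈ W, h * w * h⁻¹ ∈ W := by
    intro h hh w hw
    have hwZ := hWZ hw
    have hy := hZconj hh hwZ
    obtain ⟨y, hyd⟩ : ∃ y, y = h * w * h⁻¹ := ⟨_, rfl⟩
    rw [← hyd] at hy ⊢
    refine (hW y).2 ⟨hy, ?_⟩
    obtain ⟨j, hj, e | e⟩ := hcj hh.inv_left
    · have hs : σ y = h * σ w * h⁻¹ := by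
        rw [hσ, hyd, show c * (h * w * h⁻¹) * c⁻¹ = h * ((h⁻¹ * c * h⁻¹⁻¹) * w * (h⁻¹ * c * h⁻¹⁻¹)⁻¹) * h⁻¹ by group,
          e, show j * c * w * (j * c)⁻¹ = j * (c * w * c⁻¹) * j⁻¹ by group, ← hσ, hjσ hj (hσZ hwZ)]
      have hs2 : σ (σ y) = h * σ (σ w) * h⁻¹ := by
        rw [hs, hσ, show c * (h * σ w * h⁻¹) * c⁻¹ =
          h * ((h⁻¹ * c * h⁻¹⁻¹) * σ w * (h⁻¹ * c * h⁻¹⁻¹)⁻¹) * h⁻¹ by group, e,
          show j * c * σ w * (j * c)⁻¹ = j * (c * σ w * c⁻¹) * j⁻¹ by group, ← hσ, hjσ hj (hσZ (hσZ hwZ))]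
      rw [hN, hs2, hs, hyd, show h * w * h⁻¹ * (h * σ w * h⁻¹) * (h * σ (σ w) * h⁻¹) = h * (w * σ w * σ (σ w)) * h⁻¹ by group,
        ← hN, ((hW w).1 hw).2]
      group
    · have hs : σ y = h * σ (σ w) * h⁻¹ := by
        rw [hσ, hyd, show c * (h * w * h⁻¹) * c⁻¹ = h * ((h⁻¹ * c * h⁻¹⁻¹) * w * (h⁻¹ * c * h⁻¹⁻¹)⁻¹) * h⁻¹ by group,
          e, show j * (c * c) * w * (j * (c * c))⁻¹ = j * (c * (c * w * c⁻¹) * c⁻¹) * j⁻¹ by group, ← hσ, ← hσ,
          hjσ hj (hσZ (hσZ hwZ))]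
      have hs2 : σ (σ y) = h * σ w * h⁻¹ := by
        rw [hs, hσ, show c * (h * σ (σ w) * h⁻¹) * c⁻¹ =
          h * ((h⁻¹ * c * h⁻¹⁻¹) * σ (σ w) * (h⁻¹ * c * h⁻¹⁻¹)⁻¹) * h⁻¹ by group, e,
          show j * (c * c) * σ (σ w) * (j * (c * c))⁻¹ = j * (c * (c * σ (σ w) * c⁻¹) * c⁻¹) * j⁻¹ by group, ← hσ, ← hσ,
          hσ3, hjσ hj (hσZ hwZ)]
      rw [hN, hs2, hs, hyd, show h * w * h⁻¹ * (h * σ (σ w) * h⁻¹) * (h * σ w * h⁻¹) =
        h * (w * (σ (σ w) * σ w)) * h⁻¹ by group, (hZc (hσZ (hσZ hwZ)) (hσZ hwZ)).eq, ← mul_assoc w, ← hN,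
        ((hW w).1 hw).2]
      group
  -- bringing back to `w`
  have hfix : ∀ {w}, w ∈ W → w ≠ 1 → ∀ {h}, Commute h z → ∃ i, (i = 1 ∨ i = c ∨ i = c * c) ∧ Commute (i * h) w := by
    intro w hw h1 h hh
    rcases hall hw h1 (hnormW h hh w hw) with e | e | e | e
    · exact absurd (conj_eq_one_iff.1 e) h1
    · exact ⟨1, Or.inl rfl, by rw [one_mul]; exact mul_inv_eq_iff_eq_mul.1 e⟩
    · refine ⟨c * c, Or.inr (Or.inr rfl), mul_inv_eq_iff_eq_mul.1 ?_⟩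
      rw [show c * c * h * w * (c * c * h)⁻¹ = c * (c * (h * w * h⁻¹) * c⁻¹) * c⁻¹ by group, e, ← hσ, ← hσ, hσ3]
    · refine ⟨c, Or.inr (Or.inl rfl), mul_inv_eq_iff_eq_mul.1 ?_⟩
      rw [show c * h * w * (c * h)⁻¹ = c * (h * w * h⁻¹) * c⁻¹ by group, e, ← hσ, hσ3]
  have hmov : ∀ {w}, w ∈ W → w ≠ 1 → ∀ {j}, j ∈ J → ¬ Commute (j * c) w ∧ ¬ Commute (j * (c * c)) w := by
    intro w hw h1 j hj
    constructor <;> intro e <;> have e' := mul_inv_eq_iff_eq_mul.2 e.eq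
    · rw [show j * c * w * (j * c)⁻¹ = j * (c * w * c⁻¹) * j⁻¹ by group, ← hσ, hjσ hj (hσZ (hWZ hw))] at e'
      exact hσne hw h1 e'
    · rw [show j * (c * c) * w * (j * (c * c))⁻¹ = j * (c * (c * w * c⁻¹) * c⁻¹) * j⁻¹ by group, ← hσ, ← hσ,
        hjσ hj (hσZ (hσZ (hWZ hw)))] at e'
      exact hσne hw h1 (by conv_rhs => rw [← hσ3 w, e'])
  have hπi : ∀ {i : G}, (i = 1 ∨ i = c ∨ i = c * c) → ∀ hi : Commute i z, π ⟨i, mem_cent.2 hi⟩ = 1 := fun h hi =>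
    (hk _).2 ⟨1, one_mem _, by rcases h with e | e | e <;> simp [e]⟩
  have hiz : ∀ {i : G}, (i = 1 ∨ i = c ∨ i = c * c) → Commute i z := fun h => by
    rcases h with rfl | rfl | rfl
    exacts [Commute.one_left _, X.cc, hcc]
  -- the projections
  have hP : Proj z J W F := by
    intro w hw h1
    refine ⟨π.comp (Subgroup.inclusion inf_le_left), fun y => ?_, fun x => ?_⟩
    · obtain ⟨x, rfl⟩ := hπ y
      obtain ⟨i, hi, hiw⟩ := hfix hw h1 (mem_cent.1 x.2)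
      refine ⟨⟨i * x, Subgroup.mem_inf.2 ⟨mem_cent.2 ((hiz hi).mul_left (mem_cent.1 x.2)), mem_cent.2 hiw⟩⟩, ?_⟩
      show π (⟨i, mem_cent.2 (hiz hi)⟩ * x) = π x
      rw [map_mul, hπi hi (hiz hi), one_mul]
    · show π ⟨(x : G), (Subgroup.mem_inf.1 x.2).1⟩ = 1 ↔ _
      rw [hk]
      refine ⟨?_, fun h => ⟨x, h, Or.inl rfl⟩⟩
      rintro ⟨j, hj, e | e | e⟩ <;> change (x : G) = _ at e
      · rw [e]; exact hj
      · exact absurd (e ▸ mem_cent.1 (Subgroup.mem_inf.1 x.2).2) (hmov hw h1 hj).1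
      · exact absurd (e ▸ mem_cent.1 (Subgroup.mem_inf.1 x.2).2) (hmov hw h1 hj).2
  -- an element inverting `c`
  have hinv : ∃ h, Commute h z ∧ ∃ j ∈ J, h * c * h⁻¹ = j * (c * c) := by
    by_contra hno
    push Not at hno
    obtain ⟨H, hH⟩ : ∃ H, H = Subgroup.centralizer ({z} : Set G) := ⟨_, rfl⟩
    rw [← hH] at hcount
    have hmH : ∀ {x}, x ∈ H ↔ Commute x z := fun {x} => by rw [hH]; exact mem_cent
    have h := Subgroup.card_mul_index ((H ⊓ Subgroup.centralizer ({c} : Set G)).subgroupOf H)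
    rw [Nat.card_congr (Subgroup.subgroupOfEquivOfLe inf_le_left).toEquiv, hcount, mul_comm 2048] at h
    have hidx := Nat.eq_of_mul_eq_mul_left Nat.card_pos h
    have hmem : ∀ q : ↥H ⧸ (H ⊓ Subgroup.centralizer ({c} : Set G)).subgroupOf H,
        ∃ j : J, j ≠ ⟨z, X.zJ⟩ ∧ (q.out : G) * c * (q.out : G)⁻¹ = j * c := fun q => by
      obtain ⟨j, hj, e | e⟩ := hcj (hmH.1 q.out.2)
      swap
      · exact absurd e (hno _ (hmH.1 q.out.2) j hj)
      refine ⟨⟨j, hj⟩, fun ej => ?_, e⟩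
      have hjz : j = z := congrArg Subtype.val ej
      rw [hjz] at e
      have h3 : z * c * (z * c) * (z * c) = 1 := by
        rw [← e, show (q.out : G) * c * (q.out : G)⁻¹ * ((q.out : G) * c * (q.out : G)⁻¹) *
          ((q.out : G) * c * (q.out : G)⁻¹) = (q.out : G) * (c * c * c) * (q.out : G)⁻¹ by group, X.c3]
        group
      rw [X.cc.mul_mul_mul_comm, X.z2, one_mul, ← mul_assoc, (hcc).eq, mul_assoc, X.c3, mul_one] at h3
      exact X.z1 h3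
    choose f hf1 hf2 using hmem
    have hle := Nat.card_le_card_of_injective (fun q => (⟨f q, hf1 q⟩ : {j : J // j ≠ ⟨z, X.zJ⟩})) fun a b h => by
      have h' : f a = f b := congrArg Subtype.val h
      rw [← QuotientGroup.out_eq' a, ← QuotientGroup.out_eq' b, QuotientGroup.eq, Subgroup.mem_subgroupOf,
        Subgroup.mem_inf]
      refine ⟨SetLike.coe_mem _, mem_cent.2 (mul_inv_eq_iff_eq_mul.1 ?_)⟩
      push_cast
      rw [show (a.out : G)⁻¹ * b.out * c * ((a.out : G)⁻¹ * b.out)⁻¹ =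
        (a.out : G)⁻¹ * ((b.out : G) * c * (b.out : G)⁻¹) * a.out by group, hf2, ← h', ← hf2]
      group
    haveI := Fintype.ofFinite ↥J
    rw [show Nat.card (↥H ⧸ (H ⊓ Subgroup.centralizer ({c} : Set G)).subgroupOf H) = 2048 from hidx,
      Nat.card_eq_fintype_card, Fintype.card_subtype_compl, Fintype.card_subtype_eq, ← Nat.card_eq_fintype_card,
      X.card] at hle
    omega
  refine ⟨W, ⟨X.z2, X.z1, X.zJ, hWJ, hzW, fun w hw => hZsq (hWZ hw), hcardW, X.cz,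
    fun j hj w hw => ((hmZ.1 (hWZ hw)).2 j hj).symm, X.norm, hnormW, X.sq, X.cmt, X.card,
    fun j hj h => hdec (hmZ.2 ⟨hj, h⟩), ?_, ?_, ?_, ?_,
    fun w _ _ => ⟨c, X.c3, X.cc, X.fpf, ?_⟩⟩, hP⟩
  · -- transitive
    intro w hw w' hw' h1 h1'
    rcases hall hw h1 hw' with e | e | e | e
    · exact absurd e h1'
    · exact ⟨1, Commute.one_left _, by rw [e]; group⟩
    · exact ⟨c, X.cc, by rw [e, hσ]⟩
    · exact ⟨c * c, hcc, by rw [e, hσ, hσ]; group⟩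
  · -- swaps
    intro w hw w' hw' h1 h1' hne
    obtain ⟨h₀, hh₀, j, hj, e⟩ := hinv
    obtain ⟨i, hi, hiw⟩ := hfix hw h1 hh₀
    obtain ⟨h, hhd⟩ : ∃ h, h = i * h₀ := ⟨_, rfl⟩
    rw [← hhd] at hiw
    have hiz' := hiz hi
    refine ⟨h, hhd ▸ hiz'.mul_left hh₀, hiw, ?_⟩
    obtain ⟨j', hj', e'⟩ : ∃ j' ∈ J, h * c * h⁻¹ = j' * (c * c) := by
      refine ⟨i * j * i⁻¹, X.norm i hiz' j hj, ?_⟩
      rw [hhd, show i * h₀ * c * (i * h₀)⁻¹ = i * (h₀ * c * h₀⁻¹) * i⁻¹ by group, e]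
      rcases hi with rfl | rfl | rfl <;> group
    have h2 : h * σ w * h⁻¹ = σ (σ w) := by
      rw [hσ w, show h * (c * w * c⁻¹) * h⁻¹ = h * c * h⁻¹ * (h * w * h⁻¹) * (h * c * h⁻¹)⁻¹ by group,
        mul_inv_eq_iff_eq_mul.2 hiw.eq, e',
        show j' * (c * c) * w * (j' * (c * c))⁻¹ = j' * (c * (c * w * c⁻¹) * c⁻¹) * j'⁻¹ by group, ← hσ, ← hσ,
        hjσ hj' (hσZ (hσZ (hWZ hw)))]
    rcases hall hw h1 hw' with e1 | e1 | e1 | e1
    · exact absurd e1 h1'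
    · exact absurd e1.symm hne
    · rw [e1, h2, hσσ hw]
    · rw [e1, hσσ hw, show h * (w * σ w) * h⁻¹ = h * w * h⁻¹ * (h * σ w * h⁻¹) by group,
        mul_inv_eq_iff_eq_mul.2 hiw.eq, h2, hσσ hw]
  · -- acting trivially
    intro g hg hgW
    obtain ⟨H, hH⟩ : ∃ H, H = Subgroup.centralizer ({z} : Set G) := ⟨_, rfl⟩
    subst hH
    have hH' : ∀ h : ↥(Subgroup.centralizer ({z} : Set G)), Commute (h : G) z := fun h => mem_cent.1 h.2
    obtain ⟨T, hT⟩ : ∃ T : Subgroup ↥(Subgroup.centralizer ({z} : Set G)),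
        ∀ h, h ∈ T ↔ ∀ j ∈ J, (h : G) * j * (h : G)⁻¹ * j⁻¹ ∈ W := by
      refine ⟨{ carrier := {h | ∀ j ∈ J, (h : G) * j * (h : G)⁻¹ * j⁻¹ ∈ W}, mul_mem' := ?_, one_mem' := ?_,
                inv_mem' := ?_ }, fun _ => Iff.rfl⟩
      · intro a b ha hb j hj
        have h1 := mul_mem (hnormW _ (hH' a) _ (hb j hj)) (ha j hj)
        push_cast
        rwa [show (a : G) * ((b : G) * j * (b : G)⁻¹ * j⁻¹) * (a : G)⁻¹ * ((a : G) * j * (a : G)⁻¹ * j⁻¹) =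
          (a : G) * b * j * ((a : G) * b)⁻¹ * j⁻¹ by group] at h1
      · intro j _
        simp
      · intro a ha j hj
        have h1 := hnormW _ (hH' a).inv_left _ (inv_mem (ha j hj))
        push_cast
        rwa [show (a : G)⁻¹ * ((a : G) * j * (a : G)⁻¹ * j⁻¹)⁻¹ * (a : G)⁻¹⁻¹ = (a : G)⁻¹ * j * (a : G) * j⁻¹ by group,
          show (a : G)⁻¹ * j * (a : G) * j⁻¹ = (a : G)⁻¹ * j * (a : G)⁻¹⁻¹ * j⁻¹ by group] at h1
    haveI hTn : T.Normal := ⟨fun n hn h => (hT _).2 fun j hj => by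
      have h1 := hnormW _ (hH' h) _ ((hT n).1 hn _ (X.norm _ (hH' h).inv_left j hj))
      push_cast
      rwa [show (h : G) * ((n : G) * ((h : G)⁻¹ * j * (h : G)⁻¹⁻¹) * (n : G)⁻¹ * ((h : G)⁻¹ * j * (h : G)⁻¹⁻¹)⁻¹) *
        (h : G)⁻¹ = (h : G) * n * (h : G)⁻¹ * j * ((h : G) * n * (h : G)⁻¹)⁻¹ * j⁻¹ by group] at h1⟩
    obtain ⟨w, hw, h1⟩ : ∃ w ∈ W, w ≠ 1 := by
      by_contra hc
      push Not at hc
      have h' : W = ⊥ := (Subgroup.eq_bot_iff_forall _).2 hc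
      rw [h', Subgroup.card_bot] at hcardW
      omega
    -- the elements fixing all of `W`
    obtain ⟨K, hK⟩ : ∃ K : Subgroup ↥(Subgroup.centralizer ({z} : Set G)),
        ∀ h, h ∈ K ↔ Commute (h : G) w ∧ Commute (h : G) (σ w) :=
      ⟨(Subgroup.centralizer ({w} : Set G) ⊓ Subgroup.centralizer ({σ w} : Set G)).subgroupOf _, fun h => by
        rw [Subgroup.mem_subgroupOf, Subgroup.mem_inf, mem_cent, mem_cent]⟩
    have hKW : ∀ {h}, h ∈ K → ∀ {u}, u ∈ W → Commute (h : G) u := by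
      intro h hh u hu
      obtain ⟨ha, hb⟩ := (hK h).1 hh
      rcases hall hw h1 hu with rfl | rfl | rfl | rfl
      exacts [Commute.one_right _, ha, hb, hσσ hw ▸ ha.mul_right hb]
    haveI hKn : K.Normal := ⟨fun n hn h => (hK _).2 (by
      constructor <;> push_cast <;> refine (conj_commute ?_).symm
      · exact (hKW hn (by simpa using hnormW _ (hH' h).inv_left w hw)).symm
      · exact (hKW hn (by simpa using hnormW _ (hH' h).inv_left _ (hσW hw))).symm)⟩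
    have hKidx : K.index ≤ 16 := by
      have hle := Nat.card_le_card_of_injective (fun q : ↥(Subgroup.centralizer ({z} : Set G)) ⧸ K =>
        ((⟨_, hnormW _ (hH' q.out) w hw⟩, ⟨_, hnormW _ (hH' q.out) _ (hσW hw)⟩) : ↥W × ↥W)) fun a b h => by
          have ha := congrArg (fun t : ↥W × ↥W => (t.1 : G)) h
          have hb := congrArg (fun t : ↥W × ↥W => (t.2 : G)) h
          simp only at ha hb
          rw [← QuotientGroup.out_eq' a, ← QuotientGroup.out_eq' b, QuotientGroup.eq, hK]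
          push_cast
          constructor <;> refine mul_inv_eq_iff_eq_mul.1 ?_
          · rw [show (a.out : G)⁻¹ * b.out * w * ((a.out : G)⁻¹ * b.out)⁻¹ =
              (a.out : G)⁻¹ * ((b.out : G) * w * (b.out : G)⁻¹) * a.out by group, ← ha]
            group
          · rw [show (a.out : G)⁻¹ * b.out * σ w * ((a.out : G)⁻¹ * b.out)⁻¹ =
              (a.out : G)⁻¹ * ((b.out : G) * σ w * (b.out : G)⁻¹) * a.out by group, ← hb]
            group
      rw [Nat.card_prod, hcardW] at hle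
      exact hle
    -- its elements of the kind square into the core
    have hTK : ((T ⊓ K).map π) = ⊥ := by
      by_contra hne
      haveI : ((T ⊓ K).map π).Normal := (inferInstance : (T ⊓ K).Normal).map π hπ
      have h2 : IsPGroup 2 (Cfsg.PSp 2 F) := fun p => ⟨1, by
        obtain ⟨t, ht, he⟩ := inn_le hinj _ hne p
        refine hinj ?_
        rw [pow_one, map_pow, ← he, ← map_pow, map_one, hk]
        refine ⟨_, X.self _ (hH' (t ^ 2)) fun j hj => ?_, Or.inl rfl⟩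
        push_cast
        rw [pow_two]
        obtain ⟨u, hu⟩ : ∃ u, u = (t : G) * j * (t : G)⁻¹ * j⁻¹ := ⟨_, rfl⟩
        have huW : u ∈ W := hu ▸ (hT t).1 (Subgroup.mem_inf.1 ht).1 j hj
        have hut := hKW (Subgroup.mem_inf.1 ht).2 huW
        refine mul_inv_eq_iff_eq_mul.1 ?_
        have e1 : (t : G) * j * (t : G)⁻¹ = u * j := by rw [hu]; group
        rw [show (t : G) * t * j * ((t : G) * t)⁻¹ = (t : G) * ((t : G) * j * (t : G)⁻¹) * (t : G)⁻¹ by group, e1,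
          show (t : G) * (u * j) * (t : G)⁻¹ = (t : G) * u * (t : G)⁻¹ * ((t : G) * j * (t : G)⁻¹) by group,
          mul_inv_eq_iff_eq_mul.2 hut.eq, e1, ← mul_assoc, hZsq (hWZ huW), one_mul]⟩
      obtain ⟨n, hn⟩ := IsPGroup.iff_card.1 h2
      rw [hcard] at hn
      have : 3 ∣ 2 ^ n := hn ▸ by norm_num
      have := Nat.prime_three.dvd_of_dvd_pow this
      omega
    have hT1 : T.map π = ⊥ := by
      by_contra hne
      haveI : (T.map π).Normal := hTn.map π hπ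
      have hle1 : 25920 ≤ Nat.card ↥(T.map π) := by
        rw [← hcard]
        exact Nat.card_le_card_of_injective (fun p => (⟨_, inn_le hinj _ hne p⟩ : ↥(T.map π))) fun a b h =>
          hinj (congrArg Subtype.val h)
      have hle2 : Nat.card ↥(T.map π) ≤ K.index := by
        have e1 : Nat.card ↥(T.map π) = (π.comp T.subtype).ker.index := by
          rw [Subgroup.index_ker, MonoidHom.range_comp, Subgroup.range_subtype]
        have e2 : (K.subgroupOf T) ≤ (π.comp T.subtype).ker := fun t ht => by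
          rw [MonoidHom.mem_ker, MonoidHom.comp_apply, ← Subgroup.mem_bot, ← hTK]
          exact ⟨_, Subgroup.mem_inf.2 ⟨t.2, ht⟩, rfl⟩
        rw [e1]
        calc (π.comp T.subtype).ker.index ≤ (K.subgroupOf T).index :=
              Subgroup.index_antitone e2 
          _ ≤ K.index := Nat.le_of_dvd (Nat.pos_of_ne_zero Subgroup.index_ne_zero_of_finite)
              (Subgroup.relIndex_dvd_index_of_normal K T)
      omega
    have hgT : (⟨g, mem_cent.2 hg⟩ : ↥(Subgroup.centralizer ({z} : Set G))) ∈ T := (hT _).2 hgW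
    have hπg : π ⟨g, mem_cent.2 hg⟩ = 1 := Subgroup.mem_bot.1 (hT1 ▸ ⟨_, hgT, rfl⟩)
    -- `c` cannot act trivially on `J` modulo the centre
    have hnc : ¬ ∀ k ∈ J, c * k * c⁻¹ * k⁻¹ ∈ Z := fun hA => by
      have hJZ : ∀ k ∈ J, k ∈ Z := fun k hk' => by
        obtain ⟨u, hud⟩ : ∃ u, u = c * k * c⁻¹ * k⁻¹ := ⟨_, rfl⟩
        have huZ : u ∈ Z := hud ▸ hA k hk'
        have hNu : N u = 1 := by
          rw [hN, mul_assoc, (hZc huZ (mul_mem (hσZ huZ) (hσZ (hσZ huZ)))).eq, (hZc (hσZ huZ) (hσZ (hσZ huZ))).eq,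
            hσ (σ u), hσ u, hud,
            show c * (c * (c * k * c⁻¹ * k⁻¹) * c⁻¹) * c⁻¹ * (c * (c * k * c⁻¹ * k⁻¹) * c⁻¹) * (c * k * c⁻¹ * k⁻¹) =
              c * c * c * k * (c * c * c)⁻¹ * k⁻¹ by group, X.c3]
          group
        have huW : u ∈ W := (hW u).2 ⟨huZ, hNu⟩
        obtain ⟨v, hv⟩ : ∃ v, v = σ u := ⟨_, rfl⟩
        have hvW : v ∈ W := hv ▸ hσW huW
        have e1 : u * σ v = v := by
          rw [hv, hσσ huW, ← mul_assoc, hZsq huZ, one_mul]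
        have hfix : c * (k * v) * c⁻¹ = k * v := by
          rw [show c * (k * v) * c⁻¹ = c * k * c⁻¹ * (c * v * c⁻¹) by group, ← hσ v,
            show c * k * c⁻¹ = u * k by rw [hud]; group, ((hmZ.1 huZ).2 k hk').eq, mul_assoc, e1]
        rcases X.fpf _ (mul_mem hk' (hWJ hvW)) (mul_inv_eq_iff_eq_mul.1 hfix) with e | e
        · rw [eq_inv_of_mul_eq_one_left e]
          exact inv_mem (hWZ hvW)
        · rw [eq_mul_inv_of_mul_eq e]
          exact mul_mem hzZ (inv_mem (hWZ hvW))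
      have hle : Nat.card J ≤ Nat.card Z := Subgroup.card_le_of_le hJZ
      rw [X.card, hZd, X.zcard] at hle
      omega
    obtain ⟨j, hj, e | e | e⟩ := (hk _).1 hπg <;> change g = _ at e
    · exact e ▸ hj
    all_goals exfalso; refine hnc ?_
    · intro k hk'
      have h2 : g * k * g⁻¹ * k⁻¹ ∈ Z := hWZ (hgW k hk')
      have h3 := hZconj (X.cz j hj).inv_left h2
      have h4 : j⁻¹ * k * j * k⁻¹ ∈ Z := by
        rcases X.cmt _ (inv_mem hj) k hk' with e' | e' <;> rw [inv_inv] at e' <;> rw [e']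
        exacts [one_mem _, hzZ]
      have h5 := mul_mem h3 h4
      rw [e] at h5
      rwa [show j⁻¹ * (j * c * k * (j * c)⁻¹ * k⁻¹) * j⁻¹⁻¹ * (j⁻¹ * k * j * k⁻¹) = c * k * c⁻¹ * k⁻¹ by group] at h5
    · have hA : ∀ k ∈ J, c * c * k * (c * c)⁻¹ * k⁻¹ ∈ Z := fun k hk' => by
        have h2 : g * k * g⁻¹ * k⁻¹ ∈ Z := hWZ (hgW k hk')
        have h3 := hZconj (X.cz j hj).inv_left h2
        have h4 : j⁻¹ * k * j * k⁻¹ ∈ Z := by
          rcases X.cmt _ (inv_mem hj) k hk' with e' | e' <;> rw [inv_inv] at e' <;> rw [e']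
          exacts [one_mem _, hzZ]
        have h5 := mul_mem h3 h4
        rw [e] at h5
        rwa [show j⁻¹ * (j * (c * c) * k * (j * (c * c))⁻¹ * k⁻¹) * j⁻¹⁻¹ * (j⁻¹ * k * j * k⁻¹) =
          c * c * k * (c * c)⁻¹ * k⁻¹ by group] at h5
      intro k hk'
      have h1' := hA _ (X.norm _ hcc k hk')
      have h2 := mul_mem h1' (hA k hk')
      rwa [show c * c * (c * c * k * (c * c)⁻¹) * (c * c)⁻¹ * (c * c * k * (c * c)⁻¹)⁻¹ * (c * c * k * (c * c)⁻¹ * k⁻¹) =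
        c * c * c * c * k * (c * c * c * c)⁻¹ * k⁻¹ by group, X.c3, one_mul] at h2
  · -- no other normal 2-subgroups
    intro w hw h1 N' hN' h2 hnorm n hn
    obtain ⟨f, hfs, hfk⟩ := hP w hw h1
    have hN2 : ∀ {x}, x ∈ N' → x ∈ Subgroup.centralizer ({z} : Set G) ⊓ Subgroup.centralizer ({w} : Set G) := fun hx =>
      Subgroup.mem_inf.2 ⟨mem_cent.2 (hN' _ hx).1, mem_cent.2 (hN' _ hx).2⟩
    haveI hn1 : (N'.subgroupOf (Subgroup.centralizer ({z} : Set G) ⊓ Subgroup.centralizer ({w} : Set G))).Normal :=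
      ⟨fun x hx h => hnorm h (mem_cent.1 (Subgroup.mem_inf.1 h.2).1) (mem_cent.1 (Subgroup.mem_inf.1 h.2).2) _ hx⟩
    haveI := hn1.map f hfs
    by_cases hb : (N'.subgroupOf (Subgroup.centralizer ({z} : Set G) ⊓ Subgroup.centralizer ({w} : Set G))).map f = ⊥
    · exact (hfk ⟨n, hN2 hn⟩).1 (Subgroup.mem_bot.1 (hb ▸ ⟨⟨n, hN2 hn⟩, hn, rfl⟩))
    exfalso
    have hI : (MulAut.conj : Cfsg.PSp 2 F →* MulAut (Cfsg.PSp 2 F)).range ≤ _ := fun y ⟨p, hp⟩ => hp ▸ inn_le hinj _ hb p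
    have hp2 := ((h2.comap_of_injective _ Subtype.val_injective).map f).to_le hI
    obtain ⟨m, hm⟩ := IsPGroup.iff_card.1 hp2
    rw [← Nat.card_congr (MonoidHom.ofInjective hinj).toEquiv, hcard] at hm
    have : 3 ∣ 2 ^ m := hm ▸ by norm_num
    have := Nat.prime_three.dvd_of_dvd_pow this
    omega
  · -- the square of anything centralises `c` modulo the core
    intro h hh _
    obtain ⟨j', hj', e⟩ : ∃ j' ∈ J, h * h * c * (h * h)⁻¹ = j' * c := by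
      obtain ⟨j, hj, e | e⟩ := hcj hh
      · refine ⟨h * j * h⁻¹ * j, mul_mem (X.norm h hh j hj) hj, ?_⟩
        rw [show h * h * c * (h * h)⁻¹ = h * (h * c * h⁻¹) * h⁻¹ by group, e,
          show h * (j * c) * h⁻¹ = h * j * h⁻¹ * (h * c * h⁻¹) by group, e]
        group
      · refine ⟨h * j * h⁻¹ * (j * (c * c * j * (c * c)⁻¹)), mul_mem (X.norm h hh j hj) (mul_mem hj (X.norm _ hcc j hj)), ?_⟩
        rw [show h * h * c * (h * h)⁻¹ = h * (h * c * h⁻¹) * h⁻¹ by group, e,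
          show h * (j * (c * c)) * h⁻¹ = h * j * h⁻¹ * ((h * c * h⁻¹) * (h * c * h⁻¹)) by group, e]
        have h4 : c * c * (c * c) = c := by rw [← mul_assoc, X.c3, one_mul]
        calc h * j * h⁻¹ * (j * (c * c) * (j * (c * c)))
            = h * j * h⁻¹ * (j * (c * c * j * (c * c)⁻¹)) * (c * c * (c * c)) := by simp [mul_assoc]
          _ = _ := by rw [h4]
    have : c * (h * h) * c⁻¹ * (h * h)⁻¹ = j'⁻¹ := by
      calc c * (h * h) * c⁻¹ * (h * h)⁻¹ = c * (h * h * c * (h * h)⁻¹)⁻¹ := by simp [mul_assoc]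
        _ = j'⁻¹ := by rw [e, mul_inv_rev, ← mul_assoc, mul_inv_cancel, one_mul]
    rw [this]
    exact inv_mem hj'

end Cfsg.Lib.U62Type
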