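import Cfsg.Agent.Lib.U62Type.EightShare
import Cfsg.Agent.S0815
import Cfsg.Agent.S0283

/-!
# The conclusion for a 2-core with centre of order eight
-/

set_option autoImplicit false
set_option linter.unusedSectionVars false
set_option linter.style.haveILetI false

namespace Cfsg.Lib.U62Type

variable {G : Type*} [Group G] {z : G} {J W : Subgroup G}

/-- Mapping `W` into itself. -/
def Stab (W : Subgroup G) (g : G) : Prop := ∀ u ∈ W, g * u * g⁻¹ ∈ W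

theorem Stab.mul {g h : G} (hg : Stab W g) (hh : Stab W h) : Stab W (g * h) := fun u hu => by
  rw [show g * h * u * (g * h)⁻¹ = g * (h * u * h⁻¹) * g⁻¹ by group]
  exact hg _ (hh u hu)

theorem Stab.one : Stab W 1 := fun u hu => by simpa using hu

theorem Stab.pow {g : G} (hg : Stab W g) : ∀ n : ℕ, Stab W (g ^ n)
  | 0 => by rw [pow_zero]; exact Stab.one
  | n + 1 => by rw [pow_succ]; exact (Stab.pow hg n).mul hg

theorem Stab.inv [Finite G] {g : G} (hg : Stab W g) : Stab W g⁻¹ := by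
  have h : g ^ (orderOf g - 1) = g⁻¹ := by
    refine eq_inv_of_mul_eq_one_left ?_
    rw [← pow_succ, Nat.sub_add_cancel (orderOf_pos g), pow_orderOf_eq_one]
  rw [← h]
  exact hg.pow _

/-- An orbit of conjugates as an index. -/
theorem card_eq_orbit [Finite G] (H M : Subgroup G) (w : G) (S : Set G) (hM : ∀ x, x ∈ M ↔ x ∈ H ∧ Commute x w)
    (hin : ∀ x ∈ H, x * w * x⁻¹ ∈ S) (hsur : ∀ u ∈ S, ∃ x ∈ H, x * w * x⁻¹ = u) :
    Nat.card H = Nat.card S * Nat.card M := by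
  classical
  have hmk : ∀ a b : H, (a : ↥H ⧸ M.subgroupOf H) = b ↔ (a : G) * w * (a : G)⁻¹ = (b : G) * w * (b : G)⁻¹ := by
    intro a b
    rw [QuotientGroup.eq, Subgroup.mem_subgroupOf, hM]
    push_cast
    constructor
    · rintro ⟨-, h⟩
      rw [show (b : G) * w * (b : G)⁻¹ = (a : G) * ((a : G)⁻¹ * b * w * ((a : G)⁻¹ * b)⁻¹) * (a : G)⁻¹ by group,
        mul_inv_eq_iff_eq_mul.2 h.eq]
    · intro h
      refine ⟨mul_mem (inv_mem a.2) b.2, mul_inv_eq_iff_eq_mul.1 ?_⟩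
      rw [show (a : G)⁻¹ * b * w * ((a : G)⁻¹ * b)⁻¹ = (a : G)⁻¹ * ((b : G) * w * (b : G)⁻¹) * a by group, ← h]
      group
  obtain ⟨f, hf⟩ : ∃ f : ↥H ⧸ M.subgroupOf H → S, ∀ a : H, (f a : G) = (a : G) * w * (a : G)⁻¹ :=
    ⟨fun q => ⟨_, hin _ q.out.2⟩, fun a => (hmk _ a).1 (QuotientGroup.out_eq' _)⟩
  have hbij : Function.Bijective f := by
    refine ⟨fun p q e => ?_, fun u => ?_⟩
    · obtain ⟨a, rfl⟩ := QuotientGroup.mk_surjective p
      obtain ⟨b, rfl⟩ := QuotientGroup.mk_surjective q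
      rw [hmk, ← hf, ← hf, e]
    · obtain ⟨h, hh, he⟩ := hsur u u.2
      exact ⟨((⟨h, hh⟩ : H) : ↥H ⧸ M.subgroupOf H), Subtype.ext ((hf _).trans he)⟩
  have h := Subgroup.card_mul_index (M.subgroupOf H)
  rw [Subgroup.index, Nat.card_eq_of_bijective f hbij,
    Nat.card_congr (Subgroup.subgroupOfEquivOfLe (show M ≤ H from fun x hx => ((hM x).1 hx).1)).toEquiv] at h
  rw [← h, mul_comm]

namespace Eight

variable [Finite G] (E : Eight z J W) {F : Type*} [Field F] [Fintype F] (hF : Fintype.card F = 3) (P : Proj z J W F)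
  (hD : ∀ u ∈ W, u ≠ 1 → Iso z (u * z))

include E hF P hD

theorem isolated8 (hI : ∀ w ∈ W, w ≠ 1 → Iso z w) : Cfsg.IsIsolatedInvolution z := by
  refine ⟨orderOf_eq_prime (by rw [pow_two, E.z2]) E.z1, fun g hc => ?_⟩
  by_contra hne
  obtain ⟨u, hu, hu1, f, hf, he⟩ := E.share8 hF P hD hc.symm hne
  exact hne (he.symm.trans (hI u hu hu1 f hf (he.symm ▸ hc.symm)))

variable (hN : ∀ w ∈ W, w ≠ 1 → NormalIn W w)

include hN

theorem stab_share {g : G} (hc : Commute (g * z * g⁻¹) z) : Stab W g := by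
  by_cases hne : g * z * g⁻¹ = z
  · exact E.normW g (mul_inv_eq_iff_eq_mul.1 hne)
  obtain ⟨u, hu, hu1, f, hf, he⟩ := E.share8 hF P hD hc hne
  have h1 : Commute (f⁻¹ * g) z := mul_inv_eq_iff_eq_mul.1 (by
    rw [show f⁻¹ * g * z * (f⁻¹ * g)⁻¹ = f⁻¹ * (g * z * g⁻¹) * f by group, ← he]; group)
  have h2 := Stab.mul (hN u hu hu1 f hf) (E.normW _ h1)
  rwa [mul_inv_cancel_left] at h2

/-- A conjugate commuting with a member of `W` is in `W`. -/
theorem closed8 {w w₀ g : G} (hw : w ∈ W) (h1 : w ≠ 1) (hw₀ : w₀ ∈ W) (h₀ : w₀ ≠ 1)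
    (hc : Commute (g * w * g⁻¹) w₀) : g * w * g⁻¹ ∈ W := by
  obtain ⟨h', hh', he'⟩ := E.trans w₀ hw₀ w hw h₀ h1
  obtain ⟨u, hud⟩ : ∃ u, u = g * w * g⁻¹ := ⟨_, rfl⟩
  rw [← hud] at hc ⊢
  obtain ⟨g', hg'⟩ : ∃ g', g' = g * h' := ⟨_, rfl⟩
  have hue : g' * w₀ * g'⁻¹ = u := by
    rw [hud, hg', show g * h' * w₀ * (g * h')⁻¹ = g * (h' * w₀ * h'⁻¹) * g⁻¹ by group, he']
  have hp2 : ∀ {v : G}, v * v = 1 → IsPGroup 2 ↥(Subgroup.zpowers v) := fun {v} hv y => ⟨1, Subtype.ext (by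
    obtain ⟨n, hn⟩ := Subgroup.mem_zpowers_iff.1 y.2
    rw [SubgroupClass.coe_pow, pow_one, pow_two, ← hn, ← (Commute.refl v).mul_zpow, hv, one_zpow]
    rfl)⟩
  obtain ⟨h, hh, hP⟩ := ((E.cent (b := w₀) (Or.inl hw₀)).conj g') (Subgroup.zpowers w₀) (hp2 (E.W2 w₀ hw₀))
    (fun p hp => by
      rcases (mem_zpowers_two (E.W2 w₀ hw₀)).1 hp with rfl | rfl
      · exact Commute.one_left _
      · rw [hue]; exact hc.symm)
  obtain ⟨f, hf⟩ : ∃ f, f = h * g' := ⟨_, rfl⟩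
  have hfu : f * w₀ * f⁻¹ = u := by
    rw [hf, show h * g' * w₀ * (h * g')⁻¹ = h * (g' * w₀ * g'⁻¹) * h⁻¹ by group, mul_inv_eq_iff_eq_mul.2 hh.eq, hue]
  have hft : Commute (f * z * f⁻¹) w₀ := by
    have h1 := (hP w₀ (Subgroup.mem_zpowers w₀)).symm
    rwa [show h * (g' * z * g'⁻¹) * h⁻¹ = f * z * f⁻¹ by rw [hf]; group] at h1
  have ht2 : f * z * f⁻¹ * (f * z * f⁻¹) = 1 := by
    rw [show f * z * f⁻¹ * (f * z * f⁻¹) = f * (z * z) * f⁻¹ by group, E.z2, mul_one, mul_inv_cancel]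
  obtain ⟨m, hm, hmP⟩ := (E.cent (b := w₀) (Or.inl hw₀)) (Subgroup.zpowers (f * z * f⁻¹)) (hp2 ht2) fun p hp => by
    rcases (mem_zpowers_two ht2).1 hp with rfl | rfl
    exacts [Commute.one_left _, hft]
  have h1' := hmP _ (Subgroup.mem_zpowers (f * z * f⁻¹))
  have hwz : Commute ((m⁻¹ * f) * z * (m⁻¹ * f)⁻¹) z := by
    have := commute_conj_back h1'
    rwa [show m⁻¹ * (f * z * f⁻¹) * m = m⁻¹ * f * z * (m⁻¹ * f)⁻¹ by group] at this
  have hs : Stab W f := by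
    have := Stab.mul (hN w₀ hw₀ h₀ m hm) (E.stab_share hF P hD hN hwz)
    rwa [mul_inv_cancel_left] at this
  exact hfu ▸ hs w₀ hw₀

/-- Everything centralising `w z` fixes `W`. -/
theorem stab_d {w : G} (hw : w ∈ W) (h1 : w ≠ 1) {k : G} (hk : Commute k (w * z)) : Stab W k := by
  classical
  have hd8 : Z8 z W (w * z) := Or.inr (by rw [E.wzz]; exact hw)
  obtain ⟨C, hC⟩ : ∃ C, C = Subgroup.centralizer ({w * z} : Set G) := ⟨_, rfl⟩
  have hmC : ∀ {x}, x ∈ C ↔ Commute x (w * z) := fun {x} => by rw [hC]; exact mem_cent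
  have hzC : z ∈ C := hmC.2 (E.z8_comm hd8 E.zJ)
  have hiso : Cfsg.IsIsolatedInvolution (⟨z, hzC⟩ : C) := by
    refine ⟨orderOf_eq_prime (by rw [pow_two]; exact Subtype.ext E.z2) (fun e => E.z1 (congrArg Subtype.val e)),
      fun g hg => Subtype.ext (hD w hw h1 g (hmC.1 g.2) ?_)⟩
    exact (congrArg Subtype.val hg : z * ((g : G) * z * (g : G)⁻¹) = (g : G) * z * (g : G)⁻¹ * z).symm
  have htop := Cfsg.Lib.A4Stab.centralizer_sup_oddCore hiso
  obtain ⟨O, hO⟩ : ∃ O, O = Cfsg.oddCore ↥C := ⟨_, rfl⟩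
  rw [← hO] at htop
  haveI hOn : O.Normal := by rw [hO]; infer_instance
  have hodd : Odd (Nat.card O) := by rw [hO]; exact ZStar.odd_card_oddCore
  have hmem : (⟨k, hmC.2 hk⟩ : C) ∈ Subgroup.centralizer ({(⟨z, hzC⟩ : C)} : Set C) ⊔ O := htop ▸ Subgroup.mem_top _
  obtain ⟨h, hh, o, ho, hho⟩ := Subgroup.mem_sup_of_normal_right.1 hmem
  have hhz : Commute (h : G) z := congrArg Subtype.val (mem_cent.1 hh).eq
  rw [show k = (h : G) * (o : G) from (congrArg Subtype.val hho).symm]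
  refine Stab.mul (E.normW _ hhz) ?_
  -- the odd part
  have hord : ∀ {x : C}, x ∈ O → Odd (orderOf x) := fun hx => Odd.of_dvd_nat hodd (Subgroup.orderOf_dvd_natCard O hx)
  have hJC : ∀ {j}, j ∈ J → j ∈ C := fun hj => hmC.2 (E.z8_comm hd8 hj)
  have hOJ : ∀ {x : C}, x ∈ O → (x : G) ∈ J → x = 1 := by
    intro x hx hJ
    have h4 : x ^ 4 = 1 := Subtype.ext (by
      rw [SubgroupClass.coe_pow, show (4 : ℕ) = 2 * 2 from rfl, pow_mul, pow_two, pow_two]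
      rcases E.sq _ hJ with e | e <;> rw [e]
      exacts [one_mul 1, E.z2])
    exact orderOf_eq_one_iff.1 (Nat.Coprime.eq_one_of_dvd ((Nat.coprime_two_right.2 (hord hx)).pow_right 2)
      (orderOf_dvd_of_pow_eq_one h4))
  have hfree : ∀ {x : C}, x ∈ O → Commute (x : G) z → x = 1 := by
    intro x hx hxz
    refine hOJ hx (E.self hxz fun j hj => mul_inv_eq_iff_eq_mul.1 (mul_inv_eq_one.1 ?_))
    have hin : x * ⟨j, hJC hj⟩ * x⁻¹ * (⟨j, hJC hj⟩ : C)⁻¹ ∈ O := by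
      rw [show x * ⟨j, hJC hj⟩ * x⁻¹ * (⟨j, hJC hj⟩ : C)⁻¹ = x * (⟨j, hJC hj⟩ * x⁻¹ * (⟨j, hJC hj⟩ : C)⁻¹) by group]
      exact mul_mem hx (hOn.conj_mem _ (inv_mem hx) _)
    exact congrArg Subtype.val (hOJ hin (mul_mem (E.norm x hxz j hj) (inv_mem hj)))
  have hinv : ∀ {x : C}, x ∈ O → z * (x : G) * z⁻¹ = (x : G)⁻¹ := by
    intro x hx
    obtain ⟨zz, hzz⟩ : ∃ zz : C, zz = ⟨z, hzC⟩ := ⟨_, rfl⟩
    have hzz2 : zz * zz = 1 := by rw [hzz]; exact Subtype.ext E.z2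
    have hf : MonoidHom.FixedPointFree (MulAut.conjNormal zz : MulAut O) := fun y hy => Subtype.ext (hfree y.2 (by
      have h1 : zz * (y : C) * zz⁻¹ = y := by rw [← MulAut.conjNormal_apply, hy]
      have h2 := congrArg Subtype.val (mul_inv_eq_iff_eq_mul.1 h1)
      rw [hzz] at h2
      exact h2.symm))
    have h2 : Function.Involutive (MulAut.conjNormal zz : MulAut O) := fun y => Subtype.ext (by
      rw [MulAut.conjNormal_apply, MulAut.conjNormal_apply, inv_eq_of_mul_eq_one_right hzz2,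
        show zz * (zz * (y : C) * zz) * zz = zz * zz * y * (zz * zz) by group, hzz2, one_mul, mul_one])
    have h3 := congrArg Subtype.val (congrFun (hf.coe_eq_inv_of_involutive h2) ⟨x, hx⟩)
    rw [MulAut.conjNormal_apply, hzz] at h3
    exact congrArg Subtype.val h3
  have hab : ∀ {x y : C}, x ∈ O → y ∈ O → Commute (x : G) y := by
    intro x y hx hy
    have h := hinv (mul_mem hx hy)
    push_cast at h
    rw [show z * ((x : G) * y) * z⁻¹ = z * (x : G) * z⁻¹ * (z * (y : G) * z⁻¹) by group, hinv hx, hinv hy,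
      mul_inv_rev] at h
    exact Commute.inv_inv_iff.1 h
  -- conjugation by the members of `W`
  obtain ⟨w2, hw2, h21, hne⟩ := E.exists_other w
  have hWC : ∀ {u}, u ∈ W → u ∈ C := fun hu => hJC (E.WJ hu)
  have hconj : ∀ {u} (hu : u ∈ W) {x : C}, x ∈ O → (⟨u, hWC hu⟩ * x * (⟨u, hWC hu⟩ : C)⁻¹ : C) ∈ O :=
    fun {u} hu {x} hx => hOn.conj_mem x hx _
  have split : ∀ {u} (hu : u ∈ W), u ≠ 1 → ∀ {x : C}, x ∈ O → ∃ p : C, p ∈ O ∧ u * (p : G) * u⁻¹ = (p : G)⁻¹ ∧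
      (p : G) = x * (u * (x : G) * u⁻¹)⁻¹ ∧ ∃ s, Stab W s ∧ (x : G) * x = s * p := by
    intro u hu hu1 x hx
    have hy := hconj hu hx
    obtain ⟨y, hyd⟩ : ∃ y : C, y = ⟨u, hWC hu⟩ * x * (⟨u, hWC hu⟩ : C)⁻¹ := ⟨_, rfl⟩
    rw [← hyd] at hy
    have hyv : (y : G) = u * (x : G) * u⁻¹ := by rw [hyd]; rfl
    have hui := E.winv hu
    have hback : u * (y : G) * u⁻¹ = x := by
      rw [hyv, show u * (u * (x : G) * u⁻¹) * u⁻¹ = u * u * x * (u * u)⁻¹ by group, E.W2 u hu]; group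
    refine ⟨x * y⁻¹, mul_mem hx (inv_mem hy), ?_, ?_, (x : G) * y, hN u hu hu1 _ (mul_inv_eq_iff_eq_mul.1 ?_).symm, ?_⟩
    · push_cast
      rw [show u * ((x : G) * (y : G)⁻¹) * u⁻¹ = u * (x : G) * u⁻¹ * (u * (y : G) * u⁻¹)⁻¹ by group, ← hyv, hback,
        mul_inv_rev, inv_inv]
    · push_cast; rw [hyv]
    · rw [show u * ((x : G) * y) * u⁻¹ = u * (x : G) * u⁻¹ * (u * (y : G) * u⁻¹) by group, ← hyv, hback,
        (hab hy hx).eq]
    · push_cast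
      rw [mul_assoc (x : G), ← mul_assoc (y : G), (hab hy hx).eq, mul_inv_cancel_right]
  obtain ⟨p, hp, hpw, -, s, hs, hxs⟩ := split hw h1 ho
  obtain ⟨r', hr', hrw, hre, s', hs', hps⟩ := split hw2 h21 hp
  have hr'w : Stab W (r' : G) := by
    have h12 : w * w2 ≠ 1 := fun e => hne ((eq_inv_of_mul_eq_one_left e).trans (E.winv hw2))
    refine hN _ (mul_mem hw hw2) h12 _ (mul_inv_eq_iff_eq_mul.1 ?_).symm
    have h3 : w * (r' : G) * w⁻¹ = (r' : G)⁻¹ := by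
      rw [hre, show w * ((p : G) * (w2 * (p : G) * w2⁻¹)⁻¹) * w⁻¹ =
        w * (p : G) * w⁻¹ * (w * w2 * (p : G) * (w * w2)⁻¹)⁻¹ by group, hpw,
        (E.wcomm hw hw2).eq, show w2 * w * (p : G) * (w2 * w)⁻¹ = w2 * (w * (p : G) * w⁻¹) * w2⁻¹ by group, hpw,
        show (w2 * (p : G)⁻¹ * w2⁻¹)⁻¹ = w2 * (p : G) * w2⁻¹ by group, mul_inv_rev, inv_inv]
      have hy := hconj hw2 hp
      exact ((hab hy hp).inv_right).eq.symm
    rw [show w * w2 * (r' : G) * (w * w2)⁻¹ = w * (w2 * (r' : G) * w2⁻¹) * w⁻¹ by group, hrw,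
      show w * (r' : G)⁻¹ * w⁻¹ = (w * (r' : G) * w⁻¹)⁻¹ by group, h3, inv_inv]
  have h4 : Stab W ((o : G) ^ 4) := by
    have hp2 : Stab W ((p : G) * p) := hps ▸ hs'.mul hr'w
    have hsp : Commute s (p : G) := by
      have e : s = (o : G) * o * (p : G)⁻¹ := by rw [hxs, mul_inv_cancel_right]
      rw [e]
      exact ((hab ho hp).mul_left (hab ho hp)).mul_left (Commute.refl _).inv_left
    rw [show (4 : ℕ) = 2 * 2 from rfl, pow_mul, pow_two (o : G), hxs, pow_two,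
      hsp.symm.mul_mul_mul_comm]
    exact (hs.mul hs).mul hp2
  obtain ⟨n, hn⟩ := hord ho
  have ho1 : (o : G) ^ (2 * n + 1) = 1 := by
    rw [← SubgroupClass.coe_pow, ← hn, pow_orderOf_eq_one]; rfl
  obtain ⟨m, hm⟩ : ∃ m, (o : G) = ((o : G) ^ 4) ^ m := by
    rcases Nat.even_or_odd n with ⟨i, hi⟩ | ⟨i, hi⟩
    · refine ⟨3 * i + 1, ?_⟩
      rw [← pow_mul, show 4 * (3 * i + 1) = (2 * n + 1) * 3 + 1 by omega, pow_add, pow_mul, ho1, one_pow, one_mul,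
        pow_one]
    · refine ⟨i + 1, ?_⟩
      rw [← pow_mul, show 4 * (i + 1) = (2 * n + 1) + 1 by omega, pow_add, ho1, one_mul, pow_one]
  rw [hm]
  exact h4.pow m

/-- `W` is normal. -/
theorem normal8 : W.Normal := by
  classical
  refine ⟨fun w hw g => ?_⟩
  by_cases h1 : w = 1
  · simp [h1]
  obtain ⟨u, hu⟩ : ∃ u, u = g * w * g⁻¹ := ⟨_, rfl⟩
  rw [← hu]
  by_contra hnu
  have hsq : ∀ {a : G}, a * a = 1 → ∀ b : G, b * a * b⁻¹ * (b * a * b⁻¹) = 1 := fun {a} ha b => by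
    rw [show b * a * b⁻¹ * (b * a * b⁻¹) = b * (a * a) * b⁻¹ by group, ha, mul_one, mul_inv_cancel]
  have hu2 : u * u = 1 := hu ▸ hsq (E.W2 w hw) g
  have hui := inv_eq_of_mul_eq_one_right hu2
  -- a conjugate in the centraliser of `z` is in `W`
  have hinH : ∀ f : G, Commute (f * w * f⁻¹) z → f * w * f⁻¹ ∈ W := fun f hf => by
    obtain ⟨w₀, hw₀, h₀, hc⟩ := E.fix_one hf (hsq (E.W2 w hw) f)
    exact E.closed8 hF P hD hN hw h1 hw₀ h₀ hc
  obtain ⟨D, hD'⟩ : ∃ D, D = z * u := ⟨_, rfl⟩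
  have hzD : z * D * z⁻¹ = D⁻¹ := by
    rw [hD', mul_inv_rev, E.zinv, hui, ← mul_assoc, E.z2, one_mul]
  have huD : u * D * u⁻¹ = D⁻¹ := by
    rw [hD', mul_inv_rev, E.zinv, hui, mul_assoc u, mul_assoc z u u, hu2, mul_one]
  have hpow : ∀ {a : G}, a * D * a⁻¹ = D⁻¹ → ∀ m : ℕ, a * D ^ m * a⁻¹ = (D ^ m)⁻¹ := fun {a} ha m => by
    rw [← inv_pow, ← ha, conj_pow]
  have hflip : ∀ {a : G}, a * D * a⁻¹ = D⁻¹ → ∀ m : ℕ, a * D ^ m = (D ^ m)⁻¹ * a := fun {a} ha m =>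
    mul_inv_eq_iff_eq_mul.1 (hpow ha m)
  obtain ⟨m, hm⟩ : ∃ m, m = orderOf D := ⟨_, rfl⟩
  have hDm : D ^ m = 1 := hm ▸ pow_orderOf_eq_one D
  rcases Nat.even_or_odd m with ⟨n, hn⟩ | ⟨n, hn⟩
  swap
  · -- odd: `z` would be conjugate to `u`
    have e : D ^ n * z * (D ^ n)⁻¹ = u := by
      have h2 : D ^ n * D ^ n = D⁻¹ := by
        rw [← pow_add]
        refine eq_inv_of_mul_eq_one_left ?_
        rw [← pow_succ, show n + n + 1 = m by omega, hDm]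
      have hz' : z * (D ^ n)⁻¹ = D ^ n * z := by
        rw [hflip hzD n |> fun h => (show z * (D ^ n)⁻¹ = D ^ n * z by
          calc z * (D ^ n)⁻¹ = D ^ n * ((D ^ n)⁻¹ * z) * (D ^ n)⁻¹ := by group
            _ = D ^ n * (z * D ^ n) * (D ^ n)⁻¹ := by rw [← h]
            _ = D ^ n * z := by group)]
      rw [mul_assoc, hz', ← mul_assoc, h2, hD', mul_inv_rev, E.zinv, hui, mul_assoc, E.z2, mul_one]
    have e' : (g⁻¹ * D ^ n) * z * (g⁻¹ * D ^ n)⁻¹ = w := by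
      rw [show (g⁻¹ * D ^ n) * z * (g⁻¹ * D ^ n)⁻¹ = g⁻¹ * (D ^ n * z * (D ^ n)⁻¹) * g by group, e, hu]; group
    exact E.w_ne_z hw (E.ne_conj (Or.inl hw) e')
  have hn0 : n ≠ 0 := fun e => absurd (orderOf_pos D) (by omega)
  obtain ⟨v, hv⟩ : ∃ v, v = D ^ n := ⟨_, rfl⟩
  have hv1 : v ≠ 1 := fun e => by
    have := Nat.le_of_dvd (Nat.pos_of_ne_zero hn0) (orderOf_dvd_of_pow_eq_one (hv ▸ e))
    omega
  have hv2 : v * v = 1 := by rw [hv, ← pow_add, ← hn, hDm]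
  have hvi := inv_eq_of_mul_eq_one_right hv2
  have hvz : Commute v z := (mul_inv_eq_iff_eq_mul.1 (show z * v * z⁻¹ = v by rw [hv, hpow hzD, ← hv, hvi]) :
    Commute z v).symm
  have hvu : Commute v u := (mul_inv_eq_iff_eq_mul.1 (show u * v * u⁻¹ = v by rw [hv, hpow huD, ← hv, hvi]) :
    Commute u v).symm
  rcases Nat.even_or_odd n with ⟨k, hk⟩ | ⟨k, hk⟩
  · -- `u v` is a conjugate of `u`
    have e : (D ^ k)⁻¹ * u * (D ^ k)⁻¹⁻¹ = u * v := by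
      rw [inv_inv, ← hflip huD k, mul_assoc, ← pow_add, ← hk, hv]
    obtain ⟨f, hf⟩ : ∃ f, f = g⁻¹ * (D ^ k)⁻¹ * g := ⟨_, rfl⟩
    have hfw : f * w * f⁻¹ = g⁻¹ * (u * v) * g := by rw [hf, ← e, hu]; group
    have hg : g⁻¹ * u * g = w := by rw [hu]; group
    have hcw : Commute (f * w * f⁻¹) w := by
      rw [hfw]
      have h := (Commute.conj_iff g⁻¹).2 ((Commute.refl u).mul_left hvu)
      rwa [inv_inv, hg] at h
    have h' := mul_mem hw (E.closed8 hF P hD hN hw h1 hw h1 hcw)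
    rw [hfw, ← hg, show g⁻¹ * u * g * (g⁻¹ * (u * v) * g) = g⁻¹ * (u * u) * v * g by group, hu2, mul_one] at h'
    have hvW : v ∈ W := by
      have hv' : g * (g⁻¹ * v * g) * g⁻¹ = v := by group
      obtain ⟨w₀, hw₀, h₀, hc⟩ := E.fix_one hvz hv2
      rw [← hv'] at hc ⊢
      exact E.closed8 hF P hD hN h' (fun e => hv1 (by rw [← hv', e]; group)) hw₀ h₀ hc
    exact hnu (hu ▸ E.closed8 hF P hD hN hw h1 hvW hv1 (hu ▸ hvu.symm))
  · -- `z v` is a conjugate of `u`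
    have e : (D ^ k)⁻¹ * u * (D ^ k)⁻¹⁻¹ = z * v := by
      rw [inv_inv, ← hflip huD k, mul_assoc, ← pow_add, hv, show n = 1 + (k + k) by omega, pow_add D 1, pow_one,
        hD', ← mul_assoc z (z * u), ← mul_assoc z z u, E.z2, one_mul]
    have hzv : z * v ∈ W := by
      have e' : ((D ^ k)⁻¹ * g) * w * ((D ^ k)⁻¹ * g)⁻¹ = z * v := by rw [← e, hu]; group
      rw [← e']
      exact hinH _ (e'.symm ▸ (Commute.refl z).mul_left hvz)
    obtain ⟨w₁, hw₁⟩ : ∃ w₁, w₁ = z * v := ⟨_, rfl⟩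
    rw [← hw₁] at hzv
    have hv' : v = w₁ * z := by rw [hw₁, mul_assoc, hvz.eq, ← mul_assoc, E.z2, one_mul]
    have hw11 : w₁ ≠ 1 := fun e' => by
      have h' : ((D ^ k)⁻¹ * g) * w * ((D ^ k)⁻¹ * g)⁻¹ = 1 := by rw [← e', hw₁, ← e, hu]; group
      exact h1 (conj_eq_one_iff.1 h')
    have hud : Commute u (w₁ * z) := hv' ▸ hvu.symm
    obtain ⟨f, hf, hfP⟩ := (E.cent (b := w₁ * z) (Or.inr (by rw [E.wzz]; exact hzv))) (Subgroup.zpowers u)
      (fun y => ⟨1, Subtype.ext (by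
        obtain ⟨i, hi⟩ := Subgroup.mem_zpowers_iff.1 y.2
        rw [SubgroupClass.coe_pow, pow_one, pow_two, ← hi, ← (Commute.refl u).mul_zpow, hu2, one_zpow]
        rfl)⟩)
      (fun p hp => by
        rcases (mem_zpowers_two hu2).1 hp with rfl | rfl
        exacts [Commute.one_left _, hud])
    have h2 := commute_conj_back (hfP u (Subgroup.mem_zpowers u))
    have e2 : f⁻¹ * g * w * (f⁻¹ * g)⁻¹ = f⁻¹ * u * f := by rw [hu]; group
    rw [← e2] at h2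
    have h3 := E.stab_d hF P hD hN hzv hw11 hf _ (hinH _ h2)
    rw [e2] at h3
    exact hnu (by simpa [mul_assoc] using h3)

end Eight

end Cfsg.Lib.U62Type
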