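import Cfsg.Agent.Lib.U62Type.FourSmall

/-!
# Checks for a 2-core with centre of order eight
-/

set_option autoImplicit false
set_option maxRecDepth 10000

namespace Cfsg.Lib.U62Type

/-- The second class, allowing three members permuted by a centralising element of order three. -/
def uThin3Chk : Bool :=
  (outL cfgU).all fun k => (parL cfgU k 1).all fun c =>
    c == xC cfgU.gens 1 || (cvL cfgU 1).any (fun v => !(Nat.beq (ap c v) v)) ||
      (ceL cfgU.gens 1).any (fun e =>
        let f := cm e e
        let c2 := cm (cm f c) (cm f f)
        let c3 := cm (cm (cm f f) c) f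
        cm (cm f f) f == idc && !(c2 == c) &&
          (!(cm c c2 == cm c2 c) || !(cm (cm c c2) c3 == xC cfgU.gens 1))) ||
      (clL cfgU.gens 0).contains c

/-- The squares of two products of generators fix eight vectors only. -/
def twoSqChk (C : Cfg) : Bool :=
  Nat.beq ((vecs.filter fun v =>
    Nat.beq (ap (cm (cw C.gens [0]) (cw C.gens [0])) v) v &&
      Nat.beq (ap (cm (cw C.gens [0, 2]) (cw C.gens [0, 2])) v) v).length) 8

theorem uThin3_U : uThin3Chk = true := by decide +kernel

theorem twoSq_P : twoSqChk cfgP = true := by decide +kernel

theorem twoSq_M : twoSqChk cfgM = true := by decide +kernel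

end Cfsg.Lib.U62Type
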