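import Cfsg.Agent.Lib.U62Type.EightSetup
import Cfsg.Agent.Lib.U62Type.EightTables

/-!
# The centralisers of the other central involutions, modulo them
-/

set_option autoImplicit false
set_option linter.unusedSectionVars false
set_option linter.style.haveILetI false

namespace Cfsg.Lib.U62Type

variable {G : Type*} [Group G] {z : G} {J W : Subgroup G}

/-- The quotient of the centraliser of `w` in `C(z)` by the core. -/
def Proj (z : G) (J W : Subgroup G) (F : Type*) [Field F] [Fintype F] : Prop :=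
  ∀ w ∈ W, w ≠ 1 → ∃ π : ↥(Subgroup.centralizer ({z} : Set G) ⊓ Subgroup.centralizer ({w} : Set G)) →*
    MulAut (Cfsg.PSp 2 F), Function.Surjective π ∧ ∀ x, π x = 1 ↔ (x : G) ∈ J

/-- The core modulo `b`. -/
def coreQ (J : Subgroup G) (b : G) : Subgroup (CQ b) :=
  (J.subgroupOf (Subgroup.centralizer ({b} : Set G))).map (QuotientGroup.mk' _)

namespace Eight

variable (E : Eight z J W)

include E

theorem mem_coreQ {b : G} (hb : Z8 z W b) {x : G} (hx : Commute x b) : qmk b x hx ∈ coreQ J b ↔ x ∈ J := by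
  constructor
  · rintro ⟨y, hy, e⟩
    rcases (qmk_eq (E.z8_sq hb) (mem_cent.1 y.2) hx).1 e with h | h <;> rw [h]
    exacts [hy, mul_mem hy (E.z8_J hb)]
  · intro h; exact ⟨⟨x, mem_cent.2 hx⟩, h, rfl⟩

variable [Finite G]

theorem z_cases {w b : G} (hw : w ∈ W) (h1 : w ≠ 1) (hb : b = w ∨ b = w * z) :
    Z8 z W b ∧ b ≠ 1 ∧ b ≠ z ∧ Commute z b ∧ Z8 z W (z * b) ∧ z * b ≠ z := by
  have hb8 : Z8 z W b := by
    rcases hb with rfl | rfl
    exacts [Or.inl hw, Or.inr (by rw [E.wzz]; exact hw)]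
  have hzb : Commute z b := by
    rcases hb with rfl | rfl
    exacts [(E.wz hw).symm, (E.wz hw).symm.mul_right (Commute.refl z)]
  have hb1 : b ≠ 1 := by
    rcases hb with rfl | rfl
    exacts [h1, E.wz_ne_w hw (one_mem W)]
  refine ⟨hb8, hb1, ?_, hzb, ?_, fun e => hb1 (mul_eq_left.1 e)⟩
  · rcases hb with rfl | rfl
    exacts [E.w_ne_z hw, E.wz_ne_z h1]
  · rw [hzb.eq]
    rcases hb with rfl | rfl
    exacts [Or.inr (by rw [E.wzz]; exact hw), Or.inl (by rw [E.wzz]; exact hw)]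

theorem cent_of_b {w b x : G} (hw : w ∈ W) (hb : b = w ∨ b = w * z) (hx : Commute x z) :
    Commute x b ↔ Commute x w := by
  rcases hb with rfl | rfl
  · exact Iff.rfl
  · exact ⟨fun h => by simpa [E.wzz] using h.mul_right hx, fun h => h.mul_right hx⟩

/-- The centraliser of the image of `z`. -/
theorem lift_comm {w b : G} (hw : w ∈ W) (h1 : w ≠ 1) (hb : b = w ∨ b = w * z) (hzb : Commute z b) {g : G}
    (hg : Commute g b) : Commute (qmk b g hg) (qmk b z hzb) ↔ Commute g z := by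
  constructor
  · intro h
    have h2 : qmk b (g * z * g⁻¹) ((hg.mul_left hzb).mul_left hg.inv_left) = qmk b z hzb := by
      rw [qmk_conj hg hzb, mul_inv_eq_iff_eq_mul]
      exact h.eq
    obtain ⟨hb8, -, -, -, hzb8, hne⟩ := E.z_cases hw h1 hb
    refine mul_inv_eq_iff_eq_mul.1 ?_
    rcases (qmk_eq (E.z8_sq hb8) _ _).1 h2 with e | e
    · exact e.symm
    · exfalso
      have e' : g * z * g⁻¹ = z * b := by
        conv_rhs => rw [e]
        rw [mul_assoc _ b b, E.z8_sq hb8, mul_one]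
      exact hne (E.ne_conj hzb8 e')
  · intro h
    show qmk b g hg * qmk b z hzb = qmk b z hzb * qmk b g hg
    rw [← qmk_mul, ← qmk_mul]
    exact qmk_congr _ _ h.eq

/-- Outer elements fixing `w`. -/
theorem swap_q {w w' b : G} (hw : w ∈ W) (h1 : w ≠ 1) (hb : b = w ∨ b = w * z) (hw' : w' ∈ W) (h1' : w' ≠ 1)
    (hne : w ≠ w') {g : G} (hgz : Commute g z) (hgb : Commute g b) :
    g * w' * g⁻¹ = w' ∨ g * w' * g⁻¹ = w * w' := by
  have hgw := (E.cent_of_b hw hb hgz).1 hgb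
  rcases E.w_cases hw hw' h1 h1' hne (E.normW g hgz w' hw') with e | e | e | e
  · exact absurd (conj_eq_one_iff.1 e) h1'
  · refine absurd ?_ hne.symm
    rw [← mul_inv_eq_iff_eq_mul.2 hgw.eq] at e
    exact mul_left_cancel (mul_right_cancel e)
  · exact Or.inl e
  · exact Or.inr e

/-- The coordinates in the quotient; the action is unitary. -/
theorem local_quad {F : Type*} [Field F] [Fintype F] (hF : Fintype.card F = 3) (P : Proj z J W F) {w w' b : G}
    (hw : w ∈ W) (h1 : w ≠ 1) (hw' : w' ∈ W) (h1' : w' ≠ 1) (hne : w ≠ w') (hb : b = w ∨ b = w * z)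
    (hzb : Commute z b) (hwb : Commute w' b) :
    ∃ Q : Quad cfgU (qmk b z hzb) (qmk b w' hwb), Q.J = coreQ J b ∧ Full Q := by
  classical
  obtain ⟨hb8, hb1, hbz, -, -, -⟩ := E.z_cases hw h1 hb
  have hb2 := E.z8_sq hb8
  have heq : ∀ {x y : G} (hx : Commute x b) (hy : Commute y b), qmk b x hx = qmk b y hy ↔ y = x ∨ y = x * b :=
    fun hx hy => qmk_eq hb2 hx hy
  have hJb : ∀ {j}, j ∈ J → Commute j b := fun hj => E.z8_comm hb8 hj
  have hmem : ∀ {x : G} (hx : Commute x b), qmk b x hx ∈ coreQ J b ↔ x ∈ J := fun hx => E.mem_coreQ hb8 hx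
  have hrep : ∀ {y : CQ b}, y ∈ coreQ J b → ∃ (x : G) (hx : x ∈ J), qmk b x (hJb hx) = y := by
    intro y hy
    obtain ⟨x, hx, rfl⟩ := qmk_surj y
    exact ⟨x, (hmem hx).1 hy, rfl⟩
  have hcard : Nat.card ↥(coreQ J b) = 1024 := by
    have hle : J ≤ Subgroup.centralizer ({b} : Set G) := fun j hj => mem_cent.2 (hJb hj)
    have hbJ : Subgroup.zpowers b ≤ J := Subgroup.zpowers_le.2 (E.z8_J hb8)
    have h := card_map_mk ((Subgroup.zpowers b).subgroupOf (Subgroup.centralizer ({b} : Set G)))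
      (S := J.subgroupOf (Subgroup.centralizer ({b} : Set G))) (fun x hx => hbJ hx)
    rw [Nat.card_congr (Subgroup.subgroupOfEquivOfLe (hbJ.trans hle)).toEquiv,
      Nat.card_congr (Subgroup.subgroupOfEquivOfLe hle).toEquiv, Nat.card_zpowers,
      orderOf_eq_prime (p := 2) (by rw [pow_two, hb2]) hb1, E.card] at h
    have : Nat.card (coreQ J b) * 2 = 2048 := h
    omega
  have hne1 : ∀ {x : G} (hx : Commute x b), x ≠ 1 → x ≠ b → qmk b x hx ≠ 1 := fun {x} hx h h' e => by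
    rw [← qmk_one] at e
    rcases (heq hx _).1 e with e | e
    · exact h e.symm
    · exact h' (eq_inv_of_mul_eq_one_left e.symm |>.trans (inv_eq_of_mul_eq_one_right hb2))
  have hwb' : w' ≠ b := by
    rcases hb with rfl | rfl
    exacts [hne.symm, (E.wz_ne_w hw hw').symm]
  -- the centre of the quotient
  have hcases : ∀ {u}, u ∈ W → ∀ hu : Commute u b, qmk b u hu = 1 ∨ qmk b u hu = qmk b z hzb ∨
      qmk b u hu = qmk b w' hwb ∨ qmk b u hu = qmk b w' hwb * qmk b z hzb := by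
    intro u hu hub
    have hwz' : w' * z = z * w' := (E.wz hw').eq
    rw [← qmk_mul, ← qmk_one]
    rcases E.w_cases hw hw' h1 h1' hne hu with rfl | rfl | rfl | rfl
    · exact Or.inl rfl
    · rcases hb with rfl | rfl
      · exact Or.inl ((heq _ _).2 (Or.inr hb2.symm))
      · refine Or.inr (Or.inl ((heq _ _).2 (Or.inr ?_)))
        rw [← mul_assoc, E.W2 u hu, one_mul]
    · exact Or.inr (Or.inr (Or.inl rfl))
    · rcases hb with rfl | rfl
      · refine Or.inr (Or.inr (Or.inl ((heq _ _).2 (Or.inr ?_))))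
        rw [mul_assoc, (E.wcomm hw' hw).eq, ← mul_assoc, E.W2 b hw, one_mul]
      · refine Or.inr (Or.inr (Or.inr ((heq _ _).2 (Or.inr ?_))))
        rw [mul_assoc w w', ← mul_assoc w' w z, (E.wcomm hw' hw).eq, mul_assoc w w' z,
          ← mul_assoc w w, E.W2 w hw, one_mul]
  have X : Core (qmk b z hzb) (qmk b w' hwb) (coreQ J b) := by
    refine ⟨?_, hne1 hzb E.z1 hbz.symm, ?_, hne1 hwb h1' hwb', fun e => ?_, (hmem hzb).2 E.zJ, (hmem hwb).2 (E.WJ hw'),
      ?_, ?_, ?_, ?_, ?_, hcard, ?_, ?_⟩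
    · rw [← qmk_mul, ← qmk_one]; exact qmk_congr _ _ E.z2
    · rw [← qmk_mul, ← qmk_one]; exact qmk_congr _ _ (E.W2 w' hw')
    · rcases (heq _ _).1 e with h | h
      · exact E.w_ne_z hw' h.symm
      · rcases hb with rfl | rfl
        · exact E.w_ne_z (mul_mem hw' hw) h.symm
        · refine hne.symm ?_
          rw [← mul_assoc] at h
          exact (eq_inv_of_mul_eq_one_left (mul_eq_right.1 h.symm)).trans (E.winv hw)
    · intro y hy
      obtain ⟨x, hx, rfl⟩ := hrep hy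
      exact (E.lift_comm hw h1 hb hzb _).2 (E.cz x hx)
    · intro y hy
      obtain ⟨x, hx, rfl⟩ := hrep hy
      show qmk b x (hJb hx) * qmk b w' hwb = qmk b w' hwb * qmk b x (hJb hx)
      rw [← qmk_mul, ← qmk_mul]
      exact qmk_congr _ _ (E.cW x hx w' hw').eq
    · intro h hh y hy
      obtain ⟨g, hg, rfl⟩ := qmk_surj h
      obtain ⟨x, hx, rfl⟩ := hrep hy
      rw [← qmk_conj hg (hJb hx)]
      exact (hmem _).2 (E.norm g ((E.lift_comm hw h1 hb hzb hg).1 hh) x hx)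
    · intro y hy
      obtain ⟨x, hx, rfl⟩ := hrep hy
      rw [← qmk_mul]
      rcases E.sq x hx with e | e
      · left; rw [← qmk_one]; exact qmk_congr _ _ e
      · right; exact qmk_congr _ _ e
    · intro y hy y' hy'
      obtain ⟨x, hx, rfl⟩ := hrep hy
      obtain ⟨x', hx', rfl⟩ := hrep hy'
      rw [← qmk_inv, ← qmk_inv, ← qmk_mul, ← qmk_mul, ← qmk_mul]
      rcases E.cmt x hx x' hx' with e | e
      · left; rw [← qmk_one]; exact qmk_congr _ _ e
      · right; exact qmk_congr _ _ e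
    · intro h hh hcm
      obtain ⟨g, hg, rfl⟩ := qmk_surj h
      have hgz := (E.lift_comm hw h1 hb hzb hg).1 hh
      have hfix : ∀ {n}, Commute n z → Commute n w → n * b * n⁻¹ = b := fun hn hnw =>
        mul_inv_eq_iff_eq_mul.2 ((E.cent_of_b hw hb hn).2 hnw).eq
      let N : Subgroup G :=
        { carrier := {n : G | (Commute n z ∧ Commute n w) ∧ ∀ j ∈ J, n * j * n⁻¹ = j ∨ n * j * n⁻¹ = j * b}
          one_mem' := ⟨⟨Commute.one_left z, Commute.one_left w⟩, fun j _ => Or.inl (by simp)⟩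
          mul_mem' := fun {m n} hm hn => by
            refine ⟨⟨hm.1.1.mul_left hn.1.1, hm.1.2.mul_left hn.1.2⟩, fun j hj => ?_⟩
            rw [show m * n * j * (m * n)⁻¹ = m * (n * j * n⁻¹) * m⁻¹ by group]
            rcases hn.2 j hj with e | e <;> rw [e]
            · exact hm.2 j hj
            · rw [show m * (j * b) * m⁻¹ = m * j * m⁻¹ * (m * b * m⁻¹) by group, hfix hm.1.1 hm.1.2]
              rcases hm.2 j hj with e | e <;> rw [e]
              · exact Or.inr rfl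
              · left; rw [mul_assoc, hb2, mul_one]
          inv_mem' := fun {n} hn => by
            refine ⟨⟨hn.1.1.inv_left, hn.1.2.inv_left⟩, fun j hj => ?_⟩
            rcases hn.2 j hj with e | e
            · left
              conv_lhs => rw [← e]
              group
            · right
              have e' : n * (j * b) * n⁻¹ = j := by
                rw [show n * (j * b) * n⁻¹ = n * j * n⁻¹ * (n * b * n⁻¹) by group, e, hfix hn.1.1 hn.1.2, mul_assoc,
                  hb2, mul_one]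
              conv_lhs => rw [← e']
              group }
      have hmN : ∀ {n}, n ∈ N ↔ (Commute n z ∧ Commute n w) ∧
          ∀ j ∈ J, n * j * n⁻¹ = j ∨ n * j * n⁻¹ = j * b := Iff.rfl
      have h2 : IsPGroup 2 ↥N := fun n => by
        obtain ⟨⟨hnz, hnw⟩, hn⟩ := hmN.1 n.2
        refine ⟨3, Subtype.ext ?_⟩
        have hJ2 : (n : G) * n ∈ J := E.self (hnz.mul_left hnz) fun j hj => mul_inv_eq_iff_eq_mul.1 (by
          rw [show (n : G) * n * j * ((n : G) * n)⁻¹ = (n : G) * ((n : G) * j * (n : G)⁻¹) * (n : G)⁻¹ by group]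
          rcases hn j hj with e | e <;> rw [e]
          · exact e
          · rw [show (n : G) * (j * b) * (n : G)⁻¹ = (n : G) * j * (n : G)⁻¹ * ((n : G) * b * (n : G)⁻¹) by group, e,
              hfix hnz hnw, mul_assoc, hb2, mul_one])
        rw [SubgroupClass.coe_pow, show (2 : ℕ) ^ 3 = 2 * (2 * 2) from rfl, pow_mul, pow_mul, pow_two, pow_two,
          pow_two]
        rcases E.sq _ hJ2 with e | e <;> rw [e]
        exacts [show (1 : G) * 1 = 1 from one_mul 1, E.z2]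
      refine (hmem hg).2 (E.small w hw h1 N (fun n hn => (hmN.1 hn).1) h2 (fun k hk hkw n hn => ?_) (hmN.2
        ⟨⟨hgz, (E.cent_of_b hw hb hgz).1 hg⟩, fun j hj => ?_⟩))
      · obtain ⟨⟨hnz, hnw⟩, hn⟩ := hmN.1 hn
        refine hmN.2 ⟨⟨(hk.mul_left hnz).mul_left hk.inv_left, (hkw.mul_left hnw).mul_left hkw.inv_left⟩, fun j hj => ?_⟩
        rw [show k * n * k⁻¹ * j * (k * n * k⁻¹)⁻¹ = k * (n * (k⁻¹ * j * k⁻¹⁻¹) * n⁻¹) * k⁻¹ by group]
        rcases hn _ (E.norm k⁻¹ hk.inv_left j hj) with e | e <;> rw [e]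
        · left; group
        · right
          rw [show k * (k⁻¹ * j * k⁻¹⁻¹ * b) * k⁻¹ = j * (k * b * k⁻¹) by group, hfix hk hkw]
      · have h1 := mul_inv_eq_iff_eq_mul.2 (hcm _ ((hmem (hJb hj)).2 hj)).eq
        rw [← qmk_conj hg (hJb hj), heq] at h1
        rcases h1 with e | e
        · exact Or.inl e.symm
        · right
          conv_rhs => rw [e]
          rw [mul_assoc _ b b, hb2, mul_one]
    · intro y hy hcm
      obtain ⟨x, hx, rfl⟩ := hrep hy
      have hx8 : Z8 z W x := E.zc x hx fun k hk => by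
        refine mul_inv_eq_iff_eq_mul.1 (mul_inv_eq_one.1 ?_)
        rcases E.cmt x hx k hk with e | e
        · exact e
        exfalso
        have hk' := hJb hk
        have hd := (((hJb hx).mul_left hk').mul_left (hJb hx).inv_left).mul_left hk'.inv_left
        have h1 : qmk b (x * k * x⁻¹ * k⁻¹) hd = 1 := by
          show qmk b x (hJb hx) * qmk b k (hJb hk) * (qmk b x (hJb hx))⁻¹ * (qmk b k (hJb hk))⁻¹ = 1
          rw [mul_inv_eq_one, mul_inv_eq_iff_eq_mul]
          exact hcm _ ((hmem hk').2 hk)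
        exact hne1 hd (e ▸ E.z1) (e ▸ hbz.symm) h1
      obtain ⟨u, hu, e⟩ := E.z8_form hx8
      have hub := E.z8_comm hb8 (E.WJ hu)
      rcases e with e | e
      · rw [qmk_congr (hJb hx) hub e]
        exact hcases hu hub
      · rw [qmk_congr (hJb hx) (hub.mul_left hzb) e, qmk_mul hub hzb]
        have hz2' : qmk b z hzb * qmk b z hzb = 1 := by rw [← qmk_mul, ← qmk_one]; exact qmk_congr _ _ E.z2
        rcases hcases hu hub with h | h | h | h <;> rw [h]
        · exact Or.inr (Or.inl (one_mul _))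
        · exact Or.inl hz2'
        · exact Or.inr (Or.inr (Or.inr rfl))
        · rw [mul_assoc, hz2', mul_one]; exact Or.inr (Or.inr (Or.inl rfl))
  -- the projection
  obtain ⟨π, hπ, hk⟩ := P w hw h1
  have hlift : ∀ x : ↥(Subgroup.centralizer ({qmk b z hzb} : Set (CQ b))), ∃ g : ↥(Subgroup.centralizer ({z} : Set G) ⊓
      Subgroup.centralizer ({w} : Set G)), ∃ hg : Commute (g : G) b, qmk b g hg = x := by
    intro x
    obtain ⟨g, hg, e⟩ := qmk_surj (x : CQ b)
    have hgz := (E.lift_comm hw h1 hb hzb hg).1 (e ▸ mem_cent.1 x.2)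
    exact ⟨⟨g, mem_cent.2 hgz, mem_cent.2 ((E.cent_of_b hw hb hgz).1 hg)⟩, hg, e⟩
  choose r hr hre using hlift
  have hπeq : ∀ u v : ↥(Subgroup.centralizer ({z} : Set G) ⊓ Subgroup.centralizer ({w} : Set G)),
      ∀ (hu : Commute (u : G) b) (hv : Commute (v : G) b), qmk b u hu = qmk b v hv → π u = π v := by
    intro u v hu hv e
    refine (mul_inv_eq_one.1 ?_).symm
    rw [← map_inv, ← map_mul, hk]
    push_cast
    rcases (heq hu hv).1 e with h | h <;> rw [h]
    · rw [mul_inv_cancel]; exact one_mem _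
    · rw [hu.eq, mul_assoc, mul_inv_cancel, mul_one]; exact E.z8_J hb8
  let π' : ↥(Subgroup.centralizer ({qmk b z hzb} : Set (CQ b))) →* MulAut (Cfsg.PSp 2 F) :=
    MonoidHom.mk' (fun x => π (r x)) fun x y => by
      rw [← map_mul]
      refine hπeq _ _ (hr _) ((hr x).mul_left (hr y)) ?_
      rw [hre]
      show (x : CQ b) * y = qmk b ((r x : G) * (r y : G)) ((hr x).mul_left (hr y))
      rw [qmk_mul (hr x) (hr y), hre, hre]
  obtain ⟨C, Q, hQJ, hQ⟩ := quad_of_core X hF π' (fun φ => by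
    obtain ⟨u, rfl⟩ := hπ φ
    have huz : Commute (u : G) z := mem_cent.1 (Subgroup.mem_inf.1 u.2).1
    have hub := (E.cent_of_b hw hb huz).2 (mem_cent.1 (Subgroup.mem_inf.1 u.2).2)
    exact ⟨⟨qmk b u hub, mem_cent.2 ((E.lift_comm hw h1 hb hzb hub).2 huz)⟩, hπeq _ _ (hr _) hub (hre _)⟩)
    (fun x => by
      show π (r x) = 1 ↔ (x : CQ b) ∈ coreQ J b
      rw [hk, ← hre x, hmem])
  -- the orthogonal actions do not occur
  suffices hC : C = cfgU by subst hC; exact ⟨Q, hQJ, hQ⟩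
  rcases list_cases Q.std with hC | hC
  · exact hC
  exfalso
  have hchk : twoSqChk C = true := by rcases hC with rfl | rfl; exacts [twoSq_P, twoSq_M]
  simp only [twoSqChk, nbeq_iff] at hchk
  obtain ⟨c, hc3, hcz, hcfix, hcsq⟩ := E.rot w hw h1
  have hlift' : ∀ u : List ℕ, (∀ i ∈ u, i < 4) → ∃ h, ∃ hh : Commute h b, Commute h z ∧ Commute h w ∧
      Q.κ (qmk b (h * h) (hh.mul_left hh)) = cm (cw C.gens u) (cw C.gens u) := by
    intro u hu
    obtain ⟨y, hy, hye⟩ := Q.lift_word u hu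
    obtain ⟨h, hh, rfl⟩ := qmk_surj y
    have hhz := (E.lift_comm hw h1 hb hzb hh).1 hy
    exact ⟨h, hh, hhz, (E.cent_of_b hw hb hhz).1 hh, by rw [qmk_mul hh hh, Q.κ_mul hy hy, hye]⟩
  obtain ⟨h₁, hh₁, hz₁, hw₁, hκ₁⟩ := hlift' [0] (by decide)
  obtain ⟨h₂, hh₂, hz₂, hw₂, hκ₂⟩ := hlift' [0, 2] (by decide)
  obtain ⟨v, hvd⟩ : ∃ v : G → ℕ, ∀ x (hx : x ∈ J), v x = Q.vc (qmk b x (hJb hx)) :=
    ⟨fun x => if hx : x ∈ J then Q.vc (qmk b x (hJb hx)) else 0, fun x hx => dif_pos hx⟩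
  have hQm : ∀ {x} (hx : x ∈ J), qmk b x (hJb hx) ∈ Q.J := fun hx => hQJ ▸ (hmem _).2 hx
  have vmul : ∀ {x y}, x ∈ J → y ∈ J → v (x * y) = v x ^^^ v y := fun {x y} hx hy => by
    rw [hvd _ (mul_mem hx hy), hvd x hx, hvd y hy, ← Q.vc_mul _ (hQm hx) _ (hQm hy), ← qmk_mul]
  have v1 : v 1 = 0 := by
    rw [hvd 1 (one_mem _), ← Q.vc_one]
    congr 1
  have vzero : ∀ {x}, x ∈ J → (v x = 0 ↔ Z8 z W x) := by
    intro x hx
    rw [hvd x hx]
    constructor
    · intro h0
      refine E.zc x hx fun k hk => mul_inv_eq_iff_eq_mul.1 (mul_inv_eq_one.1 ?_)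
      rcases E.cmt x hx k hk with e | e
      · exact e
      exfalso
      have h1 : Commute (qmk b x (hJb hx)) (qmk b k (hJb hk)) := (Q.comm_iff (hQm hx) (hQm hk)).2 (by
        have hq0 : C.q 0 = 0 := by
          have h := Q.q_of_sq (one_mem _) (one_mul 1)
          rwa [Q.vc_one] at h
        rw [h0, cform, Nat.zero_xor, hq0, Nat.xor_zero, Nat.xor_self])
      have hd := (((hJb hx).mul_left (hJb hk)).mul_left (hJb hx).inv_left).mul_left (hJb hk).inv_left
      refine hne1 hd (e ▸ E.z1) (e ▸ hbz.symm) ?_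
      show qmk b x (hJb hx) * qmk b k (hJb hk) * (qmk b x (hJb hx))⁻¹ * (qmk b k (hJb hk))⁻¹ = 1
      rw [mul_inv_eq_one, mul_inv_eq_iff_eq_mul]
      exact h1.eq
    · intro h8
      obtain ⟨u, hu, e⟩ := E.z8_form h8
      have hub := E.z8_comm hb8 (E.WJ hu)
      apply Q.zc_vc
      rcases e with e | e
      · rw [Quad.Zc, qmk_congr (hJb hx) hub e]
        rcases hcases hu hub with h | h | h | h <;> rw [h] <;> simp
      · rw [Quad.Zc, qmk_congr (hJb hx) (hub.mul_left hzb) e, qmk_mul hub hzb]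
        have hz2' : qmk b z hzb * qmk b z hzb = 1 := Q.z2
        rcases hcases hu hub with h | h | h | h <;> rw [h] <;> simp [hz2', mul_assoc]
  obtain ⟨Fx, hFx⟩ : ∃ Fx, Fx = (vecs.filter fun u =>
      Nat.beq (ap (cm (cw C.gens [0]) (cw C.gens [0])) u) u &&
        Nat.beq (ap (cm (cw C.gens [0, 2]) (cw C.gens [0, 2])) u) u) := ⟨_, rfl⟩
  rw [← hFx] at hchk
  have hact : ∀ {h} (hh : Commute h b), Commute h z → ∀ {x}, x ∈ J →
      v (h * x * h⁻¹) = ap (Q.κ (qmk b h hh)) (v x) := by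
    intro h hh hhz x hx
    rw [hvd _ (E.norm h hhz x hx), hvd x hx,
      ← Q.act (qmk b h hh) ((E.lift_comm hw h1 hb hzb hh).2 hhz) _ (hQm hx), ← qmk_conj hh (hJb hx)]
  have vlt : ∀ {x}, x ∈ J → v x < 256 := fun hx => by rw [hvd _ hx]; exact Q.vc_lt _
  have vinv : ∀ {x}, x ∈ J → v x⁻¹ = v x := fun {x} hx => by
    have h := vmul hx (inv_mem hx)
    rw [mul_inv_cancel, v1] at h
    exact (Nat.xor_eq_zero_iff.1 h.symm).symm
  have hmF : ∀ {x}, x ∈ J → (v x ∈ Fx ↔ v (h₁ * h₁ * x * (h₁ * h₁)⁻¹) = v x ∧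
      v (h₂ * h₂ * x * (h₂ * h₂)⁻¹) = v x) := by
    intro x hx
    rw [hact (hh₁.mul_left hh₁) (hz₁.mul_left hz₁) hx, hact (hh₂.mul_left hh₂) (hz₂.mul_left hz₂) hx, hκ₁, hκ₂, hFx,
      List.mem_filter, Bool.and_eq_true, nbeq_iff, nbeq_iff, vecs, List.mem_range]
    exact and_iff_right (vlt hx)
  let Pset := {x : ↥J // v (x : G) ∈ Fx}
  have hPc : Nat.card Pset = 8 * 8 := by
    have hZ : Nat.card {x : G // Z8 z W x} = 8 := by
      rw [Nat.card_eq_of_bijective (fun p : {x : G // Z8 z W x} => (if h : (p : G) ∈ W then Sum.inl ⟨_, h⟩ else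
        Sum.inr ⟨(p : G) * z, p.2.resolve_left h⟩ : ↥W ⊕ ↥W)) ⟨fun p q h => ?_, fun s => ?_⟩, Nat.card_sum, E.cardW]
      · simp only at h
        split_ifs at h with hp hq hq
        · exact Subtype.ext (congrArg Subtype.val (Sum.inl.inj h) :)
        · exact Subtype.ext (mul_right_cancel (congrArg Subtype.val (Sum.inr.inj h) :))
      · rcases s with u | u
        · exact ⟨⟨u, Or.inl u.2⟩, by simp⟩
        · refine ⟨⟨u * z, Or.inr (by rw [E.wzz]; exact u.2)⟩, ?_⟩
          have hn : (u : G) * z ∉ W := fun h => E.wz_ne_w u.2 h rfl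
          simp [hn, E.wzz]
    have hsur : ∀ u ∈ Fx, ∃ x, x ∈ J ∧ v x = u := fun u hu => by
      obtain ⟨y, hy, rfl⟩ := Q.vc_surj u (by rw [hFx, List.mem_filter, vecs, List.mem_range] at hu; exact hu.1)
      obtain ⟨x, hx, rfl⟩ := hrep (hQJ ▸ hy)
      exact ⟨x, hx, hvd x hx⟩
    choose s hsJ hse using fun u : {u // u ∈ Fx.toFinset} => hsur u.1 (List.mem_toFinset.1 u.2)
    rw [← Nat.card_eq_of_bijective (fun p : {u // u ∈ Fx.toFinset} × {x : G // Z8 z W x} =>
        (⟨⟨s p.1 * p.2.1, mul_mem (hsJ _) (E.z8_J p.2.2)⟩, by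
          show v (s p.1 * p.2.1) ∈ Fx
          rw [vmul (hsJ _) (E.z8_J p.2.2), hse, (vzero (E.z8_J p.2.2)).2 p.2.2, Nat.xor_zero]
          exact List.mem_toFinset.1 p.1.2⟩ : Pset)) ⟨fun p q h => ?_, fun p => ?_⟩, Nat.card_prod, hZ,
      Nat.card_eq_fintype_card, Fintype.card_coe, List.toFinset_card_of_nodup
        (hFx ▸ List.Nodup.filter _ List.nodup_range), hchk]
    · have e : s p.1 * p.2.1 = s q.1 * q.2.1 := congrArg (fun r : Pset => (r.1 : G)) h
      have e1 : p.1 = q.1 := Subtype.ext (by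
        have h' := congrArg v e
        rwa [vmul (hsJ _) (E.z8_J p.2.2), vmul (hsJ _) (E.z8_J q.2.2), (vzero (E.z8_J p.2.2)).2 p.2.2,
          (vzero (E.z8_J q.2.2)).2 q.2.2, Nat.xor_zero, Nat.xor_zero, hse, hse] at h')
      exact Prod.ext e1 (Subtype.ext (mul_left_cancel (e1 ▸ e)))
    · obtain ⟨⟨x, hx⟩, hxF⟩ := p
      refine ⟨(⟨v x, List.mem_toFinset.2 hxF⟩, ⟨(s ⟨v x, List.mem_toFinset.2 hxF⟩)⁻¹ * x,
        (vzero (mul_mem (inv_mem (hsJ _)) hx)).1 ?_⟩), Subtype.ext (Subtype.ext (mul_inv_cancel_left _ _))⟩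
      rw [vmul (inv_mem (hsJ _)) hx, vinv (hsJ _), hse, Nat.xor_self]
  -- the element of order three permutes them
  have hkey : ∀ {x}, x ∈ J → ∀ {h}, Commute h b → Commute h z → Commute h w →
      v (h * h * x * (h * h)⁻¹) = v x → v (h * h * (c * x * c⁻¹) * (h * h)⁻¹) = v (c * x * c⁻¹) := by
    intro x hx h hhb hhz hhw e
    obtain ⟨f, hf⟩ : ∃ f, f = h * h := ⟨_, rfl⟩
    rw [← hf] at e ⊢
    have hfz : Commute f z := hf ▸ hhz.mul_left hhz
    obtain ⟨i, hi⟩ : ∃ i, i = c * f * c⁻¹ * f⁻¹ := ⟨_, rfl⟩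
    have hiJ : i ∈ J := hi ▸ hf ▸ hcsq h hhz hhw
    have hy : x⁻¹ * (f * x * f⁻¹) ∈ J := mul_mem (inv_mem hx) (E.norm f hfz x hx)
    have h8 : Z8 z W (c * (x⁻¹ * (f * x * f⁻¹)) * c⁻¹) := E.z8_conj ((vzero hy).1 (by
      rw [vmul (inv_mem hx) (E.norm f hfz x hx), vinv hx, e, Nat.xor_self])) hcz
    have hcx := E.norm c hcz x hx
    have he : f * (c * x * c⁻¹) * f⁻¹ = i⁻¹ * (c * x * c⁻¹ * (c * (x⁻¹ * (f * x * f⁻¹)) * c⁻¹)) * i := by
      rw [hi]; group
    rw [he, vmul (mul_mem (inv_mem hiJ) (mul_mem hcx (E.z8_J h8))) hiJ,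
      vmul (inv_mem hiJ) (mul_mem hcx (E.z8_J h8)), vinv hiJ, vmul hcx (E.z8_J h8), (vzero (E.z8_J h8)).2 h8,
      Nat.xor_zero, Nat.xor_comm (v i), Nat.xor_assoc, Nat.xor_self, Nat.xor_zero]
  have hstab : ∀ {x}, x ∈ J → v x ∈ Fx → v (c * x * c⁻¹) ∈ Fx := fun {x} hx h => by
    rw [hmF hx] at h
    exact (hmF (E.norm c hcz x hx)).2 ⟨hkey hx hh₁ hz₁ hw₁ h.1, hkey hx hh₂ hz₂ hw₂ h.2⟩
  let σ : Pset → Pset := fun p => ⟨⟨c * p.1.1 * c⁻¹, E.norm c hcz _ p.1.2⟩, hstab p.1.2 p.2⟩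
  have hσ3 : ∀ p, σ (σ (σ p)) = p := fun p => Subtype.ext (Subtype.ext (by
    show c * (c * (c * p.1.1 * c⁻¹) * c⁻¹) * c⁻¹ = p.1.1
    rw [show c * (c * (c * p.1.1 * c⁻¹) * c⁻¹) * c⁻¹ = c * c * c * p.1.1 * (c * c * c)⁻¹ by group, hc3, one_mul,
      inv_one, mul_one]))
  haveI : Fintype Pset := Fintype.ofFinite _
  let τ : Equiv.Perm Pset :=
    { toFun := σ, invFun := fun p => σ (σ p), left_inv := fun p => hσ3 p, right_inv := fun p => hσ3 p }
  haveI : Fact (Nat.Prime 3) := ⟨Nat.prime_three⟩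
  have hτ : τ ^ 3 ^ 1 = 1 := Equiv.ext fun p => hσ3 p
  have hmod := Equiv.Perm.card_compl_support_modEq hτ
  have hfix : (τ.supportᶜ).card = 2 := by
    have hone : ∀ {x}, x = (1 : G) ∨ x = z → x ∈ J ∧ v x ∈ Fx := by
      intro x hx
      have hxJ : x ∈ J := by rcases hx with rfl | rfl; exacts [one_mem _, E.zJ]
      have h8 : Z8 z W x := by
        rcases hx with rfl | rfl
        exacts [Or.inl (one_mem _), Or.inr (by rw [E.z2]; exact one_mem _)]
      refine ⟨hxJ, ?_⟩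
      rw [hmF hxJ, hact (hh₁.mul_left hh₁) (hz₁.mul_left hz₁) hxJ, hact (hh₂.mul_left hh₂) (hz₂.mul_left hz₂) hxJ,
        (vzero hxJ).2 h8, ap_zero, ap_zero]
      exact ⟨rfl, rfl⟩
    rw [Finset.card_eq_two]
    refine ⟨⟨⟨1, (hone (Or.inl rfl)).1⟩, (hone (Or.inl rfl)).2⟩, ⟨⟨z, (hone (Or.inr rfl)).1⟩, (hone (Or.inr rfl)).2⟩,
      fun e => E.z1 (congrArg (fun r : Pset => (r.1 : G)) e).symm, ?_⟩
    ext p
    rw [Finset.mem_compl, Equiv.Perm.notMem_support, Finset.mem_insert, Finset.mem_singleton]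
    constructor
    · intro h
      have hp : Commute c p.1.1 := mul_inv_eq_iff_eq_mul.1 (congrArg (fun r : Pset => (r.1 : G)) h)
      exact (hcfix _ p.1.2 hp).imp (fun e => Subtype.ext (Subtype.ext e)) fun e => Subtype.ext (Subtype.ext e)
    · rintro (rfl | rfl) <;> refine Subtype.ext (Subtype.ext ?_)
      · show c * 1 * c⁻¹ = 1; group
      · show c * z * c⁻¹ = z; exact mul_inv_eq_iff_eq_mul.2 hcz.eq
  rw [hfix, ← Nat.card_eq_fintype_card, hPc] at hmod
  exact absurd hmod (by decide)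

end Eight

end Cfsg.Lib.U62Type
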