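import Cfsg.Agent.Lib.U62Type.EightSetup
import Cfsg.Agent.Lib.U62Type.EightQuot
import Cfsg.Agent.Lib.Core.Cores

/-!
# A 2-core which is a product of an extraspecial group and a four-group
-/

set_option autoImplicit false
set_option linter.unusedSectionVars false
set_option linter.style.haveILetI false

namespace Cfsg.Lib.U62Type

open scoped commutatorElement

variable {G : Type*} [Group G] [Finite G]

/-- The 2-core seen in the group, with the element of order three. -/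
structure Core8 (z c : G) (J : Subgroup G) : Prop where
  z2 : z * z = 1
  z1 : z ≠ 1
  zJ : z ∈ J
  cz : ∀ j ∈ J, Commute j z
  cc : Commute c z
  c3 : c * c * c = 1
  norm : ∀ h, Commute h z → ∀ j ∈ J, h * j * h⁻¹ ∈ J
  sq : ∀ j ∈ J, j * j = 1 ∨ j * j = z
  cmt : ∀ j ∈ J, ∀ k ∈ J, j * k * j⁻¹ * k⁻¹ = 1 ∨ j * k * j⁻¹ * k⁻¹ = z
  card : Nat.card J = 2048
  self : ∀ h, Commute h z → (∀ j ∈ J, Commute h j) → h ∈ J
  fpf : ∀ j ∈ J, Commute c j → j = 1 ∨ j = z
  zsq : ∀ j ∈ J, (∀ k ∈ J, Commute j k) → j * j = 1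
  zcard : Nat.card ↥(J ⊓ Subgroup.centralizer (J : Set G)) = 8

theorem core8_of_hyp {z : G} (hz : orderOf z = 2) {F : Type*} [Field F] [Fintype F] (hF : Fintype.card F = 3)
    {J₀ V E : Subgroup ↥(Subgroup.centralizer ({z} : Set G))}
    (hJ₀ : J₀ = Cfsg.pCore 2 ↥(Subgroup.centralizer ({z} : Set G))) (hVE : Cfsg.IsInternalDirectProduct V E J₀)
    (hV : Nat.card ↥V = 4) (hV2 : ∀ v ∈ V, v ^ 2 = 1)
    (hE : Cfsg.IsExtraspecial 2 ↥E) (hEc : Nat.card ↥E = 2 ^ 9)
    (hCJ : Subgroup.centralizer (J₀ : Set ↥(Subgroup.centralizer ({z} : Set G))) ≤ J₀)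
    (zc c : ↥(Subgroup.centralizer ({z} : Set G))) (hzc : (zc : G) = z) (hc : orderOf c = 3)
    [hcz : ((Subgroup.zpowers c ⊔ Subgroup.zpowers zc).subgroupOf
      (Subgroup.centralizer ({c} : Set ↥(Subgroup.centralizer ({z} : Set G))))).Normal]
    (e' : (↥(Subgroup.centralizer ({c} : Set ↥(Subgroup.centralizer ({z} : Set G)))) ⧸
      (Subgroup.zpowers c ⊔ Subgroup.zpowers zc).subgroupOf
        (Subgroup.centralizer ({c} : Set ↥(Subgroup.centralizer ({z} : Set G))))) ≃* Cfsg.PSp 2 F) :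
    Core8 z (c : G) (J₀.map (Subgroup.centralizer ({z} : Set G)).subtype) := by
  classical
  haveI : Fact (Nat.Prime 2) := ⟨Nat.prime_two⟩
  haveI : Fact (Nat.Prime 3) := ⟨Nat.prime_three⟩
  haveI : CharP F 3 := charP_of_card_eq_prime (R := F) hF
  obtain ⟨hsimp, hcard, -, -, -⟩ := psp_facts (F := F) hF
  haveI := hsimp
  haveI hJn : J₀.Normal := by rw [hJ₀]; infer_instance
  have hJ2 : IsPGroup 2 ↥J₀ := hJ₀ ▸ Cfsg.Lib.Core.pCore_isPGroup 2 _
  obtain ⟨hVJ, hEJ, hcomm, hinf, hsup⟩ := hVE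
  have hz2 : z * z = 1 := by rw [← pow_two, ← hz, pow_orderOf_eq_one]
  have hz1 : z ≠ 1 := fun h => by rw [h, orderOf_one] at hz; omega
  have hzc1 : zc ≠ 1 := fun e => hz1 (by rw [← hzc, e]; rfl)
  have hzc2 : zc * zc = 1 := Subtype.ext (by rw [Subgroup.coe_mul, hzc, hz2]; rfl)
  have hzcen : ∀ h : ↥(Subgroup.centralizer ({z} : Set G)), Commute h zc := fun h => Subtype.ext (by
    push_cast; rw [hzc]; exact Subgroup.mem_centralizer_singleton_iff.1 h.2)
  haveI hzn : (Subgroup.zpowers zc).Normal := ⟨fun n hn g => by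
    obtain ⟨k, rfl⟩ := hn
    rw [mul_inv_eq_iff_eq_mul.2 ((hzcen g).zpow_right k).eq]
    exact ⟨k, rfl⟩⟩
  have hzJ : zc ∈ J₀ := by
    rw [hJ₀]
    refine Cfsg.Lib.Core.le_pCore ?_ (Subgroup.mem_zpowers zc)
    exact IsPGroup.of_card (n := 1) (by
      rw [Nat.card_zpowers, orderOf_eq_prime (p := 2) (by rw [pow_two, hzc2]) hzc1, pow_one])
  -- fixed points of `c` in the core
  have hfpf : ∀ j ∈ J₀, Commute c j → j = 1 ∨ j = zc := by
    intro j hj hcj
    obtain ⟨C, hC⟩ : ∃ C, C = Subgroup.centralizer ({c} : Set ↥(Subgroup.centralizer ({z} : Set G))) := ⟨_, rfl⟩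
    subst hC
    obtain ⟨f, hfd⟩ : ∃ f, f = e'.toMonoidHom.comp (QuotientGroup.mk' _) := ⟨_, rfl⟩
    have hfs : Function.Surjective f := hfd ▸ e'.surjective.comp (QuotientGroup.mk'_surjective _)
    have hn : ((J₀.subgroupOf (Subgroup.centralizer ({c} : Set ↥(Subgroup.centralizer ({z} : Set G))))).map f).Normal :=
      (Subgroup.Normal.subgroupOf hJn _).map f hfs
    have h2 : IsPGroup 2 ↥((J₀.subgroupOf (Subgroup.centralizer ({c} : Set ↥(Subgroup.centralizer ({z} : Set G))))).map f) :=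
      (hJ2.comap_of_injective _ Subtype.val_injective).map f
    rcases hn.eq_bot_or_eq_top with h | h
    · have hj' : f ⟨j, mem_cent.2 hcj.symm⟩ = 1 := by
        rw [← Subgroup.mem_bot, ← h]
        exact ⟨_, hj, rfl⟩
      rw [hfd, MonoidHom.comp_apply, MulEquiv.coe_toMonoidHom, map_eq_one_iff _ e'.injective, QuotientGroup.mk'_apply,
        QuotientGroup.eq_one_iff, Subgroup.mem_subgroupOf, Subgroup.mem_sup_of_normal_right] at hj'
      obtain ⟨p, hp, q, hq, hpq'⟩ := hj'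
      have hpq : p * q = j := hpq'
      have hqJ : q ∈ J₀ := (Subgroup.zpowers_le.2 hzJ) hq
      have hp1 : p = 1 := by
        have hpJ : p ∈ J₀ := by
          rw [show p = p * q * q⁻¹ by group, hpq]
          exact mul_mem hj (inv_mem hqJ)
        obtain ⟨n, hn⟩ := hJ2 ⟨p, hpJ⟩
        have hn' : p ^ 2 ^ n = 1 := congrArg Subtype.val hn
        obtain ⟨i, rfl⟩ := hp
        have h3 : (c ^ i) ^ 3 = 1 := by
          rw [← zpow_natCast, ← zpow_mul, mul_comm, zpow_mul, zpow_natCast, ← hc, pow_orderOf_eq_one, one_zpow]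
        have hd : orderOf (c ^ i) ∣ Nat.gcd 3 (2 ^ n) :=
          Nat.dvd_gcd (orderOf_dvd_of_pow_eq_one h3) (orderOf_dvd_of_pow_eq_one hn')
        rw [Nat.Coprime.gcd_eq_one ((Nat.Coprime.pow_right n (by norm_num)))] at hd
        exact orderOf_eq_one_iff.1 (Nat.dvd_one.1 hd)
      rw [hp1, one_mul] at hpq
      rw [← hpq]
      exact (mem_zpowers_two hzc2).1 hq
    · exfalso
      obtain ⟨n, hn⟩ := IsPGroup.iff_card.1 h2
      rw [h, Subgroup.card_top, hcard] at hn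
      have : 3 ∣ 2 ^ n := hn ▸ by norm_num
      have := Nat.prime_three.dvd_of_dvd_pow this
      omega
  -- the product
  obtain ⟨cE, hS, hcen⟩ := Cfsg.Lib.Extraspecial.exists_setting hE
  let φ : V × E →* ↥(Subgroup.centralizer ({z} : Set G)) :=
    MonoidHom.noncommCoprod V.subtype E.subtype fun x y => hcomm x.1 x.2 y.1 y.2
  have hφ : ∀ x : V × E, φ x = (x.1 : ↥(Subgroup.centralizer ({z} : Set G))) * x.2 := fun _ => rfl
  have hrange : φ.range = J₀ := by
    refine le_antisymm ?_ (hsup ▸ sup_le (fun x hx => ⟨(⟨x, hx⟩, 1), ?_⟩) fun x hx => ⟨(1, ⟨x, hx⟩), ?_⟩)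
    · rintro _ ⟨x, rfl⟩
      rw [hφ]
      exact mul_mem (hVJ x.1.2) (hEJ x.2.2)
    · rw [hφ]; exact mul_one x
    · rw [hφ]; exact one_mul x
  have hinj : Function.Injective φ := by
    refine (injective_iff_map_eq_one φ).2 fun x hx => ?_
    rw [hφ] at hx
    have h1 : (x.1 : ↥(Subgroup.centralizer ({z} : Set G))) ∈ V ⊓ E :=
      Subgroup.mem_inf.2 ⟨x.1.2, by rw [eq_inv_of_mul_eq_one_left hx]; exact inv_mem x.2.2⟩
    rw [hinf, Subgroup.mem_bot] at h1
    rw [h1, one_mul] at hx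
    exact Prod.ext (Subtype.ext h1) (Subtype.ext hx)
  have hsplit : ∀ j ∈ J₀, ∃ x : V × E, φ x = j := fun j hj => by
    rw [← hrange] at hj
    exact hj
  have hV2' : ∀ v : V, v * v = 1 := fun v => Subtype.ext (by
    rw [Subgroup.coe_mul, ← pow_two]; exact hV2 _ v.2)
  have hVc : ∀ u v : V, u * v = v * u := fun u v => by
    rw [← inv_eq_of_mul_eq_one_right (hV2' (u * v)), mul_inv_rev, inv_eq_of_mul_eq_one_right (hV2' u),
      inv_eq_of_mul_eq_one_right (hV2' v)]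
  have hc2 : ∀ w : E, w ∈ Subgroup.zpowers cE → w = 1 ∨ w = cE := fun w hw => by
    obtain ⟨k, hk, rfl⟩ := hS.exists_pow hw
    interval_cases k
    exacts [Or.inl (pow_zero _), Or.inr (pow_one _)]
  have hEcmt : ∀ x y : V × E, φ x * φ y * (φ x)⁻¹ * (φ y)⁻¹ = 1 ∨ φ x * φ y * (φ x)⁻¹ * (φ y)⁻¹ = φ (1, cE) := by
    intro x y
    rw [← map_inv, ← map_inv, ← map_mul, ← map_mul, ← map_mul]
    have e1 : x * y * x⁻¹ * y⁻¹ = (1, ⁅x.2, y.2⁆) := by
      refine Prod.ext ?_ rfl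
      show x.1 * y.1 * x.1⁻¹ * y.1⁻¹ = 1
      rw [hVc x.1 y.1, mul_inv_cancel_right, mul_inv_cancel]
    rw [e1]
    rcases hc2 _ (hS.comm x.2 y.2) with e | e <;> rw [e]
    exacts [Or.inl (map_one φ), Or.inr rfl]
  have hEsq : ∀ x : V × E, φ x * φ x = 1 ∨ φ x * φ x = φ (1, cE) := by
    intro x
    rw [← map_mul]
    rcases hS.pow_two_cases x.2 with e | e <;> rw [pow_two] at e
    · exact Or.inl ((congrArg φ (Prod.ext (hV2' x.1) e : x * x = 1)).trans (map_one φ))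
    · exact Or.inr (congrArg φ (Prod.ext (hV2' x.1) e : x * x = (1, cE)))
  -- the commutator is `z`
  have hcE1 : φ (1, cE) ≠ 1 := fun e => by
    have e2 := congrArg Prod.snd (hinj (e.trans (map_one φ).symm))
    have := hS.ord
    rw [show cE = 1 from e2, orderOf_one] at this
    omega
  have hzeq : φ (1, cE) = zc := by
    refine (hfpf _ (hrange ▸ ⟨_, rfl⟩) ?_).resolve_left hcE1
    obtain ⟨u, v, huv⟩ : ∃ u v : E, u * v ≠ v * u := by
      by_contra hne
      push Not at hne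
      have htop : Subgroup.center E = ⊤ := eq_top_iff.2 fun u _ => Subgroup.mem_center_iff.2 fun v => hne v u
      have h := hE.2
      rw [htop, Subgroup.card_top, hEc] at h
      norm_num at h
    have e1 : φ (1, u) * φ (1, v) * (φ (1, u))⁻¹ * (φ (1, v))⁻¹ = φ (1, cE) := by
      refine (hEcmt (1, u) (1, v)).resolve_left fun e => huv ?_
      rw [← map_inv, ← map_inv, ← map_mul, ← map_mul, ← map_mul, ← map_one φ] at e
      exact mul_inv_eq_iff_eq_mul.1 (mul_inv_eq_one.1 (congrArg Prod.snd (hinj e)))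
    have hconj : ∀ x : V × E, ∃ y, φ y = c * φ x * c⁻¹ := fun x => hsplit _ (hJn.conj_mem _ (hrange ▸ ⟨x, rfl⟩) c)
    obtain ⟨x, hx⟩ := hconj (1, u)
    obtain ⟨y, hy⟩ := hconj (1, v)
    refine mul_inv_eq_iff_eq_mul.1 ?_
    have e2 : c * φ (1, cE) * c⁻¹ = φ x * φ y * (φ x)⁻¹ * (φ y)⁻¹ := by rw [hx, hy, ← e1]; group
    rcases hEcmt x y with e | e <;> rw [e] at e2
    · exact absurd (conj_eq_one_iff.1 e2) hcE1
    · exact e2
  -- in the group
  have hval : ∀ {a b : ↥(Subgroup.centralizer ({z} : Set G))}, a = b → (a : G) = b := fun h => congrArg Subtype.val h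
  have hcent : ∀ x : V × E, (∀ y, Commute (φ x) (φ y)) → x.2 = 1 ∨ x.2 = cE := fun x h => hc2 _ (by
    refine hcen.2 _ (Subgroup.mem_top _) fun w _ => ?_
    exact congrArg Prod.snd (hinj (by rw [map_mul, map_mul]; exact (h (1, w)).eq : φ (x * (1, w)) = φ ((1, w) * x))))
  refine ⟨hz2, hz1, ⟨zc, hzJ, hzc⟩, ?_, Subgroup.mem_centralizer_singleton_iff.1 c.2, ?_, ?_, ?_, ?_, ?_, ?_, ?_, ?_, ?_⟩
  · rintro _ ⟨j, -, rfl⟩
    exact Subgroup.mem_centralizer_singleton_iff.1 j.2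
  · have : c * c * c = 1 := by rw [← pow_two, ← pow_succ, show 2 + 1 = orderOf c by rw [hc], pow_orderOf_eq_one]
    exact congrArg Subtype.val this
  · rintro h hh _ ⟨j, hj, rfl⟩
    exact ⟨⟨h, mem_cent.2 hh⟩ * j * ⟨h, mem_cent.2 hh⟩⁻¹, hJn.conj_mem j hj _, rfl⟩
  · rintro _ ⟨j, hj, rfl⟩
    obtain ⟨x, rfl⟩ := hsplit j hj
    exact (hEsq x).imp (fun e => (hval e).trans rfl) (fun e => ((hval e).trans (hval hzeq)).trans hzc)
  · rintro _ ⟨j, hj, rfl⟩ _ ⟨k, hk, rfl⟩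
    obtain ⟨x, rfl⟩ := hsplit j hj
    obtain ⟨y, rfl⟩ := hsplit k hk
    exact (hEcmt x y).imp (fun e => (hval e).trans rfl) (fun e => ((hval e).trans (hval hzeq)).trans hzc)
  · rw [Subgroup.card_map_of_injective Subtype.val_injective, ← hrange,
      ← Nat.card_congr (MonoidHom.ofInjective hinj).toEquiv, Nat.card_prod, hV, hEc]
    norm_num
  · intro h hh hc'
    exact ⟨⟨h, mem_cent.2 hh⟩, hCJ (Subgroup.mem_centralizer_iff.2 fun j hj =>
      Subtype.ext (hc' _ ⟨j, hj, rfl⟩).eq.symm), rfl⟩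
  · rintro _ ⟨j, hj, rfl⟩ hcj
    exact (hfpf j hj (Subtype.ext hcj.eq)).imp (fun e => (hval e).trans rfl) (fun e => (hval e).trans hzc)
  · rintro _ ⟨j, hj, rfl⟩ hk
    obtain ⟨x, rfl⟩ := hsplit j hj
    have hx2 : x.2 * x.2 = 1 := by
      rcases hcent x fun y => Subtype.ext (hk _ ⟨φ y, hrange ▸ ⟨y, rfl⟩, rfl⟩).eq with e | e <;> rw [e]
      · exact one_mul 1
      · rw [← pow_two]; exact hS.pow_z
    refine (hval (?_ : φ x * φ x = 1)).trans rfl
    rw [← map_mul, (Prod.ext (hV2' x.1) hx2 : x * x = 1), map_one]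
  · let f : V × ↥(Subgroup.zpowers cE) → G := fun x => (φ (x.1, x.2.1) : G)
    have hf : Function.Injective f := fun x y h => by
      have h' := hinj (Subtype.val_injective h)
      exact Prod.ext (congrArg Prod.fst h' :) (Subtype.ext (congrArg Prod.snd h' :))
    have hr : Set.range f = ((J₀.map (Subgroup.centralizer ({z} : Set G)).subtype ⊓
        Subgroup.centralizer (J₀.map (Subgroup.centralizer ({z} : Set G)).subtype : Set G) : Subgroup G) : Set G) := by
      ext g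
      constructor
      · rintro ⟨x, rfl⟩
        refine ⟨⟨φ (x.1, (x.2 : E)), hrange ▸ ⟨_, rfl⟩, rfl⟩, Subgroup.mem_centralizer_iff.2 ?_⟩
        rintro _ ⟨k, hk, rfl⟩
        obtain ⟨y, rfl⟩ := hsplit k hk
        have e : y * (x.1, (x.2 : E)) = (x.1, (x.2 : E)) * y :=
          Prod.ext (hVc _ _) (hS.commute_z y.2 x.2.2).eq
        exact hval (show φ y * φ (x.1, (x.2 : E)) = φ (x.1, (x.2 : E)) * φ y by rw [← map_mul, ← map_mul, e])
      · rintro ⟨⟨j, hj, rfl⟩, hk⟩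
        obtain ⟨x, rfl⟩ := hsplit j hj
        have hx := hcent x fun y => Subtype.ext
          ((Subgroup.mem_centralizer_iff.1 hk) _ ⟨φ y, hrange ▸ ⟨y, rfl⟩, rfl⟩).symm
        exact ⟨(x.1, ⟨x.2, hx.elim (fun e => e ▸ one_mem _) fun e => e ▸ Subgroup.mem_zpowers _⟩), rfl⟩
    have := Nat.card_congr (Equiv.ofInjective f hf)
    rw [hr, Nat.card_prod, hV, Nat.card_zpowers, hS.ord] at this
    exact this.symm

end Cfsg.Lib.U62Type
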