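import Cfsg.Agent.Lib.U62Type.EightQuot
import Cfsg.Agent.Lib.Fischer.Cent23.Iso

/-!
# The possibilities for the centralisers of the other central involutions
-/

set_option autoImplicit false
set_option linter.unusedSectionVars false
set_option linter.style.haveILetI false

namespace Cfsg.Lib.U62Type

variable {G : Type*} [Group G] [Finite G] {z : G} {J W : Subgroup G}

/-- In the centraliser of `w` the four-group `W` is normal. -/
def NormalIn (W : Subgroup G) (w : G) : Prop := ∀ g, Commute g w → ∀ u ∈ W, g * u * g⁻¹ ∈ W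

namespace Eight

variable (E : Eight z J W) {F : Type*} [Field F] [Fintype F] (hF : Fintype.card F = 3) (P : Proj z J W F)

include E

theorem iso_of_isolated' {w b : G} (hw : w ∈ W) (h1 : w ≠ 1) (hb : b = w ∨ b = w * z) (hzb : Commute z b)
    (h : Cfsg.IsIsolatedInvolution (qmk b z hzb)) : Iso z b := by
  obtain ⟨hb8, -, -, -, hzb8, hne⟩ := E.z_cases hw h1 hb
  intro g hg hc
  have hgc := (hg.mul_left hzb).mul_left hg.inv_left
  have hcc : Commute (qmk b (g * z * g⁻¹) hgc) (qmk b z hzb) := (E.lift_comm hw h1 hb hzb hgc).2 hc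
  rw [qmk_conj hg hzb] at hcc
  have h2 := h.2 (qmk b g hg) hcc.symm
  rw [← qmk_conj hg hzb] at h2
  rcases (qmk_eq (E.z8_sq hb8) _ _).1 h2 with e | e
  · exact e.symm
  · exfalso
    refine hne (E.ne_conj hzb8 (g := g) ?_)
    conv_rhs => rw [e]
    rw [mul_assoc _ b b, E.z8_sq hb8, mul_one]

include hF P

/-- The centraliser of `w z`. -/
theorem d_case {w : G} (hw : w ∈ W) (h1 : w ≠ 1) : Iso z (w * z) ∨ Cfsg.Spor.IsoFi23 G := by
  classical
  obtain ⟨w', hw', h1', hne⟩ := E.exists_other w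
  obtain ⟨hd8, hd1, -, hzd, -, -⟩ := E.z_cases hw h1 (Or.inr rfl)
  have hwd : Commute w' (w * z) := E.z8_comm hd8 (E.WJ hw')
  obtain ⟨Q, -, hQ⟩ := E.local_quad hF P hw h1 hw' h1' hne (Or.inr rfl) hzd hwd
  obtain ⟨s, hsz, hsw, hse⟩ := E.swap w hw w' hw' h1 h1' hne
  have hsd : Commute s (w * z) := hsw.mul_right hsz
  have hcomm : w = s * w' * s⁻¹ * w'⁻¹ := by rw [hse, mul_inv_cancel_right]
  have hmove : ¬ ∀ h, Commute h (qmk (w * z) z hzd) → Commute h (qmk (w * z) w' hwd) := by
    intro hA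
    have h := mul_inv_eq_iff_eq_mul.2 (hA _ ((E.lift_comm hw h1 (Or.inr rfl) hzd hsd).2 hsz)).eq
    rw [← qmk_conj hsd hwd, qmk_eq (E.z8_sq hd8)] at h
    rcases h with e | e
    · rw [hse] at e
      exact h1 (mul_eq_right.1 e.symm)
    · rw [hse, mul_assoc w w', ← mul_assoc w' w z, (E.wcomm hw' hw).eq, mul_assoc w w' z, ← mul_assoc w w, E.W2 w hw,
        one_mul] at e
      exact E.w_ne_z (one_mem W) (mul_eq_left.1 e.symm).symm
  rcases hQ.cases with hA | ⟨hinn, s', hs', hs'a⟩
  · exact absurd hA hmove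
  rcases hQ.right_main hinn hs' hs'a with hI | hFi
  · exact Or.inl (E.iso_of_isolated' hw h1 (Or.inr rfl) hzd hI)
  right
  obtain ⟨e⟩ := hFi
  obtain ⟨C, hC⟩ : ∃ C, C = Subgroup.centralizer ({w * z} : Set G) := ⟨_, rfl⟩
  have hd2 : w * z * (w * z) = 1 := E.z8_sq hd8
  -- the involution is a product of commutators
  have hdC' : (⟨w * z, mem_cent.2 (Commute.refl _)⟩ : ↥(Subgroup.centralizer ({w * z} : Set G))) ∈
      commutator ↥(Subgroup.centralizer ({w * z} : Set G)) := by
    obtain ⟨j, hj, k, hk, hjk⟩ := E.exists_cmt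
    have h1' := Subgroup.commutator_mem_commutator (H₁ := (⊤ : Subgroup ↥(Subgroup.centralizer ({w * z} : Set G))))
      (H₂ := ⊤) (Subgroup.mem_top ⟨s, mem_cent.2 hsd⟩) (Subgroup.mem_top ⟨w', mem_cent.2 hwd⟩)
    have h2' := Subgroup.commutator_mem_commutator (H₁ := (⊤ : Subgroup ↥(Subgroup.centralizer ({w * z} : Set G))))
      (H₂ := ⊤) (Subgroup.mem_top ⟨j, mem_cent.2 (E.z8_comm hd8 hj)⟩)
      (Subgroup.mem_top ⟨k, mem_cent.2 (E.z8_comm hd8 hk)⟩)
    have h3 := mul_mem h1' h2'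
    rw [← commutator_def] at h3
    convert h3 using 1
    refine Subtype.ext ?_
    rw [commutatorElement_def, commutatorElement_def]
    push_cast
    rw [hjk, ← hcomm]
  haveI : IsSimpleGroup Cfsg.Spor.Fi22 := Cfsg.Lib.CosetEnum.Fi22Pres.isFi22.1
  haveI hXs : IsSimpleGroup (CQ (w * z)) := e.isSimpleGroup
  have hXn : commutator (CQ (w * z)) = ⊤ := by
    rcases IsSimpleGroup.eq_bot_or_eq_top_of_normal (commutator (CQ (w * z))) inferInstance with h | h
    · exfalso
      haveI : IsMulCommutative (CQ (w * z)) := ⟨⟨fun p q => commutatorElement_eq_one_iff_mul_comm.1 (by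
        have := Subgroup.commutator_mem_commutator (H₁ := (⊤ : Subgroup (CQ (w * z)))) (H₂ := ⊤) (Subgroup.mem_top p)
          (Subgroup.mem_top q)
        rwa [← commutator_def, h, Subgroup.mem_bot] at this)⟩⟩
      have hp := (Group.is_simple_iff_prime_card (α := CQ (w * z))).1 hXs
      rw [Nat.card_congr e.toEquiv, Cfsg.Lib.CosetEnum.Fi22Pres.isFi22.2] at hp
      exact absurd hp (by norm_num)
    · exact h
  have hperf : commutator ↥(Subgroup.centralizer ({w * z} : Set G)) = ⊤ := by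
    refine eq_top_iff.2 fun x _ => ?_
    have h : (x : CQ (w * z)) ∈ (commutator ↥(Subgroup.centralizer ({w * z} : Set G))).map (QuotientGroup.mk' _) := by
      rw [commutator_def, Subgroup.map_commutator, Subgroup.map_top_of_surjective _ (QuotientGroup.mk'_surjective _),
        ← commutator_def, hXn]
      exact Subgroup.mem_top _
    obtain ⟨y, hy, hye⟩ := h
    rw [QuotientGroup.mk'_apply, QuotientGroup.eq, Subgroup.mem_subgroupOf, mem_zpowers_two hd2] at hye
    rcases hye with h | h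
    · rw [show x = y from (inv_mul_eq_one.1 (Subtype.ext h : y⁻¹ * x = 1)).symm]; exact hy
    · rw [show x = y * ⟨w * z, mem_cent.2 (Commute.refl _)⟩ from
        inv_mul_eq_iff_eq_mul.1 (Subtype.ext h : y⁻¹ * x = ⟨w * z, _⟩)]
      exact mul_mem hy hdC'
  have hcenter : Subgroup.center ↥(Subgroup.centralizer ({w * z} : Set G)) =
      (Subgroup.zpowers (w * z)).subgroupOf (Subgroup.centralizer ({w * z} : Set G)) := by
    refine le_antisymm (fun x hx => ?_) fun x hx => ?_
    · have hm : (x : CQ (w * z)) ∈ Subgroup.center (CQ (w * z)) := Subgroup.mem_center_iff.2 fun y => by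
        obtain ⟨y, rfl⟩ := QuotientGroup.mk_surjective y
        exact congrArg (fun u : ↥(Subgroup.centralizer ({w * z} : Set G)) => (u : CQ (w * z)))
          (Subgroup.mem_center_iff.1 hx y)
      rcases IsSimpleGroup.eq_bot_or_eq_top_of_normal (Subgroup.center (CQ (w * z))) inferInstance with h | h
      · rw [h, Subgroup.mem_bot, QuotientGroup.eq_one_iff] at hm
        exact hm
      · exfalso
        have h' : commutator (CQ (w * z)) = ⊥ := by
          rw [eq_bot_iff, commutator_def, Subgroup.commutator_le]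
          intro p _ q _
          rw [Subgroup.mem_bot, commutatorElement_eq_one_iff_mul_comm]
          exact (Subgroup.mem_center_iff.1 (h ▸ Subgroup.mem_top p : p ∈ Subgroup.center (CQ (w * z))) q).symm
        rw [hXn] at h'
        exact top_ne_bot h'
    · rw [Subgroup.mem_subgroupOf, mem_zpowers_two hd2] at hx
      refine Subgroup.mem_center_iff.2 fun y => Subtype.ext ?_
      show (y : G) * (x : G) = (x : G) * y
      rcases hx with h | h <;> rw [h]
      · rw [mul_one, one_mul]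
      · exact (mem_cent.1 y.2).eq
  have hqs : Cfsg.IsQuasisimple ↥(Subgroup.centralizer ({w * z} : Set G)) :=
    ⟨Group.isPerfect_def.2 hperf, ((QuotientGroup.quotientMulEquivOfEq hcenter).trans e).isSimpleGroup⟩
  obtain ⟨h, hh, hhe⟩ := E.trans w hw w' hw' h1 h1'
  have hk : h * (w * z) * h⁻¹ = w' * z := by
    rw [show h * (w * z) * h⁻¹ = h * w * h⁻¹ * (h * z * h⁻¹) by group, hhe, mul_inv_eq_iff_eq_mul.2 hh.eq]
  have hk1 : h * (w * z) * h⁻¹ ∈ Subgroup.centralizer ({w * z} : Set G) := mem_cent.2 (hk ▸ hwd.mul_left hzd)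
  obtain ⟨i, -⟩ := Cfsg.Lib.Fischer.Cent23.exists_iso_fi22 (d := w * z)
    (orderOf_eq_prime (by rw [pow_two, hd2]) hd1) hqs e
    ⟨h, hk1, fun e' => hne (mul_right_cancel (hk.symm.trans e')).symm⟩
  exact ⟨i.symm⟩

/-- The centraliser of `w`. -/
theorem w_case (hD : ∀ u ∈ W, u ≠ 1 → Iso z (u * z)) {K : Type*} [Field K] [Fintype K] (hK : Fintype.card K = 4)
    {w : G} (hw : w ∈ W) (h1 : w ≠ 1) : Iso z w ∨ (NormalIn W w ∧
      ∃ (w' : G) (hwc : Commute w' w), w' ∈ W ∧ w' ≠ 1 ∧ w ≠ w' ∧ UType (CQ w) (qmk w w' hwc) K) := by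
  classical
  obtain ⟨w', hw', h1', hne⟩ := E.exists_other w
  have hzw : Commute z w := (E.wz hw).symm
  have hww : Commute w' w := E.wcomm hw' hw
  obtain ⟨Q, -, hQ⟩ := E.local_quad hF P hw h1 hw' h1' hne (Or.inl rfl) hzw hww
  have hw2 := E.W2 w hw
  have hA : ∀ h, Commute h (qmk w z hzw) → Commute h (qmk w w' hww) := by
    intro h hh
    obtain ⟨g, hg, rfl⟩ := qmk_surj h
    have hgz := (E.lift_comm hw h1 (Or.inl rfl) hzw hg).1 hh
    refine mul_inv_eq_iff_eq_mul.1 ?_
    rw [← qmk_conj hg hww, qmk_eq hw2]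
    rcases E.swap_q hw h1 (Or.inl rfl) hw' h1' hne hgz hg with e | e <;> rw [e]
    · exact Or.inl rfl
    · exact Or.inr (by rw [(E.wcomm hw hw').eq, mul_assoc, hw2, mul_one])
  by_cases hI : Iso z w
  · exact Or.inl hI
  refine Or.inr ?_
  rcases hQ.left_main hA hK with h | h | h
  · exact absurd (E.iso_of_isolated' hw h1 (Or.inl rfl) hzw h) hI
  · refine ⟨fun g hg u hu => ?_, w', hww, hw', h1', hne, h⟩
    have hcl : ∀ {u : G}, u ∈ W → u = 1 ∨ u = w ∨ u = w' ∨ u = w * w' := fun hu => E.w_cases hw hw' h1 h1' hne hu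
    have hmem := h.1.conj_mem _ (Subgroup.mem_zpowers _) (qmk w g hg)
    rw [← qmk_conj hg hww, mem_zpowers_two Q.a2, ← qmk_one, qmk_eq hw2, qmk_eq hw2] at hmem
    have hgw : g * w' * g⁻¹ ∈ W := by
      rcases hmem with (e | e) | (e | e)
      · rw [conj_eq_one_iff.1 e.symm] at h1'
        exact absurd rfl h1'
      · rw [eq_inv_of_mul_eq_one_left e.symm]
        exact inv_mem hw
      · exact e ▸ hw'
      · have := mul_mem hw' hw
        have e' : g * w' * g⁻¹ = w' * w := by
          conv_rhs => rw [e]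
          rw [mul_assoc _ w w, hw2, mul_one]
        rwa [e']
    rcases hcl hu with rfl | rfl | rfl | rfl
    · simp
    · rwa [mul_inv_eq_iff_eq_mul.2 hg.eq]
    · exact hgw
    · rw [show g * (w * w') * g⁻¹ = g * w * g⁻¹ * (g * w' * g⁻¹) by group, mul_inv_eq_iff_eq_mul.2 hg.eq]
      exact mul_mem hw hgw
  · exfalso
    -- the other normal subgroup is impossible
    have h' : ∀ g, Commute g w → g * (w' * z) * g⁻¹ = w' * z ∨ g * (w' * z) * g⁻¹ = w' * z * w := by
      intro g hg
      have hc : Commute (w' * z) w := hww.mul_left hzw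
      have hmem := h.1.conj_mem _ (Subgroup.mem_zpowers _) (qmk w g hg)
      rw [← qmk_mul hww hzw, ← qmk_conj hg hc, mem_zpowers_two (by rw [qmk_mul hww hzw]; exact Q.az2),
        ← qmk_one, qmk_eq hw2, qmk_eq hw2] at hmem
      rcases hmem with (e | e) | (e | e)
      · exact absurd (conj_eq_one_iff.1 e.symm) (E.wz_ne_w hw' (one_mem W))
      · have e2 : g * (w' * z) * g⁻¹ = w := (eq_inv_of_mul_eq_one_left e.symm).trans (E.winv hw)
        exact absurd (conj_back e2) (E.not_fused hw hw' h1 g⁻¹)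
      · exact Or.inl e.symm
      · right
        conv_rhs => rw [e]
        rw [mul_assoc _ w w, hw2, mul_one]
    simp only [Iso, not_forall, exists_prop] at hI
    obtain ⟨g, hg, hc, hne'⟩ := hI
    rcases h' g hg with e | e
    · exact hne' (hD w' hw' h1' g (mul_inv_eq_iff_eq_mul.1 e) hc)
    · obtain ⟨s, hsz, hsw, hse⟩ := E.swap w hw w' hw' h1 h1' hne
      have he : g * s * z * (g * s)⁻¹ = g * z * g⁻¹ := by
        rw [show g * s * z * (g * s)⁻¹ = g * (s * z * s⁻¹) * g⁻¹ by group, mul_inv_eq_iff_eq_mul.2 hsz.eq]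
      refine hne' ((he.symm.trans ?_))
      refine hD w' hw' h1' (g * s) (mul_inv_eq_iff_eq_mul.1 ?_) (he.symm ▸ hc)
      rw [show g * s * (w' * z) * (g * s)⁻¹ = g * (s * w' * s⁻¹ * (s * z * s⁻¹)) * g⁻¹ by group, hse,
        mul_inv_eq_iff_eq_mul.2 hsz.eq, mul_assoc w w' z,
        show g * (w * (w' * z)) * g⁻¹ = g * w * g⁻¹ * (g * (w' * z) * g⁻¹) by group,
        mul_inv_eq_iff_eq_mul.2 hg.eq, e, (hww.mul_left hzw).eq, ← mul_assoc, hw2, one_mul]

end Eight

end Cfsg.Lib.U62Type
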