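import Cfsg.Agent.Lib.U62Type.FourU
import Cfsg.Agent.Lib.U62Type.EightTables

/-!
# A commuting pair of involutions with the same centralised vectors
-/

set_option autoImplicit false
set_option linter.unusedSectionVars false
set_option linter.style.haveILetI false

namespace Cfsg.Lib.U62Type

variable {G : Type*} [Group G] [Finite G] {z a : G} {Q : Quad cfgU z a}

/-- Two commuting involutions centralising the same vectors, with a product that permutes three alike. -/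
structure Pre (Q : Quad cfgU z a) (t t₁ x : G) : Prop where
  htz : Commute t z
  t₁z : Commute t₁ z
  xz : Commute x z
  t2 : t * t = 1
  t₁2 : t₁ * t₁ = 1
  x2 : x * x = 1
  comm_tx : Commute t x
  x_eq : x = t₁ * t
  tJ : t ∉ Q.J
  t₁J : t₁ ∉ Q.J
  xJ : x ∉ Q.J
  ta : Commute t a
  t₁a : Commute t₁ a
  xa : Commute x a
  kSet_x : Q.kSet x = Q.kSet t
  three : ∀ f, Commute f z → Commute f t → f * f * (f * f) * x * (f * f * (f * f))⁻¹ = x ∨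
    (Commute x (f * f * (f * f) * x * (f * f * (f * f))⁻¹) ∧
      x * (f * f * (f * f) * x * (f * f * (f * f))⁻¹) *
        (f * f * (f * f) * (f * f * (f * f)) * x * (f * f * (f * f) * (f * f * (f * f)))⁻¹) = t)

namespace Pre

variable {t t₁ x : G} (S : Pre Q t t₁ x)

include S

theorem t₁_eq : t₁ = x * t := by rw [S.x_eq, mul_assoc, S.t2, mul_one]

theorem comm_tt₁ : Commute t t₁ := by rw [S.t₁_eq]; exact S.comm_tx.mul_right (Commute.refl t)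

theorem codes : Q.κ t ≠ idc ∧ Q.κ x ≠ idc ∧ Q.κ t₁ ≠ idc ∧ Q.κ x ≠ Q.κ t ∧
    cm (Q.κ x) (Q.κ t) = cm (Q.κ t) (Q.κ x) := by
  refine ⟨fun e => S.tJ (Q.ker t S.htz e), fun e => S.xJ (Q.ker x S.xz e), fun e => S.t₁J (Q.ker t₁ S.t₁z e),
    fun e => S.t₁J ?_, Q.κ_comm S.xz S.htz S.comm_tx.symm⟩
  have h1 := (Q.κ_eq_iff S.xz S.htz).1 e
  rwa [inv_eq_of_mul_eq_one_right S.x2, ← S.t₁_eq] at h1

/-- Moving by an inner element. -/
theorem move {g₀ : G} (h : Q.Inn g₀) : Pre Q (g₀ * t * g₀⁻¹) (g₀ * t₁ * g₀⁻¹) (g₀ * x * g₀⁻¹) := by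
  have hc : ∀ {u}, Commute u z → Commute (g₀ * u * g₀⁻¹) z := fun hu => (h.1.mul_left hu).mul_left h.1.inv_left
  have hca : ∀ {u}, Commute u a → Commute (g₀ * u * g₀⁻¹) a := fun hu =>
    ((Q.inn_comm h).mul_left hu).mul_left (Q.inn_comm h).inv_left
  have hsq : ∀ {u}, u * u = 1 → g₀ * u * g₀⁻¹ * (g₀ * u * g₀⁻¹) = 1 := fun {u} hu => by
    rw [show g₀ * u * g₀⁻¹ * (g₀ * u * g₀⁻¹) = g₀ * (u * u) * g₀⁻¹ by group, hu, mul_one, mul_inv_cancel]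
  have hJ : ∀ {u}, u ∉ Q.J → g₀ * u * g₀⁻¹ ∉ Q.J := fun {u} hu hm => hu (by
    have := Q.norm g₀⁻¹ h.1.inv_left _ hm
    rwa [show g₀⁻¹ * (g₀ * u * g₀⁻¹) * g₀⁻¹⁻¹ = u by group] at this)
  refine ⟨hc S.htz, hc S.t₁z, hc S.xz, hsq S.t2, hsq S.t₁2, hsq S.x2, (Commute.conj_iff g₀).2 S.comm_tx,
    by rw [S.x_eq]; group, hJ S.tJ, hJ S.t₁J, hJ S.xJ, hca S.ta, hca S.t₁a, hca S.xa, ?_, fun f hf hft => ?_⟩
  · have key : ∀ {u v : G}, Q.kSet u ⊆ Q.kSet v → Q.kSet (g₀ * u * g₀⁻¹) ⊆ Q.kSet (g₀ * v * g₀⁻¹) := by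
      intro u v hle w hw
      obtain ⟨m, hm, hmu, rfl⟩ := Q.mem_kSet.1 hw
      have hm' := Q.norm g₀⁻¹ h.1.inv_left m hm
      obtain ⟨n, hn, hnv, e⟩ := Q.mem_kSet.1 (hle (Q.mem_kSet.2 ⟨_, hm', by
        rw [inv_inv]; exact commute_conj_back hmu, rfl⟩))
      refine Q.mem_kSet.2 ⟨g₀ * n * g₀⁻¹, Q.norm g₀ h.1 n hn, (Commute.conj_iff g₀).2 hnv, ?_⟩
      rw [Q.act g₀ h.1 n hn, e, Q.act _ h.1.inv_left m hm, ← ap_cm, (Q.κ_inv h.1).1, ap_idc (Q.vc_lt m)]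
    exact Finset.Subset.antisymm (key S.kSet_x.le) (key S.kSet_x.ge)
  · obtain ⟨k, hk⟩ : ∃ k, f = g₀ * k * g₀⁻¹ := ⟨g₀⁻¹ * f * g₀, by group⟩
    subst hk
    have hkz : Commute k z := by
      have := (h.1.inv_left.mul_left hf).mul_left h.1
      rwa [show g₀⁻¹ * (g₀ * k * g₀⁻¹) * g₀ = k by group] at this
    obtain ⟨u, hu⟩ : ∃ u, u = k * k * (k * k) := ⟨_, rfl⟩
    have he : g₀ * k * g₀⁻¹ * (g₀ * k * g₀⁻¹) * (g₀ * k * g₀⁻¹ * (g₀ * k * g₀⁻¹)) = g₀ * u * g₀⁻¹ := by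
      rw [hu]; group
    simp only [he]
    rw [show g₀ * u * g₀⁻¹ * (g₀ * x * g₀⁻¹) * (g₀ * u * g₀⁻¹)⁻¹ = g₀ * (u * x * u⁻¹) * g₀⁻¹ by group,
      show g₀ * u * g₀⁻¹ * (g₀ * u * g₀⁻¹) * (g₀ * x * g₀⁻¹) * (g₀ * u * g₀⁻¹ * (g₀ * u * g₀⁻¹))⁻¹ =
        g₀ * (u * u * x * (u * u)⁻¹) * g₀⁻¹ by group]
    rcases S.three k hkz ((Commute.conj_iff g₀).1 hft) with e | ⟨e, e'⟩
    · left; rw [hu, e]
    · right
      rw [← hu] at e e'
      refine ⟨(Commute.conj_iff g₀).2 e, ?_⟩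
      rw [← e']; group

/-- An element with a listed code. -/
theorem normal {u : G} (hu : Q.Inn u) (h2 : u * u = 1) (hne : Q.κ u ≠ idc) :
    ∃ g₀, Q.Inn g₀ ∧ ∃ j < 2, Q.κ (g₀ * u * g₀⁻¹) = xC cfgU.gens j := by
  obtain ⟨-, j, hj, c, hc, hcj⟩ := Q.invol _ hu.2 (Q.κ_invol hu.1 h2) hne
  obtain ⟨g₀, hg₀, hg₀e⟩ := Q.lift_code hc
  exact ⟨g₀, hg₀, j, hj, by rw [Q.κ_conj hg₀.1 hu.1, hg₀e, hcj, cm_assoc, ← hg₀e, (Q.κ_inv hg₀.1).1,
    cm_idc (show xC cfgU.gens j < 2 ^ 64 from cw_lt _ _)]⟩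

theorem inn_move {g₀ u : G} (h : Q.Inn g₀) : Q.Inn (g₀ * u * g₀⁻¹) ↔ Q.Inn u := by
  constructor
  · intro hi
    have := Q.inn_mul (Q.inn_mul (Q.inn_inv h) hi) h
    rwa [show g₀⁻¹ * (g₀ * u * g₀⁻¹) * g₀ = u by group] at this
  · exact fun hi => Q.inn_mul (Q.inn_mul h hi) (Q.inn_inv h)

theorem inn_third (hn : ¬ Q.Inn t) : (Q.Inn x ∧ ¬ Q.Inn t₁) ∨ (Q.Inn t₁ ∧ ¬ Q.Inn x) := by
  by_cases hx : Q.Inn x
  · refine Or.inl ⟨hx, fun h => hn ?_⟩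
    have := Q.inn_mul h hx
    rwa [S.x_eq, ← mul_assoc, S.t₁2, one_mul] at this
  · refine Or.inr ⟨?_, hx⟩
    rw [S.t₁_eq]
    exact ⟨S.xz.mul_left S.htz, Q.index _ _ S.xz S.htz (fun w => hx ⟨S.xz, w⟩) fun w => hn ⟨S.htz, w⟩⟩

end Pre

theorem Pre.u_thick {t t₁ x : G} (S : Pre Q t t₁ x) (hi : Q.Inn t)
    (hκ : Q.κ t = xC cfgU.gens 0) : False := by
  classical
  obtain ⟨hpne, hcne, -, hcp, hcomm⟩ := S.codes
  obtain ⟨k, hk, -, hmem⟩ := Q.code_mem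
  have hK := Q.half hi S.t2 hpne
  rw [hκ, Q.fSet_length] at hK
  have h64 : 64 ≤ (cvL cfgU 0).length := by
    have h := fourCount_ok
    simp only [fourCountChk, Bool.and_eq_true, Nat.ble_eq] at h
    exact h.1.1.1.1.1.1
  have hchk := uThick_U
  simp only [uThickChk, List.all_eq_true, Bool.or_eq_true, beq_iff_eq, Nat.blt_eq] at hchk
  have hc := ((hmem 0 (by norm_num) x S.xz (hκ ▸ hcomm)).2 (Q.κ_invol S.xz S.x2) hcne).1
  rcases hchk k hk _ hc with e | e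
  · exact hcp (e.trans hκ.symm)
  · have hsub : Q.kSet t ⊆ ((cvL cfgU 0).filter fun v => Nat.beq (ap (Q.κ x) v) v).toFinset := by
      intro v hv
      obtain ⟨hv256, hvf⟩ := Q.kSet_fix S.htz hv
      rw [hκ] at hvf
      rw [← S.kSet_x] at hv
      rw [List.mem_toFinset, List.mem_filter, nbeq_iff, mem_cvL]
      exact ⟨⟨hv256, hvf⟩, (Q.kSet_fix S.xz hv).2⟩
    have h1 := (Finset.card_le_card hsub).trans (List.toFinset_card_le _)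
    have h2 : (fxL (xC cfgU.gens 0)).length = (cvL cfgU 0).length := rfl
    omega

theorem Pre.u_thin {t t₁ x : G} (S : Pre Q t t₁ x)
    (hκ : Q.κ t = xC cfgU.gens 1) : False := by
  classical
  obtain ⟨hpne, hcne, -, hcp, hcomm⟩ := S.codes
  obtain ⟨k, hk, -, hmem⟩ := Q.code_mem
  have hcnt := fourCount_ok
  simp only [fourCountChk, Bool.and_eq_true, List.all_eq_true, Nat.ble_eq, nbeq_iff, List.contains_iff_mem] at hcnt
  obtain ⟨⟨⟨⟨⟨⟨-, h16⟩, hts⟩, hcl⟩, -⟩, -⟩, -⟩ := hcnt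
  -- all fixed vectors are centralised
  have hK : ∀ {v}, v ∈ cvL cfgU 1 → v ∈ Q.kSet t := fun {v} hv => by
    obtain ⟨hq, hr⟩ := hts v hv
    obtain ⟨-, w, hw, rfl⟩ := mem_rL.1 hr
    rw [← hκ] at hq ⊢
    exact (Q.rng_rule S.htz S.ta S.t2 hw).2 hq
  have hlift : ∀ {m}, m ∈ Q.J → ap (Q.κ t) (Q.vc m) = Q.vc m → Commute m t := fun {m} hm e =>
    Q.kSet_lift S.htz S.ta hm (hK (mem_cvL.2 ⟨Q.vc_lt m, hκ ▸ e⟩))
  have hspan : fixSpanChk cfgU 1 = true := span_U1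
  simp only [fixSpanChk, Bool.and_eq_true, List.all_eq_true, Bool.or_eq_true, List.any_eq_true, nbeq_iff,
    List.contains_iff_mem, vecs, List.mem_range] at hspan
  obtain ⟨-, hperp⟩ := hspan
  have hfix : ∀ v ∈ cvL cfgU 1, ap (Q.κ x) v = v := fun v hv =>
    (Q.kSet_fix S.xz (S.kSet_x.symm ▸ hK hv)).2
  have hchk := uThin3_U
  simp only [uThin3Chk, List.all_eq_true, Bool.or_eq_true, beq_iff_eq, List.any_eq_true, Bool.and_eq_true,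
    Bool.not_eq_true', beq_eq_false_iff_ne, ne_eq, List.contains_iff_mem] at hchk
  have hc := ((hmem 1 (by norm_num) x S.xz (hκ ▸ hcomm)).2 (Q.κ_invol S.xz S.x2) hcne).1
  rcases hchk k hk _ hc with ((e | ⟨v, hv, e⟩) | ⟨e, he, ⟨hf3, hne1⟩, hne2⟩) | e
  · exact hcp (e.trans hκ.symm)
  · exact Bool.noConfusion (e.symm.trans (nbeq_iff.2 (hfix v hv)))
  · -- a lift of `e` whose square centralises `t`
    obtain ⟨hword, hce⟩ := Q.ce_spec (by norm_num : 1 < 2) he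
    obtain ⟨h, hh, hhe⟩ := Q.lift_code hword
    obtain ⟨i, hi⟩ : ∃ i, i = t⁻¹ * (h * t * h⁻¹) := ⟨_, rfl⟩
    have hht : Commute (h * t * h⁻¹) z := (hh.1.mul_left S.htz).mul_left hh.1.inv_left
    have hiJ : i ∈ Q.J := hi ▸ (Q.κ_eq_iff S.htz hht).1
      ((Q.κ_conj_fix hh.1 S.htz).2 (by rw [hhe, hκ]; exact hce.symm)).symm
    have hconj : h * t * h⁻¹ = t * i := by rw [hi, mul_inv_cancel_left]
    obtain ⟨-, w, hw, hwe⟩ : Q.vc i < 256 ∧ ∃ w < 256, ap (xC cfgU.gens 1) w ^^^ w = Q.vc i := by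
      refine mem_rL.1 ((hperp _ (Q.vc_lt i)).resolve_left fun ⟨f, hf, hf1⟩ => ?_)
      obtain ⟨hf256, hff⟩ : f < 256 ∧ ap (xC cfgU.gens 1) f = f := by simpa [fxL, vecs] using hf
      obtain ⟨l, hl, rfl⟩ := Q.vc_surj f hf256
      have hl' := Q.norm h⁻¹ hh.1.inv_left l hl
      have hl'f : ap (Q.κ t) (Q.vc (h⁻¹ * l * h⁻¹⁻¹)) = Q.vc (h⁻¹ * l * h⁻¹⁻¹) := by
        rw [Q.act h⁻¹ hh.1.inv_left l hl, hκ]
        have hh' : cm (xC cfgU.gens 1) (Q.κ h⁻¹) = cm (Q.κ h⁻¹) (xC cfgU.gens 1) := by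
          have h1 := congrArg (fun y => cm (Q.κ h⁻¹) (cm y (Q.κ h⁻¹))) hce
          simp only [← hhe] at h1
          rw [cm_assoc, cm_assoc, (Q.κ_inv hh.1).1, cm_idc (show xC cfgU.gens 1 < 2 ^ 64 from cw_lt _ _),
            ← cm_assoc (Q.κ h⁻¹) (Q.κ h), (Q.κ_inv hh.1).2, idc_cm (cm_lt _ _)] at h1
          exact h1.symm
        rw [← ap_cm, hh', ap_cm, hff]
      have h2 := (Commute.conj_iff h).2 (hlift hl' hl'f)
      rw [show h * (h⁻¹ * l * h⁻¹⁻¹) * h⁻¹ = l by group, hconj] at h2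
      have h3 : Commute l i := by
        simpa [mul_assoc] using (hlift hl (by rw [hκ]; exact hff)).inv_right.mul_right h2
      rw [cform_comm, (Q.comm_iff hl hiJ).1 h3] at hf1
      exact absurd hf1 (by norm_num)
    obtain ⟨k₀, hk₀, rfl⟩ := Q.vc_surj w hw
    obtain ⟨h', hh'⟩ : ∃ h', h' = k₀ * h := ⟨_, rfl⟩
    have hh'i : Q.Inn h' := hh' ▸ Q.inn_mul (Q.inn_J hk₀) hh
    obtain ⟨y, hy⟩ : ∃ y, y = t⁻¹ * (h' * t * h'⁻¹) := ⟨_, rfl⟩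
    have hy' : h' * t * h'⁻¹ = t * y := by rw [hy, mul_inv_cancel_left]
    have hyZ : Q.Zc y := by
      have hk1 := Q.norm t⁻¹ S.htz.inv_left k₀ hk₀
      have e1 : y = t⁻¹ * k₀ * t⁻¹⁻¹ * i * k₀⁻¹ := by
        rw [hy, hh', show k₀ * h * t * (k₀ * h)⁻¹ = k₀ * (h * t * h⁻¹) * k₀⁻¹ by group, hconj]
        group
      refine Q.vc_zero y (e1 ▸ mul_mem (mul_mem hk1 hiJ) (inv_mem hk₀)) ?_
      rw [e1, Q.vc_mul _ (mul_mem hk1 hiJ) _ (inv_mem hk₀), Q.vc_mul _ hk1 _ hiJ, Q.vc_inv hk₀,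
        Q.act _ S.htz.inv_left k₀ hk₀, inv_eq_of_mul_eq_one_right S.t2, hκ, ← hwe]
      generalize ap (xC cfgU.gens 1) (Q.vc k₀) = A
      generalize Q.vc k₀ = B
      rw [← Nat.xor_assoc, Nat.xor_self, Nat.zero_xor, Nat.xor_self]
    obtain ⟨h₂, hh₂⟩ : ∃ h₂, h₂ = h' * h' := ⟨_, rfl⟩
    have hh₂t : Commute h₂ t := by
      refine mul_inv_eq_iff_eq_mul.1 ?_
      rw [hh₂, show h' * h' * t * (h' * h')⁻¹ = h' * (h' * t * h'⁻¹) * h'⁻¹ by group, hy',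
        show h' * (t * y) * h'⁻¹ = h' * t * h'⁻¹ * (h' * y * h'⁻¹) by group, hy',
        mul_inv_eq_iff_eq_mul.2 (Q.inn_zc hh'i hyZ).eq, mul_assoc, Q.zc_sq hyZ, mul_one]
    have hh₂z : Commute h₂ z := hh₂ ▸ hh'i.1.mul_left hh'i.1
    have hh₂κ : Q.κ h₂ = cm e e := by
      rw [hh₂, Q.κ_mul hh'i.1 hh'i.1, hh', Q.κ_Jmul hh.1 hk₀, hhe]
    obtain ⟨f, hfd⟩ : ∃ f, f = cm e e := ⟨_, rfl⟩
    rw [← hfd] at hh₂κ hf3 hne1 hne2
    obtain ⟨u, hud⟩ : ∃ u, u = h₂ * h₂ * (h₂ * h₂) := ⟨_, rfl⟩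
    have huz : Commute u z := hud ▸ (hh₂z.mul_left hh₂z).mul_left (hh₂z.mul_left hh₂z)
    have huκ : Q.κ u = f := by
      rw [hud, Q.κ_mul (hh₂z.mul_left hh₂z) (hh₂z.mul_left hh₂z), Q.κ_mul hh₂z hh₂z, hh₂κ, ← cm_assoc, hf3,
        idc_cm (hh₂κ ▸ Q.κ_lt _)]
    have huuκ : Q.κ (u * u) = cm f f := by rw [Q.κ_mul huz huz, huκ]
    have hui : Q.κ u⁻¹ = cm f f := by
      have h1 := (Q.κ_inv huz).1
      rw [huκ] at h1
      have h2 := congrArg (cm (cm f f)) h1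
      rwa [← cm_assoc, hf3, idc_cm (Q.κ_lt _), cm_idc (cm_lt _ _)] at h2
    have huui : Q.κ (u * u)⁻¹ = f := by
      rw [mul_inv_rev, Q.κ_mul huz.inv_left huz.inv_left, hui, cm_assoc, ← cm_assoc f f f, hf3,
        cm_idc (hh₂κ ▸ Q.κ_lt _)]
    have e2 : Q.κ (u * x * u⁻¹) = cm (cm f (Q.κ x)) (cm f f) := by rw [Q.κ_conj huz S.xz, huκ, hui]
    have e3 : Q.κ (u * u * x * (u * u)⁻¹) = cm (cm (cm f f) (Q.κ x)) f := by
      rw [Q.κ_conj (huz.mul_left huz) S.xz, huuκ, huui]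
    have hxu : Commute (u * x * u⁻¹) z := (huz.mul_left S.xz).mul_left huz.inv_left
    rcases S.three h₂ hh₂z hh₂t with hr | ⟨hcm, hprod⟩
    · rw [← hud] at hr
      exact hne1 (e2.symm.trans (congrArg Q.κ hr))
    · rw [← hud] at hcm hprod
      rcases hne2 with h | h
      · refine h ?_
        rw [← e2]
        exact Q.κ_comm S.xz hxu hcm
      · refine h ?_
        rw [← e2, ← e3, ← Q.κ_mul S.xz hxu, ← Q.κ_mul (S.xz.mul_left hxu)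
          (((huz.mul_left huz).mul_left S.xz).mul_left (huz.mul_left huz).inv_left), hprod, hκ]
  · -- the other class
    obtain ⟨h, hh, hhe, -, -⟩ := Q.invL_spec (List.mem_append_left _ e)
    have hxi : Q.Inn x := ⟨S.xz, hhe ▸ hh.2⟩
    have h1 := Q.half hxi S.x2 hcne
    rw [S.kSet_x, Q.fSet_length] at h1
    have h2 := hcl _ e
    have h3 : (Q.kSet t).card ≤ 16 := by
      have := Finset.card_le_card (Q.kSet_sub S.htz)
      rw [hκ, Q.fSet_length] at this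
      exact this.trans (le_of_eq h16)
    omega

theorem Pre.u_outer {t t₁ x : G} (S : Pre Q t t₁ x) (hn : ¬ Q.Inn t) : False := by
  classical
  -- the inner one of the other two
  obtain ⟨u, hu, hui⟩ : ∃ u, (u = x ∨ u = t₁) ∧ Q.Inn u := by
    rcases S.inn_third hn with ⟨h, -⟩ | ⟨h, -⟩
    exacts [⟨x, Or.inl rfl, h⟩, ⟨t₁, Or.inr rfl, h⟩]
  obtain ⟨hpne, hcne, hdne, -, -⟩ := S.codes
  have hu2 : u * u = 1 := by rcases hu with rfl | rfl; exacts [S.x2, S.t₁2]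
  have hune : Q.κ u ≠ idc := by rcases hu with rfl | rfl <;> assumption
  obtain ⟨g₀, hg₀, j, hj, hju⟩ := S.normal hui hu2 hune
  have S' := S.move hg₀
  obtain ⟨hpne', hcne', -, -, hcomm'⟩ := S'.codes
  obtain ⟨k, hk, -, hmem⟩ := Q.code_mem
  have hn' : ¬ WordCode cfgU.gens (Q.κ (g₀ * t * g₀⁻¹)) := fun w => hn ((S.inn_move hg₀).1 ⟨S'.htz, w⟩)
  have hpc : cm (Q.κ (g₀ * t * g₀⁻¹)) (xC cfgU.gens j) = cm (xC cfgU.gens j) (Q.κ (g₀ * t * g₀⁻¹)) := by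
    rw [← hju]
    rcases hu with rfl | rfl
    · exact hcomm'.symm
    · exact Q.κ_comm S'.htz S'.t₁z S'.comm_tt₁
  have hp := ((hmem j hj _ S'.htz hpc).2 (Q.κ_invol S'.htz S'.t2) hpne').2 hn'
  have hcase : Q.κ (g₀ * x * g₀⁻¹) = xC cfgU.gens j ∨
      Q.κ (g₀ * x * g₀⁻¹) = cm (xC cfgU.gens j) (Q.κ (g₀ * t * g₀⁻¹)) := by
    rcases hu with rfl | rfl
    · exact Or.inl hju
    · exact Or.inr (by rw [← hju, ← Q.κ_mul S'.t₁z S'.htz, ← S'.x_eq])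
  obtain ⟨t', ht'⟩ : ∃ t', t' = g₀ * t * g₀⁻¹ := ⟨_, rfl⟩
  obtain ⟨x', hx'⟩ : ∃ x', x' = g₀ * x * g₀⁻¹ := ⟨_, rfl⟩
  rw [← ht'] at S' hp hn' hcase
  rw [← hx'] at S' hcase
  have hchk := uOuter_U
  simp only [uOuterChk, List.all_eq_true, List.mem_range, Bool.and_eq_true, List.any_eq_true, nbeq_iff, vecs,
    Bool.or_eq_true, Nat.blt_eq, Bool.not_eq_true'] at hchk
  obtain ⟨hrng, hc⟩ := hchk k hk j hj _ hp
  have hcm : Q.κ x' ∈ [xC cfgU.gens j, cm (xC cfgU.gens j) (Q.κ t')] := by simpa using hcase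
  have hfm : ∀ v, v ∈ fxL (Q.κ t') ↔ v < 256 ∧ ap (Q.κ t') v = v := fun v => by simp [fxL, vecs]
  -- the centralised vectors are the singular fixed ones
  have hKeq : Q.kSet t' = ((fxL (Q.κ t')).filter fun v => Nat.beq (cfgU.q v) 0).toFinset := by
    ext v
    rw [List.mem_toFinset, List.mem_filter, nbeq_iff]
    constructor
    · intro hv
      obtain ⟨hv256, hvf⟩ := Q.kSet_fix S'.htz hv
      obtain ⟨w, hw, hwe⟩ := hrng v ((hfm v).2 ⟨hv256, hvf⟩)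
      rw [← hwe] at hv ⊢
      exact ⟨(hfm _).2 ⟨hwe.symm ▸ hv256, hwe.symm ▸ hvf⟩, (Q.rng_rule S'.htz S'.ta S'.t2 hw).1 hv⟩
    · rintro ⟨hv, hq⟩
      obtain ⟨w, hw, hwe⟩ := hrng v hv
      rw [← hwe] at hq ⊢
      exact (Q.rng_rule S'.htz S'.ta S'.t2 hw).2 hq
  rcases hc _ hcm with (⟨v, hv, hq, hmove⟩ | hlt) | ⟨w, hw, hbad⟩
  · have h1 : v ∈ Q.kSet x' := by
      rw [S'.kSet_x, hKeq, List.mem_toFinset, List.mem_filter, nbeq_iff]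
      exact ⟨hv, hq⟩
    exact Bool.noConfusion (hmove.symm.trans (nbeq_iff.2 (Q.kSet_fix S'.xz h1).2))
  · have h1 := Q.quarter S'.xz S'.xa
    rw [S'.kSet_x, Q.fSet_length, hKeq, List.toFinset_card_of_nodup (List.Nodup.filter _
      (show (fxL (Q.κ t')).Nodup from List.Nodup.filter _ List.nodup_range))] at h1
    omega
  · have hr := Q.rng_rule S'.xz S'.xa S'.x2 hw
    rw [S'.kSet_x] at hr
    rcases hbad with ⟨hq, hnot⟩ | ⟨hq, -, hq0⟩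
    · obtain ⟨-, hf⟩ := Q.kSet_fix S'.htz (hr.2 hq)
      simp [hf, hq] at hnot
    · rw [hq0] at hq
      exact absurd hq (by norm_num)

/-- A commuting conjugate is reached by an element centralising `a`. -/
theorem Pre.u_false {t t₁ x : G} (S : Pre Q t t₁ x) : False := by
  by_cases hi : Q.Inn t
  · obtain ⟨g₀, hg₀, j, hj, hju⟩ := S.normal hi S.t2 S.codes.1
    interval_cases j
    · exact (S.move hg₀).u_thick ((S.inn_move hg₀).2 hi) hju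
    · exact (S.move hg₀).u_thin hju
  · exact S.u_outer hi

end Cfsg.Lib.U62Type
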