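import Cfsg.Agent.Lib.U62Type.FourRight

/-!
# A 2-core with centre of order eight: Sylow subgroups and fusion in the centre
-/

set_option autoImplicit false
set_option linter.unusedSectionVars false
set_option linter.style.haveILetI false

namespace Cfsg.Lib.U62Type

variable {G : Type*} [Group G]

/-- Being central in the core. -/
def Z8 (z : G) (W : Subgroup G) (b : G) : Prop := b ∈ W ∨ b * z ∈ W

/-- The 2-core `J` of `C(z)`, with centre `W × ⟨z⟩`. -/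
structure Eight (z : G) (J W : Subgroup G) : Prop where
  z2 : z * z = 1
  z1 : z ≠ 1
  zJ : z ∈ J
  WJ : W ≤ J
  zW : z ∉ W
  W2 : ∀ w ∈ W, w * w = 1
  cardW : Nat.card W = 4
  cz : ∀ j ∈ J, Commute j z
  cW : ∀ j ∈ J, ∀ w ∈ W, Commute j w
  norm : ∀ h, Commute h z → ∀ j ∈ J, h * j * h⁻¹ ∈ J
  normW : ∀ h, Commute h z → ∀ w ∈ W, h * w * h⁻¹ ∈ W
  sq : ∀ j ∈ J, j * j = 1 ∨ j * j = z
  cmt : ∀ j ∈ J, ∀ k ∈ J, j * k * j⁻¹ * k⁻¹ = 1 ∨ j * k * j⁻¹ * k⁻¹ = z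
  card : Nat.card J = 2048
  zc : ∀ j ∈ J, (∀ k ∈ J, Commute j k) → Z8 z W j
  trans : ∀ w ∈ W, ∀ w' ∈ W, w ≠ 1 → w' ≠ 1 → ∃ h, Commute h z ∧ h * w * h⁻¹ = w'
  swap : ∀ w ∈ W, ∀ w' ∈ W, w ≠ 1 → w' ≠ 1 → w ≠ w' →
    ∃ h, Commute h z ∧ Commute h w ∧ h * w' * h⁻¹ = w * w'
  triv : ∀ g, Commute g z → (∀ j ∈ J, g * j * g⁻¹ * j⁻¹ ∈ W) → g ∈ J
  small : ∀ w ∈ W, w ≠ 1 → ∀ N : Subgroup G, (∀ n ∈ N, Commute n z ∧ Commute n w) → IsPGroup 2 N →
    (∀ h, Commute h z → Commute h w → ∀ n ∈ N, h * n * h⁻¹ ∈ N) → N ≤ J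
  rot : ∀ w ∈ W, w ≠ 1 → ∃ c, c * c * c = 1 ∧ Commute c z ∧ (∀ j ∈ J, Commute c j → j = 1 ∨ j = z) ∧
    ∀ h, Commute h z → Commute h w → c * (h * h) * c⁻¹ * (h * h)⁻¹ ∈ J

namespace Eight

variable {z : G} {J W : Subgroup G} (E : Eight z J W)

include E

theorem zinv : z⁻¹ = z := inv_eq_of_mul_eq_one_right E.z2

theorem winv {w : G} (hw : w ∈ W) : w⁻¹ = w := inv_eq_of_mul_eq_one_right (E.W2 w hw)

theorem wz {w : G} (hw : w ∈ W) : Commute w z := E.cz w (E.WJ hw)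

theorem wzz (w : G) : w * z * z = w := by rw [mul_assoc, E.z2, mul_one]

theorem wcomm {w w' : G} (hw : w ∈ W) (hw' : w' ∈ W) : Commute w w' := E.cW w (E.WJ hw) w' hw'

theorem z8_form {b : G} (h : Z8 z W b) : ∃ w ∈ W, b = w ∨ b = w * z :=
  h.elim (fun h => ⟨b, h, Or.inl rfl⟩) fun h => ⟨b * z, h, Or.inr (E.wzz b).symm⟩

theorem z8_J {b : G} (h : Z8 z W b) : b ∈ J := by
  obtain ⟨w, hw, rfl | rfl⟩ := E.z8_form h
  exacts [E.WJ hw, mul_mem (E.WJ hw) E.zJ]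

theorem z8_comm {b : G} (h : Z8 z W b) {j : G} (hj : j ∈ J) : Commute j b := by
  obtain ⟨w, hw, rfl | rfl⟩ := E.z8_form h
  exacts [E.cW j hj b hw, (E.cW j hj w hw).mul_right (E.cz j hj)]

theorem z8_sq {b : G} (h : Z8 z W b) : b * b = 1 := by
  obtain ⟨w, hw, rfl | rfl⟩ := E.z8_form h
  · exact E.W2 b hw
  · rw [(E.wz hw).symm.mul_mul_mul_comm, E.W2 w hw, E.z2, one_mul]

theorem wz_ne_w {u w : G} (hu : u ∈ W) (hw : w ∈ W) : u * z ≠ w := fun e => E.zW (by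
  have h := mul_mem hu hw
  rwa [← e, ← mul_assoc, E.W2 u hu, one_mul] at h)

theorem wz_ne_z {w : G} (hw1 : w ≠ 1) : w * z ≠ z := fun e => hw1 (mul_eq_right.1 e)

theorem w_ne_z {w : G} (hw : w ∈ W) : w ≠ z := fun e => E.zW (e ▸ hw)

/-- The four elements. -/
theorem w_cases {w w' : G} (hw : w ∈ W) (hw' : w' ∈ W) (h1 : w ≠ 1) (h1' : w' ≠ 1) (hne : w ≠ w') {u : G}
    (hu : u ∈ W) : u = 1 ∨ u = w ∨ u = w' ∨ u = w * w' := by
  classical
  by_contra hc
  push Not at hc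
  obtain ⟨c1, c2, c3, c4⟩ := hc
  have h5 : ({1, w, w', w * w', u} : Set G).ncard = 5 := by
    have hww : w * w' ≠ 1 := fun e => hne ((eq_inv_of_mul_eq_one_left e).trans (E.winv hw'))
    have hw' : w * w' ≠ w := fun e => h1' (mul_eq_left.1 e)
    have hw'' : w * w' ≠ w' := fun e => h1 (mul_eq_right.1 e)
    rw [Set.ncard_insert_of_notMem (by simp [h1.symm, h1'.symm, hww.symm, c1.symm]) (Set.toFinite _),
      Set.ncard_insert_of_notMem (by simp [hne, hw'.symm, c2.symm]) (Set.toFinite _),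
      Set.ncard_insert_of_notMem (by simp [hw''.symm, c3.symm]) (Set.toFinite _),
      Set.ncard_insert_of_notMem (by simp [c4.symm]) (Set.toFinite _), Set.ncard_singleton]
  haveI : Finite W := Nat.finite_of_card_ne_zero (by rw [E.cardW]; norm_num)
  have hsub : ({1, w, w', w * w', u} : Set G) ⊆ (W : Set G) := by
    simp only [Set.insert_subset_iff, Set.singleton_subset_iff, SetLike.mem_coe]
    exact ⟨one_mem _, hw, hw', mul_mem hw hw', hu⟩
  have h := Set.ncard_le_ncard hsub (Set.toFinite _)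
  rw [h5, ← Nat.card_coe_set_eq, show Nat.card ↥(W : Set G) = Nat.card W from rfl, E.cardW] at h
  omega

theorem exists_other (w : G) : ∃ w' ∈ W, w' ≠ 1 ∧ w ≠ w' := by
  by_contra hc
  push Not at hc
  haveI : Finite W := Nat.finite_of_card_ne_zero (by rw [E.cardW]; norm_num)
  have hsub : (W : Set G) ⊆ {1, w} := fun u hu => by
    by_cases h : u = 1
    · exact Or.inl h
    · exact Or.inr (hc u hu h).symm
  have h := Set.ncard_le_ncard hsub (Set.toFinite _)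
  rw [← Nat.card_coe_set_eq (W : Set G), show Nat.card ↥(W : Set G) = Nat.card W from rfl, E.cardW] at h
  have := Set.ncard_insert_le (1 : G) {w}
  rw [Set.ncard_singleton] at this
  omega

theorem exists_one : ∃ w ∈ W, w ≠ 1 := by
  obtain ⟨w, hw, h, -⟩ := E.exists_other 1
  exact ⟨w, hw, h⟩

theorem self {g : G} (hg : Commute g z) (h : ∀ j ∈ J, Commute g j) : g ∈ J :=
  E.triv g hg fun j hj => by
    rw [mul_inv_eq_iff_eq_mul.2 (h j hj).eq, mul_inv_cancel]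
    exact one_mem _

theorem z8_conj {b : G} (hb : Z8 z W b) {h : G} (hh : Commute h z) : Z8 z W (h * b * h⁻¹) := by
  obtain ⟨w, hw, rfl | rfl⟩ := E.z8_form hb
  · exact Or.inl (E.normW h hh b hw)
  · refine Or.inr ?_
    rw [show h * (w * z) * h⁻¹ = h * w * h⁻¹ * (h * z * h⁻¹) by group, mul_inv_eq_iff_eq_mul.2 hh.eq,
      E.wzz]
    exact E.normW h hh w hw

variable [Finite G]

theorem isPGroup_J (P : Subgroup G) (hP : P ≤ J) : IsPGroup 2 P := fun x => ⟨2, Subtype.ext (by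
  rw [SubgroupClass.coe_pow, show (2 : ℕ) ^ 2 = 2 * 2 from rfl, pow_mul, pow_two, pow_two]
  rcases E.sq _ (hP x.2) with e | e <;> rw [e]
  exacts [one_mul 1, E.z2])⟩

/-- The three. -/
theorem card_cent {w : G} (hw : w ∈ W) (h1 : w ≠ 1) : Nat.card ↥(Subgroup.centralizer ({z} : Set G)) =
    3 * Nat.card ↥(Subgroup.centralizer ({z} : Set G) ⊓ Subgroup.centralizer ({w} : Set G)) := by
  classical
  obtain ⟨H, hH⟩ : ∃ H, H = Subgroup.centralizer ({z} : Set G) := ⟨_, rfl⟩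
  obtain ⟨M, hM⟩ : ∃ M, M = H ⊓ Subgroup.centralizer ({w} : Set G) := ⟨_, rfl⟩
  rw [← hH, ← hM]
  have hmH : ∀ {x}, x ∈ H ↔ Commute x z := fun {x} => by rw [hH]; exact mem_cent
  have hmM : ∀ {x}, x ∈ M ↔ Commute x z ∧ Commute x w := fun {x} => by
    rw [hM, Subgroup.mem_inf, hmH, mem_cent]
  have hmk : ∀ a b : H, (a : ↥H ⧸ M.subgroupOf H) = b ↔ (a : G) * w * (a : G)⁻¹ = (b : G) * w * (b : G)⁻¹ := by
    intro a b
    rw [QuotientGroup.eq, Subgroup.mem_subgroupOf, hmM]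
    push_cast
    constructor
    · rintro ⟨-, h⟩
      rw [show (b : G) * w * (b : G)⁻¹ = (a : G) * ((a : G)⁻¹ * b * w * ((a : G)⁻¹ * b)⁻¹) * (a : G)⁻¹ by group,
        mul_inv_eq_iff_eq_mul.2 h.eq]
    · intro h
      refine ⟨(hmH.1 a.2).inv_left.mul_left (hmH.1 b.2), mul_inv_eq_iff_eq_mul.1 ?_⟩
      rw [show (a : G)⁻¹ * b * w * ((a : G)⁻¹ * b)⁻¹ = (a : G)⁻¹ * ((b : G) * w * (b : G)⁻¹) * a by group, ← h]
      group
  obtain ⟨f, hf⟩ : ∃ f : ↥H ⧸ M.subgroupOf H → {u : ↥W // u ≠ 1}, ∀ a : H,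
      ((f a).1 : G) = (a : G) * w * (a : G)⁻¹ := by
    refine ⟨fun q => ⟨⟨(q.out : G) * w * (q.out : G)⁻¹, E.normW _ (hmH.1 q.out.2) w hw⟩, fun e => h1 ?_⟩, fun a => ?_⟩
    · exact conj_eq_one_iff.1 (congrArg Subtype.val e)
    · exact (hmk _ a).1 (QuotientGroup.out_eq' _)
  have hbij : Function.Bijective f := by
    refine ⟨fun p q e => ?_, fun u => ?_⟩
    · obtain ⟨a, rfl⟩ := QuotientGroup.mk_surjective p
      obtain ⟨b, rfl⟩ := QuotientGroup.mk_surjective q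
      rw [hmk, ← hf, ← hf, e]
    · obtain ⟨h, hh, he⟩ := E.trans w hw u.1 u.1.2 h1 fun e => u.2 (Subtype.ext e)
      exact ⟨((⟨h, hmH.2 hh⟩ : H) : ↥H ⧸ M.subgroupOf H), Subtype.ext (Subtype.ext ((hf _).trans he))⟩
  have h3 : Nat.card {u : ↥W // u ≠ 1} = 3 := by
    haveI := Fintype.ofFinite ↥W
    rw [Nat.card_eq_fintype_card, Fintype.card_subtype_compl, Fintype.card_subtype_eq, ← Nat.card_eq_fintype_card,
      E.cardW]
  have h := Subgroup.card_mul_index (M.subgroupOf H)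
  rw [Subgroup.index, Nat.card_eq_of_bijective f hbij, h3,
    Nat.card_congr (Subgroup.subgroupOfEquivOfLe (show M ≤ H from hM ▸ inf_le_left)).toEquiv] at h
  omega

/-- The core is not abelian. -/
theorem exists_cmt : ∃ j ∈ J, ∃ k ∈ J, j * k * j⁻¹ * k⁻¹ = z := by
  classical
  by_contra hc
  push Not at hc
  have hall : ∀ j ∈ J, Z8 z W j := fun j hj => E.zc j hj fun k hk =>
    mul_inv_eq_iff_eq_mul.1 (mul_inv_eq_one.1 ((E.cmt j hj k hk).resolve_right (hc j hj k hk)))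
  haveI : Finite W := inferInstance
  have hle : Nat.card J ≤ Nat.card (↥W ⊕ ↥W) := by
    refine Nat.card_le_card_of_injective (fun j : J => if h : (j : G) ∈ W then Sum.inl ⟨_, h⟩ else
      Sum.inr ⟨(j : G) * z, (hall _ j.2).resolve_left h⟩) fun a c h => ?_
    simp only at h
    split_ifs at h with ha hc' hc'
    · exact Subtype.ext (congrArg Subtype.val (Sum.inl.inj h) :)
    · exact Subtype.ext (mul_right_cancel (congrArg Subtype.val (Sum.inr.inj h) :))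
  rw [Nat.card_sum, E.card, E.cardW] at hle
  omega

/-- The only conjugate of `z` in the centre is `z`. -/
theorem ne_conj {g b : G} (hb : Z8 z W b) (e : g * z * g⁻¹ = b) : b = z := by
  classical
  haveI : Fact (Nat.Prime 2) := ⟨Nat.prime_two⟩
  obtain ⟨w, hw, hbw⟩ := E.z8_form hb
  by_cases h1 : w = 1
  · rcases hbw with rfl | rfl
    · exact absurd (conj_eq_one_iff.1 (e.trans h1)) E.z1
    · rw [h1, one_mul]
  exfalso
  obtain ⟨A, hA⟩ : ∃ A, A = Subgroup.centralizer ({b} : Set G) := ⟨_, rfl⟩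
  obtain ⟨M, hM⟩ : ∃ M, M = Subgroup.centralizer ({z} : Set G) ⊓ Subgroup.centralizer ({w} : Set G) := ⟨_, rfl⟩
  have hmM : ∀ {x}, x ∈ M ↔ Commute x z ∧ Commute x w := fun {x} => by
    rw [hM, Subgroup.mem_inf, mem_cent, mem_cent]
  have hMA : M ≤ A := fun x hx => by
    rw [hA, mem_cent]
    rcases hbw with rfl | rfl
    exacts [(hmM.1 hx).2, (hmM.1 hx).2.mul_right (hmM.1 hx).1]
  have hi : (M.subgroupOf A).index = 3 := by
    have h := Subgroup.card_mul_index (M.subgroupOf A)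
    rw [Nat.card_congr (Subgroup.subgroupOfEquivOfLe hMA).toEquiv] at h
    have h' : Nat.card A = Nat.card ↥(Subgroup.centralizer ({z} : Set G)) := by
      rw [hA, ← e, card_centralizer_conj]
    rw [h', E.card_cent hw h1, ← hM, mul_comm 3] at h
    exact Nat.eq_of_mul_eq_mul_left Nat.card_pos h
  obtain ⟨Jb, hJb⟩ : ∃ Jb, Jb = J.map (MulAut.conj g).toMonoidHom := ⟨_, rfl⟩
  have hmb : ∀ {x}, x ∈ Jb ↔ g⁻¹ * x * g ∈ J := fun {x} => by
    rw [hJb, Subgroup.mem_map_equiv, MulAut.conj_symm_apply]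
  have hJbA : ∀ {x}, x ∈ Jb → x ∈ A := fun {x} hx => by
    rw [hA, mem_cent, ← e]
    exact conj_commute (E.cz _ (hmb.1 hx))
  have hn : ∀ {x y}, x ∈ A → y ∈ Jb → x * y * x⁻¹ ∈ Jb := fun {x y} hx hy => by
    rw [hA, mem_cent, ← e] at hx
    rw [hmb] at hy ⊢
    have := E.norm _ (commute_conj_back hx) _ hy
    rwa [show g⁻¹ * x * g * (g⁻¹ * y * g) * (g⁻¹ * x * g)⁻¹ = g⁻¹ * (x * y * x⁻¹) * g by group] at this
  have h2b : IsPGroup 2 ↥Jb := hJb ▸ (E.isPGroup_J J le_rfl).map _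
  -- it lies in the subgroup of index three
  have hJbM : Jb ≤ M := by
    obtain ⟨R⟩ : Nonempty (Sylow 2 ↥(M.subgroupOf A)) := inferInstance
    obtain ⟨S, hS⟩ := (R.2.map (M.subgroupOf A).subtype).exists_le_sylow
    have hidx : ((R : Subgroup ↥(M.subgroupOf A)).map (M.subgroupOf A).subtype).index % 2 = 1 := by
      rw [Subgroup.index_map_subtype, hi]
      have := R.not_dvd_index
      omega
    have hSR : (S : Subgroup A) = (R : Subgroup ↥(M.subgroupOf A)).map (M.subgroupOf A).subtype := by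
      refine le_antisymm ?_ hS
      rw [← Subgroup.relIndex_eq_one]
      have hd := Subgroup.relIndex_mul_index hS
      obtain ⟨n, hn'⟩ := IsPGroup.iff_card.1 S.2
      have h5 : ((R : Subgroup ↥(M.subgroupOf A)).map (M.subgroupOf A).subtype).relIndex (S : Subgroup A) ∣ 2 ^ n := by
        rw [← hn']; exact Subgroup.relIndex_dvd_card _ _
      obtain ⟨k, -, hk⟩ := (Nat.dvd_prime_pow Nat.prime_two).1 h5
      rcases Nat.eq_zero_or_pos k with rfl | hk'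
      · simpa using hk
      · exfalso
        rw [← hd, hk, Nat.mul_mod, Nat.pow_mod, Nat.mod_self, zero_pow hk'.ne'] at hidx
        simp at hidx
    intro x hx
    have hP : IsPGroup 2 ↥(Jb.subgroupOf A) := h2b.comap_of_injective _ Subtype.val_injective
    obtain ⟨T, hT⟩ := hP.exists_le_sylow
    obtain ⟨q, hq⟩ := MulAction.exists_smul_eq A S T
    have hx' : q * ⟨x, hJbA hx⟩ * q⁻¹ ∈ (T : Subgroup A) := hT (Subgroup.mem_subgroupOf.2 (hn q.2 hx))
    rw [← hq, Sylow.smul_def] at hx'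
    obtain ⟨y, hy, hye⟩ := hx'
    have hyx : y = ⟨x, hJbA hx⟩ := mul_left_cancel (mul_right_cancel (show q * y * q⁻¹ = _ from hye))
    rw [SetLike.mem_coe, hSR, hyx] at hy
    obtain ⟨r, -, hr⟩ := hy
    have := Subgroup.mem_subgroupOf.1 r.2
    rwa [show (r : A) = ⟨x, hJbA hx⟩ from hr] at this
  have hJJ : Jb ≤ J := E.small w hw h1 Jb (fun n hn' => hmM.1 (hJbM hn')) h2b
    fun h hh hhw n hn' => hn (hMA (hmM.2 ⟨hh, hhw⟩)) hn'
  have hbz : b ≠ z := by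
    rcases hbw with rfl | rfl
    exacts [E.w_ne_z hw, E.wz_ne_z h1]
  obtain ⟨j, hj, k, hk, hjk⟩ := E.exists_cmt
  have h1' : g * j * g⁻¹ ∈ J := hJJ (hmb.2 (by group; simpa using hj))
  have h2' : g * k * g⁻¹ ∈ J := hJJ (hmb.2 (by group; simpa using hk))
  rcases E.cmt _ h1' _ h2' with h | h <;>
    rw [show g * j * g⁻¹ * (g * k * g⁻¹) * (g * j * g⁻¹)⁻¹ * (g * k * g⁻¹)⁻¹ = g * (j * k * j⁻¹ * k⁻¹) * g⁻¹ by group,
      hjk, e] at h
  · exact E.z1 (conj_eq_one_iff.1 (e.trans h))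
  · exact hbz h

theorem commutes_core {n : G} (h : ∀ j ∈ J, Commute j (n * z * n⁻¹)) : n * z * n⁻¹ = z :=
  E.ne_conj (E.zc _ (E.self (h z E.zJ).symm fun j hj => (h j hj).symm) fun k hk => (h k hk).symm) rfl

/-- A 2-group containing the core centralises `z`. -/
theorem two_le {T : Subgroup G} (hT : IsPGroup 2 T) (hJT : J ≤ T) {n : G} (hn : n ∈ T) : Commute n z := by
  classical
  haveI : Fact (Nat.Prime 2) := ⟨Nat.prime_two⟩
  haveI : Group.IsNilpotent ↥T := hT.isNilpotent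
  obtain ⟨D, hD⟩ : ∃ D, D = (T ⊓ Subgroup.centralizer ({z} : Set G)).subgroupOf T := ⟨_, rfl⟩
  have hmem : ∀ {x : T}, x ∈ D ↔ Commute (x : G) z := fun {x} => by
    rw [hD, Subgroup.mem_subgroupOf, Subgroup.mem_inf, Subgroup.mem_centralizer_singleton_iff]
    exact ⟨fun h => h.2, fun h => ⟨x.2, h.eq⟩⟩
  by_contra hnz
  have hlt : D < ⊤ := lt_top_iff_ne_top.2 fun e => hnz ((hmem (x := ⟨n, hn⟩)).1 (e ▸ Subgroup.mem_top _))
  obtain ⟨x, hx, hxD⟩ := SetLike.exists_of_lt ((Group.normalizerCondition_of_isNilpotent (G := ↥T)) D hlt)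
  refine hxD (hmem.2 ?_)
  rw [Subgroup.mem_normalizer_iff] at hx
  refine mul_inv_eq_iff_eq_mul.1 (E.commutes_core fun j hj => conj_commute ?_)
  have h1 := (hx ⟨(x : G)⁻¹ * j * x, mul_mem (mul_mem (inv_mem x.2) (hJT hj)) x.2⟩).2 ?_
  · exact hmem.1 h1
  rw [hmem]
  push_cast
  rw [show (x : G) * ((x : G)⁻¹ * j * x) * (x : G)⁻¹ = j by group]
  exact E.cz j hj

theorem cent {b : G} (hb : Z8 z W b) : Cent z b := by
  classical
  haveI : Fact (Nat.Prime 2) := ⟨Nat.prime_two⟩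
  intro P hP hPa
  obtain ⟨A, hA⟩ : ∃ A, A = Subgroup.centralizer ({b} : Set G) := ⟨_, rfl⟩
  have hmemA : ∀ {x}, x ∈ A ↔ Commute x b := fun {x} => by rw [hA]; exact mem_cent
  have hJA : J ≤ A := fun j hj => hmemA.2 (E.z8_comm hb hj)
  obtain ⟨R, hR⟩ := ((E.isPGroup_J J le_rfl).comap_of_injective A.subtype Subtype.val_injective).exists_le_sylow
  have hP' : IsPGroup 2 ↥(P.subgroupOf A) := hP.comap_of_injective _ Subtype.val_injective
  obtain ⟨S, hS⟩ := hP'.exists_le_sylow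
  obtain ⟨g, hg⟩ := MulAction.exists_smul_eq ↥A R S
  refine ⟨g, hmemA.1 g.2, fun p hp => conj_commute ?_⟩
  have hpS : (⟨p, hmemA.2 (hPa p hp)⟩ : A) ∈ g • R := hg.symm ▸ hS hp
  rw [Sylow.smul_def] at hpS
  obtain ⟨r, hr, hre⟩ := hpS
  have hre' : (g : G) * r * (g : G)⁻¹ = p := congrArg Subtype.val hre
  rw [← hre', show (g : G)⁻¹ * ((g : G) * r * (g : G)⁻¹) * g = r by group]
  exact E.two_le (R.2.map A.subtype) (fun j hj => ⟨⟨j, hJA hj⟩, hR hj, rfl⟩) ⟨r, hr, rfl⟩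

/-- An involution of `C(z)` fixes one of the three. -/
theorem fix_one {v : G} (hv : Commute v z) (hv2 : v * v = 1) : ∃ w ∈ W, w ≠ 1 ∧ Commute v w := by
  obtain ⟨w, hw, h1⟩ := E.exists_one
  by_cases h : Commute v w
  · exact ⟨w, hw, h1, h⟩
  obtain ⟨u, hu⟩ : ∃ u, u = v * w * v⁻¹ := ⟨_, rfl⟩
  have huw : u ∈ W := hu ▸ E.normW v hv w hw
  refine ⟨w * u, mul_mem hw huw, fun e => h (mul_inv_eq_iff_eq_mul.1 ?_), mul_inv_eq_iff_eq_mul.1 ?_⟩
  · rw [← hu, ← inv_eq_of_mul_eq_one_right e, E.winv hw]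
  · rw [hu, show v * (w * (v * w * v⁻¹)) * v⁻¹ = v * w * v⁻¹ * (v * v * w * (v * v)⁻¹) by group, hv2, one_mul,
      inv_one, mul_one, ← hu, (E.wcomm huw hw).eq]

/-- A 2-group in `C(z)` fixes one of the three. -/
theorem fix_two {T : Subgroup G} (hT : IsPGroup 2 T) (hTz : ∀ n ∈ T, Commute n z) :
    ∃ w ∈ W, w ≠ 1 ∧ ∀ n ∈ T, Commute n w := by
  classical
  haveI : Fact (Nat.Prime 2) := ⟨Nat.prime_two⟩
  let X := {w : ↥W // w ≠ 1}
  letI : MulAction T X :=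
    { smul := fun n w => ⟨⟨(n : G) * (w.1 : G) * (n : G)⁻¹, E.normW _ (hTz n n.2) _ w.1.2⟩, fun e =>
        w.2 (Subtype.ext (conj_eq_one_iff.1 (congrArg Subtype.val e)))⟩
      one_smul := fun w => Subtype.ext (Subtype.ext (show (1 : G) * (w.1 : G) * 1⁻¹ = w.1 by group))
      mul_smul := fun a b w => Subtype.ext (Subtype.ext (show (a : G) * b * (w.1 : G) * ((a : G) * b)⁻¹ =
        (a : G) * ((b : G) * (w.1 : G) * (b : G)⁻¹) * (a : G)⁻¹ by group)) }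
  have hm := hT.card_modEq_card_fixedPoints X
  have hX : Nat.card X = 3 := by
    haveI := Fintype.ofFinite ↥W
    rw [Nat.card_eq_fintype_card, Fintype.card_subtype_compl, Fintype.card_subtype_eq, ← Nat.card_eq_fintype_card,
      E.cardW]
  rw [hX] at hm
  obtain ⟨w⟩ : Nonempty (MulAction.fixedPoints T X) := by
    by_contra hne
    rw [not_nonempty_iff] at hne
    rw [Nat.card_of_isEmpty] at hm
    exact absurd hm (by decide)
  exact ⟨w.1.1, w.1.1.2, fun e => w.1.2 (Subtype.ext e), fun n hn => mul_inv_eq_iff_eq_mul.1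
    (congrArg (fun x : X => ((x.1 : ↥W) : G)) (w.2 ⟨n, hn⟩))⟩

/-- The two kinds are not fused. -/
theorem not_fused {u u' : G} (hu : u ∈ W) (hu' : u' ∈ W) (h1 : u ≠ 1) (g : G) : g * u * g⁻¹ ≠ u' * z := by
  classical
  haveI : Fact (Nat.Prime 2) := ⟨Nat.prime_two⟩
  intro e
  have h1' : u' ≠ 1 := by
    rintro rfl
    rw [one_mul] at e
    exact E.w_ne_z hu (E.ne_conj (g := g⁻¹) (Or.inl hu) (conj_back e))
  obtain ⟨T, hT⟩ := (E.isPGroup_J J le_rfl).exists_le_sylow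
  obtain ⟨w, hw, hw1, hwT⟩ := E.fix_two T.2 fun n hn => E.two_le T.2 hT hn
  obtain ⟨h, hh, he⟩ := E.trans w hw u hu hw1 h1
  obtain ⟨h', hh', he'⟩ := E.trans u' hu' w hw h1' hw1
  obtain ⟨f, hf⟩ : ∃ f, f = h' * g * h := ⟨_, rfl⟩
  have hfe : f * w * f⁻¹ = w * z := by
    rw [hf, show h' * g * h * w * (h' * g * h)⁻¹ = h' * (g * (h * w * h⁻¹) * g⁻¹) * h'⁻¹ by group, he, e,
      show h' * (u' * z) * h'⁻¹ = h' * u' * h'⁻¹ * (h' * z * h'⁻¹) by group, he', mul_inv_eq_iff_eq_mul.2 hh'.eq]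
  obtain ⟨B, hB⟩ : ∃ B, B = Subgroup.centralizer ({w * z} : Set G) := ⟨_, rfl⟩
  have hTz : ∀ n ∈ T, Commute n z := fun n hn => E.two_le T.2 hT hn
  have hTB : (T : Subgroup G) ≤ B := fun n hn => by
    rw [hB, mem_cent]
    exact (hwT n hn).mul_right (hTz n hn)
  have hgB : ((f • T : Sylow 2 G) : Subgroup G) ≤ B := by
    intro n hn
    rw [Sylow.smul_def] at hn
    obtain ⟨r, hr, rfl⟩ := hn
    rw [hB, mem_cent]
    show Commute (f * r * f⁻¹) (w * z)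
    rw [← hfe]
    exact (Commute.conj_iff f).2 (hwT r hr)
  obtain ⟨c, hc⟩ := MulAction.exists_smul_eq ↥B ((f • T).subtype hgB) (T.subtype hTB)
  rw [Sylow.smul_subtype] at hc
  replace hc : ((c : G) * f) • T = T := by rw [mul_smul]; exact Sylow.subtype_injective hc
  have hn : Commute ((c : G) * f) z := by
    refine mul_inv_eq_iff_eq_mul.1 (E.commutes_core fun j hj => ?_)
    have hj' : j ∈ ((((c : G) * f) • T : Sylow 2 G) : Subgroup G) := by rw [hc]; exact hT hj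
    rw [Sylow.smul_def] at hj'
    obtain ⟨r, hr, rfl⟩ := hj'
    exact (Commute.conj_iff ((c : G) * f)).2 (hTz r hr)
  have h2 : (c : G) * f * w * ((c : G) * f)⁻¹ = w * z := by
    rw [show (c : G) * f * w * ((c : G) * f)⁻¹ = c * (f * w * f⁻¹) * (c : G)⁻¹ by group, hfe]
    exact mul_inv_eq_iff_eq_mul.2 (mem_cent.1 (hB ▸ c.2)).eq
  exact E.wz_ne_w hw (E.normW _ hn w hw) h2.symm

/-- A conjugate of a member of `W` in the centre is in `W`. -/
theorem conj_W {g w : G} (hw : w ∈ W) (h1 : w ≠ 1) (h : Z8 z W (g * w * g⁻¹)) : g * w * g⁻¹ ∈ W := by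
  rcases h with h | h
  · exact h
  · exact absurd (E.wzz _).symm (E.not_fused hw h h1 g)

end Eight

end Cfsg.Lib.U62Type
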