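import Cfsg.Agent.Lib.U62Type.EightOutcome
import Cfsg.Agent.Lib.U62Type.EightPre

/-!
# A commuting conjugate shares a member of `W`
-/

set_option autoImplicit false
set_option linter.unusedSectionVars false
set_option linter.style.haveILetI false

namespace Cfsg.Lib.U62Type

variable {G : Type*} [Group G] {z : G} {J W : Subgroup G}

/-- Reaching `t` by an element centralising a member of `W`. -/
def Shares (z : G) (W : Subgroup G) (t : G) : Prop :=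
  ∃ u ∈ W, u ≠ 1 ∧ ∃ f, Commute f u ∧ f * z * f⁻¹ = t

namespace Eight

variable [Finite G] (E : Eight z J W)

include E

theorem comm_proj {b : G} (hb : Z8 z W b) (hbz : b ≠ z) {x y : G} (hx : x ∈ J) (hy : y ∈ J)
    (hxb : Commute x b) (hyb : Commute y b) (h : Commute (qmk b x hxb) (qmk b y hyb)) : Commute x y := by
  refine mul_inv_eq_iff_eq_mul.1 (mul_inv_eq_one.1 ?_)
  rcases E.cmt x hx y hy with e | e
  · exact e
  exfalso
  have hd := ((hxb.mul_left hyb).mul_left hxb.inv_left).mul_left hyb.inv_left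
  have h1 : qmk b (x * y * x⁻¹ * y⁻¹) hd = qmk b 1 (Commute.one_left b) := by
    show qmk b x hxb * qmk b y hyb * (qmk b x hxb)⁻¹ * (qmk b y hyb)⁻¹ = 1
    rw [mul_inv_eq_one, mul_inv_eq_iff_eq_mul]
    exact h.eq
  rcases (qmk_eq (E.z8_sq hb) _ _).1 h1 with d | d
  · exact E.z1 (e.symm.trans d.symm)
  · rw [e] at d
    exact hbz ((eq_inv_of_mul_eq_one_right d.symm).trans E.zinv)

variable {w w' b : G} {hzb : Commute z b} {hwb : Commute w' b} (Q : Quad cfgU (qmk b z hzb) (qmk b w' hwb))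

theorem comm_cform (hb : Z8 z W b) (hbz : b ≠ z) (hQ : Q.J = coreQ J b) {x y : G} (hx : x ∈ J) (hy : y ∈ J) :
    Commute x y ↔ cform cfgU (Q.vc (qmk b x (E.z8_comm hb hx))) (Q.vc (qmk b y (E.z8_comm hb hy))) = 0 := by
  rw [← Q.comm_iff (hQ ▸ (E.mem_coreQ hb _).2 hx) (hQ ▸ (E.mem_coreQ hb _).2 hy)]
  constructor
  · intro h
    show qmk b x _ * qmk b y _ = qmk b y _ * qmk b x _
    rw [← qmk_mul, ← qmk_mul]
    exact qmk_congr _ _ h.eq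
  · exact E.comm_proj hb hbz hx hy _ _

theorem vc_zero_z8 (hb : Z8 z W b) (hbz : b ≠ z) (hQ : Q.J = coreQ J b) {x : G} (hx : x ∈ J)
    (h : Q.vc (qmk b x (E.z8_comm hb hx)) = 0) : Z8 z W x :=
  E.zc x hx fun k hk => (E.comm_cform Q hb hbz hQ hx hk).2 (by
    have h0 := Q.q_of_sq (one_mem _) (one_mul 1)
    rw [Q.vc_one] at h0
    rw [h, cform, Nat.zero_xor, h0, Nat.xor_zero, Nat.xor_self])

/-- Fixing the hyperplane of a singular vector. -/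
theorem hyperplane_J (hb : Z8 z W b) (hbz : b ≠ z) (hQ : Q.J = coreQ J b) {x y : G} (hx : Commute x z) (hxb : Commute x b)
    (hy : y ∈ J) (hy2 : y * y = 1) (h : ∀ m ∈ J, Commute m y → Commute x m) : x ∈ J := by
  have hxz : Commute (qmk b x hxb) (qmk b z hzb) := by
    show qmk b x hxb * qmk b z hzb = qmk b z hzb * qmk b x hxb
    rw [← qmk_mul, ← qmk_mul]
    exact qmk_congr _ _ hx.eq
  have hq : cfgU.q (Q.vc (qmk b y (E.z8_comm hb hy))) = 0 := Q.q_of_sq (hQ ▸ (E.mem_coreQ hb _).2 hy) (by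
    rw [← qmk_mul, ← qmk_one]; exact qmk_congr _ _ hy2)
  have hid := Q.code_hyperplane hxz (Q.vc_lt _) hq fun u hu hu0 => by
    obtain ⟨m', hm', rfl⟩ := Q.vc_surj u hu
    obtain ⟨m, hmb, rfl⟩ := qmk_surj m'
    have hm := (E.mem_coreQ hb hmb).1 (hQ ▸ hm')
    refine Q.fixed_of_commute hxz hm' ?_
    have hc := h m hm ((E.comm_cform Q hb hbz hQ hm hy).2 hu0)
    show qmk b x hxb * qmk b m hmb = qmk b m hmb * qmk b x hxb
    rw [← qmk_mul, ← qmk_mul]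
    exact qmk_congr _ _ hc.eq
  exact (E.mem_coreQ hb hxb).1 (hQ ▸ Q.ker _ hxz hid)

end Eight

namespace Eight

variable [Finite G] (E : Eight z J W) {F : Type*} [Field F] [Fintype F] (hF : Fintype.card F = 3) (P : Proj z J W F)
  (hD : ∀ u ∈ W, u ≠ 1 → Iso z (u * z))

include E hD

/-- Centralising a conjugate of `w z` in the core centralises the conjugate of `z`. -/
theorem iso_comm8 {w g : G} (hw : w ∈ W) (h1 : w ≠ 1) (htz : Commute (g * z * g⁻¹) z) {m : G} (hm : m ∈ J)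
    (hmx : Commute m (g * (w * z) * g⁻¹)) : Commute m (g * z * g⁻¹) := by
  obtain ⟨t, ht⟩ : ∃ t, t = g * z * g⁻¹ := ⟨_, rfl⟩
  obtain ⟨x, hx⟩ : ∃ x, x = g * (w * z) * g⁻¹ := ⟨_, rfl⟩
  rw [← ht] at htz ⊢
  rw [← hx] at hmx
  obtain ⟨P, hP⟩ : ∃ P, P = J ⊓ Subgroup.centralizer ({x} : Set G) := ⟨_, rfl⟩
  have hxt : Commute x t := by
    rw [ht, hx]
    exact (Commute.conj_iff g).2 ((E.wz hw).mul_left (Commute.refl z))
  have ht2 : t * t = 1 := by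
    rw [ht, show g * z * g⁻¹ * (g * z * g⁻¹) = g * (z * z) * g⁻¹ by group, E.z2, mul_one, mul_inv_cancel]
  have hnorm : Subgroup.zpowers t ≤ Subgroup.normalizer (P : Set G) := by
    rw [Subgroup.zpowers_le, Subgroup.mem_normalizer_iff]
    have key : ∀ p ∈ P, t * p * t⁻¹ ∈ P := by
      intro p hp
      rw [hP, Subgroup.mem_inf, Subgroup.mem_centralizer_singleton_iff] at hp ⊢
      exact ⟨E.norm t htz p hp.1, ((hxt.symm.mul_left (show Commute p x from hp.2)).mul_left hxt.symm.inv_left).eq⟩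
    intro p
    refine ⟨key p, fun hp => ?_⟩
    have h1 := key _ hp
    rwa [show t * (t * p * t⁻¹) * t⁻¹ = t * t * p * (t * t)⁻¹ by group, ht2, one_mul, inv_one, mul_one] at h1
  have hzp : IsPGroup 2 ↥(Subgroup.zpowers t) := fun y => ⟨1, Subtype.ext (by
    obtain ⟨n, hn⟩ := Subgroup.mem_zpowers_iff.1 y.2
    rw [SubgroupClass.coe_pow, pow_one, pow_two, ← hn, ← (Commute.refl t).mul_zpow, ht2, one_zpow]
    rfl)⟩
  have hPt : IsPGroup 2 ↥(P ⊔ Subgroup.zpowers t) := by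
    rw [sup_comm]
    exact IsPGroup.to_sup_of_normal_right' hzp (E.isPGroup_J P (hP ▸ inf_le_left)) hnorm
  have hcomm : P ⊔ Subgroup.zpowers t ≤ Subgroup.centralizer ({x} : Set G) :=
    sup_le (hP ▸ inf_le_right) (Subgroup.zpowers_le.2 (Subgroup.mem_centralizer_singleton_iff.2 hxt.symm.eq))
  obtain ⟨f, hf, hfP⟩ := ((E.cent (b := w * z) (Or.inr (by rw [E.wzz]; exact hw))).conj g) _ hPt fun p hp => by
    rw [← hx]
    exact Subgroup.mem_centralizer_singleton_iff.1 (hcomm hp)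
  have h1' := hfP t (Subgroup.mem_sup_right (Subgroup.mem_zpowers t))
  have h2 : f * (g * z * g⁻¹) * f⁻¹ = g * z * g⁻¹ :=
    ((hD w hw h1).conj g) f hf (by rw [← ht] at h1' ⊢; exact h1'.symm)
  have h3 := hfP m (Subgroup.mem_sup_left (hP ▸ Subgroup.mem_inf.2
    ⟨hm, Subgroup.mem_centralizer_singleton_iff.2 hmx.eq⟩))
  rwa [h2, ← ht] at h3

theorem shares_a {w g : G} (hw : w ∈ W) (h1 : w ≠ 1) (h : Z8 z W (g * w * g⁻¹)) : Shares z W (g * z * g⁻¹) := by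
  have hu := E.conj_W hw h1 h
  have hu1 : g * w * g⁻¹ ≠ 1 := fun e => h1 (conj_eq_one_iff.1 e)
  obtain ⟨h', hh, he⟩ := E.trans _ hu w hw hu1 h1
  refine ⟨_, hu, hu1, g * h', mul_inv_eq_iff_eq_mul.1 ?_, ?_⟩
  · rw [show g * h' * (g * w * g⁻¹) * (g * h')⁻¹ = g * (h' * (g * w * g⁻¹) * h'⁻¹) * g⁻¹ by group, he]
  · rw [show g * h' * z * (g * h')⁻¹ = g * (h' * z * h'⁻¹) * g⁻¹ by group, mul_inv_eq_iff_eq_mul.2 hh.eq]

theorem eq_of_d {w g : G} (hw : w ∈ W) (h1 : w ≠ 1) (htz : Commute (g * z * g⁻¹) z)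
    (h : Z8 z W (g * (w * z) * g⁻¹)) : g * z * g⁻¹ = z := by
  obtain ⟨u, hu, e | e⟩ := E.z8_form h
  · have h1' : u ≠ 1 := fun e' => E.wz_ne_w hw (one_mem W) (conj_eq_one_iff.1 (e.trans e'))
    have e' := conj_back e
    exact absurd e' (E.not_fused hu hw h1' g⁻¹)
  · have h1' : u ≠ 1 := by
      rintro rfl
      rw [one_mul] at e
      exact E.wz_ne_z h1 (E.ne_conj (g := g⁻¹) (Or.inr (by rw [E.wzz]; exact hw)) (conj_back e))
    obtain ⟨h', hh, he⟩ := E.trans u hu w hw h1' h1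
    have hz' : g * h' * z * (g * h')⁻¹ = g * z * g⁻¹ := by
      rw [show g * h' * z * (g * h')⁻¹ = g * (h' * z * h'⁻¹) * g⁻¹ by group, mul_inv_eq_iff_eq_mul.2 hh.eq]
    rw [← hz']
    refine hD u hu h1' (g * h') (mul_inv_eq_iff_eq_mul.1 ?_) (hz'.symm ▸ htz)
    rw [show g * h' * (u * z) * (g * h')⁻¹ = g * (h' * u * h'⁻¹ * (h' * z * h'⁻¹)) * g⁻¹ by group, he,
      mul_inv_eq_iff_eq_mul.2 hh.eq, e]

include hF P

/-- A member of the class of `w z` in the core with `t` there. -/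
theorem both_inside {w g : G} (hw : w ∈ W) (h1 : w ≠ 1) (htJ : g * z * g⁻¹ ∈ J)
    (hxJ : g * (w * z) * g⁻¹ ∈ J) : g * z * g⁻¹ = z := by
  classical
  have htz := E.cz _ htJ
  obtain ⟨t, ht⟩ : ∃ t, t = g * z * g⁻¹ := ⟨_, rfl⟩
  obtain ⟨x, hx⟩ : ∃ x, x = g * (w * z) * g⁻¹ := ⟨_, rfl⟩
  rw [← ht] at htJ; rw [← hx] at hxJ
  by_contra hne
  obtain ⟨w', hw', h1', hne'⟩ := E.exists_other w
  obtain ⟨hb8, -, hbz, hzb, -, -⟩ := E.z_cases hw h1 (Or.inl rfl)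
  have hwb : Commute w' w := E.wcomm hw' hw
  obtain ⟨Q, hQJ, -⟩ := E.local_quad hF P hw h1 hw' h1' hne' (Or.inl rfl) hzb hwb
  have hxt : ∀ m ∈ J, Commute m x → Commute m t := fun m hm h => ht ▸ E.iso_comm8 hD hw h1 htz hm (hx ▸ h)
  have hperp : ∀ u < 256, cform cfgU u (Q.vc (qmk w x (E.z8_comm hb8 hxJ))) = 0 →
      cform cfgU (Q.vc (qmk w t (E.z8_comm hb8 htJ))) u = 0 := by
    intro u hu hu0
    obtain ⟨m', hm', rfl⟩ := Q.vc_surj u hu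
    obtain ⟨m, hmb, rfl⟩ := qmk_surj m'
    have hm := (E.mem_coreQ hb8 hmb).1 (hQJ ▸ hm')
    rw [cform_comm]
    exact (E.comm_cform Q hb8 hbz hQJ hm htJ).1 (hxt m hm ((E.comm_cform Q hb8 hbz hQJ hm hxJ).2 hu0))
  rcases Q.perp_perp (Q.vc_lt _) (Q.vc_lt _) hperp with e | e
  · exact hne (ht ▸ E.ne_conj (E.vc_zero_z8 Q hb8 hbz hQJ htJ e) ht.symm)
  have hy : Z8 z W (x * t) := by
    refine E.vc_zero_z8 Q hb8 hbz hQJ (mul_mem hxJ htJ) ?_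
    have h := Q.vc_mul _ (hQJ ▸ (E.mem_coreQ hb8 (E.z8_comm hb8 hxJ)).2 hxJ) _
      (hQJ ▸ (E.mem_coreQ hb8 (E.z8_comm hb8 htJ)).2 htJ)
    rw [← qmk_mul] at h
    rw [show Q.vc (qmk w (x * t) (E.z8_comm hb8 (mul_mem hxJ htJ))) = _ from h, e, Nat.xor_self]
  have he : x * t = g * w * g⁻¹ := by
    rw [hx, ht, show g * (w * z) * g⁻¹ * (g * z * g⁻¹) = g * (w * z * z) * g⁻¹ by group, E.wzz]
  obtain ⟨u, hu, hu1, f, hfu, hfz⟩ := E.shares_a hD hw h1 (he ▸ hy)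
  -- inside the quotient at `u`
  obtain ⟨u', hu', h1u', hneu⟩ := E.exists_other u
  obtain ⟨hu8, -, -, hzu, hzu8, hzune⟩ := E.z_cases hu hu1 (Or.inl rfl)
  have huu : Commute u' u := E.wcomm hu' hu
  obtain ⟨R, hRJ, hR⟩ := E.local_quad hF P hu hu1 hu' h1u' hneu (Or.inl rfl) hzu huu
  have hA : ∀ h, Commute h (qmk u z hzu) → Commute h (qmk u u' huu) := by
    intro h hh
    obtain ⟨k, hk, rfl⟩ := qmk_surj h
    have hkz := (E.lift_comm hu hu1 (Or.inl rfl) hzu hk).1 hh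
    refine mul_inv_eq_iff_eq_mul.1 ?_
    rw [← qmk_conj hk huu, qmk_eq (E.W2 u hu)]
    rcases E.swap_q hu hu1 (Or.inl rfl) hu' h1u' hneu hkz hk with e | e <;> rw [e]
    · exact Or.inl rfl
    · exact Or.inr (by rw [(E.wcomm hu hu').eq, mul_assoc, E.W2 u hu, mul_one])
  have hmem : qmk u f hfu * qmk u z hzu * (qmk u f hfu)⁻¹ ∈ R.J := by
    rw [← qmk_conj hfu hzu, hRJ, E.mem_coreQ hu8, hfz, ← ht]
    exact htJ
  have h2 := (hR.fus_left hA).no_inside hmem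
  rw [← qmk_conj hfu hzu, qmk_eq (E.W2 u hu), hfz] at h2
  rcases h2 with e | e
  · exact hne e.symm
  · exact hzune (E.ne_conj hzu8 (g := g) (by conv_rhs => rw [e]
                                             rw [mul_assoc _ u u, E.W2 u hu, mul_one]))

/-- No conjugate of `z` is in the core. -/
theorem no_inside8 {g : G} (htJ : g * z * g⁻¹ ∈ J) : g * z * g⁻¹ = z := by
  classical
  have htz := E.cz _ htJ
  by_contra hne
  obtain ⟨t, ht⟩ : ∃ t, t = g * z * g⁻¹ := ⟨_, rfl⟩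
  have hv : Commute (g⁻¹ * z * g) z := commute_conj_back htz.symm
  obtain ⟨w, hw, h1, hvw⟩ := E.fix_one hv (by
    rw [show g⁻¹ * z * g * (g⁻¹ * z * g) = g⁻¹ * (z * z) * g by group, E.z2, mul_one, inv_mul_cancel])
  have ht₁z : Commute (g * w * g⁻¹) z := (conj_commute hvw).symm
  obtain ⟨t₁, ht₁⟩ : ∃ t₁, t₁ = g * w * g⁻¹ := ⟨_, rfl⟩
  rw [← ht₁] at ht₁z
  have hxe : g * (w * z) * g⁻¹ = t₁ * t := by rw [ht₁, ht]; group
  have hxz : Commute (t₁ * t) z := ht₁z.mul_left (ht ▸ htz)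
  refine hne (E.both_inside hF P hD hw h1 htJ ?_)
  rw [hxe]
  obtain ⟨w0, hw0, hw01, hw0x⟩ := E.fix_one hxz (by
    rw [← hxe, show g * (w * z) * g⁻¹ * (g * (w * z) * g⁻¹) = g * (w * z * (w * z)) * g⁻¹ by group,
      E.z8_sq (b := w * z) (Or.inr (by rw [E.wzz]; exact hw)), mul_one, mul_inv_cancel])
  obtain ⟨w', hw', h1', hne'⟩ := E.exists_other w0
  obtain ⟨hb8, -, hbz, hzb, -, -⟩ := E.z_cases hw0 hw01 (Or.inl rfl)
  obtain ⟨Q, hQJ, -⟩ := E.local_quad hF P hw0 hw01 hw' h1' hne' (Or.inl rfl) hzb (E.wcomm hw' hw0)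
  refine E.hyperplane_J Q hb8 hbz hQJ hxz hw0x (ht ▸ htJ : t ∈ J) ?_ fun m hm hmt => ?_
  · rw [ht, show g * z * g⁻¹ * (g * z * g⁻¹) = g * (z * z) * g⁻¹ by group, E.z2, mul_one, mul_inv_cancel]
  refine (Commute.mul_right ?_ hmt).symm
  by_contra hmt₁
  have hh : Commute (g⁻¹ * m * g) z := commute_conj_back (ht ▸ hmt)
  obtain ⟨w2, hw2d⟩ : ∃ w2, w2 = g⁻¹ * m * g * w * (g⁻¹ * m * g)⁻¹ := ⟨_, rfl⟩
  have hw2 : w2 ∈ W := hw2d ▸ E.normW _ hh w hw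
  have hne2 : w * w2 ≠ 1 := fun e => hmt₁ (mul_inv_eq_iff_eq_mul.1 (by
    have e' : w2 = w := ((eq_inv_of_mul_eq_one_right e)).trans (E.winv hw)
    rw [ht₁, show m * (g * w * g⁻¹) * m⁻¹ = g * (g⁻¹ * m * g * w * (g⁻¹ * m * g)⁻¹) * g⁻¹ by group, ← hw2d, e']))
  refine hne (E.both_inside hF P hD (mul_mem hw hw2) hne2 htJ ?_)
  have ht₁2 : t₁⁻¹ = t₁ := by rw [ht₁, mul_inv_rev, mul_inv_rev, inv_inv, E.winv hw, mul_assoc]
  have : g * (w * w2 * z) * g⁻¹ = t₁ * m * t₁⁻¹ * m⁻¹ * t := by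
    rw [ht₁2]
    calc g * (w * w2 * z) * g⁻¹ = g * w * g⁻¹ * (g * w2 * g⁻¹) * (g * z * g⁻¹) := by group
      _ = _ := by rw [hw2d, ht₁, ht]; group
  rw [this]
  exact mul_mem (mul_mem (E.norm t₁ ht₁z m hm) (inv_mem hm)) (ht ▸ htJ)

/-- No conjugate of another central involution is in the core outside the centre. -/
theorem no_type8 {w b g : G} (hw : w ∈ W) (h1 : w ≠ 1) (hb : b = w ∨ b = w * z) (hyJ : g * b * g⁻¹ ∈ J) :
    Z8 z W (g * b * g⁻¹) := by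
  classical
  obtain ⟨hb8, -, -, -, -, -⟩ := E.z_cases hw h1 hb
  obtain ⟨y, hy⟩ : ∃ y, y = g * b * g⁻¹ := ⟨_, rfl⟩
  rw [← hy] at hyJ ⊢
  have hy2 : y * y = 1 := by
    rw [hy, show g * b * g⁻¹ * (g * b * g⁻¹) = g * (b * b) * g⁻¹ by group, E.z8_sq hb8, mul_one, mul_inv_cancel]
  obtain ⟨S, hS⟩ : ∃ S, S = J ⊓ Subgroup.centralizer ({y} : Set G) := ⟨_, rfl⟩
  have hmS : ∀ {m}, m ∈ S ↔ m ∈ J ∧ Commute m y := fun {m} => by rw [hS, Subgroup.mem_inf, mem_cent]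
  obtain ⟨h, hhb, hP⟩ := (E.cent hb8) (S.map (MulAut.conj g⁻¹).toMonoidHom)
    ((E.isPGroup_J S (hS ▸ inf_le_left)).map _) (by
      rintro _ ⟨m, hm, rfl⟩
      show Commute (g⁻¹ * m * g⁻¹⁻¹) b
      rw [inv_inv]
      exact commute_conj_back (hy ▸ (hmS.1 hm).2))
  obtain ⟨t, ht⟩ : ∃ t, t = g * h * z * (g * h)⁻¹ := ⟨_, rfl⟩
  have hEt : ∀ {m}, m ∈ J → Commute m y → Commute m t := fun {m} hm hmy => by
    have h1 := (Commute.conj_iff g).2 (hP _ ⟨m, hmS.2 ⟨hm, hmy⟩, rfl⟩)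
    rw [ht, show g * h * z * (g * h)⁻¹ = g * (h * z * h⁻¹) * g⁻¹ by group]
    simpa [mul_assoc] using h1
  have htz : Commute t z := (hEt E.zJ (E.cz y hyJ).symm).symm
  have ht2 : t * t = 1 := by
    rw [ht, show g * h * z * (g * h)⁻¹ * (g * h * z * (g * h)⁻¹) = g * h * (z * z) * (g * h)⁻¹ by group, E.z2, mul_one,
      mul_inv_cancel]
  obtain ⟨w0, hw0, hw01, hw0t⟩ := E.fix_one htz ht2
  obtain ⟨w', hw', h1', hne'⟩ := E.exists_other w0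
  obtain ⟨hb8', -, hbz', hzb', -, -⟩ := E.z_cases hw0 hw01 (Or.inl rfl)
  obtain ⟨Q, hQJ, -⟩ := E.local_quad hF P hw0 hw01 hw' h1' hne' (Or.inl rfl) hzb' (E.wcomm hw' hw0)
  have htJ : t ∈ J := E.hyperplane_J Q hb8' hbz' hQJ htz hw0t hyJ hy2 fun m hm hmy => (hEt hm hmy).symm
  have hgh : Commute (g * h) z :=
    mul_inv_eq_iff_eq_mul.1 (E.no_inside8 hF P hD (ht ▸ htJ))
  have hye : y = g * h * b * (g * h)⁻¹ := by
    rw [hy, show g * h * b * (g * h)⁻¹ = g * (h * b * h⁻¹) * g⁻¹ by group, mul_inv_eq_iff_eq_mul.2 hhb.eq]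
  rw [hye]
  exact E.z8_conj hb8 hgh

omit hD in
/-- A vector centralised modulo `w` has a lift centralised outright. -/
theorem lift_kSet {w m u : G} (hw : w ∈ W) (h1 : w ≠ 1) (hu : Commute u z) (hu2 : u * u = 1) (huw : Commute u w)
    (huJ : u ∉ J) (hm : m ∈ J) (h : u * m * u⁻¹ = m ∨ u * m * u⁻¹ = m * w) : ∃ y ∈ W, Commute (m * y) u := by
  classical
  rcases h with e | e
  · exact ⟨1, one_mem _, by rw [mul_one]; exact (mul_inv_eq_iff_eq_mul.1 e : Commute u m).symm⟩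
  by_cases hall : ∃ y ∈ W, ¬ Commute u y
  · obtain ⟨y, hy, hny⟩ := hall
    have hy1 : y ≠ 1 := fun e => hny (e ▸ Commute.one_right u)
    have hwy : w ≠ y := fun e => hny (e ▸ huw)
    refine ⟨y, hy, (mul_inv_eq_iff_eq_mul.1 ?_ : Commute u (m * y)).symm⟩
    rw [show u * (m * y) * u⁻¹ = u * m * u⁻¹ * (u * y * u⁻¹) by group, e]
    rcases E.swap_q hw h1 (Or.inl rfl) hy hy1 hwy hu huw with e' | e'
    · exact absurd (mul_inv_eq_iff_eq_mul.1 e') hny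
    · rw [e', mul_assoc, ← mul_assoc w w, E.W2 w hw, one_mul]
  push Not at hall
  exfalso
  obtain ⟨w1, hw1, h11, hne⟩ := E.exists_other w
  obtain ⟨hb8, -, hbz, hzb, -, -⟩ := E.z_cases hw1 h11 (Or.inr rfl)
  have hwb : Commute w (w1 * z) := E.z8_comm hb8 (E.WJ hw)
  obtain ⟨Q, hQJ, hQ⟩ := E.local_quad hF P hw1 h11 hw h1 hne.symm (Or.inr rfl) hzb hwb
  have hub : Commute u (w1 * z) := (hall w1 hw1).mul_right hu
  have hmb : Commute m (w1 * z) := E.z8_comm hb8 hm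
  have hm' : qmk (w1 * z) m hmb ∈ Q.J := hQJ ▸ (E.mem_coreQ hb8 hmb).2 hm
  have huz := (E.lift_comm hw1 h11 (Or.inr rfl) hzb hub).2 hu
  have hua : Commute (qmk (w1 * z) u hub) (qmk (w1 * z) w hwb) := by
    show qmk _ u hub * qmk _ w hwb = qmk _ w hwb * qmk _ u hub
    rw [← qmk_mul, ← qmk_mul]
    exact qmk_congr _ _ huw.eq
  have hu2' : qmk (w1 * z) u hub * qmk (w1 * z) u hub = 1 := by
    rw [← qmk_mul, ← qmk_one]; exact qmk_congr _ _ hu2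
  have hne' : Q.κ (qmk (w1 * z) u hub) ≠ idc := fun e' => huJ ((E.mem_coreQ hb8 hub).1 (hQJ ▸ Q.ker _ huz e'))
  have hdef : (qmk (w1 * z) m hmb)⁻¹ * (qmk (w1 * z) u hub * qmk (w1 * z) m hmb * (qmk (w1 * z) u hub)⁻¹) =
      qmk (w1 * z) w hwb := by
    rw [← qmk_conj hub hmb, qmk_congr _ (hmb.mul_left hwb) e, qmk_mul hmb hwb, inv_mul_cancel_left]
  have hfix : ap (Q.κ (qmk (w1 * z) u hub)) (Q.vc (qmk (w1 * z) m hmb)) = Q.vc (qmk (w1 * z) m hmb) := by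
    rw [← Q.act _ huz _ hm', ← qmk_conj hub hmb, qmk_congr _ (hmb.mul_left hwb) e, qmk_mul hmb hwb,
      Q.vc_mul_zc hm' (Or.inr (Or.inr (Or.inl rfl)))]
  have hswap := E.swap w1 hw1 w hw h11 h1 hne.symm
  rcases hQ.cases with hA | ⟨hinn, -⟩
  · obtain ⟨s, hsz, hsw1, hse⟩ := hswap
    have hsb : Commute s (w1 * z) := hsw1.mul_right hsz
    have h' := mul_inv_eq_iff_eq_mul.2 (hA _ ((E.lift_comm hw1 h11 (Or.inr rfl) hzb hsb).2 hsz)).eq
    rw [← qmk_conj hsb hwb, qmk_eq (E.z8_sq hb8), hse] at h'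
    rcases h' with e' | e'
    · exact h11 (mul_eq_right.1 e'.symm)
    · rw [mul_assoc w1 w, ← mul_assoc w w1 z, (E.wcomm hw hw1).eq, mul_assoc w1 w z, ← mul_assoc w1 w1,
        E.W2 w1 hw1, one_mul] at e'
      exact E.w_ne_z (one_mem W) (mul_eq_left.1 e'.symm).symm
  have h2 := Q.inner_defect (hinn _ huz hua) hu2' hne' hm' hfix
  rw [hdef] at h2
  rcases h2 with e' | e'
  · exact Q.a1 e'
  · exact Q.az e'

/-- The main step. -/
theorem share8 {g : G} (htz : Commute (g * z * g⁻¹) z) (hne : g * z * g⁻¹ ≠ z) : Shares z W (g * z * g⁻¹) := by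
  classical
  obtain ⟨t, ht⟩ : ∃ t, t = g * z * g⁻¹ := ⟨_, rfl⟩
  have hv : Commute (g⁻¹ * z * g) z := commute_conj_back htz.symm
  obtain ⟨w, hw, h1, hvw⟩ := E.fix_one hv (by
    rw [show g⁻¹ * z * g * (g⁻¹ * z * g) = g⁻¹ * (z * z) * g by group, E.z2, mul_one, inv_mul_cancel])
  obtain ⟨t₁, ht₁⟩ : ∃ t₁, t₁ = g * w * g⁻¹ := ⟨_, rfl⟩
  obtain ⟨x, hx⟩ : ∃ x, x = g * (w * z) * g⁻¹ := ⟨_, rfl⟩
  have ht₁z : Commute t₁ z := ht₁ ▸ (conj_commute hvw).symm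
  have htz' : Commute t z := ht ▸ htz
  have hxe : x = t₁ * t := by rw [hx, ht₁, ht]; group
  have hxz : Commute x z := hxe ▸ ht₁z.mul_left htz'
  have htx : Commute t x := by rw [ht, hx]; exact (Commute.conj_iff g).2 ((E.wz hw).symm.mul_right (Commute.refl z))
  have ht₁t : Commute t₁ t := by rw [ht, ht₁]; exact (Commute.conj_iff g).2 (E.wz hw)
  by_cases hxJ : x ∈ J
  · exact absurd (E.eq_of_d hD hw h1 htz (E.no_type8 hF P hD hw h1 (Or.inr rfl) (hx ▸ hxJ))) hne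
  by_cases ht₁J : t₁ ∈ J
  · exact E.shares_a hD hw h1 (E.no_type8 hF P hD hw h1 (Or.inl rfl) (ht₁ ▸ ht₁J))
  have htJ : t ∉ J := fun h => hne (E.no_inside8 hF P hD (ht ▸ h))
  by_cases hJc : ∃ m ∈ J, Commute m t ∧ ¬ Commute m t₁
  · obtain ⟨m, hm, hmt, hmt₁⟩ := hJc
    have hh : Commute (g⁻¹ * m * g) z := commute_conj_back (ht ▸ hmt)
    obtain ⟨w2, hw2d⟩ : ∃ w2, w2 = g⁻¹ * m * g * w * (g⁻¹ * m * g)⁻¹ := ⟨_, rfl⟩
    have hw2 : w2 ∈ W := hw2d ▸ E.normW _ hh w hw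
    have hne2 : w * w2 ≠ 1 := fun e => hmt₁ (mul_inv_eq_iff_eq_mul.1 (by
      have e' : w2 = w := ((eq_inv_of_mul_eq_one_right e)).trans (E.winv hw)
      rw [ht₁, show m * (g * w * g⁻¹) * m⁻¹ = g * (g⁻¹ * m * g * w * (g⁻¹ * m * g)⁻¹) * g⁻¹ by group, ← hw2d, e']))
    refine E.shares_a hD (mul_mem hw hw2) hne2 (E.no_type8 hF P hD (mul_mem hw hw2) hne2 (Or.inl rfl) ?_)
    have ht₁2 : t₁⁻¹ = t₁ := by rw [ht₁, mul_inv_rev, mul_inv_rev, inv_inv, E.winv hw, mul_assoc]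
    have : g * (w * w2) * g⁻¹ = t₁ * m * t₁⁻¹ * m⁻¹ := by
      rw [ht₁2]
      calc g * (w * w2) * g⁻¹ = g * w * g⁻¹ * (g * w2 * g⁻¹) := by group
        _ = _ := by rw [hw2d, ht₁]; group
    rw [this]
    exact mul_mem (E.norm t₁ ht₁z m hm) (inv_mem hm)
  push Not at hJc
  exfalso
  have hsq : ∀ {y : G}, y * y = 1 → g * y * g⁻¹ * (g * y * g⁻¹) = 1 := fun {y} hy => by
    rw [show g * y * g⁻¹ * (g * y * g⁻¹) = g * (y * y) * g⁻¹ by group, hy, mul_one, mul_inv_cancel]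
  have ht2 : t * t = 1 := ht ▸ hsq E.z2
  have ht₁2 : t₁ * t₁ = 1 := ht₁ ▸ hsq (E.W2 w hw)
  have hx2 : x * x = 1 := hx ▸ hsq (E.z8_sq (b := w * z) (Or.inr (by rw [E.wzz]; exact hw)))
  -- a common fixed member
  obtain ⟨b, hb, hb1, htb, hxb⟩ : ∃ b ∈ W, b ≠ 1 ∧ Commute t b ∧ Commute x b := by
    obtain ⟨v, hv, hv1, htv⟩ := E.fix_one htz' ht2
    by_cases h : Commute x v
    · exact ⟨v, hv, hv1, htv, h⟩
    obtain ⟨v', hv'⟩ : ∃ v', v' = x * v * x⁻¹ := ⟨_, rfl⟩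
    have hv'W : v' ∈ W := hv' ▸ E.normW x hxz v hv
    refine ⟨v * v', mul_mem hv hv'W, fun e => h (mul_inv_eq_iff_eq_mul.1 ?_), htv.mul_right ?_,
      mul_inv_eq_iff_eq_mul.1 ?_⟩
    · rw [← hv', ← inv_eq_of_mul_eq_one_right e, E.winv hv]
    · rw [hv']; exact (htx.mul_right htv).mul_right htx.inv_right
    · rw [hv', show x * (v * (x * v * x⁻¹)) * x⁻¹ = x * v * x⁻¹ * (x * x * v * (x * x)⁻¹) by group, hx2, one_mul,
        inv_one, mul_one, ← hv', (E.wcomm hv'W hv).eq]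
  have ht₁b : Commute t₁ b := by
    rw [show t₁ = x * t by rw [hxe, mul_assoc, ht2, mul_one]]
    exact hxb.mul_left htb
  obtain ⟨a', ha', ha1', hab⟩ := E.exists_other b
  obtain ⟨hb8, -, hbz, hzb, -, -⟩ := E.z_cases hb hb1 (Or.inl rfl)
  have hab' : Commute a' b := E.wcomm ha' hb
  obtain ⟨Q, hQJ, hQ⟩ := E.local_quad hF P hb hb1 ha' ha1' hab (Or.inl rfl) hzb hab'
  have hA : ∀ {u} (hu : Commute u z) (hub : Commute u b), Commute (qmk b u hub) (qmk b a' hab') := by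
    intro u hu hub
    refine mul_inv_eq_iff_eq_mul.1 ?_
    rw [← qmk_conj hub hab', qmk_eq (E.W2 b hb)]
    rcases E.swap_q hb hb1 (Or.inl rfl) ha' ha1' hab hu hub with e | e <;> rw [e]
    · exact Or.inl rfl
    · exact Or.inr (by rw [(E.wcomm hb ha').eq, mul_assoc, E.W2 b hb, mul_one])
  have hlz : ∀ {u} (hu : Commute u z) (hub : Commute u b), Commute (qmk b u hub) (qmk b z hzb) := fun hu hub =>
    (E.lift_comm hb hb1 (Or.inl rfl) hzb hub).2 hu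
  have hsq' : ∀ {u} (hub : Commute u b), u * u = 1 → qmk b u hub * qmk b u hub = 1 := fun hub hu => by
    rw [← qmk_mul, ← qmk_one]; exact qmk_congr _ _ hu
  have hnJ : ∀ {u} (hub : Commute u b), u ∉ J → qmk b u hub ∉ Q.J := fun hub hu h =>
    hu ((E.mem_coreQ hb8 hub).1 (hQJ ▸ h))
  have hb2 := E.W2 b hb
  have hyW : ∀ {y}, y ∈ W → ∀ (hy : Commute y b), Q.vc (qmk b y hy) = 0 := by
    intro y hy hyb
    apply Q.zc_vc
    rcases E.w_cases hb ha' hb1 ha1' hab hy with e | e | e | e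
    · left; rw [← qmk_one]; exact qmk_congr _ _ e
    · left; rw [← qmk_one]; exact (qmk_eq hb2 _ _).2 (Or.inr (by rw [e, hb2]))
    · right; right; left; exact qmk_congr _ _ e
    · right; right; left
      exact (qmk_eq hb2 _ _).2 (Or.inr (by rw [e, (E.wcomm hb ha').eq, mul_assoc, hb2, mul_one]))
  have hk : ∀ {u v : G} (hub : Commute u b) (hvb : Commute v b), Commute u z → u * u = 1 → u ∉ J →
      (∀ m ∈ J, Commute m u → Commute m v) → Q.kSet (qmk b u hub) ⊆ Q.kSet (qmk b v hvb) := by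
    intro u v hub hvb huz hu2 huJ hle s hs
    obtain ⟨m', hm', hmu, rfl⟩ := Q.mem_kSet.1 hs
    obtain ⟨m, hmb, rfl⟩ := qmk_surj m'
    have hm := (E.mem_coreQ hb8 hmb).1 (hQJ ▸ hm')
    have h2 := mul_inv_eq_iff_eq_mul.2 hmu.symm.eq
    rw [← qmk_conj hub hmb, qmk_eq hb2] at h2
    have h3 : u * m * u⁻¹ = m ∨ u * m * u⁻¹ = m * b := by
      rcases h2 with e | e
      · exact Or.inl e.symm
      · right
        conv_rhs => rw [e]
        rw [mul_assoc _ b b, hb2, mul_one]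
    obtain ⟨y, hy, hc⟩ := E.lift_kSet hF P hb hb1 huz hu2 hub huJ hm h3
    have hmy : Commute (m * y) b := hmb.mul_left (E.wcomm hy hb)
    have hmyJ := mul_mem hm (E.WJ hy)
    refine Q.mem_kSet.2 ⟨qmk b (m * y) hmy, hQJ ▸ (E.mem_coreQ hb8 hmy).2 hmyJ, ?_, ?_⟩
    · show qmk b (m * y) hmy * qmk b v hvb = qmk b v hvb * qmk b (m * y) hmy
      rw [← qmk_mul, ← qmk_mul]
      exact qmk_congr _ _ (hle _ hmyJ hc).eq
    · rw [qmk_mul hmb (E.wcomm hy hb), Q.vc_mul _ hm' _ (hQJ ▸ (E.mem_coreQ hb8 _).2 (E.WJ hy)), hyW hy,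
        Nat.xor_zero]
  have hxJ' : ∀ m ∈ J, Commute m x → Commute m t := fun m hm h => ht ▸ E.iso_comm8 hD hw h1 htz hm (hx ▸ h)
  have htx' : ∀ m ∈ J, Commute m t → Commute m x := fun m hm h => hxe ▸ (hJc m hm h).mul_right h
  refine Pre.u_false (Q := Q) (t := qmk b t htb) (t₁ := qmk b t₁ ht₁b) (x := qmk b x hxb)
    ⟨hlz htz' htb, hlz ht₁z ht₁b, hlz hxz hxb, hsq' htb ht2, hsq' ht₁b ht₁2, hsq' hxb hx2, ?_, ?_, hnJ htb htJ,
      hnJ ht₁b ht₁J, hnJ hxb hxJ, hA htz' htb, hA ht₁z ht₁b, hA hxz hxb,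
      Finset.Subset.antisymm (hk hxb htb hxz hx2 hxJ hxJ') (hk htb hxb htz' ht2 htJ htx'), ?_⟩
  · show qmk b t htb * qmk b x hxb = qmk b x hxb * qmk b t htb
    rw [← qmk_mul, ← qmk_mul]
    exact qmk_congr _ _ htx.eq
  · rw [← qmk_mul]; exact qmk_congr _ _ hxe
  intro f hf hft
  obtain ⟨f₀, hf₀, rfl⟩ := qmk_surj f
  have hfz := (E.lift_comm hb hb1 (Or.inl rfl) hzb hf₀).1 hf
  have h2t : Commute (f₀ * f₀) t := by
    refine mul_inv_eq_iff_eq_mul.1 ?_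
    have h := mul_inv_eq_iff_eq_mul.2 hft.eq
    rw [← qmk_conj hf₀ htb, qmk_eq hb2] at h
    rw [show f₀ * f₀ * t * (f₀ * f₀)⁻¹ = f₀ * (f₀ * t * f₀⁻¹) * f₀⁻¹ by group]
    rcases h with e | e
    · rw [← e]; exact e.symm
    · have e' : f₀ * t * f₀⁻¹ = t * b := by
        conv_rhs => rw [e]
        rw [mul_assoc _ b b, hb2, mul_one]
      rw [e', show f₀ * (t * b) * f₀⁻¹ = f₀ * t * f₀⁻¹ * (f₀ * b * f₀⁻¹) by group, e',
        mul_inv_eq_iff_eq_mul.2 hf₀.eq, mul_assoc, hb2, mul_one]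
  obtain ⟨k, hk'⟩ : ∃ k, k = f₀ * f₀ * (f₀ * f₀) := ⟨_, rfl⟩
  have hkb : Commute k b := hk' ▸ (hf₀.mul_left hf₀).mul_left (hf₀.mul_left hf₀)
  have hkz : Commute k z := hk' ▸ (hfz.mul_left hfz).mul_left (hfz.mul_left hfz)
  obtain ⟨k0, hk0⟩ : ∃ k0, k0 = g⁻¹ * (f₀ * f₀) * g := ⟨_, rfl⟩
  have hk0z : Commute k0 z := hk0 ▸ commute_conj_back (ht ▸ h2t)
  obtain ⟨u1, hu1⟩ : ∃ u1, u1 = k0 * w * k0⁻¹ := ⟨_, rfl⟩
  obtain ⟨u2, hu2⟩ : ∃ u2, u2 = k0 * u1 * k0⁻¹ := ⟨_, rfl⟩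
  obtain ⟨u3, hu3⟩ : ∃ u3, u3 = k0 * u2 * k0⁻¹ := ⟨_, rfl⟩
  obtain ⟨u4, hu4⟩ : ∃ u4, u4 = k0 * u3 * k0⁻¹ := ⟨_, rfl⟩
  have hW1 : u1 ∈ W := hu1 ▸ E.normW k0 hk0z w hw
  have hW2 : u2 ∈ W := hu2 ▸ E.normW k0 hk0z _ hW1
  have hW3 : u3 ∈ W := hu3 ▸ E.normW k0 hk0z _ hW2
  have hcx : ∀ {v : G}, g * (v * z) * g⁻¹ = g * v * g⁻¹ * t := fun {v} => by rw [ht]; group
  have hk0z' := mul_inv_eq_iff_eq_mul.2 hk0z.eq
  have hconj : ∀ v, f₀ * f₀ * (g * (v * z) * g⁻¹) * (f₀ * f₀)⁻¹ = g * (k0 * v * k0⁻¹ * z) * g⁻¹ := fun v => by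
    conv_rhs => rw [← hk0z']
    rw [hk0]; group
  have e1 : k * x * k⁻¹ = g * (u2 * z) * g⁻¹ := by
    rw [hk', hx, show f₀ * f₀ * (f₀ * f₀) * (g * (w * z) * g⁻¹) * (f₀ * f₀ * (f₀ * f₀))⁻¹ =
      f₀ * f₀ * (f₀ * f₀ * (g * (w * z) * g⁻¹) * (f₀ * f₀)⁻¹) * (f₀ * f₀)⁻¹ by group, hconj, ← hu1, hconj, ← hu2]
  have e2 : k * k * x * (k * k)⁻¹ = g * (u4 * z) * g⁻¹ := by
    rw [show k * k * x * (k * k)⁻¹ = k * (k * x * k⁻¹) * k⁻¹ by group, e1, hk',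
      show f₀ * f₀ * (f₀ * f₀) * (g * (u2 * z) * g⁻¹) * (f₀ * f₀ * (f₀ * f₀))⁻¹ =
        f₀ * f₀ * (f₀ * f₀ * (g * (u2 * z) * g⁻¹) * (f₀ * f₀)⁻¹) * (f₀ * f₀)⁻¹ by group, hconj, ← hu3, hconj, ← hu4]
  have hkk : qmk b f₀ hf₀ * qmk b f₀ hf₀ * (qmk b f₀ hf₀ * qmk b f₀ hf₀) = qmk b k hkb := by
    rw [← qmk_mul, ← qmk_mul]; exact qmk_congr _ _ hk'.symm
  simp only [hkk]
  have hx1 := (hkb.mul_left hxb).mul_left hkb.inv_left
  have hx2' := ((hkb.mul_left hkb).mul_left hxb).mul_left (hkb.mul_left hkb).inv_left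
  rw [← qmk_conj hkb hxb, ← qmk_mul hkb hkb, ← qmk_conj (hkb.mul_left hkb) hxb]
  by_cases hfix : u2 = w
  · left
    exact qmk_congr _ _ (by rw [e1, hfix, hx])
  right
  have hne1 : u1 ≠ 1 := fun e => h1 (conj_eq_one_iff.1 (hu1.symm.trans e))
  have hne2 : u2 ≠ 1 := fun e => hne1 (conj_eq_one_iff.1 (hu2.symm.trans e))
  have h01 : w ≠ u1 := fun e => hfix (by rw [hu2, ← e, ← hu1, ← e])
  have h12 : u1 ≠ u2 := fun e => h01 (by
    have e' : k0 * u1 * k0⁻¹ = k0 * w * k0⁻¹ := by rw [← hu2, ← e, hu1]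
    exact (mul_left_cancel (mul_right_cancel e')).symm)
  have hprod : u2 = w * u1 := by
    rcases E.w_cases hw hW1 h1 hne1 h01 hW2 with e | e | e | e
    · exact absurd e hne2
    · exact absurd e hfix
    · exact absurd e.symm h12
    · exact e
  have hu3w : u3 = w := by
    have hne3 : u3 ≠ 1 := fun e => hne2 (conj_eq_one_iff.1 (hu3.symm.trans e))
    rcases E.w_cases hw hW1 h1 hne1 h01 hW3 with e | e | e | e
    · exact absurd e hne3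
    · exact e
    · refine absurd ?_ hfix
      have e' : k0 * u2 * k0⁻¹ = k0 * w * k0⁻¹ := by rw [← hu3, e, hu1]
      exact mul_left_cancel (mul_right_cancel e')
    · refine absurd ?_ h12
      have e' : k0 * u2 * k0⁻¹ = k0 * u1 * k0⁻¹ := by rw [← hu3, e, ← hprod, hu2]
      exact (mul_left_cancel (mul_right_cancel e')).symm
  have hu41 : u4 = u1 := by rw [hu4, hu3w, ← hu1]
  constructor
  · show qmk b x hxb * qmk b (k * x * k⁻¹) hx1 = qmk b (k * x * k⁻¹) hx1 * qmk b x hxb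
    rw [← qmk_mul, ← qmk_mul]
    refine qmk_congr _ _ ?_
    rw [e1, hx]
    exact ((Commute.conj_iff g).2 (((E.z8_comm (b := u2 * z) (Or.inr (by rw [E.wzz]; exact hW2))
      (mul_mem (E.WJ hw) E.zJ))))).eq
  · rw [← qmk_mul, ← qmk_mul]
    refine qmk_congr _ _ ?_
    rw [e1, e2, hu41, hx, ht, hprod]
    calc g * (w * z) * g⁻¹ * (g * (w * u1 * z) * g⁻¹) * (g * (u1 * z) * g⁻¹)
        = g * (w * (z * w) * u1 * (z * u1) * z) * g⁻¹ := by group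
      _ = g * (w * w * z * (u1 * u1) * (z * z)) * g⁻¹ := by
          rw [← (E.wz hw).eq, ← (E.wz hW1).eq]
          simp only [mul_assoc]
      _ = g * z * g⁻¹ := by rw [E.W2 w hw, E.W2 u1 hW1, E.z2, one_mul, mul_one, mul_one]

end Eight

end Cfsg.Lib.U62Type
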