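import Cfsg.Agent.Lib.U62Type.Shapes

/-!
# The module is one of the three standard ones
-/

set_option autoImplicit false
set_option linter.unusedSectionVars false
set_option linter.unusedSimpArgs false

namespace Cfsg.Lib.U62Type

theorem nz_zero_check : ((List.range 256).all fun v => Nat.beq v 0 || !(Nat.beq (nz v 0) 0 && Nat.beq (nz v 1) 0 &&
    Nat.beq (nz v 2) 0 && Nat.beq (nz v 3) 0)) = true := by decide +kernel

theorem nz_zero (v : ℕ) (hv : v < 256) (h0 : nz v 0 = 0) (h1 : nz v 1 = 0) (h2 : nz v 2 = 0) (h3 : nz v 3 = 0) :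
    v = 0 := by
  have h := List.all_eq_true.1 nz_zero_check v (List.mem_range.2 hv)
  rw [h0, h1, h2, h3] at h
  simpa using h

theorem gens_plane : ∀ i < 3, ∀ j < 8, 6 ≤ j → byte (gensP.getD i 0) j = 2 ^ j := by decide +kernel

theorem tP_lt : ∀ t < 2, ∀ w ∈ tP t ++ tS t, ∀ i ∈ w, i < 3 := by decide +kernel

theorem idc_lt : idc < 2 ^ 64 := by unfold idc mkc; norm_num

theorem cw_nil (gs : List ℕ) : cw gs [] = idc := by rw [cw, List.foldr_nil]

theorem cw_cons (gs : List ℕ) (a : ℕ) (w : List ℕ) : cw gs (a :: w) = cm (gs.getD a 0) (cw gs w) := by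
  rw [cw, cw, List.foldr_cons]

theorem cw_lt (gs : List ℕ) : ∀ w : List ℕ, cw gs w < 2 ^ 64
  | [] => by rw [cw, List.foldr_nil]; exact idc_lt
  | a :: w => by rw [cw, List.foldr_cons]; exact cm_lt _ _

theorem gOK_intro {t g : ℕ} {q : ℕ → ℕ} (h1 : cm g g = idc)
    (h2 : cm g ((tGens t).getD 1 0) = cm ((tGens t).getD 1 0) g) (h3 : ∀ v < 256, q (ap g v) = q v)
    (h4 : cw ((tGens t).take 3 ++ [g]) (pW [3, 0] 4) = idc)
    (h5 : cw ((tGens t).take 3 ++ [g]) (pW [3, 2, 0] 5) = idc) : gOK t q g = true := by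
  simp only [gOK, Bool.and_eq_true, beq_iff_eq, List.all_eq_true]
  exact ⟨⟨⟨⟨h1, h2⟩, fun v hv => h3 v (List.mem_range.1 hv)⟩, h4⟩, h5⟩

namespace Hyp

variable {V : Type*} [CommGroup V] (H : Hyp V)

theorem act_word (b : ℕ → V) (L : List ℕ) (n : ℕ)
    (hg : ∀ i < n, ∀ v, H.ρ i (comb b v) = comb b (ap (L.getD i 0) v)) :
    ∀ (w : List ℕ), (∀ i ∈ w, i < n) → ∀ v < 256, H.act w (comb b v) = comb b (ap (cw L w) v)
  | [], _, v, hv => by rw [H.act_nil, cw_nil, ap_idc hv]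
  | i :: w, hw, v, hv => by
    rw [H.act_cons, act_word b L n hg w (fun a ha => hw a (List.mem_cons_of_mem _ ha)) v hv, hg i (hw i List.mem_cons_self),
      cw_cons, ap_cm]

theorem Q_four {a b c d : V} (hab : bform H.Q a b = 0) (hac : bform H.Q a c = 0) (had : bform H.Q a d = 0)
    (hbc : bform H.Q b c = 0) (hbd : bform H.Q b d = 0) (hcd : bform H.Q c d = 0) :
    H.Q (a * b * c * d) = H.Q a ^^^ H.Q b ^^^ H.Q c ^^^ H.Q d := by
  rw [H.Q_mul (H.bf_mul_left (H.bf_mul_left had hbd) hcd), H.Q_mul (H.bf_mul_left hac hbc), H.Q_mul hab]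

/-- The fourth generator and the conclusion, once the first three are known. -/
theorem finish (C : Cfg) (t : ℕ) (ht : t < 2) (hC : C.gens = tGens t) (hchk : gChk t C.q = true)
    {w f₁ f₂ : V} (hw : w ∈ H.Wt t) (hfix : ∀ x ∈ tF t, H.act x w = w)
    (hinj : ∀ v < 256, comb (H.tBasis t w f₁ f₂) v = 1 → v = 0)
    (hform : ∀ v < 256, H.Q (comb (H.tBasis t w f₁ f₂) v) = C.q v)
    (hcent : ∀ i < 4, ∀ j < 8, 2 * tN t ≤ j →
      H.ρ i (H.tBasis t w f₁ f₂ j) = H.tBasis t w f₁ f₂ j ∧ (i < 3 → byte (C.gens.getD i 0) j = 2 ^ j)) :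
    Nonempty (H.Coords C) := by
  haveI := H.fin
  obtain ⟨b, hb⟩ : ∃ b, b = H.tBasis t w f₁ f₂ := ⟨_, rfl⟩
  rw [← hb] at hinj hform hcent
  have hfun : Function.Injective fun v : Fin 256 => comb b v := fun u v h => by
    refine Fin.ext (Nat.xor_eq_zero_iff.1 (hinj _ (xor_lt u.2 v.2) ?_))
    rw [H.comb_xor]
    show comb b u * comb b v = 1
    rw [show comb b (u : ℕ) = comb b v from h, H.sq]
  have hbij : Function.Bijective fun v : Fin 256 => comb b v :=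
    (Nat.bijective_iff_injective_and_card _).2 ⟨hfun, by rw [Nat.card_fin, H.card]⟩
  have hinj' : ∀ u < 256, ∀ v < 256, comb b u = comb b v → u = v := fun u hu v hv h =>
    congrArg Fin.val (hfun (a₁ := ⟨u, hu⟩) (a₂ := ⟨v, hv⟩) h)
  have h3 : ∀ i < 3, ∀ j < 8, H.ρ i (b j) = comb b (byte (C.gens.getD i 0) j) := by
    intro i hi j hj
    by_cases hjn : j < 2 * tN t
    · rw [hC, hb]
      exact H.img_spec t ht (H.mem_Wt.1 hw).2.2 hfix hi hjn
    · obtain ⟨e1, e2⟩ := hcent i (by omega) j hj (by omega)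
      rw [e1, e2 hi, comb_pow b hj]
  have h3' : ∀ i < 3, ∀ v, H.ρ i (comb b v) = comb b (ap (C.gens.getD i 0) v) := fun i hi v =>
    H.comb_act b (H.ρ i) _ (h3 i hi) v
  obtain ⟨x, hx⟩ := hbij.2 (H.ρ 3 w)
  obtain ⟨y, hy⟩ := hbij.2 (H.ρ 3 (H.act (tM t) w))
  simp only at hx hy
  have hgc := gComm_true
  simp only [gComm, List.all_eq_true, List.mem_range, Bool.and_eq_true] at hgc
  have hcomm : ∀ p ∈ tP t ++ tS t, ∀ v, H.ρ 3 (H.act p v) = H.act p (H.ρ 3 v) := fun p hp v => by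
    have := H.act_eq ((hgc t ht).1 p hp) v
    rwa [H.act_append, H.act_append] at this
  have hword : ∀ p ∈ tP t ++ tS t, ∀ v < 256, H.act p (comb b v) = comb b (ap (cwT t p) v) := fun p hp v hv => by
    rw [cwT, ← hC]
    exact H.act_word b C.gens 3 h3' p (tP_lt t ht p hp) v hv
  obtain ⟨g, hg⟩ : ∃ g, g = gCode t x y := ⟨_, rfl⟩
  have hgb : ∀ j < 8, H.ρ 3 (b j) = comb b (byte g j) := by
    intro j hj
    rw [hg, gCode, byte_mkc (fun k hk => ?_) hj]
    swap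
    · split
      · exact ap_lt _ _
      · exact lt_of_lt_of_le (Nat.pow_lt_pow_right (by norm_num) hk) le_rfl
    by_cases hjn : j < 2 * tN t
    · rw [if_pos hjn, hb, tBasis, if_pos hjn, ← hb, wW, H.act_append]
      obtain ⟨p, hp⟩ : ∃ p, p = (tP t).getD (j / 2) [] := ⟨_, rfl⟩
      have hpm : p ∈ tP t ++ tS t := by
        rw [hp, List.getD_eq_getElem _ _ (show j / 2 < (tP t).length by
          have : tN t = (tP t).length := rfl
          omega)]
        exact List.mem_append_left _ (List.getElem_mem _)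
      have hx256 := x.2
      have hy256 := y.2
      have he : eW t (j / 2) (j % 2 + 1) < 3 := by
        interval_cases t <;> interval_cases j <;> simp [eW]
      rw [← hp, hcomm p hpm]
      have hz : ([(x : ℕ), (y : ℕ), (x : ℕ) ^^^ y].getD (eW t (j / 2) (j % 2 + 1)) 0) < 256 := by
        interval_cases eW t (j / 2) (j % 2 + 1) <;> simp <;>
          (first | exact hx256 | exact hy256 | exact xor_lt hx256 hy256)
      rw [← hword p hpm _ hz]
      congr 1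
      have hMM : H.act (tM t) (H.act (tM t) w) = w * H.act (tM t) w := by
        have h2 := (H.mem_Wt.1 hw).2.2
        rw [Fp, H.act_append] at h2
        calc _ = w * H.act (tM t) w * (w * H.act (tM t) w * H.act (tM t) (H.act (tM t) w)) := (H.cancel _ _).symm
          _ = _ := by rw [h2, mul_one]
      interval_cases eW t (j / 2) (j % 2 + 1)
      · exact hx.symm
      · rw [show pW (tM t) 1 = tM t by simp [pW]]; exact hy.symm
      · rw [show pW (tM t) 2 = tM t ++ tM t by simp [pW], H.act_append, hMM, map_mul, ← hx, ← hy, ← H.comb_xor]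
        rfl
    · rw [if_neg hjn, comb_pow b hj]
      exact (hcent 3 (by norm_num) j hj (by omega)).1
  obtain ⟨L, hL⟩ : ∃ L, L = (tGens t).take 3 ++ [g] := ⟨_, rfl⟩
  have hL3 : L.getD 3 0 = g := by rw [hL]; interval_cases t <;> rfl
  have hL' : ∀ i < 3, L.getD i 0 = C.gens.getD i 0 := by
    intro i hi
    rw [hL, hC]
    interval_cases t <;> interval_cases i <;> rfl
  have h4 : ∀ i < 4, ∀ v, H.ρ i (comb b v) = comb b (ap (L.getD i 0) v) := by
    intro i hi v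
    by_cases h : i < 3
    · rw [hL' i h]; exact h3' i h v
    · rw [show i = 3 by omega, hL3]; exact H.comb_act b (H.ρ 3) _ hgb v
  have hcode : ∀ w w' : List ℕ, (∀ i ∈ w, i < 4) → (∀ i ∈ w', i < 4) → meq w w' = true → cw L w = cw L w' := by
    intro u u' hu hu' he
    refine code_ext (cw_lt _ _) (cw_lt _ _) fun v hv => ?_
    refine hinj' _ (ap_lt _ _) _ (ap_lt _ _) ?_
    rw [← H.act_word b L 4 h4 u hu v hv, ← H.act_word b L 4 h4 u' hu' v hv, H.act_eq he]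
  have hok : gOK t C.q g = true := by
    have hP := planeRels_true
    simp only [planeRels, Bool.and_eq_true] at hP
    obtain ⟨⟨⟨⟨⟨⟨⟨⟨⟨⟨⟨⟨⟨-, gg⟩, -⟩, gs⟩, -⟩, gca⟩, -⟩, -⟩, ga⟩, -⟩, -⟩, -⟩, -⟩, -⟩ := hP
    have hgg := hcode [3, 3] [] (by simp) (by simp) gg
    have hgs' := hcode [3, 1] [1, 3] (by simp) (by simp) gs
    rw [cw_cons, cw_cons, cw_nil, hL3] at hgg
    rw [cw_cons, cw_cons, cw_cons, cw_cons, cw_nil, hL3, hL' 1 (by norm_num), hC] at hgs'
    have hs64 : (tGens t).getD 1 0 < 2 ^ 64 := by interval_cases t <;> decide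
    have hg64 : g < 2 ^ 64 := by
      rw [hg]
      refine mkc_lt fun k hk => ?_
      split
      · exact ap_lt _ _
      · exact lt_of_lt_of_le (Nat.pow_lt_pow_right (by norm_num) hk) le_rfl
    rw [cm_idc hg64] at hgg
    rw [cm_idc hs64, cm_idc hg64] at hgs'
    have h4' := hcode (pW [3, 0] 4) [] (by decide) (by simp) ga
    have h5' := hcode (pW [3, 2, 0] 5) [] (by decide) (by simp) gca
    rw [cw_nil, hL] at h4' h5'
    refine gOK_intro hgg hgs' (fun v hv => ?_) h4' h5'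
    rw [← hform v hv, ← hform _ (ap_lt _ _), ← H.comb_act b (H.ρ 3) _ hgb v, H.Q_inv]
  have hstab : ∀ u, u ∈ tS t → H.act u w = w := fun u hu => hfix u (List.mem_append_right _ hu)
  have hxfix : ∀ u ∈ tS t, ap (cwT t u) x = x := by
    intro u hu
    refine hinj' _ (ap_lt _ _) _ x.2 ?_
    rw [← hword u (List.mem_append_right _ hu) _ x.2, hx, ← hcomm u (List.mem_append_right _ hu), hstab u hu]
  have hyfix : ∀ k < 2, ap (cwT t ((tS t).getD k [])) y = y := by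
    intro k hk
    have hkl : k < (tS t).length := by interval_cases t <;> simp [tS] <;> omega
    have hm : (tS t).getD k [] ∈ tP t ++ tS t := by
      rw [List.getD_eq_getElem _ _ hkl]
      exact List.mem_append_right _ (List.getElem_mem _)
    refine hinj' _ (ap_lt _ _) _ y.2 ?_
    rw [← hword _ hm _ y.2, hy, ← hcomm _ hm, H.stab_fix ht hkl hk (H.Wt_act (by omega) hw)]
  have hc := hchk
  simp only [gChk, List.all_eq_true, List.mem_filter, List.mem_map, beq_iff_eq, Bool.or_eq_true,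
    Bool.not_eq_true'] at hc
  have hfin := hc x ⟨List.mem_range.2 x.2, fun f ⟨u, hu, hf⟩ => hf ▸ hxfix u hu⟩ y ⟨List.mem_range.2 y.2, fun f hf => by
    rw [← List.map_take, List.mem_map] at hf
    obtain ⟨u, hu, rfl⟩ := hf
    obtain ⟨k, hk, rfl⟩ := List.getElem_of_mem hu
    rw [List.length_take] at hk
    rw [List.getElem_take, ← List.getD_eq_getElem _ [] (show k < (tS t).length by omega)]
    exact hyfix k (by omega)⟩
  rw [← hg, hok] at hfin
  have hg3 : g = (tGens t).getD 3 0 := hfin.resolve_left (by simp)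
  refine ⟨⟨b, hbij, fun i hi j hj => ?_, hform⟩⟩
  by_cases h : i < 3
  · exact h3 i h j hj
  · rw [show i = 3 by omega, hC, ← hg3]; exact hgb j hj

/-- The module is one of the three standard ones. -/
theorem exists_coords : ∃ C ∈ [cfgU, cfgP, cfgM], Nonempty (H.Coords C) := by
  haveI := H.fin
  by_cases hno : ∀ u ∈ H.Wt 0, u = 1
  swap
  · push Not at hno
    obtain ⟨w, hw, hw1⟩ := hno
    refine ⟨cfgU, by simp, H.finish cfgU 0 (by norm_num) rfl gChk_U (f₁ := 1) (f₂ := 1) hw (H.exists_base_four hw)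
      (fun v hv h => ?_) (fun v hv => ?_) (fun i _ j hj h => absurd h (by simp [tN, tP]; omega))⟩
    all_goals
      choose u hu htr hnz using fun pos : Fin 4 =>
        H.plane_coord (t := 0) (f₁ := (1 : V)) (f₂ := (1 : V)) (by norm_num) hw hw1 (pos := pos) pos.2 v
      have hsplit : comb (H.tBasis 0 w 1 1) v = H.famMap fun i : Fin (tN 0) => (⟨u i, hu i⟩ : H.Wt 0) := by
        conv_lhs => rw [vec_planes v hv, H.comb_xor, H.comb_xor, H.comb_xor]
        rw [famMap]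
        show _ = ∏ i : Fin 4, H.tr 0 i (u i)
        rw [Fin.prod_univ_four, htr, htr, htr, htr]
        rfl
    · rw [hsplit, ← show H.famMap (fun _ => (1 : H.Wt 0)) = 1 by rw [famMap]; simp] at h
      have h' := H.famMap_inj (t := 0) (by norm_num) h
      have hz : ∀ pos : Fin 4, nz v pos = 0 := fun pos => by
        rcases hnz pos with ⟨-, e⟩ | ⟨e, -⟩
        · exact e
        · exact absurd (congrArg Subtype.val (congrFun h' pos)) e
      exact nz_zero v hv (hz ⟨0, by decide⟩) (hz ⟨1, by decide⟩) (hz ⟨2, by decide⟩) (hz ⟨3, by decide⟩)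
    · have hQ : ∀ pos : Fin 4, H.Q (H.tr 0 pos (u pos)) = nz v pos := fun pos => by
        rw [tr, H.Q_act]
        rcases hnz pos with ⟨e, e'⟩ | ⟨e, e'⟩
        · rw [e, e', H.Q_one]
        · rw [e', H.Q_plane (by norm_num) (hu pos) e hw hw1, H.Q_one_four hw hw1]
      rw [hsplit, famMap]
      show H.Q (∏ i : Fin 4, H.tr 0 i (u i)) = qU v
      rw [Fin.prod_univ_four]
      have ho : ∀ i j : Fin 4, i ≠ j → bform H.Q (H.tr 0 i (u i)) (H.tr 0 j (u j)) = 0 := fun i j hij =>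
        H.bf_tr (t := 0) (by norm_num) i.2 j.2 (fun e => hij (Fin.ext e)) (hu i) (hu j)
      rw [H.Q_four (ho 0 1 (by decide)) (ho 0 2 (by decide)) (ho 0 3 (by decide)) (ho 1 2 (by decide))
        (ho 1 3 (by decide)) (ho 2 3 (by decide))]
      exact congrArg₂ (· ^^^ ·) (congrArg₂ (· ^^^ ·) (congrArg₂ (· ^^^ ·) (hQ 0) (hQ 1)) (hQ 2)) (hQ 3)
  obtain ⟨t, ht, w₀, hw₀, hw₀1⟩ := H.exists_orbit
  have ht1 : t = 1 := by
    interval_cases t
    · exact absurd (hno w₀ hw₀) hw₀1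
    · rfl
  subst ht1
  obtain ⟨w, hw, hw1, hfix⟩ := H.exists_base_three hw₀ hw₀1
  obtain ⟨hFx, hbij⟩ := H.shape_three hno hw hw1
  -- a basis of the fixed plane with orthogonality one
  have hnd : ∀ r ∈ H.Fx, r ≠ 1 → ∃ r' ∈ H.Fx, bform H.Q r r' = 1 := by
    intro r hr hr1
    obtain ⟨y, hy⟩ := H.nd r hr1
    obtain ⟨⟨u, q⟩, rfl⟩ := hbij.2 y
    refine ⟨q, q.2, ?_⟩
    rw [H.bf_mul, show bform H.Q r (H.famMap u) = 0 from
      H.bf_prod _ _ _ fun i _ => H.bf_tr_Fx i.2 (u i).2 hr, Nat.zero_xor] at hy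
    exact hy
  obtain ⟨r, hr1⟩ : ∃ r : H.Fx, r ≠ 1 := by
    by_contra hc
    push Not at hc
    have := @Nat.card_unique H.Fx _ ⟨fun a b => (hc a).trans (hc b).symm⟩
    omega
  obtain ⟨r', hr', hrr'⟩ := hnd r r.2 (fun e => hr1 (Subtype.ext e))
  have hkey : ∀ f₁ f₂ : V, f₁ ∈ H.Fx → f₂ ∈ H.Fx → bform H.Q f₁ f₂ = 1 →
      H.Q (f₁ * f₂) = H.Q f₁ ^^^ H.Q f₂ ^^^ 1 := fun f₁ f₂ _ _ h => by
    rw [bform, Nat.xor_assoc] at h
    calc H.Q (f₁ * f₂) = H.Q (f₁ * f₂) ^^^ (H.Q f₁ ^^^ H.Q f₂) ^^^ (H.Q f₁ ^^^ H.Q f₂) := by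
          rw [Nat.xor_assoc, Nat.xor_self, Nat.xor_zero]
      _ = _ := by rw [h, Nat.xor_comm]
  have hbf : ∀ f₁ f₂ : V, bform H.Q f₁ f₂ = 1 → bform H.Q f₁ (f₁ * f₂) = 1 := fun f₁ f₂ h => by
    rw [H.bf_mul, h, bform, H.sq, H.Q_one, Nat.zero_xor, Nat.xor_self]
    rfl
  obtain ⟨f₁, f₂, hf₁, hf₂, h12, hq⟩ : ∃ f₁ f₂ : V, f₁ ∈ H.Fx ∧ f₂ ∈ H.Fx ∧ bform H.Q f₁ f₂ = 1 ∧
      ((H.Q f₁ = 0 ∧ H.Q f₂ = 0) ∨ (H.Q f₁ = 1 ∧ H.Q f₂ = 1 ∧ H.Q (f₁ * f₂) = 1)) := by
    have e3 := hkey r r' r.2 hr' hrr'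
    rcases (show H.Q (r : V) = 0 ∨ H.Q (r : V) = 1 by have := H.Q_lt (r : V); omega) with a | a <;>
      rcases (show H.Q r' = 0 ∨ H.Q r' = 1 by have := H.Q_lt r'; omega) with c | c <;> rw [a, c] at e3
    · exact ⟨r, r', r.2, hr', hrr', Or.inl ⟨a, c⟩⟩
    · exact ⟨r, r * r', r.2, mul_mem r.2 hr', hbf _ _ hrr', Or.inl ⟨a, by simpa using e3⟩⟩
    · exact ⟨r', r' * r, hr', mul_mem hr' r.2, hbf _ _ (by rw [bform_comm]; exact hrr'),
        Or.inl ⟨c, by rw [mul_comm]; simpa using e3⟩⟩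
    · exact ⟨r, r', r.2, hr', hrr', Or.inr ⟨a, c, by simpa using e3⟩⟩
  have hf1 : f₁ ≠ 1 := fun e => by rw [e, bform_comm, bform_one_right] at h12; exact absurd h12 (by norm_num)
  have hf2 : f₂ ≠ 1 := fun e => by rw [e, bform_one_right] at h12; exact absurd h12 (by norm_num)
  have hf12 : f₁ * f₂ ≠ 1 := fun e => by
    rw [eq_inv_of_mul_eq_one_left e, H.inv_eq_self, bform, H.sq, H.Q_one, Nat.zero_xor, Nat.xor_self] at h12
    exact absurd h12 (by norm_num)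
  obtain ⟨b, hb⟩ : ∃ b, b = H.tBasis 1 w f₁ f₂ := ⟨_, rfl⟩
  have hsplit : ∀ v < 256, ∃ (u : Fin 3 → H.Wt 1) (q : H.Fx), comb b v = H.famMap (t := 1) u * (q : V) ∧
      (∀ pos : Fin 3, ((u pos : V) = 1 ∧ nz v pos = 0) ∨ ((u pos : V) ≠ 1 ∧ nz v pos = 1)) ∧
      ((q : V) = 1 ∧ bit v 6 = 0 ∧ bit v 7 = 0 ∨ (q : V) = f₁ ∧ bit v 6 = 1 ∧ bit v 7 = 0 ∨
        (q : V) = f₂ ∧ bit v 6 = 0 ∧ bit v 7 = 1 ∨ (q : V) = f₁ * f₂ ∧ bit v 6 = 1 ∧ bit v 7 = 1) := by
    intro v hv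
    choose u hu htr hnz using fun pos : Fin 3 =>
      H.plane_coord (t := 1) (f₁ := f₁) (f₂ := f₂) (by norm_num) hw hw1 (pos := pos) pos.2 v
    have hq4 : ∃ q ∈ H.Fx, comb b (v &&& 192) = q ∧ (q = 1 ∧ bit v 6 = 0 ∧ bit v 7 = 0 ∨
        q = f₁ ∧ bit v 6 = 1 ∧ bit v 7 = 0 ∨ q = f₂ ∧ bit v 6 = 0 ∧ bit v 7 = 1 ∨
        q = f₁ * f₂ ∧ bit v 6 = 1 ∧ bit v 7 = 1) := by
      have key : ∀ r < 256, r &&& 192 = bit r 6 * 64 ^^^ bit r 7 * 128 := by decide +kernel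
      have e6 : comb b 64 = f₁ := by rw [show (64 : ℕ) = 2 ^ 6 from rfl, comb_pow b (by norm_num), hb]; rfl
      have e7 : comb b 128 = f₂ := by rw [show (128 : ℕ) = 2 ^ 7 from rfl, comb_pow b (by norm_num), hb]; rfl
      rw [key v hv, H.comb_xor]
      rcases bit_cases v 6 with a | a <;> rcases bit_cases v 7 with c | c <;>
        simp only [a, c, zero_mul, one_mul, comb_zero, e6, e7, mul_one]
      exacts [⟨1, one_mem _, rfl, by simp⟩, ⟨f₂, hf₂, rfl, by simp⟩, ⟨f₁, hf₁, rfl, by simp⟩,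
        ⟨_, mul_mem hf₁ hf₂, rfl, by simp⟩]
    obtain ⟨q, hqm, hqe, hqc⟩ := hq4
    refine ⟨fun i => ⟨u i, hu i⟩, ⟨q, hqm⟩, ?_, hnz, hqc⟩
    conv_lhs => rw [vec_planes v hv, H.comb_xor, H.comb_xor, H.comb_xor, hqe]
    show _ = (∏ i : Fin 3, H.tr 1 i (u i)) * q
    rw [Fin.prod_univ_three, htr, htr, htr, hb]
    rfl
  have hinj : ∀ v < 256, comb b v = 1 → v = 0 := by
    intro v hv h
    obtain ⟨u, q, e, hnz, hqc⟩ := hsplit v hv
    have h1 := hbij.1 (a₁ := (u, q)) (a₂ := ((fun _ => 1), 1))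
      (show H.famMap (t := 1) u * (q : V) = H.famMap (fun _ => (1 : H.Wt 1)) * ((1 : H.Fx) : V) by
        rw [← e, h, show H.famMap (t := 1) (fun _ => 1) = 1 by simp [famMap]]; simp)
    have h1a := congrArg Prod.fst h1
    have hz : ∀ pos : Fin 3, nz v pos = 0 := fun pos => by
      rcases hnz pos with ⟨-, e⟩ | ⟨e, -⟩
      · exact e
      · exact absurd (congrArg Subtype.val (congrFun h1a pos)) e
    have hq1 : (q : V) = 1 := congrArg Subtype.val (congrArg Prod.snd h1)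
    have h3 : nz v 3 = 0 := by
      rcases hqc with ⟨-, a, c⟩ | ⟨e', -⟩ | ⟨e', -⟩ | ⟨e', -⟩
      · rw [nz, show 2 * 3 + 1 = 7 from rfl, show 2 * 3 = 6 from rfl, a, c]; rfl
      · exact absurd (e'.symm.trans hq1) hf1
      · exact absurd (e'.symm.trans hq1) hf2
      · exact absurd (e'.symm.trans hq1) hf12
    exact nz_zero v hv (hz ⟨0, by decide⟩) (hz ⟨1, by decide⟩) (hz ⟨2, by decide⟩) h3
  have hform : ∀ v < 256, ∀ q' : ℕ → ℕ,
      (q' v = nz v 0 ^^^ nz v 1 ^^^ nz v 2 ^^^ H.Q (f₁ ^ bit v 6 * f₂ ^ bit v 7)) → H.Q (comb b v) = q' v := by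
    intro v hv q' hq'
    obtain ⟨u, q, e, hnz, hqc⟩ := hsplit v hv
    have hQ : ∀ pos : Fin 3, H.Q (H.tr 1 pos (u pos : V)) = nz v pos := fun pos => by
      rw [tr, H.Q_act]
      rcases hnz pos with ⟨e, e'⟩ | ⟨e, e'⟩
      · rw [e, e', H.Q_one]
      · rw [e', H.Q_plane (by norm_num) (u pos).2 e hw hw1, H.Q_one_three hno hw hw1]
    have hqv : (q : V) = f₁ ^ bit v 6 * f₂ ^ bit v 7 := by
      rcases hqc with ⟨e, a, c⟩ | ⟨e, a, c⟩ | ⟨e, a, c⟩ | ⟨e, a, c⟩ <;> simp [e, a, c]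
    rw [e, hq', ← hqv]
    show H.Q ((∏ i : Fin 3, H.tr 1 i (u i : V)) * q) = _
    rw [Fin.prod_univ_three]
    have ho : ∀ i j : Fin 3, i ≠ j → bform H.Q (H.tr 1 i (u i : V)) (H.tr 1 j (u j : V)) = 0 := fun i j hij =>
      H.bf_tr (t := 1) (by norm_num) i.2 j.2 (fun e => hij (Fin.ext e)) (u i).2 (u j).2
    have ho' : ∀ i : Fin 3, bform H.Q (H.tr 1 i (u i : V)) (q : V) = 0 := fun i => by
      rw [bform_comm]; exact H.bf_tr_Fx i.2 (u i).2 q.2
    rw [H.Q_four (ho 0 1 (by decide)) (ho 0 2 (by decide)) (ho' 0) (ho 1 2 (by decide)) (ho' 1) (ho' 2)]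
    exact congrArg₂ (· ^^^ ·) (congrArg₂ (· ^^^ ·) (congrArg₂ (· ^^^ ·) (hQ 0) (hQ 1)) (hQ 2)) rfl
  have hcent : ∀ i < 4, ∀ j < 8, 2 * tN 1 ≤ j →
      H.ρ i (H.tBasis 1 w f₁ f₂ j) = H.tBasis 1 w f₁ f₂ j ∧ (i < 3 → byte (gensP.getD i 0) j = 2 ^ j) := by
    intro i hi j hj h
    have h6 : 6 ≤ j := h
    refine ⟨?_, fun h' => gens_plane i h' j hj h6⟩
    rw [tBasis, if_neg (show ¬ j < 2 * tN 1 by omega)]
    split
    · exact H.plane_central hno hw hw1 hf₁ hi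
    · exact H.plane_central hno hw hw1 hf₂ hi
  rcases hq with ⟨a, c⟩ | ⟨a, c, d⟩
  · refine ⟨cfgP, by simp, H.finish cfgP 1 (by norm_num) rfl gChk_P hw hfix (hb ▸ hinj) (fun v hv => ?_) hcent⟩
    rw [← hb]
    refine hform v hv qP ?_
    rw [qP]
    have d := hkey f₁ f₂ hf₁ hf₂ h12
    rw [a, c] at d
    rcases bit_cases v 6 with x | x <;> rcases bit_cases v 7 with y | y <;> simp [x, y, a, c, d, H.Q_one]
  · refine ⟨cfgM, by simp, H.finish cfgM 1 (by norm_num) rfl gChk_M hw hfix (hb ▸ hinj) (fun v hv => ?_) hcent⟩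
    rw [← hb]
    refine hform v hv qU ?_
    rw [qU, show nz v 3 = bit v 6 ||| bit v 7 from rfl]
    rcases bit_cases v 6 with x | x <;> rcases bit_cases v 7 with y | y <;> simp [x, y, a, c, d, H.Q_one]

end Hyp

end Cfsg.Lib.U62Type
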