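import Cfsg.Agent.Lib.U62Type.WeightChecks

/-!
# The subspaces belonging to the weights
-/

set_option autoImplicit false
set_option linter.unusedSectionVars false

namespace Cfsg.Lib.U62Type

namespace Hyp

variable {V : Type*} [CommGroup V] (H : Hyp V)

/-- The subspace of the standard weight of an orbit. -/
def Wt (t : ℕ) : Subgroup V :=
  (H.act (tK t 0)).eqLocus (MonoidHom.id V) ⊓ (H.act (tK t 1)).eqLocus (MonoidHom.id V) ⊓ (H.avg (tM t)).ker

theorem mem_Wt {t : ℕ} {u : V} :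
    u ∈ H.Wt t ↔ H.act (tK t 0) u = u ∧ H.act (tK t 1) u = u ∧ H.Fp (tM t) u := and_assoc

/-- The translation. -/
def tr (t i : ℕ) : V →* V := H.act ((tP t).getD i [])

/-- The projection on a translate, up to the fixed vectors. -/
def proj0 (t i : ℕ) : V →* V := (H.avg (kc t i 0)).comp (H.avg (kc t i 1))

/-- The projection on a translate. -/
def proj (t i : ℕ) : V →* V :=
  { toFun := fun v => H.proj0 t i v * H.avg (mc t i) (H.proj0 t i v)
    map_one' := by simp only [map_one, mul_one]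
    map_mul' := fun x y => by rw [map_mul, map_mul]; ac_rfl }

theorem proj_def (t i : ℕ) (v : V) : H.proj t i v = H.proj0 t i v * H.avg (mc t i) (H.proj0 t i v) := rfl

section Orbit

variable {t : ℕ} (ht : t < 3)
include ht

theorem ok_basic : meq (tM t ++ (tM t ++ tM t)) [] = true ∧ ∀ b < 2, meq (tK t b ++ tM t) (tM t ++ tK t b) = true := by
  have h := tOK_all t ht
  simp only [tOK, Bool.and_eq_true, List.all_eq_true, List.mem_range] at h
  exact h.1

theorem ok_tr {i : ℕ} (hi : i < tN t) :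
    meq (iW ((tP t).getD i []) ++ (tP t).getD i []) [] = true ∧
    meq ((tP t).getD i [] ++ iW ((tP t).getD i [])) [] = true ∧
    meq (mc t i ++ (tP t).getD i []) ((tP t).getD i [] ++ tM t) = true := by
  have h := tOK_all t ht
  simp only [tOK, Bool.and_eq_true, List.all_eq_true, List.mem_range] at h
  obtain ⟨⟨⟨⟨⟨⟨⟨⟨h1, h2⟩, h3⟩, -⟩, -⟩, -⟩, -⟩, -⟩, -⟩ := h.2 i hi
  exact ⟨h1, h2, h3⟩

theorem ok_comm {i : ℕ} (hi : i < tN t) :
    meq (kc t i 0 ++ kc t i 1) (kc t i 1 ++ kc t i 0) = true ∧ meq (kc t i 0 ++ mc t i) (mc t i ++ kc t i 0) = true ∧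
    meq (kc t i 1 ++ mc t i) (mc t i ++ kc t i 1) = true ∧
    ∀ x < 3, meq (kc t i 0 ++ aW x) (aW x ++ kc t i 0) = true ∧ meq (kc t i 1 ++ aW x) (aW x ++ kc t i 1) = true ∧
      meq (mc t i ++ aW x) (aW x ++ mc t i) = true := by
  have h := tOK_all t ht
  simp only [tOK, Bool.and_eq_true, List.all_eq_true, List.mem_range] at h
  obtain ⟨⟨⟨⟨⟨⟨⟨⟨-, -⟩, -⟩, h1⟩, h2⟩, h3⟩, h4⟩, -⟩, -⟩ := h.2 i hi
  exact ⟨h1, h2, h3, fun x hx => ⟨(h4 x hx).1.1, (h4 x hx).1.2, (h4 x hx).2⟩⟩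

theorem ok_kc {i : ℕ} (hi : i < tN t) {b : ℕ} (hb : b < 2) :
    meq (kc t i b ++ (kc t i b ++ kc t i b)) [] = true ∧
    meq (kc t i b ++ (tP t).getD i []) ((tP t).getD i [] ++ tK t b) = true := by
  have h := tOK_all t ht
  simp only [tOK, Bool.and_eq_true, List.all_eq_true, List.mem_range] at h
  exact ((h.2 i hi).1.2) b hb

theorem ok_sep {i j : ℕ} (hi : i < tN t) (hj : j < tN t) (hij : i ≠ j) :
    (∀ b < 2, (sepE t i j b).2.2 < 3 ∧ meq (kc t i b ++ (tP t).getD j []) ((tP t).getD j [] ++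
      (pW (tK t 0) (sepE t i j b).1 ++ (pW (tK t 1) (sepE t i j b).2.1 ++ pW (tM t) (sepE t i j b).2.2))) = true) ∧
      ((sepE t i j 0).2.2 ≠ 0 ∨ (sepE t i j 1).2.2 ≠ 0) := by
  have h := tOK_all t ht
  simp only [tOK, Bool.and_eq_true, List.all_eq_true, List.mem_range] at h
  have h' := (h.2 i hi).2 j hj
  simp only [Bool.or_eq_true, Bool.and_eq_true, beq_iff_eq, List.all_eq_true, List.mem_range, bne_iff_ne,
    Nat.blt_eq] at h'
  exact h'.resolve_left hij

theorem Wt_act {u : V} (hu : u ∈ H.Wt t) : H.act (tM t) u ∈ H.Wt t := by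
  obtain ⟨h0, h1, h2⟩ := H.mem_Wt.1 hu
  obtain ⟨-, hK⟩ := ok_basic ht
  refine H.mem_Wt.2 ⟨?_, ?_, H.fp_act (by rw [meq, Bool.or_eq_true]; exact Or.inl (beq_self_eq_true _)) h2⟩
  · rw [← H.act_append, H.act_eq (hK 0 (by norm_num)), H.act_append, h0]
  · rw [← H.act_append, H.act_eq (hK 1 (by norm_num)), H.act_append, h1]

theorem Wt_pow {u : V} (hu : u ∈ H.Wt t) : ∀ n, H.act (pW (tM t) n) u ∈ H.Wt t
  | 0 => hu
  | n + 1 => by
    rw [pW, List.replicate_succ, List.flatten_cons, H.act_append, ← pW]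
    exact H.Wt_act ht (Wt_pow hu n)

theorem avg_other {i j b : ℕ} (hi : i < tN t) (hj : j < tN t) (hij : i ≠ j) (hb : b < 2) {u : V} (hu : u ∈ H.Wt t) :
    H.avg (kc t i b) (H.tr t j u) = if (sepE t i j b).2.2 = 0 then H.tr t j u else 1 := by
  obtain ⟨hs, -⟩ := ok_sep ht hi hj hij
  obtain ⟨he, hm⟩ := hs b hb
  have hk : ∀ v ∈ H.Wt t, H.act (kc t i b) (H.tr t j v) = H.tr t j (H.act (pW (tM t) (sepE t i j b).2.2) v) := by
    intro v hv
    have hw := H.Wt_pow ht hv (sepE t i j b).2.2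
    rw [tr, ← H.act_append, H.act_eq hm, H.act_append, H.act_append, H.act_append,
      H.act_pW_fix (H.mem_Wt.1 hw).2.1, H.act_pW_fix (H.mem_Wt.1 hw).1]
  obtain ⟨e, he'⟩ : ∃ e, e = (sepE t i j b).2.2 := ⟨_, rfl⟩
  rw [← he'] at hk he ⊢
  have hk2 : H.act (kc t i b ++ kc t i b) (H.tr t j u) = H.tr t j (H.act (pW (tM t) e) (H.act (pW (tM t) e) u)) := by
    rw [H.act_append, hk u hu, hk _ (H.Wt_pow ht hu e)]
  obtain ⟨hM3, -⟩ := ok_basic ht
  have hfp : u * H.act (tM t) u * H.act (tM t ++ tM t) u = 1 := (H.mem_Wt.1 hu).2.2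
  interval_cases e
  · simp only [if_pos]
    rw [avg_def, hk u hu, hk2]
    simp only [pW, List.replicate_zero, List.flatten_nil, H.act_nil]
    rw [H.sq, one_mul]
  · rw [if_neg (by norm_num), avg_def, hk u hu, hk2, show pW (tM t) 1 = tM t by simp [pW], ← map_mul,
      ← H.act_append, ← map_mul, hfp, map_one]
  · rw [if_neg (by norm_num), avg_def, hk u hu, hk2, show pW (tM t) 2 = tM t ++ tM t by simp [pW], ← map_mul,
      ← H.act_append, ← map_mul]
    have e4 : H.act ((tM t ++ tM t) ++ (tM t ++ tM t)) u = H.act (tM t) u := by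
      rw [List.append_assoc, H.act_append, H.act_eq hM3, H.act_nil]
    rw [e4, mul_right_comm, hfp, map_one]

theorem proj0_other {i j : ℕ} (hi : i < tN t) (hj : j < tN t) (hij : i ≠ j) {u : V} (hu : u ∈ H.Wt t) :
    H.proj0 t i (H.tr t j u) = 1 := by
  show H.avg (kc t i 0) (H.avg (kc t i 1) (H.tr t j u)) = 1
  rw [H.avg_other ht hi hj hij (by norm_num) hu]
  obtain ⟨-, h⟩ := ok_sep ht hi hj hij
  by_cases h1 : (sepE t i j 1).2.2 = 0
  · rw [if_pos h1, H.avg_other ht hi hj hij (by norm_num) hu, if_neg (h.resolve_right (not_not.2 h1))]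
  · rw [if_neg h1, map_one]

theorem proj_other {i j : ℕ} (hi : i < tN t) (hj : j < tN t) (hij : i ≠ j) {u : V} (hu : u ∈ H.Wt t) :
    H.proj t i (H.tr t j u) = 1 := by
  rw [proj_def, H.proj0_other ht hi hj hij hu, map_one, one_mul]

theorem proj_of_weight {i : ℕ} (hi : i < tN t) {v : V} (h0 : H.act (kc t i 0) v = v)
    (h1 : H.act (kc t i 1) v = v) (h2 : H.Fp (mc t i) v) : H.proj t i v = v := by
  rw [proj_def, show H.proj0 t i v = v by
    show H.avg (kc t i 0) (H.avg (kc t i 1) v) = v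
    rw [H.avg_fix h1, H.avg_fix h0], H.fp_iff.1 h2, mul_one]

theorem proj_own {i : ℕ} (hi : i < tN t) {u : V} (hu : u ∈ H.Wt t) : H.proj t i (H.tr t i u) = H.tr t i u := by
  obtain ⟨h0, h1, h2⟩ := H.mem_Wt.1 hu
  refine H.proj_of_weight ht hi ?_ ?_ ?_
  · rw [tr, ← H.act_append, H.act_eq (ok_kc ht hi (by norm_num)).2, H.act_append, h0]
  · rw [tr, ← H.act_append, H.act_eq (ok_kc ht hi (by norm_num)).2, H.act_append, h1]
  · have hm : ∀ v, H.act (mc t i) (H.tr t i v) = H.tr t i (H.act (tM t) v) := fun v => by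
      rw [tr, ← H.act_append, H.act_eq (ok_tr ht hi).2.2, H.act_append]
    rw [Fp, H.act_append, hm, hm, ← map_mul, ← map_mul, ← H.act_append,
      show u * H.act (tM t) u * H.act (tM t ++ tM t) u = 1 from h2, map_one]

theorem tr_inj {i : ℕ} (hi : i < tN t) : Function.Injective (H.tr t i) := fun x y h => by
  have := congrArg (H.act (iW ((tP t).getD i []))) h
  rwa [tr, ← H.act_append, ← H.act_append, H.act_eq (ok_tr ht hi).1, H.act_eq (ok_tr ht hi).1, H.act_nil,
    H.act_nil] at this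

/-- The product of vectors in the translates. -/
def famMap (u : Fin (tN t) → H.Wt t) : V := ∏ i : Fin (tN t), H.tr t i (u i : V)

theorem proj_famMap (u : Fin (tN t) → H.Wt t) (i : Fin (tN t)) : H.proj t i (H.famMap u) = H.tr t i (u i : V) := by
  rw [famMap, map_prod, Finset.prod_eq_single i, H.proj_own ht i.2 (u i).2]
  · intro j _ hj
    exact H.proj_other ht i.2 j.2 (fun e => hj (Fin.ext e.symm)) (u j).2
  · exact fun h => absurd (Finset.mem_univ i) h

theorem famMap_inj : Function.Injective (H.famMap (t := t)) := fun u u' h => funext fun i =>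
  Subtype.ext (H.tr_inj ht i.2 (by rw [← H.proj_famMap ht u i, h, H.proj_famMap ht u' i]))

theorem card_Wt_pow : Nat.card (H.Wt t) ^ tN t ≤ 256 := by
  haveI := H.fin
  rw [← H.card]
  refine le_trans (le_of_eq ?_) (Nat.card_le_card_of_injective _ (H.famMap_inj ht))
  rw [Nat.card_fun, Nat.card_fin]

theorem card_Wt_ge {u : V} (hu : u ∈ H.Wt t) (h1 : u ≠ 1) : 4 ≤ Nat.card (H.Wt t) := by
  haveI := H.fin
  obtain ⟨h0, h0', hfp⟩ := H.mem_Wt.1 hu
  rw [Fp, H.act_append] at hfp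
  have hm : H.act (tM t) u ≠ u := fun e => by rw [e, e, H.sq, one_mul] at hfp; exact h1 hfp
  have hinj : Function.Injective (H.act (tM t)) := fun x y h => by
    have := congrArg (H.act (tM t ++ tM t)) h
    rwa [← H.act_append, ← H.act_append, List.append_assoc, H.act_eq (ok_basic ht).1,
      H.act_eq (ok_basic ht).1, H.act_nil, H.act_nil] at this
  have hm1 : H.act (tM t) u ≠ 1 := fun e => h1 (hinj (e.trans (map_one _).symm))
  have hmm1 : H.act (tM t) (H.act (tM t) u) ≠ 1 := fun e => hm1 (hinj (e.trans (map_one _).symm))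
  have hmm : H.act (tM t) (H.act (tM t) u) ≠ u := fun e => by
    rw [e, mul_right_comm, H.sq, one_mul] at hfp; exact hm1 hfp
  let f : Fin 4 → H.Wt t := ![1, ⟨u, hu⟩, ⟨_, H.Wt_act ht hu⟩, ⟨_, H.Wt_act ht (H.Wt_act ht hu)⟩]
  have hf : Function.Injective f := by
    intro a b h
    have hn : H.act (tM t) (H.act (tM t) u) ≠ H.act (tM t) u := fun e => hm (hinj e)
    fin_cases a <;> fin_cases b <;>
      simp [f, Subtype.ext_iff, h1, hm, hm.symm, hm1, hmm1, hmm, hmm.symm, hn, hn.symm, h1.symm, hm1.symm,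
        hmm1.symm] at h ⊢
  have := Nat.card_le_card_of_injective f hf
  rwa [Nat.card_fin] at this

theorem card_Wt {u : V} (hu : u ∈ H.Wt t) (h1 : u ≠ 1) : t ≠ 2 ∧ Nat.card (H.Wt t) = 4 := by
  haveI := H.fin
  have h4 := H.card_Wt_ge ht hu h1
  have hp := H.card_Wt_pow ht
  have hd : Nat.card (H.Wt t) ∣ 256 := H.card ▸ Subgroup.card_subgroup_dvd_card _
  obtain ⟨k, hk, e⟩ := (Nat.dvd_prime_pow Nat.prime_two).1 (show Nat.card (H.Wt t) ∣ 2 ^ 8 from hd)
  rw [e] at hp h4 ⊢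
  have hk2 : 2 ≤ k := by
    by_contra hc
    interval_cases k <;> norm_num at h4
  interval_cases t <;> (rw [← pow_mul] at hp) <;>
    have h8 := (Nat.pow_le_pow_iff_right (le_refl 2)).1 (hp.trans (le_of_eq (by norm_num : 256 = 2 ^ 8))) <;>
    simp only [tN, tP, List.length_cons, List.length_nil] at h8 <;>
    refine ⟨by omega, ?_⟩ <;> rw [show k = 2 by omega] <;> rfl

end Orbit

/-- The vectors fixed by the elementary abelian subgroup. -/
def Fx : Subgroup V :=
  (H.act (aW 0)).eqLocus (MonoidHom.id V) ⊓ (H.act (aW 1)).eqLocus (MonoidHom.id V) ⊓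
    (H.act (aW 2)).eqLocus (MonoidHom.id V)

theorem mem_Fx {v : V} : v ∈ H.Fx ↔ ∀ x < 3, H.act (aW x) v = v := by
  refine ⟨fun ⟨⟨h0, h1⟩, h2⟩ x hx => ?_, fun h => ⟨⟨h 0 (by norm_num), h 1 (by norm_num)⟩, h 2 (by norm_num)⟩⟩
  interval_cases x
  exacts [h0, h1, h2]

/-- A vector outside the fixed ones yields a vector of one of the weights in any invariant subgroup. -/
theorem exists_weight {v : V} {S : Subgroup V} (hv : v ∈ S) (hSx : ∀ x < 3, ∀ u ∈ S, H.act (aW x) u ∈ S)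
    (hmv : v ∉ H.Fx) :
    ∃ t < 3, ∃ i < tN t, ∃ u ∈ S, u ≠ 1 ∧ H.act (kc t i 0) u = u ∧ H.act (kc t i 1) u = u ∧ H.Fp (mc t i) u := by
  obtain ⟨x, hx, hxv⟩ : ∃ x < 3, H.act (aW x) v ≠ v := by
    rw [mem_Fx] at hmv
    push Not at hmv
    exact hmv
  have hc := classOK_true
  simp only [classOK, Bool.and_eq_true, List.all_eq_true, List.mem_range] at hc
  obtain ⟨⟨hx3, hcomm⟩, hx'⟩ := hc x hx
  have hY : nfY x < 3 := by unfold nfY; split <;> norm_num
  have hZ : nfZ x < 3 := by unfold nfZ; split <;> norm_num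
  -- a vector on which the first element has no fixed point
  obtain ⟨w, hw⟩ : ∃ w, w = H.act (aW x) v * H.act (aW x) (H.act (aW x) v) := ⟨_, rfl⟩
  have hwS : w ∈ S := hw ▸ mul_mem (hSx x hx v hv) (hSx x hx _ (hSx x hx v hv))
  have hw1 : w ≠ 1 := fun e => by
    rw [hw] at e
    have e' : H.act (aW x) v = H.act (aW x) (H.act (aW x) v) :=
      (eq_inv_of_mul_eq_one_left e).trans (H.inv_eq_self _)
    refine hxv ?_
    have hid : ∀ u, H.act (aW x) (H.act (aW x) (H.act (aW x) u)) = u := fun u => by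
      rw [← H.act_append, ← H.act_append, List.append_assoc, H.act_eq hx3, H.act_nil]
    have h3 := congrArg (fun u => H.act (aW x) (H.act (aW x) u)) e'
    simp only [hid] at h3
    exact h3.symm
  have hwfp : H.Fp (aW x) w := by
    have e : ∀ u, H.avg (aW x) (H.act (aW x) u) = H.avg (aW x) u := fun u => by
      rw [← H.avg_comm (by rw [meq, Bool.or_eq_true]; exact Or.inl (beq_self_eq_true _)), H.act_avg hx3]
    rw [fp_iff, hw, map_mul, e, e, e, H.sq]
  have hc' : ∀ y < 3, meq (aW x ++ aW y) (aW y ++ aW x) = true := hcomm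
  have hy3 : meq (aW (nfY x) ++ (aW (nfY x) ++ aW (nfY x))) [] = true := (hc _ hY).1.1
  have hz3 : meq (aW (nfZ x) ++ (aW (nfZ x) ++ aW (nfZ x))) [] = true := (hc _ hZ).1.1
  obtain ⟨w₁, hw₁S, hw₁1, hw₁fp, i, hi, hw₁y⟩ :=
    H.refine_pair (hc' _ hY) hy3 hw1 hwfp hwS (hSx x hx) (hSx _ hY)
  let S' : Subgroup V := S ⊓ (H.act (aW (nfY x))).eqLocus (H.act (pW (aW x) i))
  have hcy : ∀ a < 3, ∀ b < 3, meq (aW a ++ aW b) (aW b ++ aW a) = true := fun a ha => (hc a ha).1.2
  have hpow : ∀ (n : ℕ) (y : ℕ), y < 3 → ∀ u, H.act (aW y) (H.act (pW (aW x) n) u) =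
      H.act (pW (aW x) n) (H.act (aW y) u) := by
    intro n y hy
    induction n with
    | zero => intro u; rfl
    | succ n ih =>
      intro u
      rw [pW, List.replicate_succ, List.flatten_cons, H.act_append, H.act_append, ← pW, ← ih,
        ← H.act_append, H.act_eq (hcy y hy x hx), H.act_append]
  have hS'x : ∀ y < 3, ∀ u ∈ S', H.act (aW y) u ∈ S' := by
    rintro y hy u ⟨hu, hu'⟩
    refine ⟨hSx y hy u hu, ?_⟩
    show H.act (aW (nfY x)) (H.act (aW y) u) = H.act (pW (aW x) i) (H.act (aW y) u)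
    rw [← hpow i y hy, ← H.act_append, H.act_eq (hcy _ hY y hy), H.act_append]
    exact congrArg _ hu'
  obtain ⟨u, ⟨huS, huy⟩, hu1, hufp, j, hj, huz⟩ :=
    H.refine_pair (hc' _ hZ) hz3 hw₁1 hw₁fp (S := S') ⟨hw₁S, hw₁y⟩ (hS'x x hx) (hS'x _ hZ)
  obtain ⟨⟨⟨-, hY'⟩, -⟩, hj'⟩ := hx' i hi
  obtain ⟨⟨⟨hinv_i, -⟩, -⟩, -⟩ := hx' i hi
  obtain ⟨⟨⟨hinv_j, -⟩, -⟩, -⟩ := hx' j hj
  have hk : ∀ (y n : ℕ), y < 3 → H.act (aW y) u = H.act (pW (aW x) n) u →
      meq (pW (aW x) ((3 - n) % 3) ++ pW (aW x) n) [] = true → H.act (nfK x y n) u = u := by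
    intro y n hy he hinv
    rw [nfK, H.act_append, hpow _ y hy, he, ← H.act_append, H.act_eq hinv, H.act_nil]
  have hk1 := hk _ i hY huy hinv_i
  have hk2 := hk _ j hZ huz hinv_j
  obtain ⟨⟨ht, hn⟩, hb⟩ := hj' j hj
  simp only [Nat.blt_eq] at ht hn
  obtain ⟨r, hr⟩ : ∃ r, r = tClass.getD (9 * x + 3 * i + j) (0, 0, []) := ⟨_, rfl⟩
  rw [← hr] at ht hn hb
  have h0 := hb 0 (by norm_num)
  have h1 := hb 1 (by norm_num)
  have h2 := hb 2 (by norm_num)
  simp only [beq_iff_eq, show (1 : ℕ) ≠ 0 by norm_num, show (2 : ℕ) ≠ 0 by norm_num,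
    show (0 : ℕ) ≠ 2 by norm_num, show (1 : ℕ) ≠ 2 by norm_num, show (2 : ℕ) ≠ 1 by norm_num, if_true, if_false,
    ↓reduceIte, Bool.or_eq_true] at h0 h1 h2
  refine ⟨r.1, ht, r.2.1, hn, u, huS, hu1, ?_, ?_, ?_⟩
  · rw [H.act_eq h0.1, H.act_append, H.act_append, h0.2]
    simp only [pW, List.replicate_zero, List.flatten_nil, H.act_nil]
    rw [← pW, ← pW, H.act_pW_fix hk2, H.act_pW_fix hk1]
  · rw [H.act_eq h1.1, H.act_append, H.act_append, h1.2]
    simp only [pW, List.replicate_zero, List.flatten_nil, H.act_nil]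
    rw [← pW, ← pW, H.act_pW_fix hk2, H.act_pW_fix hk1]
  · have hcm : ∀ n y, y < 3 → ∀ m v, H.act (nfK x y n) v = v →
        H.act (nfK x y n) (H.act (pW (aW x) m) v) = H.act (pW (aW x) m) v := by
      intro n y hy m v e
      conv_rhs => rw [← e]
      rw [nfK, H.act_append, H.act_append, ← hpow m y hy]
      congr 1
      rw [← H.act_append, ← H.act_append, pW, pW, ← List.flatten_append, ← List.flatten_append,
        List.replicate_append_replicate, List.replicate_append_replicate, Nat.add_comm]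
    have hM : ∀ v, H.Fp (aW x) v → H.act (nfK x (nfY x) i) v = v → H.act (nfK x (nfZ x) j) v = v →
        H.act (mc r.1 r.2.1) v = H.act (pW (aW x) (r.2.2.getD 2 (0, 0, 0)).2.2) v := by
      intro v _ e1 e2
      rw [H.act_eq h2.1, H.act_append, H.act_append]
      rw [H.act_pW_fix (hcm j _ hZ _ v e2), H.act_pW_fix (hcm i _ hY _ v e1)]
    rw [Fp, H.act_append, hM u hufp hk1 hk2]
    rcases h2.2 with e | e
    · rw [e, show pW (aW x) 1 = aW x by simp [pW]]
      rw [hM _ (H.fp_act (by rw [meq, Bool.or_eq_true]; exact Or.inl (beq_self_eq_true _)) hufp)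
        (by have := hcm i _ hY 1 u hk1; rwa [show pW (aW x) 1 = aW x by simp [pW]] at this)
        (by have := hcm j _ hZ 1 u hk2; rwa [show pW (aW x) 1 = aW x by simp [pW]] at this), e,
        show pW (aW x) 1 = aW x by simp [pW], ← H.act_append]
      exact hufp
    · rw [e, hM _ (by
          rw [show pW (aW x) 2 = aW x ++ aW x by simp [pW], H.act_append]
          exact H.fp_act (by rw [meq, Bool.or_eq_true]; exact Or.inl (beq_self_eq_true _))
            (H.fp_act (by rw [meq, Bool.or_eq_true]; exact Or.inl (beq_self_eq_true _)) hufp))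
        (hcm i _ hY 2 u hk1) (hcm j _ hZ 2 u hk2), e, show pW (aW x) 2 = aW x ++ aW x by simp [pW],
        ← H.act_append, List.append_assoc, H.act_append (aW x) (aW x ++ (aW x ++ aW x)), H.act_eq hx3,
        H.act_nil, mul_right_comm]
      exact hufp

end Hyp

end Cfsg.Lib.U62Type
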