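import Cfsg.Agent.Lib.U62Type.OuterChecks

/-!
# Lists for a centraliser whose 2-core has centre of order four
-/

set_option autoImplicit false
set_option maxRecDepth 10000

namespace Cfsg.Lib.U62Type

/-- The fixed vectors of a code. -/
def fxL (c : ℕ) : List ℕ := vecs.filter fun v => ap c v == v

/-- The codes commuting with the standard inner involution. -/
def fullL (C : Cfg) (k : ℕ) (j : ℕ) : List ℕ := ceL C.gens j ++ (ceL C.gens j).map (cm (oC C k))

/-- The involutions among them. -/
def parL (C : Cfg) (k : ℕ) (j : ℕ) : List ℕ := (fullL C k j).filter fun c => cm c c == idc && !(c == idc)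

/-- The outer involutions among them. -/
def parOut (C : Cfg) (k : ℕ) (j : ℕ) : List ℕ :=
  ((ceL C.gens j).map (cm (oC C k))).filter fun c => cm c c == idc && !(c == idc)

/-- The outer involution commutes with the standard inner ones. -/
def commStdChk (C : Cfg) : Bool :=
  (outL C).all fun k => (List.range 2).all fun j => cm (oC C k) (xC C.gens j) == cm (xC C.gens j) (oC C k)

/-- Fixed vectors of the standard involutions: their perps, and a generating set. -/
def fixSpanChk (C : Cfg) (j : ℕ) : Bool :=
  let x := xC C.gens j
  let F := fxL x
  let R := rL C j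
  let D := (R ++ ((ceL C.gens j).take 16).flatMap fun e => F.map fun v => ap e v ^^^ v).eraseDups
  Nat.ble F.length 64 &&
    F.all (fun v => (planeL C).any fun p => D.any fun a => D.any fun b => Nat.beq v (p ^^^ a ^^^ b)) &&
    vecs.all (fun v => F.any (fun f => Nat.beq (cform C v f) 1) || R.contains v)

/-- The form is nondegenerate, and the perp of a singular vector is a hyperplane that is not isotropic. -/
def perpPairChk (C : Cfg) : Bool :=
  vecs.all fun v => Nat.beq v 0 || (vecs.any (fun u => Nat.beq (cform C v u) 1) &&
    (Nat.beq (C.q v) 1 ||
      let P := vecs.filter fun u => Nat.beq (cform C u v) 0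
      Nat.beq P.length 128 && P.any fun u => P.any fun w => Nat.beq (cform C u w) 1))

/-- A singular vector in the range is moved by a square in the centraliser. -/
def moveChk (C : Cfg) (j : ℕ) : Bool :=
  (rL C j).all fun r => Nat.beq r 0 || Nat.beq (C.q r) 1 ||
    Nat.blt ((fxL (xC C.gens j)).filter fun v => Nat.beq (cform C v r) 0).length 64 ||
    (rL C j).any (fun a => Nat.beq (C.q a) 1 && Nat.beq (ap (xC C.gens j) a) a && Nat.beq (cform C a r) 0) ||
    (ceL C.gens j).any fun e => !(Nat.beq (ap (cm e e) r) r) && Nat.beq (cform C r (ap (cm e e) r)) 0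

/-- An outer involution with totally singular fixed space. -/
def swapChk (C : Cfg) : Bool :=
  (outL C).all fun k => (List.range 2).all fun j => (parOut C k j).all fun p =>
    let F := fxL p
    F.any (fun a => F.any fun b => Nat.beq (C.q (a ^^^ b)) 1) ||
      (Nat.beq F.length 16 && F.all (fun v => vecs.any fun u => Nat.beq (ap p u ^^^ u) v) &&
        (invL C).all fun e => !(cm e p == cm p e) || F.any fun v => !(Nat.beq (ap e v) v))

/-- Transvections: nothing else fixes half. -/
def uThickChk (C : Cfg) : Bool :=
  (outL C).all fun k => (parL C k 0).all fun c =>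
    c == xC C.gens 0 || Nat.blt ((cvL C 0).filter fun v => Nat.beq (ap c v) v).length 32

/-- An outer involution and a partner. -/
def uOuterChk (C : Cfg) : Bool :=
  (outL C).all fun k => (List.range 2).all fun j => (parOut C k j).all fun p =>
    let F := fxL p
    let n := (F.filter fun v => Nat.beq (C.q v) 0).length
    F.all (fun v => vecs.any fun u => Nat.beq (ap p u ^^^ u) v) &&
      [xC C.gens j, cm (xC C.gens j) p].all fun c =>
        F.any (fun v => Nat.beq (C.q v) 0 && !(Nat.beq (ap c v) v)) || Nat.blt (4 * n) (fxL c).length ||
          vecs.any fun u =>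
            let r := ap c u ^^^ u
            let inK := Nat.beq (ap p r) r && Nat.beq (C.q r) 0
            (Nat.beq (C.q r) 0 && !inK) || (Nat.beq (C.q r) 1 && inK)

/-- An outer involution fixes no big totally singular space. -/
def tsChk (C : Cfg) : Bool :=
  (outL C).all fun k => (List.range 2).all fun j => (parOut C k j).all fun p =>
    let x := xC C.gens j
    let W := (fxL p).filter fun v => Nat.beq (C.q v) 0 && Nat.beq (ap x v) v
    let m := max (fxL x).length (fxL (cm x p)).length
    Nat.blt (4 * W.length) m || (Nat.beq (4 * W.length) m && W.any fun a => W.any fun b => Nat.beq (C.q (a ^^^ b)) 1)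

/-- A vector of the plane with nonzero form fixed by everything. -/
def rVecChk (C : Cfg) : Bool :=
  (outL C).all fun k => (planeL C).any fun r => Nat.beq (C.q r) 1 && Nat.beq (ap (oC C k) r) r

/-- Roots fixing half, and the triples. -/
def planeTripleChk (C : Cfg) : Bool :=
  (outL C).all fun k => (List.range 2).all fun j =>
    let x := xC C.gens j
    let F := cvL C j
    let big := (fullL C k j).filter fun e => Nat.ble 32 (F.filter fun v => ap e v == v).length
    if (planeL C).all fun v => Nat.beq (ap (oC C k) v) v then
      let P := (parL C k j).filter fun c => !(c == x)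
      big.all fun a => big.all fun b => !(cm a b == cm x (cm b a)) || P.all fun c =>
        !(cm c a == cm a c) || !(cm c b == cm b c) ||
          Nat.blt ((F.filter fun v => ap a v == v && ap b v == v && ap c v == v)).length 32
    else big.all fun e => !(cm e e == x)

end Cfsg.Lib.U62Type
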