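import Cfsg.Agent.Lib.U62Type.Group
import Cfsg.Agent.Lib.U62Type.FourChecks
import Cfsg.Agent.Lib.U62Type.OuterSetup

/-!
# A 2-core with centre of order four and derived group of order two
-/

set_option autoImplicit false
set_option linter.unusedSectionVars false
set_option linter.style.haveILetI false

namespace Cfsg.Lib.U62Type

/-- Coordinates on the centre quotient of a product of an extraspecial group and a group of order two. -/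
structure Quad {G : Type*} [Group G] (C : Cfg) (z a : G) where
  J : Subgroup G
  z2 : z * z = 1
  z1 : z ≠ 1
  a2 : a * a = 1
  a1 : a ≠ 1
  az : a ≠ z
  zJ : z ∈ J
  aJ : a ∈ J
  cz : ∀ j ∈ J, Commute j z
  ca : ∀ j ∈ J, Commute j a
  norm : ∀ h, Commute h z → ∀ j ∈ J, h * j * h⁻¹ ∈ J
  sq : ∀ j ∈ J, j * j = 1 ∨ j * j = z
  cmt : ∀ j ∈ J, ∀ k ∈ J, j * k * j⁻¹ * k⁻¹ = 1 ∨ j * k * j⁻¹ * k⁻¹ = z
  vc : G → ℕ
  κ : G → ℕ
  std : C ∈ [cfgU, cfgP, cfgM]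
  vc_lt : ∀ j, vc j < 256
  vc_mul : ∀ j ∈ J, ∀ k ∈ J, vc (j * k) = vc j ^^^ vc k
  vc_zero : ∀ j ∈ J, vc j = 0 → j = 1 ∨ j = z ∨ j = a ∨ j = a * z
  vc_z : vc z = 0
  vc_a : vc a = 0
  vc_surj : ∀ v < 256, ∃ j ∈ J, vc j = v
  sqf : ∀ j ∈ J, j * j = if C.q (vc j) = 1 then z else 1
  κ_lt : ∀ h, κ h < 2 ^ 64
  act : ∀ h, Commute h z → ∀ j ∈ J, vc (h * j * h⁻¹) = ap (κ h) (vc j)
  ker : ∀ h, Commute h z → κ h = idc → h ∈ J
  gens : ∀ i < 4, ∃ h, Commute h z ∧ κ h = C.gens.getD i 0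
  a_move : ∀ h, Commute h z → h * a * h⁻¹ = a ∨ h * a * h⁻¹ = a * z
  a_fix : ∀ h, Commute h z → WordCode C.gens (κ h) → Commute h a
  index : ∀ g h, Commute g z → Commute h z → ¬ WordCode C.gens (κ g) → ¬ WordCode C.gens (κ h) →
    WordCode C.gens (κ (g * h))
  cov : ∀ k < 2, ∀ c, WordCode C.gens c → cm (xC C.gens k) c = cm c (xC C.gens k) → c ∈ ceL C.gens k
  invol : ∀ c, WordCode C.gens c → cm c c = idc → c ≠ idc →
    c ∈ invL C ∧ ∃ k < 2, ∃ e, WordCode C.gens e ∧ cm e c = cm (xC C.gens k) e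
  out : ∃ k ∈ outL C, ∃ s, Commute s z ∧ κ s = oC C k ∧ ¬ WordCode C.gens (oC C k)
  neA : ∀ g : G, g * z * g⁻¹ ≠ a
  neB : ∀ g : G, g * z * g⁻¹ ≠ a * z

namespace Quad

variable {G : Type*} [Group G] {C : Cfg} {z a : G} (Q : Quad C z a)

/-- The centre. -/
def Zc (_Q : Quad C z a) (j : G) : Prop := j = 1 ∨ j = z ∨ j = a ∨ j = a * z

include Q in
theorem z_inv : z⁻¹ = z := inv_eq_of_mul_eq_one_right Q.z2

include Q in
theorem a_inv : a⁻¹ = a := inv_eq_of_mul_eq_one_right Q.a2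

include Q in
theorem za : Commute z a := (Q.cz a Q.aJ).symm

theorem azJ : a * z ∈ Q.J := mul_mem Q.aJ Q.zJ

include Q in
theorem az2 : a * z * (a * z) = 1 := by rw [Q.za.mul_mul_mul_comm, Q.a2, Q.z2, one_mul]

include Q in
theorem az_z : a * z * z = a := by rw [mul_assoc, Q.z2, mul_one]

include Q in
theorem az1 : a * z ≠ 1 := fun e => Q.az (by rw [← Q.az_z, e, one_mul])

include Q in
theorem az_ne : a * z ≠ z := fun e => Q.a1 (mul_eq_right.1 e)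

theorem az_comm {j : G} (hj : j ∈ Q.J) : Commute j (a * z) := (Q.ca j hj).mul_right (Q.cz j hj)

theorem zc_mem {j : G} (h : Q.Zc j) : j ∈ Q.J := by
  rcases h with rfl | rfl | rfl | rfl
  exacts [one_mem _, Q.zJ, Q.aJ, Q.azJ]

theorem zc_comm {j k : G} (h : Q.Zc j) (hk : k ∈ Q.J) : Commute j k := by
  rcases h with rfl | rfl | rfl | rfl
  exacts [Commute.one_left k, (Q.cz k hk).symm, (Q.ca k hk).symm, (Q.az_comm hk).symm]

theorem zc_sq {j : G} (h : Q.Zc j) : j * j = 1 := by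
  rcases h with rfl | rfl | rfl | rfl
  exacts [one_mul 1, Q.z2, Q.a2, Q.az2]

theorem zc_vc {j : G} (h : Q.Zc j) : Q.vc j = 0 := by
  have h1 : Q.vc 1 = 0 := by
    have h := Q.vc_mul 1 (one_mem _) 1 (one_mem _)
    rwa [one_mul, Nat.xor_self] at h
  rcases h with rfl | rfl | rfl | rfl
  exacts [h1, Q.vc_z, Q.vc_a, by rw [Q.vc_mul a Q.aJ z Q.zJ, Q.vc_a, Q.vc_z, Nat.xor_self]]

theorem vc_one : Q.vc 1 = 0 := Q.zc_vc (Or.inl rfl)

theorem vc_inv {j : G} (hj : j ∈ Q.J) : Q.vc j⁻¹ = Q.vc j := by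
  have h := Q.vc_mul j hj _ (inv_mem hj)
  rw [mul_inv_cancel, Q.vc_one] at h
  exact (Nat.xor_eq_zero_iff.1 h.symm).symm

theorem vc_mul_zc {j y : G} (hj : j ∈ Q.J) (hy : Q.Zc y) : Q.vc (j * y) = Q.vc j := by
  rw [Q.vc_mul j hj y (Q.zc_mem hy), Q.zc_vc hy, Nat.xor_zero]

theorem vc_eq {j k : G} (hj : j ∈ Q.J) (hk : k ∈ Q.J) (h : Q.vc j = Q.vc k) : Q.Zc (j⁻¹ * k) :=
  Q.vc_zero _ (mul_mem (inv_mem hj) hk) (by rw [Q.vc_mul _ (inv_mem hj) _ hk, Q.vc_inv hj, h, Nat.xor_self])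

theorem zc_mul {x y : G} (hx : Q.Zc x) (hy : Q.Zc y) : Q.Zc (x * y) := by
  refine Q.vc_zero _ (mul_mem (Q.zc_mem hx) (Q.zc_mem hy)) ?_
  rw [Q.vc_mul_zc (Q.zc_mem hx) hy, Q.zc_vc hx]

theorem vc_conjJ {j k : G} (hj : j ∈ Q.J) (hk : k ∈ Q.J) : Q.vc (k * j * k⁻¹) = Q.vc j := by
  rw [Q.vc_mul _ (mul_mem hk hj) _ (inv_mem hk), Q.vc_mul _ hk _ hj, Q.vc_inv hk, Nat.xor_comm (Q.vc k),
    Nat.xor_assoc, Nat.xor_self, Nat.xor_zero]

theorem κ_mul {h k : G} (hh : Commute h z) (hk : Commute k z) : Q.κ (h * k) = cm (Q.κ h) (Q.κ k) := by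
  refine code_ext (Q.κ_lt _) (cm_lt _ _) fun v hv => ?_
  obtain ⟨j, hj, rfl⟩ := Q.vc_surj v hv
  rw [← Q.act _ (hh.mul_left hk) j hj, ap_cm, ← Q.act k hk j hj, ← Q.act h hh _ (Q.norm k hk j hj)]
  congr 1
  group

theorem κ_mem {j : G} (hj : j ∈ Q.J) : Q.κ j = idc := by
  refine code_ext (Q.κ_lt _) idc_lt fun v hv => ?_
  obtain ⟨k, hk, rfl⟩ := Q.vc_surj v hv
  rw [← Q.act j (Q.cz j hj) k hk, ap_idc hv, Q.vc_conjJ hk hj]

theorem κ_one : Q.κ 1 = idc := Q.κ_mem (one_mem _)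

theorem κ_inv {h : G} (hh : Commute h z) : cm (Q.κ h) (Q.κ h⁻¹) = idc ∧ cm (Q.κ h⁻¹) (Q.κ h) = idc := by
  rw [← Q.κ_mul hh hh.inv_left, ← Q.κ_mul hh.inv_left hh, mul_inv_cancel, inv_mul_cancel, Q.κ_one]
  exact ⟨rfl, rfl⟩

theorem κ_Jmul {h j : G} (hh : Commute h z) (hj : j ∈ Q.J) : Q.κ (j * h) = Q.κ h := by
  rw [Q.κ_mul (Q.cz j hj) hh, Q.κ_mem hj, idc_cm (Q.κ_lt _)]

theorem κ_mulJ {h j : G} (hh : Commute h z) (hj : j ∈ Q.J) : Q.κ (h * j) = Q.κ h := by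
  rw [Q.κ_mul hh (Q.cz j hj), Q.κ_mem hj, cm_idc (Q.κ_lt _)]

theorem κ_comm {g h : G} (hg : Commute g z) (hh : Commute h z) (e : Commute g h) :
    cm (Q.κ g) (Q.κ h) = cm (Q.κ h) (Q.κ g) := by
  rw [← Q.κ_mul hg hh, ← Q.κ_mul hh hg, e.eq]

theorem κ_invol {h : G} (hh : Commute h z) (h2 : h * h = 1) : cm (Q.κ h) (Q.κ h) = idc := by
  rw [← Q.κ_mul hh hh, h2, Q.κ_one]

theorem κ_eq_iff {h k : G} (hh : Commute h z) (hk : Commute k z) : Q.κ h = Q.κ k ↔ h⁻¹ * k ∈ Q.J := by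
  constructor
  · intro e
    refine Q.ker _ (hh.inv_left.mul_left hk) ?_
    rw [Q.κ_mul hh.inv_left hk, ← e, (Q.κ_inv hh).2]
  · intro e
    conv_rhs => rw [← mul_inv_cancel_left h k]
    rw [Q.κ_mulJ hh e]

theorem κ_conj {h x : G} (hh : Commute h z) (hx : Commute x z) :
    Q.κ (h * x * h⁻¹) = cm (cm (Q.κ h) (Q.κ x)) (Q.κ h⁻¹) := by
  rw [Q.κ_mul (hh.mul_left hx) hh.inv_left, Q.κ_mul hh hx]

theorem κ_conj_fix {h x : G} (hh : Commute h z) (hx : Commute x z) :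
    Q.κ (h * x * h⁻¹) = Q.κ x ↔ cm (Q.κ h) (Q.κ x) = cm (Q.κ x) (Q.κ h) := by
  rw [Q.κ_conj hh hx]
  constructor <;> intro e
  · conv_rhs => rw [← e]
    rw [cm_assoc, cm_assoc, (Q.κ_inv hh).2, cm_idc (Q.κ_lt _)]
  · rw [e, cm_assoc, (Q.κ_inv hh).1, cm_idc (Q.κ_lt _)]

/-- Inner elements. -/
def Inn (h : G) : Prop := Commute h z ∧ WordCode C.gens (Q.κ h)

theorem inn_J {j : G} (hj : j ∈ Q.J) : Q.Inn j := ⟨Q.cz j hj, by rw [Q.κ_mem hj]; exact wordCode_idc _⟩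

theorem inn_comm {h : G} (hi : Q.Inn h) : Commute h a := Q.a_fix h hi.1 hi.2

theorem inn_commB {h : G} (hi : Q.Inn h) : Commute h (a * z) := (Q.inn_comm hi).mul_right hi.1

theorem inn_mul {g h : G} (hg : Q.Inn g) (hh : Q.Inn h) : Q.Inn (g * h) :=
  ⟨hg.1.mul_left hh.1, by rw [Q.κ_mul hg.1 hh.1]; exact hg.2.mul hh.2⟩

theorem inn_sq {h : G} (hh : Commute h z) : Q.Inn (h * h) := by
  by_cases hi : Q.Inn h
  · exact Q.inn_mul hi hi
  · have hn : ¬ WordCode C.gens (Q.κ h) := fun w => hi ⟨hh, w⟩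
    exact ⟨hh.mul_left hh, Q.index h h hh hh hn hn⟩

theorem inn_inv {h : G} (hi : Q.Inn h) : Q.Inn h⁻¹ := by
  refine ⟨hi.1.inv_left, ?_⟩
  by_contra hn
  have := Q.index h⁻¹ h⁻¹ hi.1.inv_left hi.1.inv_left hn hn
  have h2 := Q.inn_mul hi ⟨hi.1.inv_left.mul_left hi.1.inv_left, this⟩
  rw [show h * (h⁻¹ * h⁻¹) = h⁻¹ by group] at h2
  exact hn h2.2

/-- Fixing `a` up to the centre, exactly as inner elements do. -/
theorem lift_word (w : List ℕ) (hw : ∀ i ∈ w, i < 4) : ∃ g, Commute g z ∧ Q.κ g = cw C.gens w := by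
  induction w with
  | nil => exact ⟨1, Commute.one_left z, by rw [cw_nil, Q.κ_one]⟩
  | cons i w ih =>
    obtain ⟨g, hg, he⟩ := ih fun j hj => hw j (List.mem_cons_of_mem _ hj)
    obtain ⟨h, hh, hhe⟩ := Q.gens i (hw i List.mem_cons_self)
    exact ⟨h * g, hh.mul_left hg, by rw [Q.κ_mul hh hg, hhe, he, cw_cons]⟩

theorem lift_code {c : ℕ} (h : WordCode C.gens c) : ∃ g, Q.Inn g ∧ Q.κ g = c := by
  obtain ⟨w, hw, rfl⟩ := h
  obtain ⟨g, hg, he⟩ := Q.lift_word w hw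
  exact ⟨g, ⟨hg, w, hw, he⟩, he⟩

include Q in
theorem q_lt {v : ℕ} (hv : v < 256) : C.q v < 2 := by
  have h := Q.std
  simp only [List.mem_cons, List.not_mem_nil, or_false] at h
  exact q_lt_two Q.std hv

theorem q_of_sq {j : G} (hj : j ∈ Q.J) (h : j * j = 1) : C.q (Q.vc j) = 0 := by
  have := Q.q_lt (Q.vc_lt j)
  have h' := Q.sqf j hj
  rw [h] at h'
  by_contra hne
  rw [if_pos (show C.q (Q.vc j) = 1 by omega)] at h'
  exact Q.z1 h'.symm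

theorem sq_one {j : G} (hj : j ∈ Q.J) (h : C.q (Q.vc j) = 0) : j * j = 1 := by
  rw [Q.sqf j hj, if_neg (by rw [h]; norm_num)]

theorem sq_z {j : G} (hj : j ∈ Q.J) (h : C.q (Q.vc j) = 1) : j * j = z := by rw [Q.sqf j hj, if_pos h]

theorem q_act {h : G} (hh : Commute h z) {v : ℕ} (hv : v < 256) : C.q (ap (Q.κ h) v) = C.q v := by
  obtain ⟨j, hj, rfl⟩ := Q.vc_surj v hv
  rw [← Q.act h hh j hj]
  have hj' := Q.norm h hh j hj
  have e : h * j * h⁻¹ * (h * j * h⁻¹) = h * (j * j) * h⁻¹ := by group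
  rcases Q.sq j hj with s | s
  · rw [Q.q_of_sq hj s, Q.q_of_sq hj' (by rw [e, s, mul_one, mul_inv_cancel])]
  · have hl := Q.q_lt (Q.vc_lt j)
    have hl' := Q.q_lt (Q.vc_lt (h * j * h⁻¹))
    by_contra hne
    rcases (show C.q (Q.vc j) = 0 ∨ C.q (Q.vc j) = 1 by omega) with x | x
    · exact Q.z1 (s.symm.trans (Q.sq_one hj x))
    · have : C.q (Q.vc (h * j * h⁻¹)) = 0 := by omega
      have h1 := Q.sq_one hj' this
      rw [e, s, mul_inv_eq_iff_eq_mul.2 hh.eq] at h1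
      exact Q.z1 h1

theorem comm_iff {j k : G} (hj : j ∈ Q.J) (hk : k ∈ Q.J) :
    Commute j k ↔ cform C (Q.vc j) (Q.vc k) = 0 := by
  obtain ⟨c, hc⟩ : ∃ c, c = j * k * j⁻¹ * k⁻¹ := ⟨_, rfl⟩
  have hjk : j * k = c * (k * j) := by rw [hc]; group
  have e : j * k * (j * k) = c * (j * j * (k * k)) := by
    have h1 : j * k * (j * k) = j * (k * j) * k := by simp only [mul_assoc]
    have h2 : k * j = c⁻¹ * (j * k) := by rw [hjk]; group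
    rcases Q.cmt j hj k hk with d | d <;> rw [← hc] at d
    · rw [h1, h2, d]; group
    · rw [h1, h2, d, Q.z_inv, ← mul_assoc j z, (Q.cz j hj).eq, ← mul_assoc z, ← mul_assoc z]
      simp only [mul_assoc]
  have hq1 := Q.sqf j hj
  have hq2 := Q.sqf k hk
  have hq3 := Q.sqf _ (mul_mem hj hk)
  rw [e, hq1, hq2, Q.vc_mul j hj k hk] at hq3
  have l1 := Q.q_lt (Q.vc_lt j)
  have l2 := Q.q_lt (Q.vc_lt k)
  have l3 := Q.q_lt (xor_lt (Q.vc_lt j) (Q.vc_lt k))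
  have hc' : Commute j k ↔ c = 1 := by
    rw [hc, mul_inv_eq_one, mul_inv_eq_iff_eq_mul]
    exact Iff.rfl
  rw [hc']
  rcases Q.cmt j hj k hk with d | d <;> rw [← hc] at d <;> rw [d] at hq3 ⊢ <;>
    rcases (show C.q (Q.vc j) = 0 ∨ C.q (Q.vc j) = 1 by omega) with x | x <;>
    rcases (show C.q (Q.vc k) = 0 ∨ C.q (Q.vc k) = 1 by omega) with y | y <;>
    rcases (show C.q (Q.vc j ^^^ Q.vc k) = 0 ∨ C.q (Q.vc j ^^^ Q.vc k) = 1 by omega) with w | w <;>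
    simp [cform, x, y, w, Q.z1, Ne.symm Q.z1, Q.z2] at hq3 ⊢

/-- The same with the other element of the centre. -/
def other : Quad C z (a * z) where
  J := Q.J
  z2 := Q.z2
  z1 := Q.z1
  a2 := Q.az2
  a1 := Q.az1
  az := Q.az_ne
  zJ := Q.zJ
  aJ := Q.azJ
  cz := Q.cz
  ca := fun _ hj => Q.az_comm hj
  norm := Q.norm
  sq := Q.sq
  cmt := Q.cmt
  vc := Q.vc
  κ := Q.κ
  std := Q.std
  vc_lt := Q.vc_lt
  vc_mul := Q.vc_mul
  vc_zero := fun j hj h => by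
    rw [Q.az_z]
    rcases Q.vc_zero j hj h with e | e | e | e
    exacts [Or.inl e, Or.inr (Or.inl e), Or.inr (Or.inr (Or.inr e)), Or.inr (Or.inr (Or.inl e))]
  vc_z := Q.vc_z
  vc_a := Q.zc_vc (Or.inr (Or.inr (Or.inr rfl)))
  vc_surj := Q.vc_surj
  sqf := Q.sqf
  κ_lt := Q.κ_lt
  act := Q.act
  ker := Q.ker
  gens := Q.gens
  a_move := fun h hh => by
    rcases Q.a_move h hh with e | e
    · left
      rw [show h * (a * z) * h⁻¹ = h * a * h⁻¹ * (h * z * h⁻¹) by group, e, mul_inv_eq_iff_eq_mul.2 hh.eq]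
    · right
      rw [show h * (a * z) * h⁻¹ = h * a * h⁻¹ * (h * z * h⁻¹) by group, e, mul_inv_eq_iff_eq_mul.2 hh.eq]
  a_fix := fun h hh hw => (Q.a_fix h hh hw).mul_right hh
  index := Q.index
  cov := Q.cov
  invol := Q.invol
  out := Q.out
  neA := Q.neB
  neB := fun g => by rw [Q.az_z]; exact Q.neA g

/-- At a conjugate. -/
def conj (g : G) : Quad C (g * z * g⁻¹) (g * a * g⁻¹) where
  J := Q.J.map (MulAut.conj g).toMonoidHom
  z2 := by rw [show g * z * g⁻¹ * (g * z * g⁻¹) = g * (z * z) * g⁻¹ by group, Q.z2, mul_one, mul_inv_cancel]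
  z1 := fun e => Q.z1 (conj_eq_one_iff.1 e)
  a2 := by rw [show g * a * g⁻¹ * (g * a * g⁻¹) = g * (a * a) * g⁻¹ by group, Q.a2, mul_one, mul_inv_cancel]
  a1 := fun e => Q.a1 (conj_eq_one_iff.1 e)
  az := fun e => Q.az (mul_left_cancel (mul_right_cancel e))
  zJ := ⟨z, Q.zJ, rfl⟩
  aJ := ⟨a, Q.aJ, rfl⟩
  cz := by rintro _ ⟨j, hj, rfl⟩; exact (Commute.conj_iff g).2 (Q.cz j hj)
  ca := by rintro _ ⟨j, hj, rfl⟩; exact (Commute.conj_iff g).2 (Q.ca j hj)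
  norm := by
    rintro h hh _ ⟨j, hj, rfl⟩
    refine ⟨g⁻¹ * h * g * j * (g⁻¹ * h * g)⁻¹, Q.norm _ ?_ j hj, ?_⟩
    · have := (Commute.conj_iff g⁻¹).2 hh
      simpa [mul_assoc] using this
    · show g * (g⁻¹ * h * g * j * (g⁻¹ * h * g)⁻¹) * g⁻¹ = h * (g * j * g⁻¹) * h⁻¹
      group
  sq := by
    rintro _ ⟨j, hj, rfl⟩
    show g * j * g⁻¹ * (g * j * g⁻¹) = 1 ∨ g * j * g⁻¹ * (g * j * g⁻¹) = g * z * g⁻¹
    rw [show g * j * g⁻¹ * (g * j * g⁻¹) = g * (j * j) * g⁻¹ by group]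
    rcases Q.sq j hj with e | e <;> rw [e] <;> simp
  cmt := by
    rintro _ ⟨j, hj, rfl⟩ _ ⟨k, hk, rfl⟩
    show g * j * g⁻¹ * (g * k * g⁻¹) * (g * j * g⁻¹)⁻¹ * (g * k * g⁻¹)⁻¹ = 1 ∨ _ = g * z * g⁻¹
    rcases Q.cmt j hj k hk with e | e
    · left
      rw [show g * j * g⁻¹ * (g * k * g⁻¹) * (g * j * g⁻¹)⁻¹ * (g * k * g⁻¹)⁻¹ = g * (j * k * j⁻¹ * k⁻¹) * g⁻¹ by
        group, e]
      simp
    · right
      show g * j * g⁻¹ * (g * k * g⁻¹) * (g * j * g⁻¹)⁻¹ * (g * k * g⁻¹)⁻¹ = g * z * g⁻¹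
      rw [← e]; group
  vc := fun x => Q.vc (g⁻¹ * x * g)
  κ := fun x => Q.κ (g⁻¹ * x * g)
  std := Q.std
  vc_lt := fun _ => Q.vc_lt _
  vc_mul := by
    rintro _ ⟨j, hj, rfl⟩ _ ⟨k, hk, rfl⟩
    show Q.vc (g⁻¹ * (g * j * g⁻¹ * (g * k * g⁻¹)) * g) = Q.vc (g⁻¹ * (g * j * g⁻¹) * g) ^^^ Q.vc (g⁻¹ * (g * k * g⁻¹) * g)
    rw [show g⁻¹ * (g * j * g⁻¹ * (g * k * g⁻¹)) * g = j * k by group,
      show g⁻¹ * (g * j * g⁻¹) * g = j by group, show g⁻¹ * (g * k * g⁻¹) * g = k by group]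
    exact Q.vc_mul j hj k hk
  vc_zero := by
    rintro _ ⟨j, hj, rfl⟩ h
    replace h : Q.vc (g⁻¹ * (g * j * g⁻¹) * g) = 0 := h
    rw [show g⁻¹ * (g * j * g⁻¹) * g = j by group] at h
    show g * j * g⁻¹ = 1 ∨ g * j * g⁻¹ = g * z * g⁻¹ ∨ g * j * g⁻¹ = g * a * g⁻¹ ∨
      g * j * g⁻¹ = g * a * g⁻¹ * (g * z * g⁻¹)
    rcases Q.vc_zero j hj h with e | e | e | e <;> rw [e]
    · exact Or.inl (by group)
    · exact Or.inr (Or.inl rfl)
    · exact Or.inr (Or.inr (Or.inl rfl))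
    · exact Or.inr (Or.inr (Or.inr (by group)))
  vc_z := by show Q.vc _ = 0; rw [show g⁻¹ * (g * z * g⁻¹) * g = z by group]; exact Q.vc_z
  vc_a := by show Q.vc _ = 0; rw [show g⁻¹ * (g * a * g⁻¹) * g = a by group]; exact Q.vc_a
  vc_surj := fun v hv => by
    obtain ⟨j, hj, rfl⟩ := Q.vc_surj v hv
    exact ⟨g * j * g⁻¹, ⟨j, hj, rfl⟩, by show Q.vc _ = _; rw [show g⁻¹ * (g * j * g⁻¹) * g = j by group]⟩
  sqf := by
    rintro _ ⟨j, hj, rfl⟩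
    show g * j * g⁻¹ * (g * j * g⁻¹) = if C.q (Q.vc (g⁻¹ * (g * j * g⁻¹) * g)) = 1 then g * z * g⁻¹ else 1
    rw [show g⁻¹ * (g * j * g⁻¹) * g = j by group,
      show g * j * g⁻¹ * (g * j * g⁻¹) = g * (j * j) * g⁻¹ by group, Q.sqf j hj]
    split <;> simp
  κ_lt := fun _ => Q.κ_lt _
  act := by
    rintro h hh _ ⟨j, hj, rfl⟩
    show Q.vc (g⁻¹ * (h * (g * j * g⁻¹) * h⁻¹) * g) = ap (Q.κ (g⁻¹ * h * g)) (Q.vc (g⁻¹ * (g * j * g⁻¹) * g))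
    rw [show g⁻¹ * (g * j * g⁻¹) * g = j by group,
      show g⁻¹ * (h * (g * j * g⁻¹) * h⁻¹) * g = g⁻¹ * h * g * j * (g⁻¹ * h * g)⁻¹ by group]
    refine Q.act _ ?_ j hj
    have := (Commute.conj_iff g⁻¹).2 hh
    simpa [mul_assoc] using this
  ker := fun h hh e => by
    refine ⟨g⁻¹ * h * g, Q.ker _ ?_ e, by show g * _ * g⁻¹ = h; group⟩
    have := (Commute.conj_iff g⁻¹).2 hh
    simpa [mul_assoc] using this
  gens := fun i hi => by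
    obtain ⟨h, hh, he⟩ := Q.gens i hi
    exact ⟨g * h * g⁻¹, (Commute.conj_iff g).2 hh, by
      show Q.κ _ = _; rw [show g⁻¹ * (g * h * g⁻¹) * g = h by group]; exact he⟩
  a_move := fun h hh => by
    have hh' : Commute (g⁻¹ * h * g) z := by simpa [mul_assoc] using (Commute.conj_iff g⁻¹).2 hh
    rcases Q.a_move _ hh' with e | e
    · left
      rw [show h * (g * a * g⁻¹) * h⁻¹ = g * (g⁻¹ * h * g * a * (g⁻¹ * h * g)⁻¹) * g⁻¹ by group, e]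
    · right
      rw [show h * (g * a * g⁻¹) * h⁻¹ = g * (g⁻¹ * h * g * a * (g⁻¹ * h * g)⁻¹) * g⁻¹ by group, e]; group
  a_fix := fun h hh hw => by
    have hh' : Commute (g⁻¹ * h * g) z := by simpa [mul_assoc] using (Commute.conj_iff g⁻¹).2 hh
    have := (Commute.conj_iff g).2 (Q.a_fix _ hh' hw)
    simpa [mul_assoc] using this
  index := fun x y hx hy nx ny => by
    show WordCode C.gens (Q.κ (g⁻¹ * (x * y) * g))
    rw [show g⁻¹ * (x * y) * g = g⁻¹ * x * g * (g⁻¹ * y * g) by group]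
    refine Q.index _ _ ?_ ?_ nx ny
    · simpa [mul_assoc] using (Commute.conj_iff g⁻¹).2 hx
    · simpa [mul_assoc] using (Commute.conj_iff g⁻¹).2 hy
  cov := Q.cov
  invol := Q.invol
  out := by
    obtain ⟨k, hk, s, hs, he, hn⟩ := Q.out
    exact ⟨k, hk, g * s * g⁻¹, (Commute.conj_iff g).2 hs, by
      show Q.κ _ = _; rw [show g⁻¹ * (g * s * g⁻¹) * g = s by group]; exact he, hn⟩
  neA := fun x e => Q.neA (g⁻¹ * (x * g)) (by
    apply mul_left_cancel (a := g); apply mul_right_cancel (b := g⁻¹)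
    rw [← e]; group)
  neB := fun x e => Q.neB (g⁻¹ * (x * g)) (by
    apply mul_left_cancel (a := g); apply mul_right_cancel (b := g⁻¹)
    calc g * (g⁻¹ * (x * g) * z * (g⁻¹ * (x * g))⁻¹) * g⁻¹ = x * (g * z * g⁻¹) * x⁻¹ := by group
      _ = g * a * g⁻¹ * (g * z * g⁻¹) := e
      _ = g * (a * z) * g⁻¹ := by group)

theorem conj_mem {g x : G} : x ∈ (Q.conj g).J ↔ g⁻¹ * x * g ∈ Q.J := by
  show x ∈ Q.J.map (MulAut.conj g).toMonoidHom ↔ _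
  rw [Subgroup.mem_map_equiv, MulAut.conj_symm_apply]

end Quad

end Cfsg.Lib.U62Type
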