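import Cfsg.Agent.Lib.U62Type.FourLeft

/-!
# Characters of the inner half; transfer at an involution
-/

set_option autoImplicit false
set_option linter.unusedSectionVars false
set_option linter.style.haveILetI false

namespace Cfsg.Lib.U62Type

theorem span_U : ∀ i < 8, ∃ p ∈ [(2, 0), (3, 0), (2, 1), (3, 2), (2, 5), (3, 10), (2, 21), (3, 42)],
    2 ^ i = (ap (gensU.getD 0 0) p.1 ^^^ p.1) ^^^ (ap (gensU.getD 2 0) p.2 ^^^ p.2) ∧ p.1 < 256 ∧ p.2 < 256 := by
  decide +kernel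

variable {G : Type*} [Group G] {z a : G} (Q : Quad cfgU z a)

/-- A character of the inner half killing `a` is trivial. -/
theorem Quad.char_trivial (K : Subgroup G) (hK : ∀ h, h ∈ K ↔ Q.Inn h) (ε : ↥K →* ℤˣ)
    (ha : ε ⟨a, (hK a).2 (Q.inn_J Q.aJ)⟩ = 1) : ε = 1 := by
  classical
  have hJK : ∀ {j}, j ∈ Q.J → j ∈ K := fun hj => (hK _).2 (Q.inn_J hj)
  obtain ⟨f, hf⟩ : ∃ f : G → ℤˣ, ∀ h (hh : h ∈ K), f h = ε ⟨h, hh⟩ :=
    ⟨fun h => if hh : h ∈ K then ε ⟨h, hh⟩ else 1, fun h hh => dif_pos hh⟩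
  have fmul : ∀ {x y}, x ∈ K → y ∈ K → f (x * y) = f x * f y := fun {x y} hx hy => by
    rw [hf _ (mul_mem hx hy), hf _ hx, hf _ hy, ← map_mul]; rfl
  have finv : ∀ {x}, x ∈ K → f x⁻¹ = f x := fun {x} hx => by
    rw [hf _ (inv_mem hx), hf _ hx]
    show ε (⟨x, hx⟩⁻¹ : ↥K) = _
    rw [map_inv, Int.units_inv_eq_self]
  have fone : f 1 = 1 := by rw [hf _ (one_mem _)]; exact map_one ε
  have fa : f a = 1 := by rw [hf _ (hJK Q.aJ)]; exact ha
  have fconj : ∀ {x y}, x ∈ K → y ∈ K → f (x * y * x⁻¹ * y⁻¹) = 1 := fun {x y} hx hy => by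
    rw [fmul (mul_mem (mul_mem hx hy) (inv_mem hx)) (inv_mem hy), fmul (mul_mem hx hy) (inv_mem hx), fmul hx hy,
      finv hx, finv hy, mul_comm (f x) (f y), mul_assoc (f y), Int.units_mul_self, mul_one, Int.units_mul_self]
  have fz : f z = 1 := by
    obtain ⟨u, hu, huv⟩ : ∃ u < 256, cform cfgU 1 u = 1 := (Q.perp_facts (by norm_num) (by norm_num)).1
    obtain ⟨j, hj, hje⟩ := Q.vc_surj 1 (by norm_num)
    obtain ⟨k, hk, rfl⟩ := Q.vc_surj u hu
    rcases Q.cmt j hj k hk with e | e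
    · have := (Q.comm_iff hj hk).1 (mul_inv_eq_iff_eq_mul.1 (mul_inv_eq_one.1 e))
      rw [hje, huv] at this
      exact absurd this (by norm_num)
    · rw [← e]; exact fconj (hJK hj) (hJK hk)
  have fzc : ∀ {y}, Q.Zc y → f y = 1 := by
    intro y hy
    rcases hy with e | e | e | e <;> rw [e]
    · exact fone
    · exact fz
    · exact fa
    · rw [fmul (hJK Q.aJ) (hJK Q.zJ), fa, fz, mul_one]
  -- lifts of the vectors
  choose r hrJ hrv using fun v : {v // v < 256} => Q.vc_surj v.1 v.2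
  have hfv : ∀ {j k}, j ∈ Q.J → k ∈ Q.J → Q.vc j = Q.vc k → f j = f k := fun {j k} hj hk e => by
    have h := fzc (Q.vc_eq hj hk e)
    rw [fmul (hJK (inv_mem hj)) (hJK hk), finv (hJK hj), mul_eq_one_iff_eq_inv, Int.units_inv_eq_self] at h
    exact h
  obtain ⟨φ, hφ⟩ : ∃ φ : ℕ → ℕ, ∀ j ∈ Q.J, φ (Q.vc j) = if f j = 1 then 0 else 1 :=
    ⟨fun v => if hv : v < 256 then (if f (r ⟨v, hv⟩) = 1 then 0 else 1) else 0, fun j hj => by
      simp only [dif_pos (Q.vc_lt j), hfv (hrJ ⟨_, Q.vc_lt j⟩) hj (hrv _)]⟩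
  have hbit : ∀ {v}, v < 256 → φ v < 256 := fun {v} hv => by
    obtain ⟨j, hj, rfl⟩ := Q.vc_surj v hv
    rw [hφ j hj]; split <;> norm_num
  have hrange : ∀ {i v}, i < 4 → v < 256 → φ (ap (gensU.getD i 0) v ^^^ v) = 0 := by
    intro i v hi hv
    obtain ⟨h, hh, he⟩ := Q.gens i hi
    have hhK : h ∈ K := (hK h).2 ⟨hh, he ▸ wordCode_gen Q.std hi⟩
    obtain ⟨j, hj, rfl⟩ := Q.vc_surj v hv
    rw [show gensU.getD i 0 = Q.κ h from he.symm, ← Q.act h hh j hj, ← Q.vc_inv hj,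
      ← Q.vc_mul _ (Q.norm h hh j hj) _ (inv_mem hj), hφ _ (mul_mem (Q.norm h hh j hj) (inv_mem hj)),
      fconj hhK (hJK hj), if_pos rfl]
  have hadd : ∀ u < 256, ∀ v < 256, φ (u ^^^ v) = φ u ^^^ φ v := by
    intro u hu v hv
    obtain ⟨j, hj, rfl⟩ := Q.vc_surj u hu
    obtain ⟨k, hk, rfl⟩ := Q.vc_surj v hv
    rw [← Q.vc_mul j hj k hk, hφ _ (mul_mem hj hk), hφ _ hj, hφ _ hk, fmul (hJK hj) (hJK hk)]
    rcases Int.units_eq_one_or (f j) with e | e <;> rcases Int.units_eq_one_or (f k) with e' | e' <;> simp [e, e']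
  have hzero : ∀ i < 8, φ (2 ^ i) = 0 := by
    intro i hi
    obtain ⟨p, -, e, h1, h2⟩ := span_U i hi
    rw [e, hadd _ (xor_lt (ap_lt _ _) h1) _ (xor_lt (ap_lt _ _) h2), hrange (by norm_num) h1, hrange (by norm_num) h2]
    rfl
  have fJ : ∀ j ∈ Q.J, f j = 1 := by
    intro j hj
    have h1 := exists_code (f := φ) (fun v hv => hbit hv) hadd (Q.vc_lt j)
    rw [mkc_congr (g := fun _ => 0) hzero] at h1
    have h2 : ap (mkc fun _ => 0) (Q.vc j) = 0 := by
      have h3 := exists_code (f := fun _ => 0) (fun _ _ => by norm_num) (fun _ _ _ _ => rfl) (Q.vc_lt j)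
      exact h3
    rw [h2, hφ j hj] at h1
    by_contra hne
    rw [if_neg hne] at h1
    exact absurd h1 (by norm_num)
  -- the generators
  choose l hl hle using fun i : {i // i < 4} => Q.gens i.1 i.2
  let l' : ℕ → G := fun i => if hi : i < 4 then l ⟨i, hi⟩ else 1
  have hl' : ∀ i < 4, l' i ∈ K ∧ Commute (l' i) z ∧ Q.κ (l' i) = gensU.getD i 0 := fun i hi => by
    simp only [l', dif_pos hi]
    exact ⟨(hK _).2 ⟨hl _, (hle ⟨i, hi⟩).symm ▸ wordCode_gen Q.std hi⟩, hl _, hle _⟩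
  have hword : ∀ w : List ℕ, (∀ i ∈ w, i < 4) → ∀ h ∈ K, Q.κ h = cw gensU w → f h = (w.map fun i => f (l' i)).prod := by
    intro w
    induction w with
    | nil => intro _ h hh e; exact fJ h (Q.ker h ((hK h).1 hh).1 (e.trans (cw_nil _)))
    | cons i w ih =>
      intro hw h hh e
      obtain ⟨hiK, hiz, hie⟩ := hl' i (hw i List.mem_cons_self)
      have hhz := ((hK h).1 hh).1
      have h1 := ih (fun b hb => hw b (List.mem_cons_of_mem _ hb)) _ (mul_mem (inv_mem hiK) hh) (by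
        rw [Q.κ_mul hiz.inv_left hhz, e, cw_cons, ← hie, ← cm_assoc, (Q.κ_inv hiz).2, idc_cm (cw_lt _ _)])
      rw [List.map_cons, List.prod_cons, ← h1, ← fmul hiK (mul_mem (inv_mem hiK) hh), mul_inv_cancel_left]
  have h0 : f (l' 0) = 1 := by
    have h3 := hword [0, 0, 0] (by decide) 1 (one_mem _) (by rw [Q.κ_one, g0_cube gensU (by simp)])
    simp only [fone, List.map_cons, List.map_nil, List.prod_cons, List.prod_nil, mul_one] at h3
    rwa [Int.units_mul_self, mul_one, eq_comm] at h3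
  have hgen : ∀ i < 4, f (l' i) = 1 := by
    intro i hi
    obtain ⟨hiK, hiz, hie⟩ := hl' i hi
    have hev := even_U
    simp only [evenChk, List.all_eq_true, List.mem_range, Bool.and_eq_true, Bool.or_eq_true, beq_iff_eq, nbeq_iff,
      Nat.blt_eq] at hev
    obtain ⟨⟨hu4, hue⟩, heven⟩ := hev i hi
    rw [hword _ hu4 _ hiK (hie.trans hue.symm), prod_letters (fun i => f (l' i)) h0 _ hu4]
    have hp : ∀ (u : ℤˣ) (n : ℕ), n % 2 = 0 → u ^ n = 1 := fun u n hn => by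
      rw [← Nat.div_add_mod n 2, hn, add_zero, pow_mul, pow_two, Int.units_mul_self, one_pow]
    rw [hp _ _ ((heven 1 (by norm_num)).resolve_left (by norm_num)),
      hp _ _ ((heven 2 (by norm_num)).resolve_left (by norm_num)),
      hp _ _ ((heven 3 (by norm_num)).resolve_left (by norm_num)), mul_one, mul_one]
  refine MonoidHom.ext fun ⟨h, hh⟩ => ?_
  obtain ⟨w, hw, e⟩ := ((hK h).1 hh).2
  rw [← hf h hh, hword w hw h hh e]
  exact List.prod_eq_one fun x hx => by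
    obtain ⟨i, hi, rfl⟩ := List.mem_map.1 hx
    exact hgen i (hw i hi)

/-- The transfer of an involution into an abelian group. -/
theorem transfer_invol {G A : Type*} [Group G] [Finite G] [CommGroup A] {P : Subgroup G} [Fintype (G ⧸ P)]
    [DecidableEq (G ⧸ P)] (φ : P →* A) (u : G) (hu : u * u = 1) (ψ : G ⧸ P → A)
    (hψ : ∀ c : G ⧸ P, u • c = c → ∀ hm : c.out⁻¹ * u * c.out ∈ P, ψ c = φ ⟨_, hm⟩) :
    MonoidHom.transfer φ u = ∏ c ∈ Finset.univ.filter (fun c : G ⧸ P => u • c = c), ψ c := by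
  classical
  have hfun : ∀ q : G ⧸ P, (↑(q.out) : G ⧸ P) = q := fun q => Quotient.out_eq q
  let T : P.LeftTransversal := ⟨Set.range (fun q : G ⧸ P => q.out), Subgroup.isComplement_range_left hfun⟩
  rw [MonoidHom.transfer_def φ T u]
  have huinv : u⁻¹ = u := inv_eq_of_mul_eq_one_right hu
  have hmem : ∀ q : G ⧸ P, q.out⁻¹ * (u * (u • q).out) ∈ P := by
    intro q
    rw [← QuotientGroup.eq, hfun]
    have : (↑(u * (u • q).out) : G ⧸ P) = u • ((↑((u • q).out)) : G ⧸ P) := rfl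
    rw [this, hfun, smul_smul, hu, one_smul]
  have hterm : Subgroup.leftTransversals.diff φ T (u • T)
      = ∏ q : G ⧸ P, φ ⟨q.out⁻¹ * (u * (u • q).out), hmem q⟩ := by
    unfold Subgroup.leftTransversals.diff
    refine Finset.prod_congr (by ext; simp) (fun q _ => ?_)
    congr 1
    apply Subtype.ext
    dsimp only
    rw [Subgroup.smul_apply_eq_smul_apply_inv_smul, huinv,
      Subgroup.IsComplement.leftQuotientEquiv_apply hfun, Subgroup.IsComplement.leftQuotientEquiv_apply hfun,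
      smul_eq_mul]
  rw [hterm, ← Finset.prod_filter_mul_prod_filter_not Finset.univ (fun c : G ⧸ P => u • c = c)]
  have hrest : ∏ q ∈ Finset.univ.filter (fun c : G ⧸ P => ¬ u • c = c),
      φ ⟨q.out⁻¹ * (u * (u • q).out), hmem q⟩ = 1 := by
    refine Finset.prod_involution (fun q _ => u • q) ?_ ?_ ?_ ?_
    · intro q _
      rw [← map_mul, ← map_one φ]
      congr 1
      apply Subtype.ext
      simp only [Subgroup.coe_mul, Subgroup.coe_one, smul_smul, hu, one_smul]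
      calc q.out⁻¹ * (u * (u • q).out) * ((u • q).out⁻¹ * (u * q.out))
          = q.out⁻¹ * (u * u) * q.out := by group
        _ = 1 := by rw [hu]; group
    · intro q hq _ he
      exact (Finset.mem_filter.mp hq).2 he
    · intro q hq
      refine Finset.mem_filter.mpr ⟨Finset.mem_univ _, fun he => (Finset.mem_filter.mp hq).2 ?_⟩
      rw [smul_smul, hu, one_smul] at he
      exact he.symm
    · intro q _
      rw [smul_smul, hu, one_smul]
  rw [hrest, mul_one]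
  refine Finset.prod_congr rfl fun q hq => ?_
  have hq' := (Finset.mem_filter.mp hq).2
  have e : q.out⁻¹ * (u * (u • q).out) = q.out⁻¹ * u * q.out := by rw [hq']; group
  rw [hψ q hq' (e ▸ hmem q)]
  congr 1
  exact Subtype.ext e

/-- With a 2-group fixing only one fixed coset, the transfer of an involution is its own image. -/
theorem transfer_eq_self {G A : Type*} [Group G] [Finite G] [CommGroup A] {P : Subgroup G} (φ : P →* A) {u : G}
    (hu : u * u = 1) (huP : u ∈ P) {D : Subgroup G} (hD : IsPGroup 2 D) (hDP : D ≤ P) (hDu : ∀ d ∈ D, Commute d u)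
    (hone : ∀ g : G, (∀ d ∈ D, g⁻¹ * d * g ∈ P) → g ∈ P) : MonoidHom.transfer φ u = φ ⟨u, huP⟩ := by
  classical
  haveI : Fact (Nat.Prime 2) := ⟨Nat.prime_two⟩
  haveI := Fintype.ofFinite (G ⧸ P)
  have hmem : ∀ c : G ⧸ P, u • c = c → c.out⁻¹ * u * c.out ∈ P := by
    intro c hc
    have h1 : (↑(u * c.out) : G ⧸ P) = ↑c.out := by
      rw [show (↑(u * c.out) : G ⧸ P) = u • (↑c.out) from rfl, QuotientGroup.out_eq', hc]
    have h2 := QuotientGroup.eq.mp h1.symm
    rwa [← mul_assoc] at h2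
  obtain ⟨ψ, hψ⟩ : ∃ ψ : G ⧸ P → A, ∀ (g : G) (hm : g⁻¹ * u * g ∈ P), ψ (g : G ⧸ P) = φ ⟨_, hm⟩ := by
    refine ⟨fun c => if h : c.out⁻¹ * u * c.out ∈ P then φ ⟨_, h⟩ else 1, fun g hm => ?_⟩
    obtain ⟨p, hp⟩ := QuotientGroup.mk_out_eq_mul P g
    have e : (g : G ⧸ P).out⁻¹ * u * (g : G ⧸ P).out = (p : G)⁻¹ * (g⁻¹ * u * g) * p := by rw [hp]; group
    have hm' : (g : G ⧸ P).out⁻¹ * u * (g : G ⧸ P).out ∈ P := e ▸ mul_mem (mul_mem (inv_mem p.2) hm) p.2
    simp only [dif_pos hm']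
    have : (⟨_, hm'⟩ : P) = p⁻¹ * ⟨_, hm⟩ * p := Subtype.ext e
    rw [this, map_mul, map_mul, map_inv, mul_comm _ (φ p), ← mul_assoc, mul_inv_cancel, one_mul]
  obtain ⟨Fx, hFx⟩ : ∃ Fx : Finset (G ⧸ P), Fx = Finset.univ.filter (fun c => u • c = c) := ⟨_, rfl⟩
  have hmemFx : ∀ {c}, c ∈ Fx ↔ u • c = c := fun {c} => by simp [hFx]
  rw [transfer_invol φ u hu ψ (fun c hc hm => by
    have h := hψ c.out hm
    rwa [QuotientGroup.out_eq'] at h), ← hFx]
  have hconst : ∀ d ∈ D, ∀ c ∈ Fx, d • c ∈ Fx ∧ ψ (d • c) = ψ c := by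
    intro d hd c hc
    rw [hmemFx] at hc ⊢
    refine ⟨by rw [smul_smul, ← (hDu d hd).eq, ← smul_smul, hc], ?_⟩
    obtain ⟨g, rfl⟩ := QuotientGroup.mk_surjective c
    have hg : g⁻¹ * u * g ∈ P := by
      have h1 : ((u * g : G) : G ⧸ P) = g := hc
      have h2 := QuotientGroup.eq.1 h1.symm
      rwa [← mul_assoc] at h2
    have e : (d * g)⁻¹ * u * (d * g) = g⁻¹ * u * g := by
      rw [show (d * g)⁻¹ * u * (d * g) = g⁻¹ * (d⁻¹ * (u * d)) * g by group, ← (hDu d hd).eq, inv_mul_cancel_left]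
    show ψ ((d * g : G) : G ⧸ P) = _
    rw [hψ g hg, hψ (d * g) (e ▸ hg)]
    exact congrArg φ (Subtype.ext e)
  have hsq : ∀ c ∈ Fx, ψ c * ψ c = 1 := by
    intro c hc
    have hg := hmem c (hmemFx.1 hc)
    have h := hψ c.out hg
    rw [QuotientGroup.out_eq'] at h
    rw [h, ← map_mul, ← map_one φ]
    refine congrArg φ (Subtype.ext ?_)
    show c.out⁻¹ * u * c.out * (c.out⁻¹ * u * c.out) = 1
    rw [show c.out⁻¹ * u * c.out * (c.out⁻¹ * u * c.out) = c.out⁻¹ * (u * u) * c.out by group, hu]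
    group
  have h1 : ((1 : G) : G ⧸ P) ∈ Fx := by
    rw [hmemFx]
    show ((u * 1 : G) : G ⧸ P) = ((1 : G) : G ⧸ P)
    exact (QuotientGroup.eq.2 (by simpa using huP)).symm
  have hψ1 : ψ ((1 : G) : G ⧸ P) = φ ⟨u, huP⟩ :=
    (hψ 1 (by simpa using huP)).trans (congrArg φ (Subtype.ext (by simp)))
  have key : ∀ w : A, (Fx.filter fun c => ψ c = w).card % 2 =
      if w = φ ⟨u, huP⟩ then 1 else 0 := by
    intro w
    let X := {c : G ⧸ P // c ∈ Fx ∧ ψ c = w}
    letI : MulAction D X :=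
      { smul := fun d c => ⟨(d : G) • c.1, (hconst d d.2 c.1 c.2.1).1, (hconst d d.2 c.1 c.2.1).2.trans c.2.2⟩
        one_smul := fun c => Subtype.ext (one_smul G c.1)
        mul_smul := fun d d' c => Subtype.ext (mul_smul (d : G) (d' : G) c.1) }
    have hm := hD.card_modEq_card_fixedPoints (α := X)
    have hX : Nat.card X = (Fx.filter fun c => ψ c = w).card := by
      rw [Nat.card_eq_fintype_card]
      exact Fintype.card_of_subtype _ fun c => by simp
    have hfix : ∀ x : X, x ∈ MulAction.fixedPoints D X → x.1 = ((1 : G) : G ⧸ P) := by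
      intro x hx
      obtain ⟨g, hg⟩ := QuotientGroup.mk_surjective x.1
      rw [← hg, QuotientGroup.eq, mul_one]
      refine inv_mem (hone g fun d hd => ?_)
      have h2 : (d : G) • x.1 = x.1 := congrArg Subtype.val (hx ⟨d, hd⟩)
      rw [← hg] at h2
      have h3 := QuotientGroup.eq.1 (show ((d * g : G) : G ⧸ P) = g from h2).symm
      rwa [← mul_assoc] at h3
    rw [hX] at hm
    unfold Nat.ModEq at hm
    rw [hm]
    by_cases hw : w = φ ⟨u, huP⟩
    · rw [if_pos hw]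
      have hmem1 : (⟨((1 : G) : G ⧸ P), h1, hψ1.trans hw.symm⟩ : X) ∈ MulAction.fixedPoints D X := fun d =>
        Subtype.ext (show (((d : G) * 1 : G) : G ⧸ P) = ((1 : G) : G ⧸ P) from
          (QuotientGroup.eq.2 (by simpa using hDP d.2)).symm)
      have : Nat.card (MulAction.fixedPoints D X) = 1 := by
        rw [Nat.card_eq_one_iff_unique]
        exact ⟨⟨fun x y => Subtype.ext (Subtype.ext ((hfix x.1 x.2).trans (hfix y.1 y.2).symm))⟩, ⟨⟨_, hmem1⟩⟩⟩
      rw [this]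
    · rw [if_neg hw]
      haveI : IsEmpty (MulAction.fixedPoints D X) := ⟨fun x => hw (by
        rw [← x.1.2.2, hfix x.1 x.2, hψ1])⟩
      rw [Nat.card_of_isEmpty]
  have h2 := Finset.prod_comp (s := Fx) (id : A → A) ψ
  rw [show (∏ c ∈ Fx, id (ψ c)) = ∏ c ∈ Fx, ψ c from rfl] at h2
  rw [h2, Finset.prod_eq_single (φ ⟨u, huP⟩)]
  · obtain ⟨n, hn⟩ : ∃ n, (Fx.filter fun c => ψ c = φ ⟨u, huP⟩).card = 2 * n + 1 := by
      have := key (φ ⟨u, huP⟩)
      rw [if_pos rfl] at this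
      exact ⟨_, (Nat.two_mul_div_two_add_one_of_odd (Nat.odd_iff.2 this)).symm⟩
    have hw := hsq _ h1
    rw [hψ1] at hw
    rw [id, hn, pow_succ, pow_mul, pow_two, hw, one_pow, one_mul]
  · intro w hw hne
    obtain ⟨c, hc, rfl⟩ := Finset.mem_image.1 hw
    have := key (ψ c)
    rw [if_neg hne] at this
    obtain ⟨n, hn⟩ : ∃ n, (Fx.filter fun d => ψ d = ψ c).card = 2 * n := ⟨_, (Nat.mul_div_cancel' (Nat.dvd_of_mod_eq_zero this)).symm⟩
    rw [id, hn, pow_mul, pow_two, hsq c hc, one_pow]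
  · intro h
    exact absurd (Finset.mem_image.2 ⟨_, h1, hψ1⟩) h

end Cfsg.Lib.U62Type
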