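import Cfsg.Agent.Lib.U62Type.FourOrth

/-!
# The fusion of the central involution
-/

set_option autoImplicit false
set_option linter.unusedSectionVars false
set_option linter.style.haveILetI false

namespace Cfsg.Lib.U62Type

variable {G : Type*} [Group G] [Finite G]

/-- With `a z` isolating, in the unitary case commuting conjugates are reached inside the centraliser of `a`. -/
theorem Fus.share_all {z a : G} {Q : Quad cfgU z a} (F : Fus Q) (hb : Iso z (a * z)) {g : G}
    (hc : Commute (g * z * g⁻¹) z) (hne : g * z * g⁻¹ ≠ z) :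
    ∃ g', g' * z * g'⁻¹ = g * z * g⁻¹ ∧ Commute g' a := by
  by_contra h
  exact (⟨F, hb, rfl, rfl, rfl, hc, hne, fun g' e hg => h ⟨g', e, hg⟩⟩ :
    Sit Q g (g * z * g⁻¹) (g * a * g⁻¹) (g * (a * z) * g⁻¹)).u_false

/-- Both isolating: the involution is isolated. -/
theorem Fus.isolated {C : Cfg} {z a : G} {Q : Quad C z a} (F : Fus Q) (hIa : Iso z a) (hb : Iso z (a * z)) {g : G}
    (hc : Commute (g * z * g⁻¹) z) : g * z * g⁻¹ = z := by
  by_contra hne
  have S : Sit Q g (g * z * g⁻¹) (g * a * g⁻¹) (g * (a * z) * g⁻¹) :=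
    ⟨F, hb, rfl, rfl, rfl, hc, hne, fun g' e hg => hne (e.symm.trans (hIa g' hg (e.symm ▸ hc)))⟩
  rcases list_cases Q.std with rfl | h
  · exact S.u_false
  · exact S.orth_false h hIa

end Cfsg.Lib.U62Type
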