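import Cfsg.Agent.Lib.U62Type.FourChecks

/-!
# Short lists
-/

set_option autoImplicit false
set_option maxRecDepth 10000

namespace Cfsg.Lib.U62Type

/-- The second class, allowing an exchange with the product. -/
def uThin2Chk (C : Cfg) : Bool :=
  (outL C).all fun k => (parL C k 1).all fun c =>
    c == xC C.gens 1 || (cvL C 1).any (fun v => !(Nat.beq (ap c v) v)) ||
      (ceL C.gens 1).any (fun e => !(cm c (cm e e) == cm (cm e e) c) &&
        !(cm (cm e e) c == cm (cm c (xC C.gens 1)) (cm e e))) || (clL C.gens 0).contains c

/-- An outer involution fixing all that is fixed by an inner one has a non-singular fixed vector in its range. -/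
def planeOuterChk (C : Cfg) : Bool :=
  (outL C).all fun k => (List.range 2).all fun j => (parOut C k j).all fun p =>
    let x := xC C.gens j
    (cvL C j).any (fun v => !(Nat.beq (ap p v) v)) ||
      vecs.any fun u =>
        let r := ap p u ^^^ u
        Nat.beq (C.q r) 1 && Nat.beq (ap p r) r && Nat.beq (ap x r) r

/-- Counts. -/
def fourCountChk : Bool :=
  Nat.ble 64 (cvL cfgU 0).length && Nat.beq (cvL cfgU 1).length 16 &&
  (cvL cfgU 1).all (fun v => Nat.beq (qU v) 0 && (rL cfgU 1).contains v) &&
  (clL gensU 0).all (fun c => Nat.ble 64 (fxL c).length) &&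
  [cfgP, cfgM].all (fun C => (List.range 2).all fun j => Nat.ble 64 (cvL C j).length) &&
  [cfgP, cfgM].all (fun C => (planeL C).any fun a => (planeL C).any fun b => Nat.beq (cform C a b) 1) &&
  [cfgU, cfgP, cfgM].all (fun C => Nat.beq ((invL C).length % 2) 1 && distinct (invL C))

theorem uThin2_U : uThin2Chk cfgU = true := by decide +kernel

theorem planeOuter_P : planeOuterChk cfgP = true := by decide +kernel

theorem planeOuter_M : planeOuterChk cfgM = true := by decide +kernel

theorem fourCount_ok : fourCountChk = true := by decide +kernel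

end Cfsg.Lib.U62Type
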