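import Cfsg.Agent.Lib.U62Type.FourInside
import Cfsg.Agent.Lib.U62Type.FourSmall
import Cfsg.Agent.Lib.U62Type.OuterMain

/-!
# Fixed vectors of an involution and the vectors it centralises
-/

set_option autoImplicit false
set_option linter.unusedSectionVars false
set_option linter.style.haveILetI false

namespace Cfsg.Lib.U62Type

theorem xC_sq : ∀ gs ∈ [gensU, gensP], ∀ j < 2, cm (xC gs j) (xC gs j) = idc ∧ xC gs j ≠ idc := by decide +kernel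

namespace Quad

variable {G : Type*} [Group G] {C : Cfg} {z a : G} (Q : Quad C z a)

include Q in
theorem gens_mem : C.gens ∈ [gensU, gensP] := by
  rcases list_cases Q.std with rfl | rfl | rfl <;> simp [cfgU, cfgP, cfgM]

include Q in
theorem class_ok {j : ℕ} (hj : j < 2) : classChk C.gens j = true := by
  rcases list_cases Q.std with rfl | rfl | rfl <;> interval_cases j
  exacts [class_U0, class_U1, class_P0, class_P1, class_P0, class_P1]

include Q in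
theorem ce_spec {j : ℕ} (hj : j < 2) {e : ℕ} (he : e ∈ ceL C.gens j) :
    WordCode C.gens e ∧ cm (xC C.gens j) e = cm e (xC C.gens j) := by
  have h := Q.class_ok hj
  simp only [classChk, Bool.and_eq_true, List.all_eq_true, beq_iff_eq] at h
  obtain ⟨⟨⟨⟨⟨⟨⟨⟨htree, -⟩, -⟩, hw⟩, hcomm⟩, -⟩, -⟩, -⟩, -⟩ := h
  refine ⟨tree_ind htree (WordCode C.gens) (wordCode_idc _) (fun i _ b hb => hb.mul ⟨_, fun l hl => ?_, rfl⟩) e he,
    hcomm e he⟩
  by_cases hlt : ((ceTreeL j).getD i (0, 0)).2 < (ceGensL j).length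
  · rw [List.getD_eq_getElem _ _ hlt] at hl
    simpa [Nat.blt_eq] using hw _ (List.getElem_mem _) l hl
  · rw [List.getD_eq_default _ _ (not_lt.1 hlt)] at hl; simp at hl

theorem κ_gen_inv {g : G} (hg : Commute g z) {i : ℕ} (hi : i < 4) (e : Q.κ g = C.gens.getD i 0) :
    Q.κ g⁻¹ = cw C.gens (iW [i]) := by
  have h1 := inv_gen C.gens Q.gens_mem i hi
  rw [← e] at h1
  have h2 : cm (cm (cw C.gens (iW [i])) (Q.κ g)) (Q.κ g⁻¹) = cm idc (Q.κ g⁻¹) := by rw [h1]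
  rwa [cm_assoc, (Q.κ_inv hg).1, cm_idc (cw_lt _ _), idc_cm (Q.κ_lt _), eq_comm] at h2

theorem cl_spec {j : ℕ} (hj : j < 2) {c : ℕ} (hc : c ∈ clL C.gens j) :
    ∃ g x, Q.Inn g ∧ Q.Inn x ∧ Q.κ x = xC C.gens j ∧ Q.κ (g * x * g⁻¹) = c := by
  obtain ⟨x, hx, hxe⟩ := Q.lift_code (c := xC C.gens j) ⟨xW j, xW_lt j hj, rfl⟩
  have h := Q.class_ok hj
  simp only [classChk, Bool.and_eq_true, List.all_eq_true, beq_iff_eq] at h
  obtain ⟨⟨⟨⟨⟨⟨⟨⟨-, htree⟩, hg4⟩, -⟩, -⟩, -⟩, -⟩, -⟩, -⟩ := h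
  suffices h : ∃ g, Q.Inn g ∧ Q.κ (g * x * g⁻¹) = c by
    obtain ⟨g, hg, e⟩ := h
    exact ⟨g, x, hg, hx, hxe, e⟩
  refine tree_ind htree (fun c => ∃ g, Q.Inn g ∧ Q.κ (g * x * g⁻¹) = c)
    ⟨1, Q.inn_J (one_mem _), by simpa using hxe⟩ ?_ c hc
  rintro i hi b ⟨g, hg, rfl⟩
  have hi4 := hg4 i (List.mem_range.2 hi)
  rw [Nat.blt_eq] at hi4
  obtain ⟨s, hs, hse⟩ := Q.gens _ hi4
  refine ⟨s * g, Q.inn_mul ⟨hs, hse ▸ wordCode_gen Q.std hi4⟩ hg, ?_⟩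
  rw [show s * g * x * (s * g)⁻¹ = s * (g * x * g⁻¹) * s⁻¹ by group,
    Q.κ_conj hs ((hg.1.mul_left hx.1).mul_left hg.1.inv_left), hse, Q.κ_gen_inv hs hi4 hse]

theorem inn_conj {h u : G} (hh : Q.Inn h) (hu : Commute u z) : Q.Inn (u * h * u⁻¹) := by
  by_cases hi : Q.Inn u
  · exact Q.inn_mul (Q.inn_mul hi hh) (Q.inn_inv hi)
  have hn : ¬ WordCode C.gens (Q.κ (u * h)) := fun w => hi (by
    simpa using Q.inn_mul (g := u * h) ⟨hu.mul_left hh.1, w⟩ (Q.inn_inv hh))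
  have hn' : ¬ WordCode C.gens (Q.κ u⁻¹) := fun w => hi (by simpa using Q.inn_inv (h := u⁻¹) ⟨hu.inv_left, w⟩)
  exact ⟨(hu.mul_left hh.1).mul_left hu.inv_left, Q.index _ _ (hu.mul_left hh.1) hu.inv_left hn hn'⟩

theorem invL_spec {c : ℕ} (hc : c ∈ invL C) : ∃ h, Q.Inn h ∧ Q.κ h = c ∧ cm c c = idc ∧ c ≠ idc := by
  obtain ⟨j, hj, hc⟩ : ∃ j < 2, c ∈ clL C.gens j := by
    rcases List.mem_append.1 hc with h | h
    exacts [⟨0, by norm_num, h⟩, ⟨1, by norm_num, h⟩]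
  obtain ⟨g, x, hg, hx, hxe, e⟩ := Q.cl_spec hj hc
  obtain ⟨hsq, hne⟩ := xC_sq C.gens Q.gens_mem j hj
  refine ⟨g * x * g⁻¹, Q.inn_conj hx hg.1, e, ?_, ?_⟩
  · rw [← e, ← Q.κ_mul ((hg.1.mul_left hx.1).mul_left hg.1.inv_left) ((hg.1.mul_left hx.1).mul_left hg.1.inv_left),
      show g * x * g⁻¹ * (g * x * g⁻¹) = g * (x * x) * g⁻¹ by group, Q.κ_conj hg.1 (hx.1.mul_left hx.1),
      Q.κ_mul hx.1 hx.1, hxe, hsq, cm_idc (Q.κ_lt _), (Q.κ_inv hg.1).1]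
  · intro h
    rw [h] at e
    have h1 := Q.ker _ ((hg.1.mul_left hx.1).mul_left hg.1.inv_left) e
    have h2 := Q.norm g⁻¹ hg.1.inv_left _ h1
    rw [show g⁻¹ * (g * x * g⁻¹) * g⁻¹⁻¹ = x by group] at h2
    exact hne (hxe.symm.trans (Q.κ_mem h2))

/-- An outer involution centralises an inner one; coordinates adapted to both. -/
theorem outer_normal {t : G} (ht : Commute t z) (ht2 : t * t = 1) (hn : ¬ Q.Inn t) :
    ∃ g₀, Q.Inn g₀ ∧ ∃ k ∈ outL C, ∃ j < 2, Q.κ (g₀ * t * g₀⁻¹) ∈ parOut C k j := by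
  classical
  have hφ : ∀ c ∈ (invL C).toFinset, cm (cm (Q.κ t) c) (Q.κ t) ∈ (invL C).toFinset := by
    intro c hc
    rw [List.mem_toFinset] at hc ⊢
    obtain ⟨h, hh, hhe, hsq, hne⟩ := Q.invL_spec hc
    have e : cm (cm (Q.κ t) c) (Q.κ t) = Q.κ (t * h * t⁻¹) := by
      rw [Q.κ_conj ht hh.1, inv_eq_of_mul_eq_one_right ht2, hhe]
    rw [e]
    refine (Q.invol _ (Q.inn_conj hh ht).2 ?_ ?_).1
    · have hcl : c < 2 ^ 64 := hhe ▸ Q.κ_lt h
      rw [← e]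
      calc cm (cm (cm (Q.κ t) c) (Q.κ t)) (cm (cm (Q.κ t) c) (Q.κ t))
          = cm (cm (cm (Q.κ t) c) (cm (Q.κ t) (Q.κ t))) (cm c (Q.κ t)) := by simp only [cm_assoc]
        _ = cm (cm (Q.κ t) c) (cm c (Q.κ t)) := by rw [Q.κ_invol ht ht2, cm_idc (cm_lt _ _)]
        _ = cm (Q.κ t) (cm (cm c c) (Q.κ t)) := by simp only [cm_assoc]
        _ = idc := by rw [hsq, idc_cm (Q.κ_lt _), Q.κ_invol ht ht2]
    · intro h0
      have h1 := Q.ker _ ((ht.mul_left hh.1).mul_left ht.inv_left) h0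
      have h2 := Q.norm t⁻¹ ht.inv_left _ h1
      rw [show t⁻¹ * (t * h * t⁻¹) * t⁻¹⁻¹ = h by group] at h2
      exact hne (hhe.symm.trans (Q.κ_mem h2))
  obtain ⟨c, hc, hcc⟩ : ∃ c ∈ (invL C).toFinset, cm (cm (Q.κ t) c) (Q.κ t) = c := by
    by_contra hno
    push Not at hno
    have hcount := fourCount_ok
    simp only [fourCountChk, Bool.and_eq_true, List.all_eq_true, nbeq_iff] at hcount
    obtain ⟨-, hinv⟩ := hcount
    obtain ⟨hodd, hdis⟩ := hinv C Q.std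
    have h0 : ∑ _c ∈ (invL C).toFinset, (1 : ZMod 2) = 0 := by
      refine Finset.sum_involution (fun c _ => cm (cm (Q.κ t) c) (Q.κ t)) (fun _ _ => by decide)
        (fun c hc _ => hno c hc) hφ fun c hc => ?_
      obtain ⟨h, hh, hhe, -, -⟩ := Q.invL_spec (List.mem_toFinset.1 hc)
      have hcl : c < 2 ^ 64 := hhe ▸ Q.κ_lt _
      calc cm (cm (Q.κ t) (cm (cm (Q.κ t) c) (Q.κ t))) (Q.κ t)
          = cm (cm (cm (Q.κ t) (Q.κ t)) c) (cm (Q.κ t) (Q.κ t)) := by simp only [cm_assoc]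
        _ = c := by rw [Q.κ_invol ht ht2, idc_cm hcl, cm_idc hcl]
    rw [Finset.sum_const, List.toFinset_card_of_nodup (distinct_nodup hdis), nsmul_eq_mul, mul_one,
      ZMod.natCast_eq_zero_iff_even, Nat.even_iff, hodd] at h0
    exact absurd h0 (by norm_num)
  obtain ⟨h, hh, hhe, hsq, hne⟩ := Q.invL_spec (List.mem_toFinset.1 hc)
  obtain ⟨-, j, hj, e, he, hej⟩ := Q.invol c (hhe ▸ hh.2) hsq hne
  obtain ⟨g₀, hg₀, hg₀e⟩ := Q.lift_code he
  have hx : Q.κ (g₀ * h * g₀⁻¹) = xC C.gens j := by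
    rw [Q.κ_conj hg₀.1 hh.1, hg₀e, hhe, hej, cm_assoc, ← hg₀e, (Q.κ_inv hg₀.1).1, cm_idc (show xC C.gens j < 2 ^ 64 from cw_lt _ _)]
  have hth : cm (Q.κ t) (Q.κ h) = cm (Q.κ h) (Q.κ t) := by
    have h1 := congrArg (fun x => cm x (Q.κ t)) hcc
    simp only [cm_assoc, Q.κ_invol ht ht2, cm_idc (Q.κ_lt _)] at h1
    rw [← hhe] at h1
    simpa [cm_idc (hhe ▸ Q.κ_lt h : c < 2 ^ 64), hhe] using h1
  obtain ⟨k, hk, s, hs, hse, hsn⟩ := Q.out
  obtain ⟨u, hu⟩ : ∃ u, u = g₀ * t * g₀⁻¹ := ⟨_, rfl⟩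
  have huz : Commute u z := hu ▸ (hg₀.1.mul_left ht).mul_left hg₀.1.inv_left
  have hun : ¬ WordCode C.gens (Q.κ u) := fun w => hn (by
    have := Q.inn_conj (h := u) (u := g₀⁻¹) ⟨huz, w⟩ hg₀.1.inv_left
    rwa [hu, show g₀⁻¹ * (g₀ * t * g₀⁻¹) * g₀⁻¹⁻¹ = t by group] at this)
  have hucomm : cm (Q.κ u) (xC C.gens j) = cm (xC C.gens j) (Q.κ u) := by
    have hth' : cm (Q.κ h) (Q.κ t) = cm (Q.κ t) (Q.κ h) := hth.symm
    rw [← hx, ← Q.κ_mul huz ((hg₀.1.mul_left hh.1).mul_left hg₀.1.inv_left),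
      ← Q.κ_mul ((hg₀.1.mul_left hh.1).mul_left hg₀.1.inv_left) huz, hu,
      show g₀ * t * g₀⁻¹ * (g₀ * h * g₀⁻¹) = g₀ * (t * h) * g₀⁻¹ by group,
      show g₀ * h * g₀⁻¹ * (g₀ * t * g₀⁻¹) = g₀ * (h * t) * g₀⁻¹ by group, Q.κ_conj hg₀.1 (ht.mul_left hh.1),
      Q.κ_conj hg₀.1 (hh.1.mul_left ht), Q.κ_mul ht hh.1, Q.κ_mul hh.1 ht, hth]
  refine ⟨g₀, hg₀, k, hk, j, hj, ?_⟩
  rw [← hu]
  have hkw : WordCode C.gens (Q.κ (s⁻¹ * u)) :=
    Q.index _ _ hs.inv_left huz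
      (fun w => hsn (hse ▸ (by simpa using (Q.inn_inv (h := s⁻¹) ⟨hs.inv_left, w⟩).2))) hun
  have hstd : cm (oC C k) (xC C.gens j) = cm (xC C.gens j) (oC C k) := by
    have h1 : commStdChk C = true := by
      rcases list_cases Q.std with rfl | rfl | rfl
      exacts [commStd_U, commStd_P, commStd_M]
    simp only [commStdChk, List.all_eq_true, List.mem_range, beq_iff_eq] at h1
    exact h1 k hk j hj
  have hprod : Q.κ u = cm (oC C k) (Q.κ (s⁻¹ * u)) := by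
    rw [← hse, ← Q.κ_mul hs (hs.inv_left.mul_left huz), mul_inv_cancel_left]
  simp only [parOut, List.mem_filter, List.mem_map, Bool.and_eq_true, beq_iff_eq, Bool.not_eq_true',
    beq_eq_false_iff_ne, ne_eq]
  refine ⟨⟨Q.κ (s⁻¹ * u), Q.cov j hj _ hkw ?_, hprod.symm⟩, ?_, ?_⟩
  · have h2 : Q.κ (s⁻¹ * u) = cm (Q.κ s⁻¹) (Q.κ u) := Q.κ_mul hs.inv_left huz
    have hsi : cm (Q.κ s⁻¹) (xC C.gens j) = cm (xC C.gens j) (Q.κ s⁻¹) := by
      have h1 := congrArg (fun x => cm (Q.κ s⁻¹) (cm x (Q.κ s⁻¹))) hstd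
      simp only [← hse] at h1
      rw [cm_assoc (xC C.gens j), (Q.κ_inv hs).1, cm_idc (show xC C.gens j < 2 ^ 64 from hx ▸ Q.κ_lt _),
        cm_assoc (Q.κ s), ← cm_assoc (Q.κ s⁻¹) (Q.κ s), (Q.κ_inv hs).2, idc_cm (cm_lt _ _)] at h1
      exact h1.symm
    rw [h2, ← cm_assoc, ← hsi, cm_assoc, ← hucomm, cm_assoc]
  · rw [hu]; exact Q.κ_invol (hu ▸ huz) (by
      rw [show g₀ * t * g₀⁻¹ * (g₀ * t * g₀⁻¹) = g₀ * (t * t) * g₀⁻¹ by group, ht2, mul_one, mul_inv_cancel])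
  · exact fun h0 => hun (h0 ▸ wordCode_idc _)

/-! ### Vectors centralised -/

/-- The vectors with a lift centralised by `u`. -/
noncomputable def kSet (u : G) : Finset ℕ := by
  classical exact (Finset.range 256).filter fun v => ∃ m ∈ Q.J, Commute m u ∧ Q.vc m = v

theorem mem_kSet {u : G} {v : ℕ} : v ∈ Q.kSet u ↔ ∃ m ∈ Q.J, Commute m u ∧ Q.vc m = v := by
  classical
  rw [kSet, Finset.mem_filter, Finset.mem_range]
  exact ⟨fun h => h.2, fun h => ⟨by obtain ⟨m, -, -, rfl⟩ := h; exact Q.vc_lt m, h⟩⟩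

theorem cen_zc {u y : G} (hu : Commute u z) (hua : Commute u a) (hy : Q.Zc y) : Commute u y := by
  rcases hy with rfl | rfl | rfl | rfl
  exacts [Commute.one_right u, hu, hua, hua.mul_right hu]

theorem kSet_lift {u : G} (hu : Commute u z) (hua : Commute u a) {m : G} (hm : m ∈ Q.J)
    (h : Q.vc m ∈ Q.kSet u) : Commute m u := by
  obtain ⟨n, hn, hnu, e⟩ := Q.mem_kSet.1 h
  have := hnu.mul_left (Q.cen_zc hu hua (Q.vc_eq hn hm e)).symm
  rwa [mul_inv_cancel_left] at this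

theorem kSet_fix {u : G} (hu : Commute u z) {v : ℕ} (h : v ∈ Q.kSet u) : v < 256 ∧ ap (Q.κ u) v = v := by
  obtain ⟨m, hm, hmu, rfl⟩ := Q.mem_kSet.1 h
  exact ⟨Q.vc_lt m, Q.fixed_of_commute hu hm hmu.symm⟩

theorem kSet_xor {u : G} {v w : ℕ} (hv : v ∈ Q.kSet u) (hw : w ∈ Q.kSet u) : v ^^^ w ∈ Q.kSet u := by
  obtain ⟨m, hm, hmu, rfl⟩ := Q.mem_kSet.1 hv
  obtain ⟨n, hn, hnu, rfl⟩ := Q.mem_kSet.1 hw
  exact Q.mem_kSet.2 ⟨m * n, mul_mem hm hn, hmu.mul_left hnu, Q.vc_mul m hm n hn⟩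

/-- The fixed vectors. -/
def fSet (_Q : Quad C z a) (c : ℕ) : Finset ℕ := (Finset.range 256).filter fun v => ap c v = v

theorem mem_fSet {c v : ℕ} : v ∈ Q.fSet c ↔ v < 256 ∧ ap c v = v := by simp [fSet]

theorem kSet_sub {u : G} (hu : Commute u z) : Q.kSet u ⊆ Q.fSet (Q.κ u) := fun _ h => Q.mem_fSet.2 (Q.kSet_fix hu h)

theorem fSet_length (c : ℕ) : (Q.fSet c).card = (fxL c).length := by
  rw [← List.toFinset_card_of_nodup (show (fxL c).Nodup from List.Nodup.filter _ List.nodup_range)]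
  congr 1
  ext v
  simp [fSet, fxL, vecs]

theorem defect {u : G} (hu : Commute u z) (hua : Commute u a) {m : G} (hm : m ∈ Q.J)
    (e : ap (Q.κ u) (Q.vc m) = Q.vc m) : ∃ y, Q.Zc y ∧ u * m * u⁻¹ = m * y :=
  ⟨_, Q.fixed_zc hu hm e, (mul_inv_cancel_left _ _).symm⟩

/-- The index of the centralised vectors among the fixed ones. -/
theorem fix_le {u : G} (hu : Commute u z) (hua : Commute u a) (Z : Finset G)
    (hZ : ∀ m ∈ Q.J, ap (Q.κ u) (Q.vc m) = Q.vc m → m⁻¹ * (u * m * u⁻¹) ∈ Z) :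
    (Q.fSet (Q.κ u)).card ≤ Z.card * (Q.kSet u).card := by
  classical
  choose L hL hLv using fun v : {v // v < 256} => Q.vc_surj v.1 v.2
  let L' : ℕ → G := fun v => if h : v < 256 then L ⟨v, h⟩ else 1
  have hL' : ∀ v < 256, L' v ∈ Q.J ∧ Q.vc (L' v) = v := fun v h => by
    simp only [L', dif_pos h]; exact ⟨hL _, hLv _⟩
  let f : ℕ → G := fun v => (L' v)⁻¹ * (u * L' v * u⁻¹)
  have himg : (Q.fSet (Q.κ u)).image f ⊆ Z := by
    intro y hy
    obtain ⟨v, hv, rfl⟩ := Finset.mem_image.1 hy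
    obtain ⟨hv, hvf⟩ := Q.mem_fSet.1 hv
    exact hZ _ (hL' v hv).1 (by rw [(hL' v hv).2, hvf])
  refine (Finset.card_le_mul_card_image (f := f) _ (Q.kSet u).card fun y hy => ?_).trans ?_
  · obtain ⟨v₀, hv₀, rfl⟩ := Finset.mem_image.1 hy
    refine Finset.card_le_card_of_injOn (fun v => v ^^^ v₀) (fun v hv => ?_) fun _ _ _ _ h => Nat.xor_left_injective h
    rw [Finset.mem_coe, Finset.mem_filter] at hv
    obtain ⟨hv, hfv⟩ := hv
    obtain ⟨hv, hvf⟩ := Q.mem_fSet.1 hv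
    obtain ⟨hv₀, hv₀f⟩ := Q.mem_fSet.1 hv₀
    obtain ⟨h1, h2⟩ := hL' v hv
    obtain ⟨h3, h4⟩ := hL' v₀ hv₀
    obtain ⟨y, hy, e⟩ := Q.defect hu hua h1 (by rw [h2, hvf])
    obtain ⟨y', hy', e'⟩ := Q.defect hu hua h3 (by rw [h4, hv₀f])
    have hyy : y = y' := by
      simp only [f] at hfv
      rwa [e, e', inv_mul_cancel_left, inv_mul_cancel_left] at hfv
    refine Finset.mem_coe.2 (Q.mem_kSet.2 ⟨L' v * L' v₀, mul_mem h1 h3, ?_, by rw [Q.vc_mul _ h1 _ h3, h2, h4]⟩)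
    refine (mul_inv_eq_iff_eq_mul.1 ?_ : Commute u _).symm
    rw [show u * (L' v * L' v₀) * u⁻¹ = u * L' v * u⁻¹ * (u * L' v₀ * u⁻¹) by group, e, e', ← hyy, mul_assoc,
      ← mul_assoc y, (Q.zc_comm hy h3).eq, mul_assoc (L' v₀), Q.zc_sq hy, mul_one]
  · rw [mul_comm]
    exact Nat.mul_le_mul_right _ (Finset.card_le_card himg)

theorem quarter {u : G} (hu : Commute u z) (hua : Commute u a) :
    (Q.fSet (Q.κ u)).card ≤ 4 * (Q.kSet u).card := by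
  classical
  refine (Q.fix_le hu hua {1, z, a, a * z} fun m hm e => ?_).trans (Nat.mul_le_mul_right _ Finset.card_le_four)
  rcases Q.fixed_zc hu hm e with h | h | h | h <;> simp [h]

/-- Singular vectors of the range are centralised, the others not. -/
theorem rng_rule {u : G} (hu : Commute u z) (hua : Commute u a) (h2 : u * u = 1) {w : ℕ} (hw : w < 256) :
    ap (Q.κ u) w ^^^ w ∈ Q.kSet u ↔ C.q (ap (Q.κ u) w ^^^ w) = 0 := by
  obtain ⟨m, hm, rfl⟩ := Q.vc_surj w hw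
  obtain ⟨e, he⟩ : ∃ e, e = u * m * u⁻¹ * m⁻¹ := ⟨_, rfl⟩
  have heJ : e ∈ Q.J := he ▸ mul_mem (Q.norm u hu m hm) (inv_mem hm)
  have hev : Q.vc e = ap (Q.κ u) (Q.vc m) ^^^ Q.vc m := by
    rw [he, Q.vc_mul _ (Q.norm u hu m hm) _ (inv_mem hm), Q.act u hu m hm, Q.vc_inv hm]
  have hui := inv_eq_of_mul_eq_one_right h2
  have hinv : u * e * u⁻¹ = e⁻¹ := by
    rw [he, hui]
    simp only [mul_inv_rev, inv_inv, hui]
    rw [show u * (u * m * u * m⁻¹) * u = u * u * (m * u * m⁻¹ * u) by simp only [mul_assoc], h2, one_mul]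
    simp only [mul_assoc]
  rw [← hev]
  constructor
  · intro h
    refine Q.q_of_sq heJ ?_
    have h1 := Q.kSet_lift hu hua heJ h
    rw [mul_inv_eq_iff_eq_mul.2 h1.symm.eq] at hinv
    nth_rewrite 2 [hinv]
    exact mul_inv_cancel e
  · intro h
    refine Q.mem_kSet.2 ⟨e, heJ, (mul_inv_eq_iff_eq_mul.1 ?_ : Commute u e).symm, rfl⟩
    rw [hinv, inv_eq_of_mul_eq_one_right (Q.sq_one heJ h)]

/-! ### The defect of an inner involution -/

include Q in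
theorem plane_fix {p : ℕ} (hp : p ∈ planeL C) : p < 256 ∧ ∀ c, WordCode C.gens c → ap c p = p := by
  have h : planeChk C = true := by
    rcases list_cases Q.std with rfl | rfl | rfl
    exacts [plane_U, plane_P, plane_P]
  have hp' : p < 256 := by
    rcases list_cases Q.std with rfl | rfl | rfl <;>
      simp [planeL, isU, cfgU, cfgP, cfgM, gensU, gensP] at hp <;> omega
  refine ⟨hp', ?_⟩
  simp only [planeChk, List.all_eq_true, vecs, List.mem_range, beq_iff_eq] at h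
  have h1 := h p hp'
  rw [List.contains_iff_mem.2 hp, List.all_eq_true] at h1
  rintro c ⟨w, hw, rfl⟩
  induction w with
  | nil => rw [cw_nil, ap_idc hp']
  | cons i w ih =>
    rw [cw_cons, ap_cm, ih fun j hj => hw j (List.mem_cons_of_mem _ hj)]
    exact nbeq_iff.1 (h1 i (List.mem_range.2 (hw i List.mem_cons_self)))

include Q in
theorem eps_mul {y y' : G} (hy : y = 1 ∨ y = z) (hy' : y' = 1 ∨ y' = z) : y * y' = 1 ∨ y * y' = z := by
  rcases hy with e | e <;> rcases hy' with e' | e' <;> rw [e, e'] <;> simp [Q.z2]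

include Q in
theorem not_eps {y : G} (hy : y = a ∨ y = a * z) : ¬ (y = 1 ∨ y = z) := by
  rcases hy with e | e <;> rw [e] <;> rintro (h | h)
  exacts [Q.a1 h, Q.az h, Q.az1 h, Q.az_ne h]

/-- Inner elements move a lift of a vector of the fixed plane at most by `z`. -/
theorem plane_defect {p : ℕ} (hp : p ∈ planeL C) {m : G} (hm : m ∈ Q.J) (hmp : Q.vc m = p) {h : G} (hh : Q.Inn h) :
    m⁻¹ * (h * m * h⁻¹) = 1 ∨ m⁻¹ * (h * m * h⁻¹) = z := by
  classical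
  obtain ⟨hp', hfix⟩ := Q.plane_fix hp
  let y : G → G := fun h => m⁻¹ * (h * m * h⁻¹)
  have hy : ∀ {h}, Q.Inn h → Q.Zc (y h) := fun {h} hh => Q.fixed_zc hh.1 hm (by rw [hmp, hfix _ hh.2])
  have ymul : ∀ {g h}, Q.Inn g → Q.Inn h → y (g * h) = y g * y h := fun {g h} hg hh => by
    have h1 : g * h * m * (g * h)⁻¹ = g * (m * y h) * g⁻¹ := by simp only [y]; group
    show m⁻¹ * (g * h * m * (g * h)⁻¹) = _
    rw [h1, show g * (m * y h) * g⁻¹ = g * m * g⁻¹ * (g * y h * g⁻¹) by group,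
      mul_inv_eq_iff_eq_mul.2 (Q.inn_zc hg (hy hh)).eq, ← mul_assoc]
  let ψ : G → ℤˣ := fun h => if y h = 1 ∨ y h = z then 1 else -1
  have ψmul : ∀ {g h}, Q.Inn g → Q.Inn h → ψ (g * h) = ψ g * ψ h := by
    intro g h hg hh
    have hsplit : ∀ {u}, Q.Inn u → (y u = 1 ∨ y u = z) ∨ (y u = a ∨ y u = a * z) := fun {u} hu => by
      rcases hy hu with e | e | e | e <;> simp [e]
    simp only [ψ, ymul hg hh]
    rcases hsplit hg with e | e <;> rcases hsplit hh with e' | e'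
    · simp [e, e', Q.eps_mul e e']
    · have : ¬ (y g * y h = 1 ∨ y g * y h = z) := fun he => Q.not_eps e' (by
        rcases e with e | e <;> rw [e] at he
        · simpa using he
        · rcases he with he | he
          · exact Or.inr (by rw [← mul_right_inj z, he, Q.z2])
          · exact Or.inl (mul_eq_left.1 he))
      simp [e, Q.not_eps e', this]
    · have : ¬ (y g * y h = 1 ∨ y g * y h = z) := fun he => Q.not_eps e (by
        rcases e' with e' | e' <;> rw [e'] at he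
        · simpa using he
        · rcases he with he | he
          · exact Or.inr (by rw [← mul_left_inj z, he, Q.z2])
          · exact Or.inl (mul_eq_right.1 he))
      simp [Q.not_eps e, e', this]
    · have : y g * y h = 1 ∨ y g * y h = z := by
        rcases e with e | e <;> rcases e' with e' | e' <;> rw [e, e']
        · exact Or.inl Q.a2
        · exact Or.inr (by rw [← mul_assoc, Q.a2, one_mul])
        · exact Or.inr (by rw [mul_assoc, Q.za.eq, ← mul_assoc, Q.a2, one_mul])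
        · exact Or.inl Q.az2
      simp [Q.not_eps e, Q.not_eps e', this]
  have ψJ : ∀ j ∈ Q.J, ψ j = 1 := fun j hj => by
    have : y j = 1 ∨ y j = z := by
      rcases Q.cmt j hj m hm with e | e
      · left
        show m⁻¹ * (j * m * j⁻¹) = 1
        rw [mul_inv_eq_one.1 e, inv_mul_cancel]
      · right
        show m⁻¹ * (j * m * j⁻¹) = z
        rw [mul_inv_eq_iff_eq_mul.1 e, ← (Q.cz m hm).eq, inv_mul_cancel_left]
    simp [ψ, this]
  choose l hl hle using fun b : {b // b < 4} => Q.gens b.1 b.2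
  let l' : ℕ → G := fun b => if hb : b < 4 then l ⟨b, hb⟩ else 1
  have hl' : ∀ b < 4, Q.Inn (l' b) ∧ Q.κ (l' b) = C.gens.getD b 0 := fun b hb => by
    simp only [l', dif_pos hb]
    exact ⟨⟨hl _, (hle ⟨b, hb⟩) ▸ wordCode_gen Q.std hb⟩, hle _⟩
  have hword : ∀ (w : List ℕ), (∀ i ∈ w, i < 4) → ∀ h, Commute h z → Q.κ h = cw C.gens w →
      ψ h = (w.map fun b => ψ (l' b)).prod := by
    intro w
    induction w with
    | nil => intro _ h hh e; rw [List.map_nil, List.prod_nil]; exact ψJ h (Q.ker h hh (by rw [e, cw_nil]))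
    | cons i w ih =>
      intro hw h hh e
      obtain ⟨hi, hie⟩ := hl' i (hw i List.mem_cons_self)
      have hk : Q.κ ((l' i)⁻¹ * h) = cw C.gens w := by
        rw [Q.κ_mul hi.1.inv_left hh, e, cw_cons, ← hie, ← cm_assoc, (Q.κ_inv hi.1).2, idc_cm (cw_lt _ _)]
      have hin : Q.Inn ((l' i)⁻¹ * h) :=
        ⟨hi.1.inv_left.mul_left hh, w, fun j hj => hw j (List.mem_cons_of_mem _ hj), hk⟩
      rw [List.map_cons, List.prod_cons, ← ih (fun j hj => hw j (List.mem_cons_of_mem _ hj)) _ hin.1 hk,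
        ← ψmul hi hin, mul_inv_cancel_left]
  have hev : evenChk C.gens = true := by
    rcases list_cases Q.std with rfl | rfl | rfl
    exacts [even_U, even_P, even_P]
  have hsq : ∀ u : ℤˣ, u * u = 1 := Int.units_mul_self
  have h0 : ψ (l' 0) = 1 := by
    have h3 := hword [0, 0, 0] (by decide) 1 (Commute.one_left z) (by rw [Q.κ_one, g0_cube _ Q.gens_mem])
    simp only [List.map_cons, List.map_nil, List.prod_cons, List.prod_nil, mul_one] at h3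
    rwa [hsq, mul_one, ψJ 1 (one_mem _), eq_comm] at h3
  simp only [evenChk, List.all_eq_true, List.mem_range, Bool.and_eq_true, Bool.or_eq_true, beq_iff_eq, nbeq_iff,
    Nat.blt_eq] at hev
  have hp2 : ∀ (u : ℤˣ) (n : ℕ), n % 2 = 0 → u ^ n = 1 := fun u n hn => by
    rw [← Nat.div_add_mod n 2, hn, add_zero, pow_mul, pow_two, hsq, one_pow]
  have hgen : ∀ b < 4, ψ (l' b) = 1 := by
    intro b hb
    obtain ⟨hla, hlae⟩ := hl' b hb
    obtain ⟨⟨hu4, hue⟩, heven⟩ := hev b hb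
    rw [hword _ hu4 _ hla.1 (hlae.trans hue.symm), prod_letters (fun b => ψ (l' b)) h0 _ hu4]
    rw [hp2 _ _ ((heven 1 (by norm_num)).resolve_left (by norm_num)),
      hp2 _ _ ((heven 2 (by norm_num)).resolve_left (by norm_num)),
      hp2 _ _ ((heven 3 (by norm_num)).resolve_left (by norm_num)), mul_one, mul_one]
  obtain ⟨hz', w, hw, e⟩ := hh
  have h1 : ψ h = 1 := by
    rw [hword w hw h hz' e]
    refine List.prod_eq_one fun x hx => ?_
    obtain ⟨b, hb, rfl⟩ := List.mem_map.1 hx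
    exact hgen b (hw b hb)
  by_contra hcon
  simp only [ψ] at h1
  rw [if_neg hcon] at h1
  exact absurd h1 (by decide)

/-- An inner involution moves lifts of fixed vectors at most by `z`. -/
theorem inner_defect {u : G} (hu : Q.Inn u) (h2 : u * u = 1) (hne : Q.κ u ≠ idc) {m : G} (hm : m ∈ Q.J)
    (e : ap (Q.κ u) (Q.vc m) = Q.vc m) : m⁻¹ * (u * m * u⁻¹) = 1 ∨ m⁻¹ * (u * m * u⁻¹) = z := by
  classical
  obtain ⟨-, j, hj, c, hc, hcj⟩ := Q.invol _ hu.2 (Q.κ_invol hu.1 h2) hne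
  obtain ⟨g₀, hg₀, hg₀e⟩ := Q.lift_code hc
  suffices main : ∀ (u : G), Q.Inn u → u * u = 1 → Q.κ u = xC C.gens j → ∀ m ∈ Q.J,
      ap (Q.κ u) (Q.vc m) = Q.vc m → m⁻¹ * (u * m * u⁻¹) = 1 ∨ m⁻¹ * (u * m * u⁻¹) = z by
    have hm' := Q.norm g₀ hg₀.1 m hm
    have hk : Q.κ (g₀ * u * g₀⁻¹) = xC C.gens j := by
      rw [Q.κ_conj hg₀.1 hu.1, hg₀e, hcj, cm_assoc, ← hg₀e, (Q.κ_inv hg₀.1).1, cm_idc (show xC C.gens j < 2 ^ 64 from cw_lt _ _)]
    have hf : ap (Q.κ (g₀ * u * g₀⁻¹)) (Q.vc (g₀ * m * g₀⁻¹)) = Q.vc (g₀ * m * g₀⁻¹) := by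
      have hh := (hg₀.1.mul_left hu.1).mul_left hg₀.1.inv_left
      rw [← Q.act _ hh _ hm', show g₀ * u * g₀⁻¹ * (g₀ * m * g₀⁻¹) * (g₀ * u * g₀⁻¹)⁻¹ =
        g₀ * (u * m * u⁻¹) * g₀⁻¹ by group, Q.act g₀ hg₀.1 _ (Q.norm u hu.1 m hm), Q.act g₀ hg₀.1 m hm,
        Q.act u hu.1 m hm, e]
    have h := main _ (Q.inn_conj hu hg₀.1)
      (by rw [show g₀ * u * g₀⁻¹ * (g₀ * u * g₀⁻¹) = g₀ * (u * u) * g₀⁻¹ by group, h2, mul_one, mul_inv_cancel])
      hk _ hm' hf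
    rw [show (g₀ * m * g₀⁻¹)⁻¹ * (g₀ * u * g₀⁻¹ * (g₀ * m * g₀⁻¹) * (g₀ * u * g₀⁻¹)⁻¹) =
      g₀ * (m⁻¹ * (u * m * u⁻¹)) * g₀⁻¹ by group] at h
    rcases h with h | h
    · exact Or.inl (conj_eq_one_iff.1 h)
    · exact Or.inr (by
        have := congrArg (fun x => g₀⁻¹ * x * g₀) h
        rwa [show g₀⁻¹ * (g₀ * (m⁻¹ * (u * m * u⁻¹)) * g₀⁻¹) * g₀ = m⁻¹ * (u * m * u⁻¹) by group,
          show g₀⁻¹ * z * g₀ = z by rw [hg₀.1.inv_left.eq, mul_assoc, inv_mul_cancel, mul_one]] at this)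
  clear hne hcj hc hg₀e hg₀ h2 hu hm e
  intro u hu h2 hκ m hm hfm
  -- the good vectors
  let good : ℕ → Prop := fun v => ∃ m ∈ Q.J, Q.vc m = v ∧ (m⁻¹ * (u * m * u⁻¹) = 1 ∨ m⁻¹ * (u * m * u⁻¹) = z)
  have hzc : ∀ {y}, Q.Zc y → Commute u y := fun {y} hy => Q.inn_zc hu hy
  have gxor : ∀ {v w}, good v → good w → good (v ^^^ w) := by
    rintro _ _ ⟨n, hn, rfl, hn1⟩ ⟨n', hn', rfl, hn'1⟩
    refine ⟨n * n', mul_mem hn hn', Q.vc_mul n hn n' hn', ?_⟩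
    have hy : Q.Zc (n⁻¹ * (u * n * u⁻¹)) := by rcases hn1 with h | h <;> rw [h] <;> simp [Zc]
    rw [show (n * n')⁻¹ * (u * (n * n') * u⁻¹) = n'⁻¹ * (n⁻¹ * (u * n * u⁻¹)) * (u * n' * u⁻¹) by group,
      ← (Q.zc_comm hy (inv_mem hn')).eq, mul_assoc]
    exact Q.eps_mul hn1 hn'1
  have gone : ∀ {m}, m ∈ Q.J → good (Q.vc m) → m⁻¹ * (u * m * u⁻¹) = 1 ∨ m⁻¹ * (u * m * u⁻¹) = z := by
    rintro n hn ⟨n', hn', e, h⟩
    obtain ⟨y, hy, rfl⟩ : ∃ y, Q.Zc y ∧ n = n' * y := ⟨_, Q.vc_eq hn' hn e, (mul_inv_cancel_left _ _).symm⟩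
    rwa [show (n' * y)⁻¹ * (u * (n' * y) * u⁻¹) = y⁻¹ * (n'⁻¹ * (u * n' * u⁻¹)) * (u * y * u⁻¹) by group,
      mul_inv_eq_iff_eq_mul.2 (hzc hy).eq,
      show y⁻¹ * (n'⁻¹ * (u * n' * u⁻¹)) = n'⁻¹ * (u * n' * u⁻¹) * y⁻¹ from
        ((Q.zc_comm hy (mul_mem (inv_mem hn') (Q.norm u hu.1 n' hn'))).inv_left).eq,
      inv_mul_cancel_right]
  have hspan : fixSpanChk C j = true := by
    rcases list_cases Q.std with rfl | rfl | rfl <;> interval_cases j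
    exacts [span_U0, span_U1, span_P0, span_P1, span_M0, span_M1]
  simp only [fixSpanChk, Bool.and_eq_true, List.all_eq_true, List.any_eq_true, nbeq_iff] at hspan
  obtain ⟨⟨-, hsp⟩, -⟩ := hspan
  rw [hκ] at hfm
  obtain ⟨p, hp, d, hd, d', hd', hsum⟩ := hsp (Q.vc m) (by simp [fxL, vecs, Q.vc_lt, hfm])
  have dgood : ∀ d ∈ (rL C j ++ ((ceL C.gens j).take 16).flatMap fun e =>
      (fxL (xC C.gens j)).map fun v => ap e v ^^^ v).eraseDups, good d := by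
    intro d hd
    rw [List.mem_eraseDups, List.mem_append, List.mem_flatMap] at hd
    rcases hd with hd | ⟨e, he, hd⟩
    · obtain ⟨-, w, hw, rfl⟩ := mem_rL.1 hd
      obtain ⟨k, hk, rfl⟩ := Q.vc_surj w hw
      have hn := mul_mem (Q.norm u hu.1 k hk) (inv_mem hk)
      refine ⟨u * k * u⁻¹ * k⁻¹, hn, by
        rw [Q.vc_mul _ (Q.norm u hu.1 k hk) _ (inv_mem hk), Q.act u hu.1 k hk, Q.vc_inv hk, hκ], ?_⟩
      have hui := inv_eq_of_mul_eq_one_right h2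
      have hinv : u * (u * k * u⁻¹ * k⁻¹) * u⁻¹ = (u * k * u⁻¹ * k⁻¹)⁻¹ := by
        rw [hui]
        simp only [mul_inv_rev, inv_inv, hui]
        rw [show u * (u * k * u * k⁻¹) * u = u * u * (k * u * k⁻¹ * u) by simp only [mul_assoc], h2, one_mul]
        simp only [mul_assoc]
      rw [hinv, ← mul_inv_rev]
      rcases Q.sq _ hn with h | h <;> rw [h]
      exacts [Or.inl inv_one, Or.inr Q.z_inv]
    · obtain ⟨v, hv, rfl⟩ := List.mem_map.1 hd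
      obtain ⟨hv, hvf⟩ : v < 256 ∧ ap (xC C.gens j) v = v := by simpa [fxL, vecs] using hv
      obtain ⟨hword, hcomm⟩ := Q.ce_spec hj (List.mem_of_mem_take he)
      obtain ⟨h, hh, hhe⟩ := Q.lift_code hword
      obtain ⟨k, hk, rfl⟩ := Q.vc_surj v hv
      obtain ⟨y, hy, hye⟩ := Q.defect hu.1 (Q.inn_comm hu) hk (by rw [hκ, hvf])
      have hκh : Q.κ (h⁻¹ * u * h⁻¹⁻¹) = Q.κ u := by
        rw [Q.κ_conj_fix hh.1.inv_left hu.1]
        have h1 := congrArg (fun x => cm (Q.κ h⁻¹) (cm x (Q.κ h⁻¹))) hcomm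
        simp only [← hhe, ← hκ] at h1
        rw [cm_assoc, cm_assoc, (Q.κ_inv hh.1).1, cm_idc (Q.κ_lt _), ← cm_assoc (Q.κ h⁻¹) (Q.κ h),
          (Q.κ_inv hh.1).2, idc_cm (cm_lt _ _)] at h1
        exact h1
      have hj' := (Q.κ_eq_iff hu.1 ((hh.1.inv_left.mul_left hu.1).mul_left hh.1.inv_left.inv_left)).1 hκh.symm
      obtain ⟨i, hi, hie⟩ : ∃ i ∈ Q.J, u * h = h * (u * i) := ⟨_, hj', by group⟩
      obtain ⟨ε, hε, hεe⟩ : ∃ ε, (ε = 1 ∨ ε = z) ∧ i * k * i⁻¹ = ε * k := by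
        rcases Q.cmt i hi k hk with h | h
        exacts [⟨1, Or.inl rfl, by rw [one_mul]; exact mul_inv_eq_one.1 h⟩,
          ⟨z, Or.inr rfl, mul_inv_eq_iff_eq_mul.1 h⟩]
      have hεz : Q.Zc ε := by rcases hε with rfl | rfl <;> simp [Zc]
      have hk' := Q.norm h hh.1 k hk
      refine ⟨h * k * h⁻¹ * k⁻¹, mul_mem hk' (inv_mem hk), by
        rw [Q.vc_mul _ hk' _ (inv_mem hk), Q.act h hh.1 k hk, hhe, Q.vc_inv hk], ?_⟩
      have hA : u * (h * k * h⁻¹) * u⁻¹ = ε * (h * k * h⁻¹) * y := by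
        have hye' : u * k * u⁻¹ = k * y := hye
        calc u * (h * k * h⁻¹) * u⁻¹ = u * h * k * (u * h)⁻¹ := by group
          _ = h * (u * i) * k * (h * (u * i))⁻¹ := by rw [hie]
          _ = h * (u * (i * k * i⁻¹) * u⁻¹) * h⁻¹ := by group
          _ = h * (u * ε * u⁻¹ * (u * k * u⁻¹)) * h⁻¹ := by rw [hεe]; group
          _ = h * ε * h⁻¹ * (h * k * h⁻¹) * (h * y * h⁻¹) := by
            rw [mul_inv_eq_iff_eq_mul.2 (hzc hεz).eq, hye']; group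
          _ = _ := by rw [mul_inv_eq_iff_eq_mul.2 (Q.inn_zc hh hεz).eq, mul_inv_eq_iff_eq_mul.2 (Q.inn_zc hh hy).eq]
      have hB : u * k⁻¹ * u⁻¹ = y⁻¹ * k⁻¹ := by
        rw [show u * k⁻¹ * u⁻¹ = (u * k * u⁻¹)⁻¹ by group, hye, mul_inv_rev]
      rw [show u * (h * k * h⁻¹ * k⁻¹) * u⁻¹ = u * (h * k * h⁻¹) * u⁻¹ * (u * k⁻¹ * u⁻¹) by group, hA, hB,
        show ε * (h * k * h⁻¹) * y * (y⁻¹ * k⁻¹) = ε * (h * k * h⁻¹ * k⁻¹) by group,
        (Q.zc_comm hεz (mul_mem hk' (inv_mem hk))).eq, inv_mul_cancel_left]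
      exact hε
  obtain ⟨n, hn, hnp⟩ := Q.vc_surj p (Q.plane_fix hp).1
  exact gone hm (hsum ▸ gxor (gxor ⟨n, hn, hnp, Q.plane_defect hp hn hnp hu⟩ (dgood d hd)) (dgood d' hd'))

/-- Half of the fixed vectors of an inner involution are centralised. -/
theorem half {u : G} (hu : Q.Inn u) (h2 : u * u = 1) (hne : Q.κ u ≠ idc) :
    (Q.fSet (Q.κ u)).card ≤ 2 * (Q.kSet u).card := by
  classical
  refine (Q.fix_le hu.1 (Q.inn_comm hu) {1, z} fun m hm e => ?_).trans (Nat.mul_le_mul_right _ Finset.card_le_two)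
  rcases Q.inner_defect hu h2 hne hm e with h | h <;> simp [h]

end Quad

end Cfsg.Lib.U62Type
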