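import Cfsg.Agent.Lib.U62Type.FourChecks

/-!
# The lists evaluated
-/

set_option autoImplicit false
set_option Elab.async false

namespace Cfsg.Lib.U62Type

theorem commStd_U : commStdChk cfgU = true := by decide +kernel

theorem commStd_P : commStdChk cfgP = true := by decide +kernel

theorem commStd_M : commStdChk cfgM = true := by decide +kernel

theorem span_U0 : fixSpanChk cfgU 0 = true := by decide +kernel

theorem span_U1 : fixSpanChk cfgU 1 = true := by decide +kernel

theorem span_P0 : fixSpanChk cfgP 0 = true := by decide +kernel

theorem span_P1 : fixSpanChk cfgP 1 = true := by decide +kernel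

theorem span_M0 : fixSpanChk cfgM 0 = true := by decide +kernel

theorem span_M1 : fixSpanChk cfgM 1 = true := by decide +kernel

theorem swap_P : swapChk cfgP = true := by decide +kernel

theorem swap_M : swapChk cfgM = true := by decide +kernel

end Cfsg.Lib.U62Type
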