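import Cfsg.Agent.Lib.U62Type.FourChecks

/-!
# The lists evaluated
-/

set_option autoImplicit false
set_option Elab.async false

namespace Cfsg.Lib.U62Type

theorem uThick_U : uThickChk cfgU = true := by decide +kernel

theorem rVec_P : rVecChk cfgP = true := by decide +kernel

theorem rVec_M : rVecChk cfgM = true := by decide +kernel

end Cfsg.Lib.U62Type
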