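import Cfsg.Agent.Lib.U62Type.FourTriple

/-!
# The plane fixed, second involution
-/

set_option autoImplicit false
set_option maxRecDepth 10000
set_option Elab.async false

namespace Cfsg.Lib.U62Type

theorem ptBig1 : ptBig cfgM 9241439280843457281 1 = ptList1 := by decide +kernel

theorem ptTri1a : ptTriOn cfgM 9241439280843457281 1 (ptList1.take 24) ptList1 = true := by decide +kernel

theorem ptTri1b : ptTriOn cfgM 9241439280843457281 1 (ptList1.drop 24) ptList1 = true := by decide +kernel

theorem ptTri1 : ptTri cfgM 9241439280843457281 1 ptList1 = true := ptTri_split _ _ _ _ 24 ptTri1a ptTri1b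

end Cfsg.Lib.U62Type
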