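import Cfsg.Agent.Lib.U62Type.FourTriple

/-!
# The plane moved
-/

set_option autoImplicit false
set_option maxRecDepth 10000
set_option Elab.async false

namespace Cfsg.Lib.U62Type

theorem ptAt_a0 : ptAt cfgM 13853125299270845185 0 = true := by decide +kernel

theorem ptAt_a1 : ptAt cfgM 13853125299270845185 1 = true := by decide +kernel

theorem ptAt_b0 : ptAt cfgM 4647767660925551361 0 = true := by decide +kernel

theorem ptAt_b1 : ptAt cfgM 4647767660925551361 1 = true := by decide +kernel

theorem ptAt_c0 : ptAt cfgM 9277468077862421249 0 = true := by decide +kernel

theorem ptAt_c1 : ptAt cfgM 9277468077862421249 1 = true := by decide +kernel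

theorem outL_M : outL cfgM = [9241439280843457281, 13853125299270845185, 4647767660925551361, 9277468077862421249] := by
  decide +kernel

theorem outL_P : outL cfgP = [9241439280843457281, 4647767660925551361] := by decide +kernel

end Cfsg.Lib.U62Type
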