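import Cfsg.Agent.Lib.U62Type.FourTriple0
import Cfsg.Agent.Lib.U62Type.FourTriple1
import Cfsg.Agent.Lib.U62Type.FourTriple2

/-!
# The lists evaluated
-/

set_option autoImplicit false

namespace Cfsg.Lib.U62Type

theorem ptAt_M {k j : ℕ} (hk : k ∈ outL cfgM) (hj : j ∈ List.range 2) : ptAt cfgM k j = true := by
  rw [outL_M] at hk
  simp only [List.mem_cons, List.not_mem_nil, or_false] at hk
  have h2 : j = 0 ∨ j = 1 := by have := List.mem_range.1 hj; omega
  rcases hk with rfl | rfl | rfl | rfl <;> rcases h2 with rfl | rfl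
  · rw [ptAt, if_pos plane_ok0, ptBig0]; exact ptTri0
  · rw [ptAt, if_pos plane_ok0, ptBig1]; exact ptTri1
  · exact ptAt_a0
  · exact ptAt_a1
  · exact ptAt_b0
  · exact ptAt_b1
  · exact ptAt_c0
  · exact ptAt_c1

theorem planeTriple_M : planeTripleChk cfgM = true := by
  simp only [planeTriple_split, List.all_eq_true]
  exact fun k hk j hj => ptAt_M hk hj

theorem planeTriple_P : planeTripleChk cfgP = true := by
  simp only [planeTriple_split, List.all_eq_true]
  intro k hk j hj
  refine (rfl : ptAt cfgP k j = ptAt cfgM k j).trans (ptAt_M ?_ hj)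
  rw [outL_P] at hk
  rw [outL_M]
  simp only [List.mem_cons, List.not_mem_nil, or_false] at hk ⊢
  rcases hk with rfl | rfl <;> simp

end Cfsg.Lib.U62Type
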