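import Cfsg.Agent.Lib.U62Type.FourChecks

/-!
# Outer involutions and singular spaces
-/

set_option autoImplicit false
set_option maxRecDepth 10000
set_option Elab.async false

namespace Cfsg.Lib.U62Type

/-- One member of `tsChk`. -/
def tsAt (C : Cfg) (k : ℕ) : Bool :=
  (List.range 2).all fun j => (parOut C k j).all fun p =>
    let x := xC C.gens j
    let W := (fxL p).filter fun v => Nat.beq (C.q v) 0 && Nat.beq (ap x v) v
    let m := max (fxL x).length (fxL (cm x p)).length
    Nat.blt (4 * W.length) m || (Nat.beq (4 * W.length) m && W.any fun a => W.any fun b => Nat.beq (C.q (a ^^^ b)) 1)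

theorem tsAt_split (C : Cfg) : tsChk C = (outL C).all (tsAt C) := rfl

theorem tsAt_cfgP0 : tsAt cfgP 9241439280843457281 = true := by decide +kernel

theorem tsAt_cfgP1 : tsAt cfgP 4647767660925551361 = true := by decide +kernel

theorem tsAt_cfgP_list : outL cfgP = [9241439280843457281, 4647767660925551361] := by decide +kernel

theorem ts_P : tsChk cfgP = true := by
  simp only [tsAt_split, tsAt_cfgP_list, List.all_cons, List.all_nil, tsAt_cfgP0, tsAt_cfgP1, Bool.and_self]

theorem tsAt_cfgM0 : tsAt cfgM 9241439280843457281 = true := by decide +kernel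

theorem tsAt_cfgM1 : tsAt cfgM 13853125299270845185 = true := by decide +kernel

theorem tsAt_cfgM2 : tsAt cfgM 4647767660925551361 = true := by decide +kernel

theorem tsAt_cfgM3 : tsAt cfgM 9277468077862421249 = true := by decide +kernel

theorem tsAt_cfgM_list : outL cfgM = [9241439280843457281, 13853125299270845185, 4647767660925551361, 9277468077862421249] := by decide +kernel

theorem ts_M : tsChk cfgM = true := by
  simp only [tsAt_split, tsAt_cfgM_list, List.all_cons, List.all_nil, tsAt_cfgM0, tsAt_cfgM1, tsAt_cfgM2, tsAt_cfgM3, Bool.and_self]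

end Cfsg.Lib.U62Type
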