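import Cfsg.Agent.Lib.U62Type.FourChecks

/-!
# Outer involutions in the unitary case
-/

set_option autoImplicit false
set_option maxRecDepth 10000
set_option Elab.async false

namespace Cfsg.Lib.U62Type

/-- One member of `uOuterChk`. -/
def uOuterAt (C : Cfg) (k : ℕ) : Bool :=
  (List.range 2).all fun j => (parOut C k j).all fun p =>
    let F := fxL p
    let n := (F.filter fun v => Nat.beq (C.q v) 0).length
    F.all (fun v => vecs.any fun u => Nat.beq (ap p u ^^^ u) v) &&
      [xC C.gens j, cm (xC C.gens j) p].all fun c =>
        F.any (fun v => Nat.beq (C.q v) 0 && !(Nat.beq (ap c v) v)) || Nat.blt (4 * n) (fxL c).length ||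
          vecs.any fun u =>
            let r := ap c u ^^^ u
            let inK := Nat.beq (ap p r) r && Nat.beq (C.q r) 0
            (Nat.beq (C.q r) 0 && !inK) || (Nat.beq (C.q r) 1 && inK)

theorem uOuterAt_split (C : Cfg) : uOuterChk C = (outL C).all (uOuterAt C) := rfl

theorem uOuterAt_cfgU0 : uOuterAt cfgU 13853125299270845185 = true := by decide +kernel

theorem uOuterAt_cfgU1 : uOuterAt cfgU 4647732545138983170 = true := by decide +kernel

theorem uOuterAt_cfgU2 : uOuterAt cfgU 9277450623048745475 = true := by decide +kernel

theorem uOuterAt_cfgU_list : outL cfgU = [13853125299270845185, 4647732545138983170, 9277450623048745475] := by decide +kernel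

theorem uOuter_U : uOuterChk cfgU = true := by
  simp only [uOuterAt_split, uOuterAt_cfgU_list, List.all_cons, List.all_nil, uOuterAt_cfgU0, uOuterAt_cfgU1, uOuterAt_cfgU2, Bool.and_self]

/-- One member of `swapChk`. -/
def swapAt (C : Cfg) (k : ℕ) : Bool :=
  (List.range 2).all fun j => (parOut C k j).all fun p =>
    let F := fxL p
    F.any (fun a => F.any fun b => Nat.beq (C.q (a ^^^ b)) 1) ||
      (Nat.beq F.length 16 && F.all (fun v => vecs.any fun u => Nat.beq (ap p u ^^^ u) v) &&
        (invL C).all fun e => !(cm e p == cm p e) || F.any fun v => !(Nat.beq (ap e v) v))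

theorem swapAt_split (C : Cfg) : swapChk C = (outL C).all (swapAt C) := rfl

theorem swapAt_cfgU0 : swapAt cfgU 13853125299270845185 = true := by decide +kernel

theorem swapAt_cfgU1 : swapAt cfgU 4647732545138983170 = true := by decide +kernel

theorem swapAt_cfgU2 : swapAt cfgU 9277450623048745475 = true := by decide +kernel

theorem swapAt_cfgU_list : outL cfgU = [13853125299270845185, 4647732545138983170, 9277450623048745475] := by decide +kernel

theorem swap_U : swapChk cfgU = true := by
  simp only [swapAt_split, swapAt_cfgU_list, List.all_cons, List.all_nil, swapAt_cfgU0, swapAt_cfgU1, swapAt_cfgU2, Bool.and_self]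

end Cfsg.Lib.U62Type
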