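import Cfsg.Agent.Lib.U62Type.FourTablesA
import Cfsg.Agent.Lib.U62Type.FourTablesB
import Cfsg.Agent.Lib.U62Type.FourTablesC
import Cfsg.Agent.Lib.U62Type.FourTablesD
import Cfsg.Agent.Lib.U62Type.FourTablesTs
import Cfsg.Agent.Lib.U62Type.FourTablesU

/-!
# The lists evaluated
-/
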