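import Cfsg.Agent.Lib.U62Type.FourPerp
import Cfsg.Agent.Lib.U62Type.FourTables

/-!
# Conjugates inside the 2-core
-/

set_option autoImplicit false
set_option linter.unusedSectionVars false
set_option linter.style.haveILetI false

namespace Cfsg.Lib.U62Type

variable {G : Type*} [Group G] [Finite G]

/-- In the centraliser of `w` no other conjugate of `z` commutes with it. -/
def Iso (z w : G) : Prop := ∀ g, Commute g w → Commute (g * z * g⁻¹) z → g * z * g⁻¹ = z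

/-- Every 2-group centralising `w` centralises a conjugate of `z` under the centraliser of `w`. -/
def Cent (z w : G) : Prop :=
  ∀ P : Subgroup G, IsPGroup 2 P → (∀ p ∈ P, Commute p w) →
    ∃ g, Commute g w ∧ ∀ p ∈ P, Commute p (g * z * g⁻¹)

/-- What is known about the centralisers of the two other central involutions. -/
structure Fus {C : Cfg} {z a : G} (Q : Quad C z a) : Prop where
  side : (∀ h, Commute h z → Commute h a) ∨
    (Iso z a ∧ Iso z (a * z) ∧ ∀ h, Commute h z → Commute h a → Q.Inn h)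
  centA : Cent z a
  centB : Cent z (a * z)
  noA : ∀ g, Commute g a → g * z * g⁻¹ ∈ Q.J → g * z * g⁻¹ = z
  noB : ∀ g, Commute g (a * z) → g * z * g⁻¹ ∈ Q.J → g * z * g⁻¹ = z
  sym : ∀ g, g * a * g⁻¹ = a * z → ∃ s, Commute s z ∧ s * a * s⁻¹ = a * z

theorem conj_back {g x y : G} (e : g * x * g⁻¹ = y) : g⁻¹ * y * g⁻¹⁻¹ = x := by subst e; group

theorem commute_conj_back {g x y : G} (h : Commute x (g * y * g⁻¹)) : Commute (g⁻¹ * x * g) y := by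
  simpa [mul_assoc] using (Commute.conj_iff g⁻¹).2 h

variable {C : Cfg} {z a : G} {Q : Quad C z a}

theorem Fus.other (F : Fus Q) : Fus Q.other where
  side := by
    rcases F.side with h | ⟨h1, h2, h3⟩
    · exact Or.inl fun x hx => (h x hx).mul_right hx
    · refine Or.inr ⟨h2, by rw [Q.az_z]; exact h1, fun x hx hxa => h3 x hx ?_⟩
      have := hxa.mul_right hx
      rwa [Q.az_z] at this
  centA := F.centB
  centB := by rw [Q.az_z]; exact F.centA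
  noA := F.noB
  noB := fun g hg => F.noA g (by rwa [Q.az_z] at hg)
  sym := fun g e => by
    rw [Q.az_z] at e
    have e' : g⁻¹ * a * g⁻¹⁻¹ = a * z := by
      rw [inv_inv]
      conv_lhs => rw [← e]
      group
    obtain ⟨s, hs, hse⟩ := F.sym g⁻¹ e'
    refine ⟨s, hs, ?_⟩
    rw [Q.az_z, show s * (a * z) * s⁻¹ = s * a * s⁻¹ * (s * z * s⁻¹) by group, hse, mul_inv_eq_iff_eq_mul.2 hs.eq,
      Q.az_z]

namespace Quad

variable (Q)

theorem isPGroup_J (E : Subgroup G) (hE : E ≤ Q.J) : IsPGroup 2 E := fun x => ⟨2, Subtype.ext (by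
  rw [SubgroupClass.coe_pow, show (2 : ℕ) ^ 2 = 2 * 2 from rfl, pow_mul, pow_two, pow_two]
  rcases Q.sq _ (hE x.2) with e | e <;> rw [e]
  exacts [one_mul 1, Q.z2])⟩

omit [Finite G] in
theorem fixed_of_commute {h j : G} (hh : Commute h z) (hj : j ∈ Q.J) (e : Commute h j) :
    ap (Q.κ h) (Q.vc j) = Q.vc j := by
  rw [← Q.act h hh j hj, mul_inv_eq_iff_eq_mul.2 e.eq]

omit [Finite G] in
theorem fixed_zc {h j : G} (hh : Commute h z) (hj : j ∈ Q.J) (e : ap (Q.κ h) (Q.vc j) = Q.vc j) :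
    Q.Zc (j⁻¹ * (h * j * h⁻¹)) :=
  Q.vc_eq hj (Q.norm h hh j hj) (by rw [Q.act h hh j hj, e])

omit [Finite G] in
theorem inn_commutator {j k : G} (hj : Commute j z) (hk : Commute k z) : Q.Inn (j * k * j⁻¹ * k⁻¹) := by
  rw [show j * k * j⁻¹ * k⁻¹ = j * k * (j * k) * ((k⁻¹ * j⁻¹ * k) * (k⁻¹ * j⁻¹ * k)) * (k⁻¹ * k⁻¹) by group]
  exact Q.inn_mul (Q.inn_mul (Q.inn_sq (hj.mul_left hk)) (Q.inn_sq ((hk.inv_left.mul_left hj.inv_left).mul_left hk)))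
    (Q.inn_sq hk.inv_left)

omit [Finite G] in
theorem inn_zc {h y : G} (hi : Q.Inn h) (hy : Q.Zc y) : Commute h y := by
  rcases hy with rfl | rfl | rfl | rfl
  exacts [Commute.one_right h, hi.1, Q.inn_comm hi, Q.inn_commB hi]

end Quad

/-- Sharing a central involution. -/
theorem Fus.share (F : Fus Q) {g : G} (h : Q.Zc (g * a * g⁻¹) ∨ Q.Zc (g * (a * z) * g⁻¹)) :
    ∃ g', g' * z * g'⁻¹ = g * z * g⁻¹ ∧ (Commute g' a ∨ Commute g' (a * z)) := by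
  have hz : ∀ {s : G}, Commute s z → g * s * z * (g * s)⁻¹ = g * z * g⁻¹ := fun {s} hs => by
    rw [show g * s * z * (g * s)⁻¹ = g * (s * z * s⁻¹) * g⁻¹ by group, mul_inv_eq_iff_eq_mul.2 hs.eq]
  rcases h with h | h
  · rcases h with e | e | e | e
    · exact absurd (conj_eq_one_iff.1 e) Q.a1
    · exact absurd (conj_back e) (Q.neA g⁻¹)
    · exact ⟨g, rfl, Or.inl (mul_inv_eq_iff_eq_mul.1 e)⟩
    · obtain ⟨s, hs, hse⟩ := F.sym g e
      refine ⟨g * s, hz hs, Or.inr (mul_inv_eq_iff_eq_mul.1 ?_)⟩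
      rw [show g * s * (a * z) * (g * s)⁻¹ = g * (s * a * s⁻¹ * (s * z * s⁻¹)) * g⁻¹ by group, hse,
        mul_inv_eq_iff_eq_mul.2 hs.eq, Q.az_z, e]
  · rcases h with e | e | e | e
    · exact absurd (conj_eq_one_iff.1 e) Q.az1
    · exact absurd (conj_back e) (Q.neB g⁻¹)
    · obtain ⟨s, hs, hse⟩ := F.sym g⁻¹ (conj_back e)
      refine ⟨g * s, hz hs, Or.inl (mul_inv_eq_iff_eq_mul.1 ?_)⟩
      rw [show g * s * a * (g * s)⁻¹ = g * (s * a * s⁻¹) * g⁻¹ by group, hse, e]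
    · exact ⟨g, rfl, Or.inr (mul_inv_eq_iff_eq_mul.1 e)⟩

theorem Fus.share_false (F : Fus Q) {g : G} (hJ : g * z * g⁻¹ ∈ Q.J) (hne : g * z * g⁻¹ ≠ z)
    (h : Q.Zc (g * a * g⁻¹) ∨ Q.Zc (g * (a * z) * g⁻¹)) : False := by
  obtain ⟨g', he, hg | hg⟩ := F.share h
  · exact hne (he ▸ F.noA g' hg (he ▸ hJ))
  · exact hne (he ▸ F.noB g' hg (he ▸ hJ))

theorem Fus.swap_false (F : Fus Q) (hIa : Iso z a) {g t t₁ m : G} {j : ℕ} (hj : j < 2) (ht : t = g * z * g⁻¹)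
    (ht₁ : t₁ = g * a * g⁻¹) (htJ : t ∈ Q.J) (hv : Q.vc t ≠ 0) (ht₁z : Commute t₁ z)
    (hκ : Q.κ t₁ = xC C.gens j) (hm : m ∈ Q.J) (hmt : Commute m t) (hmove : m * t₁ * m⁻¹ = t₁ * t) : False := by
  classical
  obtain ⟨c, hc⟩ : ∃ c, c = xC C.gens j := ⟨_, rfl⟩
  rw [← hc] at hκ
  have ht2 : t * t = 1 := by
    rw [ht, show g * z * g⁻¹ * (g * z * g⁻¹) = g * (z * z) * g⁻¹ by group, Q.z2, mul_one, mul_inv_cancel]
  have ht12 : t₁ * t₁ = 1 := by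
    rw [ht₁, show g * a * g⁻¹ * (g * a * g⁻¹) = g * (a * a) * g⁻¹ by group, Q.a2, mul_one, mul_inv_cancel]
  have hq : C.q (Q.vc t) = 0 := Q.q_of_sq htJ ht2
  have hm12 : ∀ {m}, Commute m t → m * t₁ * m⁻¹ = t₁ ∨ m * t₁ * m⁻¹ = t₁ * t := fun {m} h => by
    subst ht₁; subst ht
    exact (Q.conj g).a_move m h
  have hcomm : ∀ {i}, i ∈ Q.J → cform C (Q.vc i) (Q.vc t) = 0 → Commute i t :=
    fun {i} hi h => (Q.comm_iff hi htJ).2 h
  -- lifts over fixed vectors commute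
  have hlift : ∀ {i}, i ∈ Q.J → cform C (Q.vc i) (Q.vc t) = 0 → ap c (Q.vc i) = Q.vc i → Commute i t₁ := by
    intro i hi hit hf
    rcases hm12 (hcomm hi hit) with e | e
    · exact mul_inv_eq_iff_eq_mul.1 e
    exfalso
    have hzc := Q.fixed_zc ht₁z hi (by rw [hκ]; exact hf)
    have e2 : i⁻¹ * (t₁ * i * t₁⁻¹) = i⁻¹ * t * i := by
      have h3 : t = t₁ * i * t₁⁻¹ * i⁻¹ := by
        have : t = t₁⁻¹ * (i * t₁ * i⁻¹) := by rw [e, inv_mul_cancel_left]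
        rw [this, inv_eq_of_mul_eq_one_right ht12]
        simp only [mul_assoc]
      conv_rhs => rw [h3]
      group
    rw [e2, show i⁻¹ * t * i = t from by rw [mul_assoc, ← (hcomm hi hit).eq, inv_mul_cancel_left]] at hzc
    exact hv (Q.zc_vc hzc)
  -- the moved vector
  obtain ⟨m0, hm0⟩ : ∃ m0, m0 = Q.vc m := ⟨_, rfl⟩
  have hm0t : cform C m0 (Q.vc t) = 0 := hm0 ▸ (Q.comm_iff hm htJ).1 hmt
  have hrange : ∀ {i}, i ∈ Q.J → i * t₁ * i⁻¹ = t₁ * t → ap c (Q.vc i) ^^^ Q.vc i = Q.vc t := by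
    intro i hi e
    have e3 : t = t₁ * i * t₁⁻¹ * i⁻¹ := by
      have : t = t₁⁻¹ * (i * t₁ * i⁻¹) := by rw [e, inv_mul_cancel_left]
      rw [this, inv_eq_of_mul_eq_one_right ht12]
      simp only [mul_assoc]
    conv_rhs => rw [e3]
    rw [Q.vc_mul _ (Q.norm t₁ ht₁z i hi) _ (inv_mem hi), Q.act t₁ ht₁z i hi, hκ, Q.vc_inv hi]
  have hm0c : ap c m0 ^^^ m0 = Q.vc t := hm0 ▸ hrange hm hmove
  have hvR : Q.vc t ∈ rL C j := mem_rL.2 ⟨Q.vc_lt t, m0, hm0 ▸ Q.vc_lt m, hc ▸ hm0c⟩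
  -- the fixed vectors in the perp
  obtain ⟨Pp, hPp⟩ : ∃ Pp, Pp = vecs.filter fun u => Nat.beq (cform C u (Q.vc t)) 0 := ⟨_, rfl⟩
  have hPmem : ∀ u, u ∈ Pp ↔ u < 256 ∧ cform C u (Q.vc t) = 0 := fun u => by simp [hPp, vecs, nbeq_iff]
  have hPcard : Pp.toFinset.card = 128 := by
    rw [List.toFinset_card_of_nodup (hPp ▸ List.Nodup.filter _ List.nodup_range), hPp]
    exact ((Q.perp_facts (Q.vc_lt t) hv).2 hq).1
  have hdich : ∀ u, u ∈ Pp → ap c u = u ∨ ap c u ^^^ u = Q.vc t := by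
    intro u hu
    obtain ⟨hu, hu0⟩ := (hPmem u).1 hu
    obtain ⟨i, hi, rfl⟩ := Q.vc_surj u hu
    rcases hm12 (hcomm hi hu0) with e | e
    · left
      have := Q.fixed_of_commute ht₁z hi (mul_inv_eq_iff_eq_mul.1 e).symm
      rwa [hκ] at this
    · exact Or.inr (hrange hi e)
  obtain ⟨S, hS⟩ : ∃ S, S = Pp.toFinset.filter fun u => ap c u = u := ⟨_, rfl⟩
  have hS64 : 64 ≤ S.card := by
    have hsplit := Finset.card_filter_add_card_filter_not (s := Pp.toFinset) fun u => ap c u = u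
    have hle : (Pp.toFinset.filter fun u => ¬ ap c u = u).card ≤ S.card := by
      refine Finset.card_le_card_of_injOn (fun u => u ^^^ m0) (fun u hu => ?_)
        (fun _ _ _ _ h => Nat.xor_left_injective h)
      rw [Finset.mem_coe, Finset.mem_filter, List.mem_toFinset] at hu
      obtain ⟨hu, hne⟩ := hu
      obtain ⟨hu', hu0⟩ := (hPmem u).1 hu
      rw [Finset.mem_coe, hS, Finset.mem_filter, List.mem_toFinset, hPmem, cform_comm,
        Q.cform_add (Q.vc_lt t) hu' (hm0 ▸ Q.vc_lt m)]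
      refine ⟨⟨xor_lt hu' (hm0 ▸ Q.vc_lt m), by rw [cform_comm, hu0, cform_comm, hm0t]; rfl⟩, ?_⟩
      rw [← Nat.xor_eq_zero_iff, ap_xor, xor4, (hdich u hu).resolve_left hne, hm0c, Nat.xor_self]
    rw [← hS] at hsplit
    omega
  -- the table
  have hchk : moveChk C j = true := by
    rcases list_cases Q.std with rfl | rfl | rfl <;> interval_cases j
    exacts [move_U0, move_U1, move_P0, move_P1, move_M0, move_M1]
  have hspan : fixSpanChk C j = true := by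
    rcases list_cases Q.std with rfl | rfl | rfl <;> interval_cases j
    exacts [span_U0, span_U1, span_P0, span_P1, span_M0, span_M1]
  simp only [moveChk, List.all_eq_true, Bool.or_eq_true, nbeq_iff, Nat.blt_eq, List.any_eq_true, Bool.and_eq_true,
    Bool.not_eq_true', beq_iff_eq] at hchk
  simp only [fixSpanChk, Bool.and_eq_true, List.all_eq_true, Bool.or_eq_true, List.any_eq_true, Nat.ble_eq,
    List.contains_iff_mem, vecs, List.mem_range, nbeq_iff] at hspan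
  obtain ⟨⟨hfle, -⟩, hperp⟩ := hspan
  have hfxmem : ∀ u, u ∈ fxL c ↔ u < 256 ∧ ap c u = u := fun u => by simp [fxL, vecs]
  have hSsub : S ⊆ (fxL c).toFinset := fun u hu => by
    rw [hS, Finset.mem_filter, List.mem_toFinset] at hu
    exact List.mem_toFinset.2 ((hfxmem u).2 ⟨((hPmem u).1 hu.1).1, hu.2⟩)
  have hfix : ∀ u < 256, ap c u = u → cform C u (Q.vc t) = 0 := by
    intro u hu hf
    have heq := Finset.eq_of_subset_of_card_le hSsub
      ((List.toFinset_card_le _).trans ((hc ▸ hfle).trans hS64))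
    have : u ∈ S := heq ▸ List.mem_toFinset.2 ((hfxmem u).2 ⟨hu, hf⟩)
    rw [hS, Finset.mem_filter, List.mem_toFinset] at this
    exact ((hPmem u).1 this.1).2
  rcases hchk _ hvR with (((e | e) | e) | ⟨r, hr, ⟨hr1, hrf⟩, hr0⟩) | ⟨e, he, hmoved, hiso⟩
  · exact hv e
  · rw [hq] at e; exact absurd e (by norm_num)
  · have hsub : S ⊆ ((fxL (xC C.gens j)).filter fun v => Nat.beq (cform C v (Q.vc t)) 0).toFinset := fun u hu => by
      rw [hS, Finset.mem_filter, List.mem_toFinset] at hu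
      rw [List.mem_toFinset, List.mem_filter, ← hc, hfxmem, nbeq_iff]
      exact ⟨⟨((hPmem u).1 hu.1).1, hu.2⟩, ((hPmem u).1 hu.1).2⟩
    have := (Finset.card_le_card hsub).trans (List.toFinset_card_le _)
    omega
  · obtain ⟨-, w, hw, hwe⟩ := mem_rL.1 hr
    obtain ⟨i, hi, rfl⟩ := Q.vc_surj w hw
    obtain ⟨d, hd⟩ : ∃ d, d = t₁ * i * t₁⁻¹ * i⁻¹ := ⟨_, rfl⟩
    have hdJ : d ∈ Q.J := hd ▸ mul_mem (Q.norm t₁ ht₁z i hi) (inv_mem hi)
    have hdv : Q.vc d = r := by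
      rw [hd, Q.vc_mul _ (Q.norm t₁ ht₁z i hi) _ (inv_mem hi), Q.act t₁ ht₁z i hi, hκ, Q.vc_inv hi, hc]
      exact hwe
    have hdf : ap c (Q.vc d) = Q.vc d := by rw [hdv, hc]; exact hrf
    have hdc := hlift hdJ (hfix _ (Q.vc_lt d) hdf) hdf
    have hinv : t₁ * d * t₁⁻¹ = d⁻¹ := by
      rw [hd, inv_eq_of_mul_eq_one_right ht12]
      simp only [mul_inv_rev, inv_inv, inv_eq_of_mul_eq_one_right ht12]
      rw [show t₁ * (t₁ * i * t₁ * i⁻¹) * t₁ = t₁ * t₁ * (i * t₁ * i⁻¹ * t₁) by simp only [mul_assoc], ht12,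
        one_mul]
      simp only [mul_assoc]
    rw [mul_inv_eq_iff_eq_mul.2 hdc.symm.eq] at hinv
    have := Q.q_of_sq hdJ (by nth_rewrite 2 [hinv]; exact mul_inv_cancel d)
    rw [hdv, hr1] at this
    exact absurd this (by norm_num)
  · obtain ⟨hword, hce⟩ : WordCode C.gens e ∧ cm c e = cm e c := by
      obtain ⟨hh, -⟩ : ∃ h : True, True := ⟨trivial, trivial⟩
      have hok : classChk C.gens j = true := by
        rcases list_cases Q.std with rfl | rfl | rfl <;> interval_cases j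
        exacts [class_U0, class_U1, class_P0, class_P1, class_P0, class_P1]
      simp only [classChk, Bool.and_eq_true, List.all_eq_true, beq_iff_eq] at hok
      obtain ⟨⟨⟨⟨⟨⟨⟨⟨htree, -⟩, -⟩, hw⟩, hcomm⟩, -⟩, -⟩, -⟩, -⟩ := hok
      refine ⟨tree_ind htree (WordCode C.gens) (wordCode_idc _) (fun i _ b hb => hb.mul ⟨_, fun l hl => ?_, rfl⟩) e he,
        hc ▸ hcomm e he⟩
      by_cases hlt : ((ceTreeL j).getD i (0, 0)).2 < (ceGensL j).length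
      · rw [List.getD_eq_getElem _ _ hlt] at hl
        simpa [Nat.blt_eq] using hw _ (List.getElem_mem _) l hl
      · rw [List.getD_eq_default _ _ (not_lt.1 hlt)] at hl; simp at hl
    obtain ⟨h, hh, hhe⟩ := Q.lift_code hword
    obtain ⟨i, hi⟩ : ∃ i, i = t₁⁻¹ * (h * t₁ * h⁻¹) := ⟨_, rfl⟩
    have hht : Commute (h * t₁ * h⁻¹) z := (hh.1.mul_left ht₁z).mul_left hh.1.inv_left
    have hiJ : i ∈ Q.J := hi ▸ (Q.κ_eq_iff ht₁z hht).1
      ((Q.κ_conj_fix hh.1 ht₁z).2 (by rw [hhe, hκ]; exact hce.symm)).symm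
    have hconj : h * t₁ * h⁻¹ = t₁ * i := by rw [hi, mul_inv_cancel_left]
    -- `i` is orthogonal to the fixed vectors
    obtain ⟨-, w, hw, hwe⟩ : Q.vc i < 256 ∧ ∃ w < 256, ap (xC C.gens j) w ^^^ w = Q.vc i := by
      refine mem_rL.1 ((hperp _ (Q.vc_lt i)).resolve_left fun ⟨f, hf, hf1⟩ => ?_)
      obtain ⟨hf256, hff⟩ := (hfxmem f).1 (hc ▸ hf)
      obtain ⟨l, hl, rfl⟩ := Q.vc_surj f hf256
      have hl' := Q.norm h⁻¹ hh.1.inv_left l hl
      have hl'f : ap c (Q.vc (h⁻¹ * l * h⁻¹⁻¹)) = Q.vc (h⁻¹ * l * h⁻¹⁻¹) := by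
        rw [Q.act h⁻¹ hh.1.inv_left l hl]
        have hh' : cm c (Q.κ h⁻¹) = cm (Q.κ h⁻¹) c := by
          have h1 := congrArg (fun x => cm (Q.κ h⁻¹) (cm x (Q.κ h⁻¹))) hce
          simp only [← hhe] at h1
          rw [cm_assoc, cm_assoc, (Q.κ_inv hh.1).1, cm_idc (hκ ▸ Q.κ_lt _), ← cm_assoc (Q.κ h⁻¹) (Q.κ h),
            (Q.κ_inv hh.1).2, idc_cm (cm_lt _ _)] at h1
          exact h1.symm
        rw [← ap_cm, hh', ap_cm, hff]
      have h1 := hlift hl' (hfix _ (Q.vc_lt _) hl'f) hl'f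
      have h2 := (Commute.conj_iff h).2 h1
      rw [show h * (h⁻¹ * l * h⁻¹⁻¹) * h⁻¹ = l by group, hconj] at h2
      have h3 : Commute l i := by simpa [mul_assoc] using (hlift hl (hfix _ (Q.vc_lt l) hff) hff).inv_right.mul_right h2
      rw [cform_comm, (Q.comm_iff hl hiJ).1 h3] at hf1
      exact absurd hf1 (by norm_num)
    obtain ⟨k₀, hk₀, rfl⟩ := Q.vc_surj w hw
    obtain ⟨h', hh'⟩ : ∃ h', h' = k₀ * h := ⟨_, rfl⟩
    have hh'i : Q.Inn h' := hh' ▸ Q.inn_mul (Q.inn_J hk₀) hh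
    obtain ⟨y, hy⟩ : ∃ y, y = t₁⁻¹ * (h' * t₁ * h'⁻¹) := ⟨_, rfl⟩
    have hy' : h' * t₁ * h'⁻¹ = t₁ * y := by rw [hy, mul_inv_cancel_left]
    have hyZ : Q.Zc y := by
      have hk1 := Q.norm t₁⁻¹ ht₁z.inv_left k₀ hk₀
      have e1 : y = t₁⁻¹ * k₀ * t₁⁻¹⁻¹ * i * k₀⁻¹ := by
        rw [hy, hh', show k₀ * h * t₁ * (k₀ * h)⁻¹ = k₀ * (h * t₁ * h⁻¹) * k₀⁻¹ by group, hconj]
        group
      refine Q.vc_zero y (e1 ▸ mul_mem (mul_mem hk1 hiJ) (inv_mem hk₀)) ?_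
      rw [e1, Q.vc_mul _ (mul_mem hk1 hiJ) _ (inv_mem hk₀), Q.vc_mul _ hk1 _ hiJ, Q.vc_inv hk₀,
        Q.act _ ht₁z.inv_left k₀ hk₀, inv_eq_of_mul_eq_one_right ht12, hκ, ← hwe, hc]
      generalize ap (xC C.gens j) (Q.vc k₀) = A
      generalize Q.vc k₀ = B
      rw [← Nat.xor_assoc, Nat.xor_self, Nat.zero_xor, Nat.xor_self]
    obtain ⟨h₂, hh₂⟩ : ∃ h₂, h₂ = h' * h' := ⟨_, rfl⟩
    have hh₂t : Commute h₂ t₁ := by
      refine mul_inv_eq_iff_eq_mul.1 ?_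
      rw [hh₂, show h' * h' * t₁ * (h' * h')⁻¹ = h' * (h' * t₁ * h'⁻¹) * h'⁻¹ by group, hy',
        show h' * (t₁ * y) * h'⁻¹ = h' * t₁ * h'⁻¹ * (h' * y * h'⁻¹) by group, hy',
        mul_inv_eq_iff_eq_mul.2 (Q.inn_zc hh'i hyZ).eq, mul_assoc, Q.zc_sq hyZ, mul_one]
    have hh₂z : Commute h₂ z := hh₂ ▸ hh'i.1.mul_left hh'i.1
    have hh₂κ : Q.κ h₂ = cm e e := by
      rw [hh₂, Q.κ_mul hh'i.1 hh'i.1, hh', Q.κ_Jmul hh.1 hk₀, hhe]
    have hs := Q.norm h₂ hh₂z t htJ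
    have hsv : Q.vc (h₂ * t * h₂⁻¹) = ap (cm e e) (Q.vc t) := by rw [Q.act h₂ hh₂z t htJ, hh₂κ]
    have hst : Commute (h₂ * t * h₂⁻¹) t :=
      (Q.comm_iff hs htJ).2 (by rw [hsv, cform_comm]; exact hiso)
    have hfin : h₂ * t * h₂⁻¹ = t := by
      subst ht₁; subst ht
      have h1 := hIa (g⁻¹ * h₂ * g) (commute_conj_back hh₂t) (by
        have := commute_conj_back hst
        rwa [show g⁻¹ * (h₂ * (g * z * g⁻¹) * h₂⁻¹) * g = g⁻¹ * h₂ * g * z * (g⁻¹ * h₂ * g)⁻¹ by group] at this)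
      calc h₂ * (g * z * g⁻¹) * h₂⁻¹ = g * (g⁻¹ * h₂ * g * z * (g⁻¹ * h₂ * g)⁻¹) * g⁻¹ := by group
        _ = g * z * g⁻¹ := by rw [h1]
    rw [hfin] at hsv
    exact Bool.noConfusion ((nbeq_iff.2 hsv.symm).symm.trans hmoved)

/-- No other conjugate lies in the core. -/
theorem Fus.no_inside (F : Fus Q) {g : G} (hJ : g * z * g⁻¹ ∈ Q.J) : g * z * g⁻¹ = z := by
  classical
  by_contra hne
  obtain ⟨t, ht⟩ : ∃ t, t = g * z * g⁻¹ := ⟨_, rfl⟩
  obtain ⟨t₁, ht₁⟩ : ∃ t₁, t₁ = g * a * g⁻¹ := ⟨_, rfl⟩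
  rw [← ht] at hJ hne
  have ht2 : t * t = 1 := by
    rw [ht, show g * z * g⁻¹ * (g * z * g⁻¹) = g * (z * z) * g⁻¹ by group, Q.z2, mul_one, mul_inv_cancel]
  have hv : Q.vc t ≠ 0 := fun e => by
    rcases Q.vc_zero t hJ e with e | e | e | e
    · rw [ht] at e; exact Q.z1 (conj_eq_one_iff.1 e)
    · exact hne e
    · exact Q.neA g (ht ▸ e)
    · exact Q.neB g (ht ▸ e)
  have hq := Q.q_of_sq hJ ht2
  obtain ⟨-, u, hu, w, hw, hu0, hw0, huw⟩ := (Q.perp_facts (Q.vc_lt t) hv).2 hq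
  obtain ⟨p, hp, rfl⟩ := Q.vc_surj u hu
  obtain ⟨p', hp', rfl⟩ := Q.vc_surj w hw
  have hzc : z = p * p' * p⁻¹ * p'⁻¹ := by
    rcases Q.cmt p hp p' hp' with e | e
    · rw [(Q.comm_iff hp hp').1 (mul_inv_eq_iff_eq_mul.1 (mul_inv_eq_one.1 e))] at huw
      exact absurd huw (by norm_num)
    · exact e.symm
  have hcommT : ∀ {x}, x ∈ Q.J → cform C (Q.vc x) (Q.vc t) = 0 → Commute x t :=
    fun {x} hx e => (Q.comm_iff hx hJ).2 e
  have ht₁z : Commute t₁ z := by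
    have h1 := (Q.conj g).inn_commutator (j := p) (k := p') (ht ▸ hcommT hp hu0) (ht ▸ hcommT hp' hw0)
    rw [← hzc] at h1
    exact ht₁ ▸ ((Q.conj g).inn_comm h1).symm
  have ht₁t : Commute t₁ t := by rw [ht, ht₁]; exact (Commute.conj_iff g).2 Q.za.symm
  have hm12 : ∀ {m}, Commute m t → m * t₁ * m⁻¹ = t₁ ∨ m * t₁ * m⁻¹ = t₁ * t := fun {m} h => by
    subst ht₁; subst ht
    exact (Q.conj g).a_move m h
  by_cases hall : ∀ u < 256, cform C u (Q.vc t) = 0 → ap (Q.κ t₁) u = u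
  · have hidc := Q.code_hyperplane ht₁z (Q.vc_lt t) hq hall
    have ht₁J := Q.ker t₁ ht₁z hidc
    have hperp : ∀ m < 256, cform C m (Q.vc t) = 0 → cform C (Q.vc t₁) m = 0 := by
      intro m hm hm0
      obtain ⟨i, hi, rfl⟩ := Q.vc_surj m hm
      rw [cform_comm]
      refine (Q.comm_iff hi ht₁J).1 ?_
      rcases hm12 (hcommT hi hm0) with e | e
      · exact mul_inv_eq_iff_eq_mul.1 e
      exfalso
      have h1 := congrArg Q.vc e
      rw [Q.vc_conjJ ht₁J hi, Q.vc_mul _ ht₁J _ hJ] at h1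
      exact hv (by
        have h2 := congrArg (fun x => Q.vc t₁ ^^^ x) h1
        simp only [Nat.xor_self, ← Nat.xor_assoc, Nat.zero_xor] at h2
        exact h2.symm)
    refine F.share_false (ht ▸ hJ) (ht ▸ hne) ?_
    rcases Q.perp_perp (Q.vc_lt t) (Q.vc_lt t₁) hperp with e | e
    · exact Or.inl (ht₁ ▸ Q.vc_zero t₁ ht₁J e)
    · refine Or.inr ?_
      have h1 := Q.vc_zero (t₁ * t) (mul_mem ht₁J hJ) (by rw [Q.vc_mul _ ht₁J _ hJ, e, Nat.xor_self])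
      rwa [ht, ht₁, show g * a * g⁻¹ * (g * z * g⁻¹) = g * (a * z) * g⁻¹ by group] at h1
  push Not at hall
  obtain ⟨u₀, hu₀, hu₀0, hu₀m⟩ := hall
  obtain ⟨m, hm, rfl⟩ := Q.vc_surj u₀ hu₀
  have hmt := hcommT hm hu₀0
  have hnc : ¬ Commute m t₁ := fun h => hu₀m (Q.fixed_of_commute ht₁z hm h.symm)
  have hat : Commute a t₁ := by
    by_contra hn
    have hat' : Commute a t := (Q.ca t hJ).symm
    have ha : a * t₁ * a⁻¹ = t₁ * t := (hm12 hat').resolve_left fun e => hn (mul_inv_eq_iff_eq_mul.1 e)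
    have hmm : m * t₁ * m⁻¹ = t₁ * t := (hm12 hmt).resolve_left fun e => hnc (mul_inv_eq_iff_eq_mul.1 e)
    have hma : Commute (m * a) t₁ := by
      refine mul_inv_eq_iff_eq_mul.1 ?_
      rw [show m * a * t₁ * (m * a)⁻¹ = m * (a * t₁ * a⁻¹) * m⁻¹ by group, ha,
        show m * (t₁ * t) * m⁻¹ = m * t₁ * m⁻¹ * (m * t * m⁻¹) by group, hmm, mul_inv_eq_iff_eq_mul.2 hmt.eq,
        mul_assoc, ht2, mul_one]
    refine hu₀m ?_
    have := Q.fixed_of_commute ht₁z (mul_mem hm Q.aJ) hma.symm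
    rwa [Q.vc_mul_zc hm (Or.inr (Or.inr (Or.inl rfl)))] at this
  rcases F.side with hA | ⟨hIa, -, hinn⟩
  · exact hnc (ht₁ ▸ by
      have := (Commute.conj_iff g).2 (hA _ (commute_conj_back (ht ▸ hmt)))
      rwa [show g * (g⁻¹ * m * g) * g⁻¹ = m by group] at this)
  have hinn' : Q.Inn t₁ := hinn t₁ ht₁z hat.symm
  have hidc : Q.κ t₁ ≠ idc := fun e => hu₀m (by rw [e, ap_idc (Q.vc_lt m)])
  have ht12 : t₁ * t₁ = 1 := by
    rw [ht₁, show g * a * g⁻¹ * (g * a * g⁻¹) = g * (a * a) * g⁻¹ by group, Q.a2, mul_one, mul_inv_cancel]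
  obtain ⟨-, j, hj, e, he, hej⟩ := Q.invol _ hinn'.2 (Q.κ_invol ht₁z ht12) hidc
  obtain ⟨g₀, hg₀, hg₀e⟩ := Q.lift_code he
  have hκ : Q.κ (g₀ * t₁ * g₀⁻¹) = xC C.gens j := by
    rw [Q.κ_conj hg₀.1 ht₁z, hg₀e, hej, cm_assoc, ← hg₀e, (Q.κ_inv hg₀.1).1, cm_idc (show xC C.gens j < 2 ^ 64 from cw_lt _ _)]
  refine F.swap_false hIa (g := g₀ * g) (t := g₀ * t * g₀⁻¹) (t₁ := g₀ * t₁ * g₀⁻¹) (m := g₀ * m * g₀⁻¹) hj
    (by rw [ht]; group) (by rw [ht₁]; group) (Q.norm g₀ hg₀.1 t hJ) ?_ ((hg₀.1.mul_left ht₁z).mul_left hg₀.1.inv_left)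
    hκ (Q.norm g₀ hg₀.1 m hm) ((Commute.conj_iff g₀).2 hmt) ?_
  · intro e0
    refine hv ?_
    rw [Q.act g₀ hg₀.1 t hJ] at e0
    have := congrArg (ap (Q.κ g₀⁻¹)) e0
    rwa [← ap_cm, (Q.κ_inv hg₀.1).2, ap_idc (Q.vc_lt t), ap_zero] at this
  · rw [show g₀ * m * g₀⁻¹ * (g₀ * t₁ * g₀⁻¹) * (g₀ * m * g₀⁻¹)⁻¹ = g₀ * (m * t₁ * m⁻¹) * g₀⁻¹ by group,
      (hm12 hmt).resolve_left fun e => hnc (mul_inv_eq_iff_eq_mul.1 e)]
    group

/-- No conjugate of the other central involution lies in the core outside the centre. -/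
theorem Fus.no_typeJ (F : Fus Q) {g : G} (hJ : g * a * g⁻¹ ∈ Q.J) :
    g * a * g⁻¹ = a ∨ g * a * g⁻¹ = a * z := by
  classical
  obtain ⟨y, hy⟩ : ∃ y, y = g * a * g⁻¹ := ⟨_, rfl⟩
  rw [← hy] at hJ ⊢
  have hy2 : y * y = 1 := by
    rw [hy, show g * a * g⁻¹ * (g * a * g⁻¹) = g * (a * a) * g⁻¹ by group, Q.a2, mul_one, mul_inv_cancel]
  by_cases h0 : Q.vc y = 0
  · rcases Q.vc_zero y hJ h0 with e | e | e | e
    · rw [hy] at e; exact absurd (conj_eq_one_iff.1 e) Q.a1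
    · exact absurd (conj_back (hy.symm.trans e)) (Q.neA g⁻¹)
    · exact Or.inl e
    · exact Or.inr e
  obtain ⟨E, hE⟩ : ∃ E, E = Q.J ⊓ Subgroup.centralizer ({y} : Set G) := ⟨_, rfl⟩
  have hEy : ∀ {m}, m ∈ E → Commute m y := fun hm =>
    Subgroup.mem_centralizer_singleton_iff.1 (Subgroup.mem_inf.1 (hE ▸ hm)).2
  obtain ⟨h, hha, hP⟩ := F.centA (E.map (MulAut.conj g⁻¹).toMonoidHom)
    ((Q.isPGroup_J E (hE ▸ inf_le_left)).map _) (by
      rintro _ ⟨m, hm, rfl⟩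
      show Commute (g⁻¹ * m * g⁻¹⁻¹) a
      rw [inv_inv]
      exact commute_conj_back (hy ▸ hEy hm))
  obtain ⟨t, ht⟩ : ∃ t, t = g * h * z * (g * h)⁻¹ := ⟨_, rfl⟩
  have hEt : ∀ {m}, m ∈ E → Commute m t := fun {m} hm => by
    have h1 := (Commute.conj_iff g).2 (hP _ ⟨m, hm, rfl⟩)
    rw [ht, show g * h * z * (g * h)⁻¹ = g * (h * z * h⁻¹) * g⁻¹ by group]
    simpa [mul_assoc] using h1
  have hzE : z ∈ E := hE ▸ Subgroup.mem_inf.2 ⟨Q.zJ, Subgroup.mem_centralizer_singleton_iff.2 (Q.cz y hJ).symm.eq⟩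
  have htz : Commute t z := (hEt hzE).symm
  have hidc := Q.code_hyperplane htz (Q.vc_lt y) (Q.q_of_sq hJ hy2) fun u hu hu0 => by
    obtain ⟨m, hm, rfl⟩ := Q.vc_surj u hu
    exact Q.fixed_of_commute htz hm
      (hEt (hE ▸ Subgroup.mem_inf.2 ⟨hm, Subgroup.mem_centralizer_singleton_iff.2 ((Q.comm_iff hm hJ).2 hu0).eq⟩)).symm
  have htz' : t = z := ht ▸ F.no_inside (ht ▸ Q.ker t htz hidc)
  have hgh : Commute (g * h) z := mul_inv_eq_iff_eq_mul.1 (ht.symm.trans htz')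
  have hye : y = g * h * a * (g * h)⁻¹ := by
    rw [hy, show g * h * a * (g * h)⁻¹ = g * (h * a * h⁻¹) * g⁻¹ by group, mul_inv_eq_iff_eq_mul.2 hha.eq]
  rw [hye]
  exact Q.a_move _ hgh

end Cfsg.Lib.U62Type
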