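import Cfsg.Agent.Lib.U62Type.FourUni
import Cfsg.Agent.Lib.A4Stab.Odd
import Mathlib.GroupTheory.FixedPointFree

/-!
# The other involution central in the centraliser
-/

set_option autoImplicit false
set_option linter.unusedSectionVars false
set_option linter.style.haveILetI false

namespace Cfsg.Lib.U62Type

variable {G : Type*} [Group G] [Finite G]

theorem Full.cfg_of_not_iso {C : Cfg} {z a : G} {Q : Quad C z a} (hF : Full Q)
    (hA : ∀ h, Commute h z → Commute h a) (hI : ¬ Iso z a) : C = cfgU := by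
  rcases outer_uni (hF.outer_quot hA) with h | ⟨_, _, _, _, _, _, hC, _⟩
  · exact absurd (Quad.iso_of_isolated h) hI
  · exact hC

theorem Fus.left_isolated {z a : G} {Q : Quad cfgU z a} (F : Fus Q) (hA : ∀ h, Commute h z → Commute h a)
    (hb : Iso z (a * z)) : Cfsg.IsIsolatedInvolution a := by
  refine ⟨orderOf_eq_prime (by rw [pow_two, Q.a2]) Q.a1, fun g hg => ?_⟩
  obtain ⟨h, hh, hP⟩ := (F.centA.conj g) (Subgroup.zpowers a)
    (IsPGroup.of_card (n := 1) (by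
      rw [Nat.card_zpowers, pow_one, orderOf_eq_prime (p := 2) (by rw [pow_two, Q.a2]) Q.a1]))
    (fun p hp => by
      rcases (mem_zpowers_two Q.a2).1 hp with e | e <;> rw [e]
      exacts [Commute.one_left _, hg])
  obtain ⟨f, hf⟩ : ∃ f, f = h * g := ⟨_, rfl⟩
  have hfu : f * a * f⁻¹ = g * a * g⁻¹ := by
    rw [hf, show h * g * a * (h * g)⁻¹ = h * (g * a * g⁻¹) * h⁻¹ by group, mul_inv_eq_iff_eq_mul.2 hh.eq]
  have hta : Commute (f * z * f⁻¹) a := by
    have h1 := (hP a (Subgroup.mem_zpowers a)).symm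
    rwa [show h * (g * z * g⁻¹) * h⁻¹ = f * z * f⁻¹ by rw [hf]; group] at h1
  rw [← hfu] at hg ⊢
  obtain ⟨P, hPd⟩ : ∃ P, P = (Q.conj f).J ⊓ Subgroup.centralizer ({a} : Set G) := ⟨_, rfl⟩
  obtain ⟨m, hm, hmP⟩ := F.centA P ((Q.conj f).isPGroup_J P (hPd ▸ inf_le_left)) fun p hp =>
    mem_cent.1 (Subgroup.mem_inf.1 (hPd ▸ hp)).2
  have h1 : Commute (f * z * f⁻¹) (m * z * m⁻¹) :=
    hmP _ (hPd ▸ Subgroup.mem_inf.2 ⟨(Q.conj f).zJ, mem_cent.2 hta⟩)
  obtain ⟨w, hw⟩ : ∃ w, w = m⁻¹ * f := ⟨_, rfl⟩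
  have hwz : Commute (w * z * w⁻¹) z := by
    have := commute_conj_back h1
    rwa [show m⁻¹ * (f * z * f⁻¹) * m = w * z * w⁻¹ by rw [hw]; group] at this
  have hwa : Commute w a := by
    by_cases hz : w * z * w⁻¹ = z
    · exact hA w (mul_inv_eq_iff_eq_mul.1 hz)
    obtain ⟨w', he, hw'⟩ := F.share_all hb hwz hz
    have hc : Commute (w'⁻¹ * w) z := mul_inv_eq_iff_eq_mul.1 (by
      rw [show w'⁻¹ * w * z * (w'⁻¹ * w)⁻¹ = w'⁻¹ * (w * z * w⁻¹) * w' by group, ← he]; group)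
    have := hw'.mul_left (hA _ hc)
    rwa [mul_inv_cancel_left] at this
  have hfa : Commute f a := by
    have := hm.mul_left hwa
    rwa [hw, mul_inv_cancel_left] at this
  exact mul_inv_eq_iff_eq_mul.2 hfa.eq

theorem Full.oddCore_eq_bot {C : Cfg} {z a : G} {Q : Quad C z a} (hF : Full Q) (F : Fus Q) {g : G}
    (hc : Commute (g * z * g⁻¹) z) (hne : g * z * g⁻¹ ≠ z) : Cfsg.oddCore G = ⊥ := by
  classical
  obtain ⟨O, hO⟩ : ∃ O, O = Cfsg.oddCore G := ⟨_, rfl⟩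
  haveI hOn : O.Normal := by rw [hO]; infer_instance
  have hodd : Odd (Nat.card O) := by rw [hO]; exact ZStar.odd_card_oddCore
  have hOJ : ∀ x ∈ O, x ∈ Q.J → x = 1 := by
    intro x hx hJ
    have h1 : orderOf x ∣ Nat.card O := Subgroup.orderOf_dvd_natCard O hx
    have h4 : x ^ 4 = 1 := by
      rw [show (4 : ℕ) = 2 * 2 from rfl, pow_mul, pow_two, pow_two]
      rcases Q.sq x hJ with e | e <;> rw [e]
      exacts [one_mul 1, Q.z2]
    have h2 := orderOf_dvd_of_pow_eq_one h4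
    have h3 : Nat.Coprime (orderOf x) 4 :=
      ((Nat.coprime_two_right.2 (Odd.of_dvd_nat hodd h1)).pow_right 2)
    exact orderOf_eq_one_iff.1 (Nat.Coprime.eq_one_of_dvd h3 h2)
  have hfree : ∀ x ∈ O, Commute x z → x = 1 := by
    intro x hx hxz
    refine hOJ x hx (hF.self x hxz fun j hj => ?_)
    refine mul_inv_eq_iff_eq_mul.1 (mul_inv_eq_one.1 (hOJ _ ?_ (mul_mem (Q.norm x hxz j hj) (inv_mem hj))))
    rw [show x * j * x⁻¹ * j⁻¹ = x * (j * x⁻¹ * j⁻¹) by group]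
    exact mul_mem hx (hOn.conj_mem _ (inv_mem hx) j)
  have hinv : ∀ x ∈ O, z * x * z⁻¹ = x⁻¹ := by
    intro x hx
    have hf : MonoidHom.FixedPointFree (MulAut.conjNormal z : MulAut O) := fun y hy => Subtype.ext (hfree y y.2 (by
      have h1 : z * (y : G) * z⁻¹ = y := by rw [← MulAut.conjNormal_apply, hy]
      exact (mul_inv_eq_iff_eq_mul.1 h1).symm))
    have h2 : Function.Involutive (MulAut.conjNormal z : MulAut O) := fun y => Subtype.ext (by
      rw [MulAut.conjNormal_apply, MulAut.conjNormal_apply, Q.z_inv,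
        show z * (z * (y : G) * z) * z = z * z * y * (z * z) by group, Q.z2, one_mul, mul_one])
    have h3 := congrArg Subtype.val (congrFun (hf.coe_eq_inv_of_involutive h2) ⟨x, hx⟩)
    rw [MulAut.conjNormal_apply] at h3
    exact h3
  obtain ⟨t, ht⟩ : ∃ t, t = g * z * g⁻¹ := ⟨_, rfl⟩
  have htinv : ∀ x ∈ O, t * x * t⁻¹ = x⁻¹ := by
    intro x hx
    rw [ht, show g * z * g⁻¹ * x * (g * z * g⁻¹)⁻¹ = g * (z * (g⁻¹ * x * g⁻¹⁻¹) * z⁻¹) * g⁻¹ by group,
      hinv _ (hOn.conj_mem x hx g⁻¹)]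
    group
  have hN : ∀ x ∈ O, Commute (z * t) x := fun x hx => mul_inv_eq_iff_eq_mul.1 (by
    rw [show z * t * x * (z * t)⁻¹ = z * (t * x * t⁻¹) * z⁻¹ by group, htinv x hx, hinv _ (inv_mem hx), inv_inv])
  have htz : Commute t z := ht ▸ hc
  have hκ : Q.κ t ≠ idc := fun e => hne (F.no_inside (ht ▸ Q.ker t htz e))
  obtain ⟨v, hv, hvne⟩ : ∃ v < 256, ap (Q.κ t) v ≠ v := by
    by_contra h
    push Not at h
    exact hκ (code_ext (Q.κ_lt t) idc_lt fun v hv => by rw [ap_idc hv]; exact h v hv)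
  obtain ⟨k, hk, rfl⟩ := Q.vc_surj v hv
  obtain ⟨c, hcd⟩ : ∃ c, c = (z * t)⁻¹ * (k * (z * t) * k⁻¹) := ⟨_, rfl⟩
  have hcO : ∀ x ∈ O, Commute c x := fun x hx => by
    rw [hcd]
    refine (hN x hx).inv_left.mul_left ?_
    have h1 := (Commute.conj_iff k).2 (hN _ (hOn.conj_mem x hx k⁻¹))
    rwa [show k * (k⁻¹ * x * k⁻¹⁻¹) * k⁻¹ = x by group] at h1
  have ht2 : t⁻¹ = t := by rw [ht, mul_inv_rev, mul_inv_rev, inv_inv, Q.z_inv, mul_assoc]
  have hce : c = t * k * t⁻¹ * k⁻¹ := by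
    rw [hcd, mul_inv_rev, Q.z_inv,
      show t⁻¹ * z * (k * (z * t) * k⁻¹) = t⁻¹ * (z * k * z) * t * k⁻¹ by group,
      ← (Q.cz k hk).eq, mul_assoc k z z, Q.z2, mul_one, ht2]
  have hcJ : c ∈ Q.J := hce ▸ mul_mem (Q.norm t htz k hk) (inv_mem hk)
  have hcv : Q.vc c ≠ 0 := by
    rw [hce, Q.vc_mul _ (Q.norm t htz k hk) _ (inv_mem hk), Q.vc_inv hk, Q.act t htz k hk, Ne, Nat.xor_eq_zero_iff]
    exact hvne
  obtain ⟨u, hu, huc⟩ := (Q.perp_facts (Q.vc_lt c) hcv).1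
  obtain ⟨j, hj, rfl⟩ := Q.vc_surj u hu
  have hz : z = c * j * c⁻¹ * j⁻¹ := by
    rcases Q.cmt c hcJ j hj with e | e
    · rw [(Q.comm_iff hcJ hj).1 (mul_inv_eq_iff_eq_mul.1 (mul_inv_eq_one.1 e))] at huc
      exact absurd huc (by norm_num)
    · exact e.symm
  rw [← hO, Subgroup.eq_bot_iff_forall]
  intro x hx
  refine hfree x hx ?_
  have h1 := (Commute.conj_iff j).2 ((hcO _ (hOn.conj_mem x hx j⁻¹)).inv_left)
  rw [show j * (j⁻¹ * x * j⁻¹⁻¹) * j⁻¹ = x by group] at h1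
  have h2 : Commute (c * (j * c⁻¹ * j⁻¹)) x := (hcO x hx).mul_left h1
  rw [show c * (j * c⁻¹ * j⁻¹) = c * j * c⁻¹ * j⁻¹ by group, ← hz] at h2
  exact h2.symm

/-- The unitary conclusion. -/
def UType (G : Type*) [Group G] (a : G) (K : Type*) [Field K] [Fintype K] : Prop :=
  (Subgroup.zpowers a).Normal ∧ ∃ (G₀ : Subgroup G) (_ : a ∈ G₀), G₀.index = 2 ∧
    ∃ _ : ((Subgroup.zpowers a).subgroupOf G₀).Normal,
      Nonempty ((↥G₀ ⧸ (Subgroup.zpowers a).subgroupOf G₀) ≃* Cfsg.PSU 6 K 2)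

theorem Full.uType {z a : G} {Q : Quad cfgU z a} (hF : Full Q) (hA : ∀ h, Commute h z → Commute h a)
    (hI : ¬ Iso z a) (hb : Iso z (a * z)) {K : Type*} [Field K] [Fintype K] (hK : Fintype.card K = 4) :
    UType G a K := by
  classical
  have F := hF.fus_left hA
  obtain ⟨g, hga, hgz, hne⟩ : ∃ g, Commute g a ∧ Commute (g * z * g⁻¹) z ∧ g * z * g⁻¹ ≠ z := by
    simpa only [Iso, not_forall, exists_prop] using hI
  have htop := Cfsg.Lib.A4Stab.centralizer_sup_oddCore (F.left_isolated hA hb)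
  rw [hF.oddCore_eq_bot F hgz hne, sup_bot_eq] at htop
  have hcen : ∀ x, Commute x a := fun x => mem_cent.1 (htop ▸ Subgroup.mem_top x)
  rcases outer_uni (hF.outer_quot hA) with h | ⟨G₁, hJ, hn, hidx, -, hU, -, -⟩
  · exact absurd (Quad.iso_of_isolated h) hI
  haveI := hn
  have hnorm : (Subgroup.zpowers a).Normal := ⟨fun n hn x => by
    rcases (mem_zpowers_two Q.a2).1 hn with e | e <;> rw [e]
    · rw [mul_one, mul_inv_cancel]; exact one_mem _
    · rw [mul_inv_eq_iff_eq_mul.2 (hcen x).eq]; exact Subgroup.mem_zpowers a⟩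
  haveI := hnorm
  let φ : G →* CQ a := MonoidHom.mk' (fun x => qmk a x (hcen x)) fun x y => qmk_mul (hcen x) (hcen y)
  have hφ : Function.Surjective φ := fun y => by
    obtain ⟨x, hx, rfl⟩ := qmk_surj y
    exact ⟨x, rfl⟩
  have hker : φ.ker = Subgroup.zpowers a := by
    ext x
    rw [MonoidHom.mem_ker, mem_zpowers_two Q.a2]
    show qmk a x (hcen x) = 1 ↔ _
    rw [eq_comm, ← qmk_one, qmk_eq Q.a2, one_mul]
  have haG : a ∈ G₁.comap φ := by
    rw [Subgroup.mem_comap, show φ a = 1 from ((SetLike.ext_iff.1 hker a).2 (Subgroup.mem_zpowers a))]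
    exact one_mem _
  refine ⟨hnorm, G₁.comap φ, haG, by rw [Subgroup.index_comap_of_surjective _ hφ, hidx],
    Subgroup.Normal.subgroupOf hnorm _, ?_⟩
  let ψ : ↥(G₁.comap φ) →* ↥G₁ := φ.subgroupComap G₁
  have hψ : Function.Surjective ψ := fun y => by
    obtain ⟨x, hx⟩ := hφ y
    exact ⟨⟨x, by rw [Subgroup.mem_comap, hx]; exact y.2⟩, Subtype.ext hx⟩
  obtain ⟨e⟩ := hU.iso hK
  refine ⟨((QuotientGroup.quotientMulEquivOfEq ?_).trans (QuotientGroup.quotientKerEquivOfSurjective ψ hψ)).trans e⟩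
  ext x
  rw [Subgroup.mem_subgroupOf, MonoidHom.mem_ker, Subtype.ext_iff]
  exact (SetLike.ext_iff.1 hker _).symm

/-- All conclusions with `a` central in the centraliser of `z`. -/
theorem Full.left_main {C : Cfg} {z a : G} {Q : Quad C z a} (hF : Full Q) (hA : ∀ h, Commute h z → Commute h a)
    {K : Type*} [Field K] [Fintype K] (hK : Fintype.card K = 4) :
    Cfsg.IsIsolatedInvolution z ∨ UType G a K ∨ UType G (a * z) K := by
  have hA' : ∀ h, Commute h z → Commute h (a * z) := fun h hh => (hA h hh).mul_right hh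
  by_cases hIa : Iso z a
  · by_cases hb : Iso z (a * z)
    · exact Or.inl (hF.isolated (hF.fus_left hA) hIa hb)
    · obtain rfl := hF.other.cfg_of_not_iso hA' hb
      exact Or.inr (Or.inr (hF.other.uType hA' hb (by rw [Q.az_z]; exact hIa) hK))
  · obtain rfl := hF.cfg_of_not_iso hA hIa
    by_cases hb : Iso z (a * z)
    · exact Or.inr (Or.inl (hF.uType hA hIa hb hK))
    · exact ((hF.thick hA hIa).not_both (hF.fus_left hA) hA (hF.other.thick hA' hb)).elim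

end Cfsg.Lib.U62Type
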