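import Cfsg.Agent.Lib.U62Type.FourU

/-!
# The orthogonal cases: no commuting conjugate
-/

set_option autoImplicit false
set_option linter.unusedSectionVars false
set_option linter.style.haveILetI false

namespace Cfsg.Lib.U62Type

variable {G : Type*} [Group G] [Finite G] {C : Cfg} {z a : G} {Q : Quad C z a}

theorem Quad.plane_all (Q : Quad C z a) {k : ℕ}
    (hk : ∀ u, Commute u z → ¬ WordCode C.gens (Q.κ u) → ∃ c, WordCode C.gens c ∧ Q.κ u = cm (oC C k) c) {v : ℕ}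
    (hv : v ∈ planeL C) (ho : ap (oC C k) v = v) {u : G} (hu : Commute u z) : ap (Q.κ u) v = v := by
  obtain ⟨-, hfix⟩ := Q.plane_fix hv
  by_cases hw : WordCode C.gens (Q.κ u)
  · exact hfix _ hw
  · obtain ⟨c, hc, e⟩ := hk u hu hw
    rw [e, ap_cm, hfix _ hc, ho]

/-- Reversing the roles. -/
theorem Sit.symm' {g t t₁ x : G} (S : Sit Q g t t₁ x) (hIa : Iso z a) :
    Sit (Q.conj g) g⁻¹ z a (a * z) ∧ Iso (g * z * g⁻¹) (g * a * g⁻¹) := by
  refine ⟨⟨S.F.conj g, ?_, by group, by group, ?_, S.ht ▸ S.htz.symm, S.ht ▸ S.hne.symm, fun g' he hg => ?_⟩,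
    hIa.conj g⟩
  · rw [Quad.conj_az (z := z) (a := a) g]
    exact S.hb.conj g
  · group
  · refine S.hne (S.ht.trans ?_)
    have h1 := (hIa.conj g) g' hg (by rw [he]; exact S.ht ▸ S.htz.symm)
    exact h1.symm.trans he

variable {g t t₁ x : G}

theorem Sit.defect_x (S : Sit Q g t t₁ x) (hIa : Iso z a) (hi : Q.Inn t) (hp : Q.κ t ≠ idc) {m : G}
    (hm : m ∈ Q.J) (ht : ap (Q.κ t) (Q.vc m) = Q.vc m) (hx : ap (Q.κ x) (Q.vc m) = Q.vc m) :
    Commute m t ∨ (x * m * x⁻¹ = m * a ∨ x * m * x⁻¹ = m * (a * z)) := by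
  classical
  rcases Q.inner_defect hi S.t2 hp hm ht with e | e
  · exact Or.inl (mul_inv_eq_iff_eq_mul.1 (inv_mul_eq_one.1 e).symm).symm
  have e' : t * m * t⁻¹ = m * z := by rw [← e, mul_inv_cancel_left]
  obtain ⟨y, hy, hye⟩ := Q.defect S.xz S.xa hm hx
  rcases hy with rfl | hy | hy | hy
  · refine Or.inl (Q.kSet_lift S.htz S.ta hm (S.kSet_x ▸ Q.mem_kSet.2 ⟨m, hm, ?_, rfl⟩))
    exact (mul_inv_eq_iff_eq_mul.1 (hye.trans (mul_one m))).symm
  · rw [hy] at hye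
    refine Or.inl (Q.kSet_lift S.htz S.ta hm (S.kSet_t₁ hIa ▸ Q.mem_kSet.2 ⟨m, hm, ?_, rfl⟩))
    refine (mul_inv_eq_iff_eq_mul.1 ?_ : Commute t₁ m).symm
    rw [S.t₁_eq, show x * t * m * (x * t)⁻¹ = x * (t * m * t⁻¹) * x⁻¹ by group, e',
      show x * (m * z) * x⁻¹ = x * m * x⁻¹ * (x * z * x⁻¹) by group, hye, mul_inv_eq_iff_eq_mul.2 S.xz.eq,
      mul_assoc, Q.z2, mul_one]
  · exact Or.inr (Or.inl (hy ▸ hye))
  · exact Or.inr (Or.inr (hy ▸ hye))

/-- Vectors fixed by both codes are centralised. -/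
theorem Sit.all_fixed (S : Sit Q g t t₁ x) (hC : C = cfgP ∨ C = cfgM) (hIa : Iso z a) (hi : Q.Inn t) {j : ℕ}
    (hj : j < 2) (hκ : Q.κ t = xC C.gens j) {m : G} (hm : m ∈ Q.J) (ht : ap (Q.κ t) (Q.vc m) = Q.vc m)
    (hx : ap (Q.κ x) (Q.vc m) = Q.vc m) : Commute m t := by
  classical
  obtain ⟨hpne, hcne, -, -, hcomm⟩ := S.codes
  refine (S.defect_x hIa hi hpne hm ht hx).resolve_right fun hbad => ?_
  by_cases hxi : Q.Inn x
  · have h := Q.inner_defect hxi S.x2 hcne hm hx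
    rcases hbad with e | e <;> rw [e, inv_mul_cancel_left] at h
    exacts [Q.not_eps (Or.inl rfl) h, Q.not_eps (Or.inr rfl) h]
  have hmK : Q.vc m ∉ Q.kSet t := fun h => by
    rw [← S.kSet_x] at h
    have h1 := Q.kSet_lift S.xz S.xa hm h
    rw [mul_inv_eq_iff_eq_mul.2 h1.symm.eq] at hbad
    rcases hbad with e | e
    exacts [Q.a1 (mul_eq_left.1 e.symm), Q.az1 (mul_eq_left.1 e.symm)]
  -- then `x` fixes all that `t` fixes
  have hall : ∀ v ∈ cvL C j, ap (Q.κ x) v = v := by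
    obtain ⟨V, hV⟩ : ∃ V, V = (Q.fSet (Q.κ t)).filter fun v => ap (Q.κ x) v = v := ⟨_, rfl⟩
    have hKV : ∀ v ∈ Q.kSet t, v ∈ V := fun v hv => by
      rw [hV, Finset.mem_filter]
      exact ⟨Q.kSet_sub S.htz hv, (Q.kSet_fix S.xz (S.kSet_x.symm ▸ hv)).2⟩
    obtain ⟨K', hK'⟩ : ∃ K', K' = (Q.kSet t).image fun v => v ^^^ Q.vc m := ⟨_, rfl⟩
    have hsub : Q.kSet t ∪ K' ⊆ V := by
      refine Finset.union_subset hKV fun v hv => ?_
      rw [hK'] at hv
      obtain ⟨w, hw, rfl⟩ := Finset.mem_image.1 hv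
      have h1 := hKV w hw
      rw [hV, Finset.mem_filter, Q.mem_fSet] at h1 ⊢
      exact ⟨⟨xor_lt h1.1.1 (Q.vc_lt m), by rw [ap_xor, h1.1.2, ht]⟩, by rw [ap_xor, h1.2, hx]⟩
    have hdis : Disjoint (Q.kSet t) K' := by
      rw [Finset.disjoint_left]
      intro v hv hv'
      rw [hK'] at hv'
      obtain ⟨w, hw, rfl⟩ := Finset.mem_image.1 hv'
      refine hmK ?_
      have h1 := Q.kSet_xor hw hv
      rwa [← Nat.xor_assoc, Nat.xor_self, Nat.zero_xor] at h1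
    have hcard := Finset.card_le_card hsub
    rw [Finset.card_union_of_disjoint hdis, hK',
      Finset.card_image_of_injective _ fun _ _ h => Nat.xor_left_injective h] at hcard
    have h2 := Q.half hi S.t2 hpne
    have heq := Finset.eq_of_subset_of_card_le (hV ▸ Finset.filter_subset _ _) (show (Q.fSet (Q.κ t)).card ≤ V.card
      by omega)
    intro v hv
    obtain ⟨hv256, hvf⟩ := mem_cvL.1 hv
    have h3 : v ∈ V := heq.symm ▸ Q.mem_fSet.2 ⟨hv256, hκ.symm ▸ hvf⟩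
    rw [hV, Finset.mem_filter] at h3
    exact h3.2
  obtain ⟨k, hk, -, hmem⟩ := Q.code_mem
  have hxn : ¬ WordCode C.gens (Q.κ x) := fun w => hxi ⟨S.xz, w⟩
  have hp := ((hmem j hj x S.xz (hκ ▸ hcomm)).2 (Q.κ_invol S.xz S.x2) hcne).2 hxn
  have hchk : planeOuterChk C = true := by rcases hC with rfl | rfl; exacts [planeOuter_P, planeOuter_M]
  simp only [planeOuterChk, List.all_eq_true, List.mem_range, Bool.or_eq_true, List.any_eq_true, Bool.and_eq_true,
    nbeq_iff, Bool.not_eq_true', vecs] at hchk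
  rcases hchk k hk j hj _ hp with ⟨v, hv, e⟩ | ⟨u, hu, ⟨hq, hrc⟩, hrp⟩
  · exact Bool.noConfusion (e.symm.trans (nbeq_iff.2 (hall v hv)))
  obtain ⟨n, hn, rfl⟩ := Q.vc_surj u hu
  obtain ⟨e, he⟩ : ∃ e, e = x * n * x⁻¹ * n⁻¹ := ⟨_, rfl⟩
  have heJ : e ∈ Q.J := he ▸ mul_mem (Q.norm x S.xz n hn) (inv_mem hn)
  have hev : Q.vc e = ap (Q.κ x) (Q.vc n) ^^^ Q.vc n := by
    rw [he, Q.vc_mul _ (Q.norm x S.xz n hn) _ (inv_mem hn), Q.act x S.xz n hn, Q.vc_inv hn]
  rw [← hev] at hq hrc hrp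
  have hinv : x * e * x⁻¹ = e * z := by
    have h1 : x * e * x⁻¹ = e⁻¹ := by
      have hui := inv_eq_of_mul_eq_one_right S.x2
      rw [he, hui]
      simp only [mul_inv_rev, inv_inv, hui]
      rw [show x * (x * n * x * n⁻¹) * x = x * x * (n * x * n⁻¹ * x) by simp only [mul_assoc], S.x2, one_mul]
      simp only [mul_assoc]
    rw [h1]
    refine inv_eq_of_mul_eq_one_right ?_
    rw [← mul_assoc, Q.sq_z heJ hq, Q.z2]
  rcases S.defect_x hIa hi hpne heJ (hκ.symm ▸ hrp) hrc with h | h | h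
  · have h1 := (S.J_comm heJ h).2
    rw [mul_inv_eq_iff_eq_mul.2 h1.symm.eq] at hinv
    exact Q.z1 (mul_eq_left.1 hinv.symm)
  · exact Q.az (mul_left_cancel (hinv.symm.trans h)).symm
  · exact Q.az_ne (mul_left_cancel (hinv.symm.trans h)).symm

/-- A fixed non-singular vector of the plane is centralised. -/
theorem Sit.plane_in (S : Sit Q g t t₁ x) (hC : C = cfgP ∨ C = cfgM) (hIa : Iso z a) (hi : Q.Inn t) {v : ℕ}
    (hv : v ∈ planeL C) (hall : ∀ u, Commute u z → ap (Q.κ u) v = v) : v ∈ Q.kSet t := by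
  obtain ⟨g₀, hg₀, j, hj, hju⟩ := S.normal hi S.t2 S.codes.1
  have S' := S.move hg₀
  obtain ⟨n, hn, rfl⟩ := Q.vc_surj v (Q.plane_fix hv).1
  have h1 := S'.all_fixed hC hIa ((S.inn_move hg₀).2 hi) hj hju (Q.norm g₀ hg₀.1 n hn)
    (by rw [Q.act g₀ hg₀.1 n hn, hall g₀ hg₀.1]; exact hall _ S'.htz)
    (by rw [Q.act g₀ hg₀.1 n hn, hall g₀ hg₀.1]; exact hall _ S'.xz)
  refine Q.mem_kSet.2 ⟨n, hn, ?_, rfl⟩
  exact (Commute.conj_iff g₀).1 h1

/-- Both inner. -/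
theorem Sit.orth_inner (S : Sit Q g t t₁ x) (hC : C = cfgP ∨ C = cfgM) (hIa : Iso z a)
    (hi : Q.Inn t) (hi' : (Q.conj g).Inn z) {j : ℕ} (hj : j < 2) (hκ : Q.κ t = xC C.gens j) : False := by
  classical
  obtain ⟨S', hIa'⟩ := S.symm' hIa
  obtain ⟨hpne, hcne, -, hcp, hcomm⟩ := S.codes
  obtain ⟨k, hko, hout⟩ := Q.out
  have hk : Q.IsOut k := ⟨hko, hout⟩
  obtain ⟨-, hmem⟩ := Q.code_spec hk
  obtain ⟨hsplit', -⟩ := (Q.conj g).code_spec (Quad.isOut_conj hk g)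
  have h64 : 64 ≤ (cvL C j).length := by
    have h := fourCount_ok
    simp only [fourCountChk, Bool.and_eq_true, List.all_eq_true, Nat.ble_eq, List.mem_range] at h
    exact h.1.1.2 C (by rcases hC with rfl | rfl <;> simp) j hj
  have hK := Q.half hi S.t2 hpne
  rw [hκ, Q.fSet_length] at hK
  have hlen : (fxL (xC C.gens j)).length = (cvL C j).length := rfl
  have htT : Commute t (g * z * g⁻¹) := S.ht ▸ Commute.refl t
  -- what a lift of a plane vector does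
  have hlifts : ∀ {v}, v ∈ planeL C → ap (oC C k) v = v → ∃ m ∈ (Q.conj g).J, (Q.conj g).vc m = v ∧ Commute m z ∧
      Commute m t ∧ Q.κ m ∈ (fullL C k j).filter (fun e => Nat.ble 32
        ((cvL C j).filter fun w => ap e w == w).length) ∧ ∀ w ∈ Q.kSet t, ap (Q.κ m) w = w := by
    intro v hv ho
    have hall : ∀ u, Commute u (g * z * g⁻¹) → ap ((Q.conj g).κ u) v = v := fun u hu =>
      (Q.conj g).plane_all hsplit' hv ho hu
    obtain ⟨m, hm, hmz, rfl⟩ := (Q.conj g).mem_kSet.1 (S'.plane_in hC hIa' hi' hv hall)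
    have hmt : Commute m t := S.ht ▸ (Q.conj g).cz m hm
    have hfix : ∀ w ∈ Q.kSet t, ap (Q.κ m) w = w := by
      intro w hw
      obtain ⟨n, hn, hnt, rfl⟩ := Q.mem_kSet.1 hw
      refine Q.fixed_of_commute hmz hn (mul_inv_eq_iff_eq_mul.1 ?_)
      have hnt' : Commute n (g * z * g⁻¹) := S.ht ▸ hnt
      have hy := (Q.conj g).fixed_zc hnt' hm (hall n hnt')
      have hyJ : m⁻¹ * (n * m * n⁻¹) ∈ Q.J := by
        rw [show m⁻¹ * (n * m * n⁻¹) = m⁻¹ * n * m⁻¹⁻¹ * n⁻¹ by group]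
        exact mul_mem (Q.norm m⁻¹ hmz.inv_left n hn) (inv_mem hn)
      have h1 : m⁻¹ * (n * m * n⁻¹) = 1 := by
        rcases hy with e | e | e | e <;> rw [e] at hyJ ⊢
        · exact absurd (S.ht ▸ hyJ) S.tJ
        · exact absurd (S.ht₁ ▸ hyJ) S.t₁J
        · refine absurd ?_ S.xJ
          rw [S.x_eq, S.ht, S.ht₁]
          exact hyJ
      rw [inv_mul_eq_one] at h1
      rw [mul_inv_eq_iff_eq_mul]
      exact (show Commute n m from mul_inv_eq_iff_eq_mul.1 h1.symm).symm.eq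
    refine ⟨m, hm, rfl, hmz, hmt, List.mem_filter.2 ⟨(hmem j hj m hmz (hκ ▸ Q.κ_comm hmz S.htz hmt)).1, ?_⟩, hfix⟩
    rw [Nat.ble_eq]
    have hsub : Q.kSet t ⊆ ((cvL C j).filter fun w => ap (Q.κ m) w == w).toFinset := fun w hw => by
      obtain ⟨hw256, hwf⟩ := Q.kSet_fix S.htz hw
      rw [hκ] at hwf
      rw [List.mem_toFinset, List.mem_filter, mem_cvL, beq_iff_eq]
      exact ⟨⟨hw256, hwf⟩, hfix w hw⟩
    have h1 := (Finset.card_le_card hsub).trans (List.toFinset_card_le _)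
    omega
  have hchk : planeTripleChk C = true := by rcases hC with rfl | rfl; exacts [planeTriple_P, planeTriple_M]
  have hchk' := List.all_eq_true.1 (List.all_eq_true.1 hchk k hko) j (List.mem_range.2 hj)
  simp only at hchk'

  by_cases hplane : (planeL C).all (fun v => Nat.beq (ap (oC C k) v) v) = true
  swap
  · rw [if_neg hplane] at hchk'
    have hr : rVecChk C = true := by rcases hC with rfl | rfl; exacts [rVec_P, rVec_M]
    simp only [rVecChk, List.all_eq_true, List.any_eq_true, Bool.and_eq_true, nbeq_iff] at hr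
    obtain ⟨r, hr, hrq, hro⟩ := hr k hko
    obtain ⟨m, hm, hmv, hmz, hmt, hbig, -⟩ := hlifts hr hro
    simp only [List.all_eq_true, Bool.not_eq_true', beq_eq_false_iff_ne, ne_eq] at hchk'
    refine hchk' _ hbig ?_
    rw [← Q.κ_mul hmz hmz, (Q.conj g).sq_z hm (by rw [hmv]; exact hrq), ← S.ht, hκ]
  · rw [if_pos hplane] at hchk'
    -- two non-commuting vectors of the plane
    have hkk : ∀ v ∈ planeL C, ap (oC C k) v = v := fun v hv => by
      simp only [List.all_eq_true, nbeq_iff] at hplane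
      exact hplane v hv
    obtain ⟨v, hv, w, hw, hvw⟩ : ∃ v ∈ planeL C, ∃ w ∈ planeL C, cform C v w = 1 := by
      have h := fourCount_ok
      simp only [fourCountChk, Bool.and_eq_true, List.all_eq_true, List.any_eq_true, nbeq_iff] at h
      exact h.1.2 C (by rcases hC with rfl | rfl <;> simp)
    obtain ⟨A, hA, hAv, hAz, hAt, hAbig, hAfix⟩ := hlifts hv (hkk v hv)
    obtain ⟨B, hB, hBw, hBz, hBt, hBbig, hBfix⟩ := hlifts hw (hkk w hw)
    have hAB : A * B * A⁻¹ * B⁻¹ = t := by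
      rcases (Q.conj g).cmt A hA B hB with e | e
      · have h1 := ((Q.conj g).comm_iff hA hB).1 (mul_inv_eq_iff_eq_mul.1 (mul_inv_eq_one.1 e))
        rw [hAv, hBw, hvw] at h1
        exact absurd h1 (by norm_num)
      · exact e.trans S.ht.symm
    simp only [List.all_eq_true, Bool.or_eq_true, Bool.not_eq_true', beq_eq_false_iff_ne, ne_eq, Nat.blt_eq,
      List.mem_filter (p := fun c => !(c == xC C.gens j))] at hchk'
    have hc := ((hmem j hj x S.xz (hκ ▸ hcomm)).2 (Q.κ_invol S.xz S.x2) hcne).1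
    have hxA : Commute x A := by
      rw [S.x_eq, S.ht₁, S.ht]
      exact ((Q.conj g).az_comm hA).symm
    have hxB : Commute x B := by
      rw [S.x_eq, S.ht₁, S.ht]
      exact ((Q.conj g).az_comm hB).symm
    rcases hchk' _ hAbig _ hBbig with e | e
    · refine e ?_
      have e1 : A * B = t * (B * A) := by rw [← hAB]; group
      have h1 := congrArg Q.κ e1
      rwa [Q.κ_mul hAz hBz, Q.κ_mul S.htz (hBz.mul_left hAz), Q.κ_mul hBz hAz, hκ] at h1
    · rcases e _ ⟨hc, hκ ▸ hcp⟩ with (e | e) | e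
      · exact e (Q.κ_comm S.xz hAz hxA)
      · exact e (Q.κ_comm S.xz hBz hxB)
      · have hsub : Q.kSet t ⊆ ((cvL C j).filter fun v =>
            ap (Q.κ A) v == v && ap (Q.κ B) v == v && ap (Q.κ x) v == v).toFinset := fun u hu => by
          obtain ⟨hu256, huf⟩ := Q.kSet_fix S.htz hu
          rw [hκ] at huf
          rw [List.mem_toFinset, List.mem_filter, mem_cvL, Bool.and_eq_true, Bool.and_eq_true, beq_iff_eq, beq_iff_eq,
            beq_iff_eq]
          exact ⟨⟨hu256, huf⟩, ⟨hAfix u hu, hBfix u hu⟩, (Q.kSet_fix S.xz (S.kSet_x.symm ▸ hu)).2⟩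
        have h1 := (Finset.card_le_card hsub).trans (List.toFinset_card_le _)
        omega

/-- If `t` is outer then so is `z` for `t`. -/
theorem Sit.orth_mixed (S : Sit Q g t t₁ x) (hC : C = cfgP ∨ C = cfgM) (hn : ¬ Q.Inn t) :
    ¬ (Q.conj g).Inn z := by
  classical
  intro hi'
  have hzt : Commute z (g * z * g⁻¹) := S.ht ▸ S.htz.symm
  have hne' : (Q.conj g).κ z ≠ idc := fun e => S.hne (by
    have h1 := Q.conj_mem.1 ((Q.conj g).ker z hzt e)
    have h2 := S.F.no_inside (g := g⁻¹) (by simpa using h1)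
    rw [inv_inv] at h2
    calc t = g * z * g⁻¹ := S.ht
      _ = g * (g⁻¹ * z * g) * g⁻¹ := by rw [h2]
      _ = z := by group)
  have hin := ((Q.conj g).invol _ hi'.2 ((Q.conj g).κ_invol hzt Q.z2) hne').1
  have htr : tripleChk C = true := by rcases hC with rfl | rfl; exacts [triple_P, triple_M]
  simp only [tripleChk, List.all_eq_true] at htr
  have h := htr _ hin
  simp only [triple, List.any_eq_true, Bool.and_eq_true, nbeq_iff, List.mem_filter, vecs, List.mem_range,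
    beq_iff_eq] at h
  obtain ⟨u, ⟨hu, huf⟩, huq, w, ⟨hw, hwf⟩, hwq, hsq⟩ := h
  obtain ⟨m, hm, rfl⟩ := (Q.conj g).vc_surj u hu
  obtain ⟨n, hn', rfl⟩ := (Q.conj g).vc_surj w hw
  have key : ∀ {b}, b ∈ (Q.conj g).J → C.q ((Q.conj g).vc b) = 1 → ¬ Commute b z := fun {b} hb hq hbz => hn (by
    have h1 := Q.inn_sq hbz
    rwa [(Q.conj g).sq_z hb hq, ← S.ht] at h1)
  have hcases : ∀ {b}, b ∈ (Q.conj g).J → ap ((Q.conj g).κ z) ((Q.conj g).vc b) = (Q.conj g).vc b →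
      C.q ((Q.conj g).vc b) = 1 → z * b * z⁻¹ = b * t := fun {b} hb hf hq => by
    rcases (Q.conj g).inner_defect hi' Q.z2 hne' hb hf with e | e
    · exact absurd (mul_inv_eq_iff_eq_mul.1 (inv_mul_eq_one.1 e).symm : Commute z b).symm (key hb hq)
    · rw [S.ht, ← e, mul_inv_cancel_left]
  have e1 := hcases hm huf huq
  have e2 := hcases hn' hwf hwq
  refine key (mul_mem hm hn') (by rw [(Q.conj g).vc_mul m hm n hn']; exact hsq) ?_
  refine (mul_inv_eq_iff_eq_mul.1 ?_ : Commute z (m * n)).symm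
  rw [show z * (m * n) * z⁻¹ = z * m * z⁻¹ * (z * n * z⁻¹) by group, e1, e2, mul_assoc, ← mul_assoc t,
    (show Commute t n from S.ht ▸ ((Q.conj g).cz n hn').symm).eq, mul_assoc n, S.t2, mul_one]

/-- Both outer. -/
theorem Sit.orth_outer (S : Sit Q g t t₁ x) (hC : C = cfgP ∨ C = cfgM) (hIa : Iso z a) (hn : ¬ Q.Inn t)
    (hn' : ¬ (Q.conj g).Inn z) : False := by
  classical
  have hTS : ∀ v ∈ Q.kSet t, C.q v = 0 := by
    intro v hv
    obtain ⟨m, hm, hmt, rfl⟩ := Q.mem_kSet.1 hv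
    rcases Q.sq m hm with e | e
    · exact Q.q_of_sq hm e
    · exfalso
      have h1 := (Q.conj g).inn_sq (h := m) (S.ht ▸ hmt)
      rw [e] at h1
      exact hn' h1
  obtain ⟨u, hu, hui⟩ : ∃ u, (u = x ∨ u = t₁) ∧ Q.Inn u := by
    rcases S.inn_third hn with ⟨h, -⟩ | ⟨h, -⟩
    exacts [⟨x, Or.inl rfl, h⟩, ⟨t₁, Or.inr rfl, h⟩]
  obtain ⟨-, hcne, hdne, -, -⟩ := S.codes
  have hu2 : u * u = 1 := by rcases hu with rfl | rfl; exacts [S.x2, S.t₁2]
  have hune : Q.κ u ≠ idc := by rcases hu with rfl | rfl <;> assumption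
  obtain ⟨g₀, hg₀, j, hj, hju⟩ := S.normal hui hu2 hune
  have S' := S.move hg₀
  obtain ⟨hpne', -, -, -, hcomm'⟩ := S'.codes
  obtain ⟨k, hk, -, hmem⟩ := Q.code_mem
  obtain ⟨t', ht'⟩ : ∃ t', t' = g₀ * t * g₀⁻¹ := ⟨_, rfl⟩
  have hTS' : ∀ v ∈ Q.kSet t', C.q v = 0 := by
    intro v hv
    obtain ⟨m, hm, hmt, rfl⟩ := Q.mem_kSet.1 hv
    have hm' := Q.norm g₀⁻¹ hg₀.1.inv_left m hm
    have h1 := hTS _ (Q.mem_kSet.2 ⟨_, hm', by
      rw [inv_inv]
      exact commute_conj_back (ht' ▸ hmt), rfl⟩)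
    rwa [Q.act _ hg₀.1.inv_left m hm, Q.q_act hg₀.1.inv_left (Q.vc_lt m)] at h1
  have hn'' : ¬ WordCode C.gens (Q.κ t') := fun w => hn ((S.inn_move hg₀).1 (ht' ▸ ⟨ht'.symm ▸ S'.htz, w⟩))
  have hpc : cm (Q.κ t') (xC C.gens j) = cm (xC C.gens j) (Q.κ t') := by
    rw [ht', ← hju]
    rcases hu with rfl | rfl
    · exact hcomm'.symm
    · exact Q.κ_comm S'.htz S'.t₁z S'.comm_tt₁
  have htz' : Commute t' z := ht'.symm ▸ S'.htz
  have hp := ((hmem j hj t' htz' hpc).2 (Q.κ_invol htz' (ht'.symm ▸ S'.t2)) (ht'.symm ▸ hpne')).2 hn''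
  have hchk : tsChk C = true := by rcases hC with rfl | rfl; exacts [ts_P, ts_M]
  have hchk' := List.all_eq_true.1 (List.all_eq_true.1 (List.all_eq_true.1 hchk k hk) j (List.mem_range.2 hj)) _ hp
  simp only [Bool.or_eq_true, Nat.blt_eq, Bool.and_eq_true, nbeq_iff, List.any_eq_true] at hchk'
  obtain ⟨W, hW⟩ : ∃ W, W = (fxL (Q.κ t')).filter fun v =>
      Nat.beq (C.q v) 0 && Nat.beq (ap (xC C.gens j) v) v := ⟨_, rfl⟩
  rw [← hW] at hchk'
  have hWnd : W.Nodup := hW ▸ List.Nodup.filter _ (List.Nodup.filter _ List.nodup_range)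
  have hku : Q.kSet (g₀ * u * g₀⁻¹) = Q.kSet t' := by
    rcases hu with rfl | rfl
    · rw [ht']; exact S'.kSet_x
    · rw [ht']; exact S'.kSet_t₁ hIa
  have hKW : Q.kSet t' ⊆ W.toFinset := fun v hv => by
    obtain ⟨hv256, hvf⟩ := Q.kSet_fix htz' hv
    have h1 := (Q.kSet_fix (u := g₀ * u * g₀⁻¹) ((hg₀.1.mul_left hui.1).mul_left hg₀.1.inv_left)
      (hku.symm ▸ hv)).2
    rw [hju] at h1
    rw [List.mem_toFinset, hW, List.mem_filter, Bool.and_eq_true, nbeq_iff, nbeq_iff]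
    exact ⟨by simp [fxL, vecs, hv256, hvf], hTS' v hv, h1⟩
  have hWK := (Finset.card_le_card hKW).trans (le_of_eq (List.toFinset_card_of_nodup hWnd))
  -- a quarter of the fixed vectors of both
  have hm : max (fxL (xC C.gens j)).length (fxL (cm (xC C.gens j) (Q.κ t'))).length ≤ 4 * (Q.kSet t').card := by
    have hqx := Q.quarter S'.xz S'.xa
    have hq1 := Q.quarter S'.t₁z S'.t₁a
    rw [S'.kSet_x, ← ht', Q.fSet_length] at hqx
    rw [S'.kSet_t₁ hIa, ← ht', Q.fSet_length] at hq1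
    rcases hu with rfl | rfl
    · rw [hju] at hqx
      have e : Q.κ (g₀ * t₁ * g₀⁻¹) = cm (xC C.gens j) (Q.κ t') := by
        rw [ht', ← hju, ← Q.κ_mul S'.xz S'.htz, ← S'.t₁_eq]
      rw [e] at hq1
      exact max_le hqx hq1
    · rw [hju] at hq1
      have e : Q.κ (g₀ * x * g₀⁻¹) = cm (xC C.gens j) (Q.κ t') := by
        rw [ht', ← hju, ← Q.κ_mul S'.t₁z S'.htz, ← S'.x_eq]
      rw [e] at hqx
      exact max_le hq1 hqx
  rcases hchk' with e | ⟨e, v, hv, w, hw, hq⟩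
  · omega
  · have heq := Finset.eq_of_subset_of_card_le hKW (by rw [List.toFinset_card_of_nodup hWnd]; omega)
    have h1 := hTS' _ (Q.kSet_xor (heq.symm ▸ List.mem_toFinset.2 hv) (heq.symm ▸ List.mem_toFinset.2 hw))
    rw [h1] at hq
    exact absurd hq (by norm_num)

/-- No commuting conjugate in the orthogonal cases. -/
theorem Sit.orth_false (S : Sit Q g t t₁ x) (hC : C = cfgP ∨ C = cfgM) (hIa : Iso z a) : False := by
  obtain ⟨S', hIa'⟩ := S.symm' hIa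
  by_cases hi : Q.Inn t
  · by_cases hi' : (Q.conj g).Inn z
    · obtain ⟨g₀, hg₀, j, hj, hju⟩ := S.normal hi S.t2 S.codes.1
      refine (S.move hg₀).orth_inner hC hIa ((S.inn_move hg₀).2 hi) ?_ hj hju
      refine ⟨(S.move hg₀).ht ▸ (S.move hg₀).htz.symm, ?_⟩
      show WordCode C.gens (Q.κ ((g₀ * g)⁻¹ * z * (g₀ * g)))
      rw [show (g₀ * g)⁻¹ * z * (g₀ * g) = g⁻¹ * (g₀⁻¹ * z * g₀) * g by group, hg₀.1.inv_left.eq, mul_assoc z,
        inv_mul_cancel, mul_one]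
      exact hi'.2
    · refine S'.orth_mixed hC hi' ⟨?_, ?_⟩
      · rw [show g⁻¹ * (g * z * g⁻¹) * g⁻¹⁻¹ = z by group, ← S.ht]
        exact hi.1
      · show WordCode C.gens (Q.κ (g⁻¹ * (g⁻¹⁻¹ * (g * z * g⁻¹) * g⁻¹) * g))
        rw [show g⁻¹ * (g⁻¹⁻¹ * (g * z * g⁻¹) * g⁻¹) * g = g * z * g⁻¹ by group, ← S.ht]
        exact hi.2
  · exact S.orth_outer hC hIa hi (S.orth_mixed hC hi)

end Cfsg.Lib.U62Type
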