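import Cfsg.Agent.Lib.U62Type.FourSwap

/-!
# The situation of a commuting conjugate
-/

set_option autoImplicit false
set_option linter.unusedSectionVars false
set_option linter.style.haveILetI false

namespace Cfsg.Lib.U62Type

variable {G : Type*} [Group G] [Finite G]

/-- A commuting conjugate, none of whose conjugating elements centralises `a`. -/
structure Sit {C : Cfg} {z a : G} (Q : Quad C z a) (g t t₁ x : G) : Prop where
  F : Fus Q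
  hb : Iso z (a * z)
  ht : t = g * z * g⁻¹
  ht₁ : t₁ = g * a * g⁻¹
  hx : x = g * (a * z) * g⁻¹
  htz : Commute t z
  hne : t ≠ z
  noshare : ∀ g', g' * z * g'⁻¹ = t → ¬ Commute g' a

variable {C : Cfg} {z a : G} {Q : Quad C z a}

/-- Being the code of the chosen outer element. -/
def Quad.IsOut (Q : Quad C z a) (k : ℕ) : Prop :=
  k ∈ outL C ∧ ∃ s, Commute s z ∧ Q.κ s = oC C k ∧ ¬ WordCode C.gens (oC C k)

theorem Quad.isOut_conj {k : ℕ} (h : Q.IsOut k) (g : G) : (Q.conj g).IsOut k := by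
  obtain ⟨hk, s, hs, he, hn⟩ := h
  exact ⟨hk, g * s * g⁻¹, (Commute.conj_iff g).2 hs, by
    show Q.κ _ = _; rw [show g⁻¹ * (g * s * g⁻¹) * g = s by group]; exact he, hn⟩

/-- Where the codes commuting with a listed involution are listed. -/
theorem Quad.code_spec (Q : Quad C z a) {k : ℕ} (h : Q.IsOut k) :
    (∀ u, Commute u z → ¬ WordCode C.gens (Q.κ u) → ∃ c, WordCode C.gens c ∧ Q.κ u = cm (oC C k) c) ∧
    ∀ j < 2, ∀ u, Commute u z → cm (Q.κ u) (xC C.gens j) = cm (xC C.gens j) (Q.κ u) →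
      Q.κ u ∈ fullL C k j ∧ (cm (Q.κ u) (Q.κ u) = idc → Q.κ u ≠ idc → Q.κ u ∈ parL C k j ∧
        (¬ WordCode C.gens (Q.κ u) → Q.κ u ∈ parOut C k j)) := by
  obtain ⟨hk, s, hs, hse, hsn⟩ := h
  have hsplit : ∀ u, Commute u z → ¬ WordCode C.gens (Q.κ u) →
      WordCode C.gens (Q.κ (s⁻¹ * u)) ∧ Q.κ u = cm (oC C k) (Q.κ (s⁻¹ * u)) := fun u hu hn =>
    ⟨Q.index _ _ hs.inv_left hu
      (fun w => hsn (hse ▸ (by simpa using (Q.inn_inv (h := s⁻¹) ⟨hs.inv_left, w⟩).2))) hn,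
     by rw [← hse, ← Q.κ_mul hs (hs.inv_left.mul_left hu), mul_inv_cancel_left]⟩
  refine ⟨fun u hu hn => ⟨_, hsplit u hu hn⟩, fun j hj u hu hc => ?_⟩
  have hstd : cm (oC C k) (xC C.gens j) = cm (xC C.gens j) (oC C k) := by
    have h1 : commStdChk C = true := by
      rcases list_cases Q.std with rfl | rfl | rfl
      exacts [commStd_U, commStd_P, commStd_M]
    simp only [commStdChk, List.all_eq_true, List.mem_range, beq_iff_eq] at h1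
    exact h1 k hk j hj
  have hout : ¬ WordCode C.gens (Q.κ u) → Q.κ u ∈ (ceL C.gens j).map (cm (oC C k)) := fun hn => by
    obtain ⟨hw, e⟩ := hsplit u hu hn
    refine List.mem_map.2 ⟨_, Q.cov j hj _ hw ?_, e.symm⟩
    have hsi : cm (Q.κ s⁻¹) (xC C.gens j) = cm (xC C.gens j) (Q.κ s⁻¹) := by
      have h1 := congrArg (fun x => cm (Q.κ s⁻¹) (cm x (Q.κ s⁻¹))) hstd
      simp only [← hse] at h1
      rw [cm_assoc (xC C.gens j), (Q.κ_inv hs).1, cm_idc (show xC C.gens j < 2 ^ 64 from cw_lt _ _),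
        cm_assoc (Q.κ s), ← cm_assoc (Q.κ s⁻¹) (Q.κ s), (Q.κ_inv hs).2, idc_cm (cm_lt _ _)] at h1
      exact h1.symm
    rw [Q.κ_mul hs.inv_left hu, ← cm_assoc, ← hsi, cm_assoc, ← hc, cm_assoc]
  have hfull : Q.κ u ∈ fullL C k j := by
    by_cases hw : WordCode C.gens (Q.κ u)
    · exact List.mem_append_left _ (Q.cov j hj _ hw hc.symm)
    · exact List.mem_append_right _ (hout hw)
  refine ⟨hfull, fun h2 hne => ⟨?_, fun hn => ?_⟩⟩
  · simp only [parL, List.mem_filter, Bool.and_eq_true, beq_iff_eq, Bool.not_eq_true', beq_eq_false_iff_ne, ne_eq]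
    exact ⟨hfull, h2, hne⟩
  · simp only [parOut, List.mem_filter, Bool.and_eq_true, beq_iff_eq, Bool.not_eq_true', beq_eq_false_iff_ne, ne_eq]
    exact ⟨hout hn, h2, hne⟩

theorem Quad.code_mem (Q : Quad C z a) : ∃ k ∈ outL C,
    (∀ u, Commute u z → ¬ WordCode C.gens (Q.κ u) → ∃ c, WordCode C.gens c ∧ Q.κ u = cm (oC C k) c) ∧
    ∀ j < 2, ∀ u, Commute u z → cm (Q.κ u) (xC C.gens j) = cm (xC C.gens j) (Q.κ u) →
      Q.κ u ∈ fullL C k j ∧ (cm (Q.κ u) (Q.κ u) = idc → Q.κ u ≠ idc → Q.κ u ∈ parL C k j ∧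
        (¬ WordCode C.gens (Q.κ u) → Q.κ u ∈ parOut C k j)) := by
  obtain ⟨k, hk, h⟩ := Q.out
  exact ⟨k, hk, Q.code_spec ⟨hk, h⟩⟩

namespace Sit

variable {g t t₁ x : G} (S : Sit Q g t t₁ x)

include S

theorem t2 : t * t = 1 := by
  rw [S.ht, show g * z * g⁻¹ * (g * z * g⁻¹) = g * (z * z) * g⁻¹ by group, Q.z2, mul_one, mul_inv_cancel]

theorem t₁2 : t₁ * t₁ = 1 := by
  rw [S.ht₁, show g * a * g⁻¹ * (g * a * g⁻¹) = g * (a * a) * g⁻¹ by group, Q.a2, mul_one, mul_inv_cancel]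

theorem x2 : x * x = 1 := by
  rw [S.hx, show g * (a * z) * g⁻¹ * (g * (a * z) * g⁻¹) = g * (a * z * (a * z)) * g⁻¹ by group, Q.az2, mul_one,
    mul_inv_cancel]

theorem x_eq : x = t₁ * t := by rw [S.hx, S.ht₁, S.ht]; group

theorem t₁_eq : t₁ = x * t := by rw [S.x_eq, mul_assoc, S.t2, mul_one]

theorem comm_tt₁ : Commute t t₁ := by rw [S.ht, S.ht₁]; exact (Commute.conj_iff g).2 Q.za

theorem comm_tx : Commute t x := by rw [S.x_eq]; exact S.comm_tt₁.mul_right (Commute.refl t)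

theorem ta : Commute t a := S.F.comm_a S.ht S.htz S.hne

theorem t₁z : Commute t₁ z := by
  rw [S.ht₁]
  exact ((S.F.conj g).comm_a (g := g⁻¹) (t := z) (by group) (S.ht ▸ S.htz.symm) (S.ht ▸ S.hne.symm)).symm

theorem xz : Commute x z := S.x_eq ▸ S.t₁z.mul_left S.htz

theorem tJ : t ∉ Q.J := fun h => S.hne (S.ht.trans (S.F.no_inside (S.ht ▸ h)))

theorem no_zc (h : Q.Zc (g * a * g⁻¹) ∨ Q.Zc (g * (a * z) * g⁻¹)) : False := by
  obtain ⟨g', he, hg | hg⟩ := S.F.share h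
  · exact S.noshare g' (he.trans S.ht.symm) hg
  · refine S.hne (S.ht.trans (he.symm.trans (S.hb g' hg ?_)))
    rw [he, ← S.ht]
    exact S.htz

theorem t₁J : t₁ ∉ Q.J := fun h => by
  rcases S.F.no_typeJ (g := g) (S.ht₁ ▸ h) with e | e
  · exact S.no_zc (Or.inl (Or.inr (Or.inr (Or.inl e))))
  · exact S.no_zc (Or.inl (Or.inr (Or.inr (Or.inr e))))

theorem xJ : x ∉ Q.J := fun h => by
  rcases S.F.other.no_typeJ (g := g) (S.hx ▸ h) with e | e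
  · exact S.no_zc (Or.inr (Or.inr (Or.inr (Or.inr e))))
  · rw [Q.az_z] at e
    exact S.no_zc (Or.inr (Or.inr (Or.inr (Or.inl e))))

theorem J_comm {m : G} (hm : m ∈ Q.J) (hmt : Commute m t) : Commute m t₁ ∧ Commute m x := by
  have h1 : Commute m t₁ := by
    rcases (Q.conj g).a_move m (S.ht ▸ hmt) with e | e <;> rw [← S.ht₁] at e
    · exact mul_inv_eq_iff_eq_mul.1 e
    exfalso
    have hmz := Q.cz m hm
    have h2 := congrArg Q.κ e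
    rw [← S.ht, Q.κ_mul S.t₁z S.htz, Q.κ_conj hmz S.t₁z, Q.κ_mem hm, Q.κ_mem (inv_mem hm), idc_cm (Q.κ_lt _),
      cm_idc (Q.κ_lt _)] at h2
    have h3 := congrArg (cm (Q.κ t₁)) h2
    rw [← cm_assoc, Q.κ_invol S.t₁z S.t₁2, idc_cm (Q.κ_lt _)] at h3
    exact S.tJ (Q.ker t S.htz h3.symm)
  exact ⟨h1, S.x_eq ▸ h1.mul_right hmt⟩

theorem xa : Commute x a := (S.J_comm Q.aJ S.ta.symm).2.symm

theorem t₁a : Commute t₁ a := (S.J_comm Q.aJ S.ta.symm).1.symm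

theorem kSet_x : Q.kSet x = Q.kSet t := by
  ext v
  rw [Q.mem_kSet, Q.mem_kSet]
  constructor
  · rintro ⟨m, hm, h, e⟩
    exact ⟨m, hm, S.F.iso_comm S.hb S.ht S.hx S.htz hm h, e⟩
  · rintro ⟨m, hm, h, e⟩
    exact ⟨m, hm, (S.J_comm hm h).2, e⟩

theorem kSet_t₁ (hIa : Iso z a) : Q.kSet t₁ = Q.kSet t := by
  ext v
  rw [Q.mem_kSet, Q.mem_kSet]
  constructor
  · rintro ⟨m, hm, h, e⟩
    exact ⟨m, hm, Fus.iso_comm S.F.other (by rw [Q.az_z]; exact hIa) (g := g) (x := t₁) S.ht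
      (by rw [S.ht₁, Q.az_z]) S.htz hm h, e⟩
  · rintro ⟨m, hm, h, e⟩
    exact ⟨m, hm, (S.J_comm hm h).1, e⟩

theorem codes : Q.κ t ≠ idc ∧ Q.κ x ≠ idc ∧ Q.κ t₁ ≠ idc ∧ Q.κ x ≠ Q.κ t ∧
    cm (Q.κ x) (Q.κ t) = cm (Q.κ t) (Q.κ x) := by
  refine ⟨fun e => S.tJ (Q.ker t S.htz e), fun e => S.xJ (Q.ker x S.xz e), fun e => S.t₁J (Q.ker t₁ S.t₁z e),
    fun e => S.t₁J ?_, Q.κ_comm S.xz S.htz S.comm_tx.symm⟩
  have h1 := (Q.κ_eq_iff S.xz S.htz).1 e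
  rwa [inv_eq_of_mul_eq_one_right S.x2, ← S.t₁_eq] at h1

/-- Moving by an inner element. -/
theorem move {g₀ : G} (h : Q.Inn g₀) :
    Sit Q (g₀ * g) (g₀ * t * g₀⁻¹) (g₀ * t₁ * g₀⁻¹) (g₀ * x * g₀⁻¹) where
  F := S.F
  hb := S.hb
  ht := by rw [S.ht]; group
  ht₁ := by rw [S.ht₁]; group
  hx := by rw [S.hx]; group
  htz := (h.1.mul_left S.htz).mul_left h.1.inv_left
  hne := fun e => S.hne (mul_left_cancel (mul_right_cancel (e.trans (mul_inv_eq_iff_eq_mul.2 h.1.eq).symm)))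
  noshare := fun g' he hg => S.noshare (g₀⁻¹ * g')
    (by rw [show g₀⁻¹ * g' * z * (g₀⁻¹ * g')⁻¹ = g₀⁻¹ * (g' * z * g'⁻¹) * g₀ by group, he]; group)
    ((Q.inn_comm h).inv_left.mul_left hg)

/-- An element with a listed code. -/
theorem normal {u : G} (hu : Q.Inn u) (h2 : u * u = 1) (hne : Q.κ u ≠ idc) :
    ∃ g₀, Q.Inn g₀ ∧ ∃ j < 2, Q.κ (g₀ * u * g₀⁻¹) = xC C.gens j := by
  obtain ⟨-, j, hj, c, hc, hcj⟩ := Q.invol _ hu.2 (Q.κ_invol hu.1 h2) hne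
  obtain ⟨g₀, hg₀, hg₀e⟩ := Q.lift_code hc
  exact ⟨g₀, hg₀, j, hj, by rw [Q.κ_conj hg₀.1 hu.1, hg₀e, hcj, cm_assoc, ← hg₀e, (Q.κ_inv hg₀.1).1,
    cm_idc (show xC C.gens j < 2 ^ 64 from cw_lt _ _)]⟩

theorem inn_move {g₀ u : G} (h : Q.Inn g₀) : Q.Inn (g₀ * u * g₀⁻¹) ↔ Q.Inn u := by
  constructor
  · intro hi
    have := Q.inn_mul (Q.inn_mul (Q.inn_inv h) hi) h
    rwa [show g₀⁻¹ * (g₀ * u * g₀⁻¹) * g₀ = u by group] at this
  · exact fun hi => Q.inn_mul (Q.inn_mul h hi) (Q.inn_inv h)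

theorem inn_third (hn : ¬ Q.Inn t) : (Q.Inn x ∧ ¬ Q.Inn t₁) ∨ (Q.Inn t₁ ∧ ¬ Q.Inn x) := by
  by_cases hx : Q.Inn x
  · refine Or.inl ⟨hx, fun h => hn ?_⟩
    have := Q.inn_mul h hx
    rwa [S.x_eq, ← mul_assoc, S.t₁2, one_mul] at this
  · refine Or.inr ⟨?_, hx⟩
    rw [S.t₁_eq]
    exact ⟨S.xz.mul_left S.htz, Q.index _ _ S.xz S.htz (fun w => hx ⟨S.xz, w⟩) fun w => hn ⟨S.htz, w⟩⟩

end Sit

end Cfsg.Lib.U62Type
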