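import Cfsg.Agent.Lib.U62Type.Four

/-!
# The form on the coordinates
-/

set_option autoImplicit false
set_option linter.unusedSectionVars false
set_option linter.style.haveILetI false

namespace Cfsg.Lib.U62Type

theorem perpPair_U : perpPairChk cfgU = true := by decide +kernel

theorem perpPair_P : perpPairChk cfgP = true := by decide +kernel

theorem perpPair_M : perpPairChk cfgM = true := by decide +kernel

namespace Quad

variable {G : Type*} [Group G] {C : Cfg} {z a : G} (Q : Quad C z a)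

include Q

theorem perp_facts {v : ℕ} (hv : v < 256) (h0 : v ≠ 0) :
    (∃ u < 256, cform C v u = 1) ∧ (C.q v = 0 →
      (vecs.filter fun u => Nat.beq (cform C u v) 0).length = 128 ∧
      ∃ u < 256, ∃ w < 256, cform C u v = 0 ∧ cform C w v = 0 ∧ cform C u w = 1) := by
  have h : perpPairChk C = true := by
    rcases list_cases Q.std with rfl | rfl | rfl
    exacts [perpPair_U, perpPair_P, perpPair_M]
  simp only [perpPairChk, vecs, List.all_eq_true, List.mem_range, Bool.or_eq_true, Bool.and_eq_true, List.any_eq_true,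
    List.mem_filter, nbeq_iff] at h
  obtain ⟨⟨u, hu, he⟩, hq⟩ := (h v hv).resolve_left h0
  refine ⟨⟨u, hu, he⟩, fun hq0 => ?_⟩
  obtain ⟨hl, u, ⟨hu, hu0⟩, w, ⟨hw, hw0⟩, he⟩ := hq.resolve_left (by rw [hq0]; norm_num)
  exact ⟨hl, u, hu, w, hw, hu0, hw0, he⟩

theorem cform_lt {u v : ℕ} (hu : u < 256) (hv : v < 256) : cform C u v < 2 :=
  Nat.xor_lt_two_pow (n := 1) (Nat.xor_lt_two_pow (n := 1) (Q.q_lt (xor_lt hu hv)) (Q.q_lt hu)) (Q.q_lt hv)

theorem cform_add {u v w : ℕ} (hu : u < 256) (hv : v < 256) (hw : w < 256) :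
    cform C u (v ^^^ w) = cform C u v ^^^ cform C u w := by
  obtain ⟨i, hi, rfl⟩ := Q.vc_surj u hu
  obtain ⟨j, hj, rfl⟩ := Q.vc_surj v hv
  obtain ⟨k, hk, rfl⟩ := Q.vc_surj w hw
  have h1 := Q.cform_lt (Q.vc_lt i) (Q.vc_lt j)
  have h2 := Q.cform_lt (Q.vc_lt i) (Q.vc_lt k)
  have h3 := Q.cform_lt (Q.vc_lt i) (xor_lt (Q.vc_lt j) (Q.vc_lt k))
  rw [← Q.vc_mul j hj k hk] at h3 ⊢
  have ej := Q.comm_iff hi hj
  have ek := Q.comm_iff hi hk
  have ejk := Q.comm_iff hi (mul_mem hj hk)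
  rcases (show cform C (Q.vc i) (Q.vc j) = 0 ∨ cform C (Q.vc i) (Q.vc j) = 1 by omega) with x | x <;>
    rcases (show cform C (Q.vc i) (Q.vc k) = 0 ∨ cform C (Q.vc i) (Q.vc k) = 1 by omega) with y | y <;> rw [x, y]
  · exact ejk.1 ((ej.2 x).mul_right (ek.2 y))
  · have hn : ¬ Commute i k := fun h => by rw [ek.1 h] at y; exact absurd y (by norm_num)
    refine (show cform C (Q.vc i) (Q.vc (j * k)) = 1 by
      by_contra hne
      exact hn (by simpa using (ej.2 x).inv_right.mul_right (ejk.2 (by omega))))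
  · have hn : ¬ Commute i j := fun h => by rw [ej.1 h] at x; exact absurd x (by norm_num)
    refine (show cform C (Q.vc i) (Q.vc (j * k)) = 1 by
      by_contra hne
      exact hn (by simpa [mul_assoc] using (ejk.2 (by omega)).mul_right (ek.2 y).inv_right))
  · refine ejk.1 ?_
    have hcj : i * j * i⁻¹ = z * j := by
      rcases Q.cmt i hi j hj with e | e
      · exact absurd (ej.1 (mul_inv_eq_iff_eq_mul.1 (mul_inv_eq_one.1 e))) (by rw [x]; norm_num)
      · exact mul_inv_eq_iff_eq_mul.1 e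
    have hck : i * k * i⁻¹ = z * k := by
      rcases Q.cmt i hi k hk with e | e
      · exact absurd (ek.1 (mul_inv_eq_iff_eq_mul.1 (mul_inv_eq_one.1 e))) (by rw [y]; norm_num)
      · exact mul_inv_eq_iff_eq_mul.1 e
    refine mul_inv_eq_iff_eq_mul.1 ?_
    calc i * (j * k) * i⁻¹ = i * j * i⁻¹ * (i * k * i⁻¹) := by group
      _ = z * j * (z * k) := by rw [hcj, hck]
      _ = z * (j * z) * k := by simp only [mul_assoc]
      _ = z * (z * j) * k := by rw [(Q.cz j hj).eq]
      _ = j * k := by rw [← mul_assoc z, Q.z2, one_mul]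

theorem nondeg {v : ℕ} (hv : v < 256) (h : ∀ u < 256, cform C v u = 0) : v = 0 := by
  by_contra h0
  obtain ⟨u, hu, he⟩ := (Q.perp_facts hv h0).1
  rw [h u hu] at he
  exact absurd he (by norm_num)

/-- What is orthogonal to the perp of a vector. -/
theorem perp_perp {v d : ℕ} (hv : v < 256) (hd : d < 256)
    (h : ∀ u < 256, cform C u v = 0 → cform C d u = 0) : d = 0 ∨ d = v := by
  by_cases hv0 : v = 0
  · left
    refine Q.nondeg hd fun u hu => h u hu ?_
    obtain ⟨i, hi, rfl⟩ := Q.vc_surj u hu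
    subst hv0
    have h1 := (Q.comm_iff hi (one_mem _)).1 (Commute.one_right i)
    rwa [Q.vc_one] at h1
  obtain ⟨u₁, hu₁, he⟩ := (Q.perp_facts hv hv0).1
  have all : ∀ u < 256, cform C d u = cform C d u₁ * cform C v u := fun u hu => by
    rcases Nat.lt_succ_iff_lt_or_eq.1 (Q.cform_lt hv hu) with e | e
    · rw [Nat.lt_one_iff.1 e, mul_zero, h u hu (by rw [cform_comm, Nat.lt_one_iff.1 e])]
    · have h3 := h (u ^^^ u₁) (xor_lt hu hu₁) (by
        rw [cform_comm, Q.cform_add hv hu hu₁, e, he, Nat.xor_self])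
      rw [Q.cform_add hd hu hu₁, Nat.xor_eq_zero_iff] at h3
      rw [h3, e, mul_one]
  rcases Nat.lt_succ_iff_lt_or_eq.1 (Q.cform_lt hd hu₁) with e | e
  · left
    exact Q.nondeg hd fun u hu => by rw [all u hu, Nat.lt_one_iff.1 e, zero_mul]
  · right
    rw [← Nat.xor_eq_zero_iff]
    refine Q.nondeg (xor_lt hd hv) fun u hu => ?_
    rw [cform_comm, Q.cform_add hu hd hv, cform_comm C u, cform_comm C u, all u hu, e, one_mul, Nat.xor_self]

omit Q in
theorem cform_ap {c : ℕ} (hq : ∀ v < 256, C.q (ap c v) = C.q v) {u w : ℕ} (hu : u < 256) (hw : w < 256) :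
    cform C (ap c u) (ap c w) = cform C u w := by
  rw [cform, cform, ← ap_xor, hq _ (xor_lt hu hw), hq u hu, hq w hw]

/-- An isometry fixing the perp of a singular vector is trivial. -/
theorem code_hyperplane {h : G} (hh : Commute h z) {v : ℕ} (hv : v < 256) (hq : C.q v = 0)
    (hfix : ∀ u < 256, cform C u v = 0 → ap (Q.κ h) u = u) : Q.κ h = idc := by
  refine code_ext (Q.κ_lt _) idc_lt fun u hu => ?_
  rw [ap_idc hu]
  have hqa : ∀ v < 256, C.q (ap (Q.κ h) v) = C.q v := fun v hv => Q.q_act hh hv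
  rcases Q.perp_perp hv (xor_lt (ap_lt (Q.κ h) u) hu) (fun w hw hw0 => by
    rw [cform_comm, Q.cform_add hw (ap_lt _ _) hu, Nat.xor_eq_zero_iff]
    conv_lhs => rw [← hfix w hw hw0]
    exact cform_ap hqa hw hu) with e | e
  · exact Nat.xor_eq_zero_iff.1 e
  by_cases hc : cform C u v = 0
  · exact hfix u hu hc
  exfalso
  have h1 : ap (Q.κ h) u = u ^^^ v := by
    rw [← e, Nat.xor_comm (ap _ u), ← Nat.xor_assoc, Nat.xor_self, Nat.zero_xor]
  have h2 := hqa u hu
  rw [h1] at h2
  refine hc ?_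
  rw [cform, h2, hq, Nat.xor_self, Nat.zero_xor]

end Quad

end Cfsg.Lib.U62Type
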