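import Cfsg.Agent.Lib.U62Type.FourSylow
import Cfsg.Agent.Lib.U62Type.OuterMain

/-!
# The centraliser of the other central involution, modulo that involution
-/

set_option autoImplicit false
set_option linter.unusedSectionVars false
set_option linter.style.haveILetI false

namespace Cfsg.Lib.U62Type

variable {G : Type*} [Group G]

instance zpowers_cent_normal (a : G) :
    ((Subgroup.zpowers a).subgroupOf (Subgroup.centralizer ({a} : Set G))).Normal :=
  ⟨fun n hn g => by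
    rw [Subgroup.mem_subgroupOf] at hn ⊢
    obtain ⟨k, hk⟩ := hn
    refine ⟨k, ?_⟩
    have hg : Commute (g : G) a := Subgroup.mem_centralizer_singleton_iff.1 g.2
    push_cast
    rw [← hk]
    exact (mul_inv_eq_iff_eq_mul.2 (hg.zpow_right k).eq).symm⟩

/-- The centraliser modulo the element. -/
abbrev CQ (a : G) : Type _ :=
  ↥(Subgroup.centralizer ({a} : Set G)) ⧸ (Subgroup.zpowers a).subgroupOf (Subgroup.centralizer ({a} : Set G))

theorem mem_cent {a x : G} : x ∈ Subgroup.centralizer ({a} : Set G) ↔ Commute x a :=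
  Subgroup.mem_centralizer_singleton_iff

/-- An element centralising `a`, in the quotient. -/
def qmk (a : G) (x : G) (h : Commute x a) : CQ a :=
  ((⟨x, mem_cent.2 h⟩ : ↥(Subgroup.centralizer ({a} : Set G))) : CQ a)

theorem qmk_surj {a : G} (x : CQ a) : ∃ (g : G) (h : Commute g a), qmk a g h = x := by
  obtain ⟨g, rfl⟩ := QuotientGroup.mk_surjective x
  exact ⟨g, mem_cent.1 g.2, rfl⟩

theorem qmk_mul {a x y : G} (hx : Commute x a) (hy : Commute y a) :
    qmk a (x * y) (hx.mul_left hy) = qmk a x hx * qmk a y hy := rfl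

theorem qmk_inv {a x : G} (hx : Commute x a) : qmk a x⁻¹ hx.inv_left = (qmk a x hx)⁻¹ := rfl

theorem qmk_one {a : G} : qmk a 1 (Commute.one_left a) = 1 := rfl

theorem qmk_conj {a x y : G} (hx : Commute x a) (hy : Commute y a) :
    qmk a (x * y * x⁻¹) ((hx.mul_left hy).mul_left hx.inv_left) = qmk a x hx * qmk a y hy * (qmk a x hx)⁻¹ := rfl

theorem qmk_congr {a x y : G} (hx : Commute x a) (hy : Commute y a) (e : x = y) : qmk a x hx = qmk a y hy := by
  subst e; rfl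

theorem qmk_eq {a x y : G} (ha : a * a = 1) (hx : Commute x a) (hy : Commute y a) :
    qmk a x hx = qmk a y hy ↔ y = x ∨ y = x * a := by
  rw [qmk, qmk, QuotientGroup.eq, Subgroup.mem_subgroupOf, mem_zpowers_two ha]
  push_cast
  rw [inv_mul_eq_iff_eq_mul, inv_mul_eq_iff_eq_mul, mul_one]

namespace Quad

variable {C : Cfg} {z a : G} (Q : Quad C z a)

/-- The image of `z`. -/
def zq : CQ a := qmk a z Q.za

theorem zq_eq {x : G} (hx : Commute x a) : qmk a x hx = Q.zq ↔ x = z ∨ x = a * z := by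
  rw [eq_comm, zq, qmk_eq Q.a2]
  rw [Q.za.eq]

theorem conj_zq {g : G} (hg : Commute g a) :
    qmk a g hg * Q.zq * (qmk a g hg)⁻¹ = qmk a (g * z * g⁻¹) ((hg.mul_left Q.za).mul_left hg.inv_left) :=
  (qmk_conj hg Q.za).symm

theorem conj_zq_eq {g : G} (hg : Commute g a) (e : qmk a g hg * Q.zq * (qmk a g hg)⁻¹ = Q.zq) :
    g * z * g⁻¹ = z := by
  rw [Q.conj_zq, Q.zq_eq] at e
  exact e.resolve_right (Q.neB g)

theorem commute_zq {x : G} (hx : Commute x a) : Commute (qmk a x hx) Q.zq ↔ Commute x z := by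
  constructor
  · intro h
    exact mul_inv_eq_iff_eq_mul.1 (Q.conj_zq_eq hx (mul_inv_eq_iff_eq_mul.2 h.eq))
  · intro h
    show qmk a x hx * qmk a z Q.za = qmk a z Q.za * qmk a x hx
    rw [← qmk_mul, ← qmk_mul]
    exact qmk_congr _ _ h.eq

/-- The image of the core. -/
def qJ : Subgroup (CQ a) :=
  (Q.J.subgroupOf (Subgroup.centralizer ({a} : Set G))).map (QuotientGroup.mk' _)

theorem mem_qJ {x : G} (hx : Commute x a) : qmk a x hx ∈ Q.qJ ↔ x ∈ Q.J := by
  constructor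
  · rintro ⟨y, hy, e⟩
    rcases (qmk_eq Q.a2 (mem_cent.1 y.2) hx).1 e with h | h <;> rw [h]
    exacts [hy, mul_mem hy Q.aJ]
  · intro h; exact ⟨⟨x, mem_cent.2 hx⟩, h, rfl⟩

theorem qJ_rep {y : CQ a} (hy : y ∈ Q.qJ) : ∃ (x : G) (hx : x ∈ Q.J), qmk a x (Q.ca x hx) = y := by
  obtain ⟨x, hx, rfl⟩ := qmk_surj y
  exact ⟨x, (Q.mem_qJ hx).1 hy, rfl⟩

/-- A representative. -/
noncomputable def rep (x : CQ a) : G := ((Quotient.out x : ↥(Subgroup.centralizer ({a} : Set G))) : G)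

theorem rep_spec (Q : Quad C z a) {x : G} (hx : Commute x a) : rep (qmk a x hx) = x ∨ rep (qmk a x hx) = x * a := by
  obtain ⟨r, hr⟩ : ∃ r : ↥(Subgroup.centralizer ({a} : Set G)), r = Quotient.out (qmk a x hx) := ⟨_, rfl⟩
  have h1 : qmk a x hx = qmk a (r : G) (mem_cent.1 r.2) := by
    show qmk a x hx = ((r : ↥(Subgroup.centralizer ({a} : Set G))) : CQ a)
    rw [hr, QuotientGroup.out_eq']
  have h2 := (qmk_eq Q.a2 hx (mem_cent.1 r.2)).1 h1
  rw [rep, ← hr]
  exact h2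

theorem rep_vc {x : G} (hx : x ∈ Q.J) : Q.vc (rep (qmk a x (Q.ca x hx))) = Q.vc x := by
  rcases rep_spec Q (Q.ca x hx) with e | e <;> rw [e]
  exact Q.vc_mul_zc hx (Or.inr (Or.inr (Or.inl rfl)))

theorem rep_κ {x : G} (hxa : Commute x a) (hx : Commute x z) : Q.κ (rep (qmk a x hxa)) = Q.κ x := by
  rcases rep_spec Q hxa with e | e <;> rw [e]
  exact Q.κ_mulJ hx Q.aJ

variable [Finite G]

theorem card_qJ (hc : Nat.card Q.J = 1024) : Nat.card Q.qJ = 512 := by
  have hle : Q.J ≤ Subgroup.centralizer ({a} : Set G) := fun j hj => mem_cent.2 (Q.ca j hj)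
  have ha : Subgroup.zpowers a ≤ Q.J := Subgroup.zpowers_le.2 Q.aJ
  have h := card_map_mk ((Subgroup.zpowers a).subgroupOf (Subgroup.centralizer ({a} : Set G)))
    (S := Q.J.subgroupOf (Subgroup.centralizer ({a} : Set G))) (fun x hx => ha hx)
  rw [Nat.card_congr (Subgroup.subgroupOfEquivOfLe (ha.trans hle)).toEquiv,
    Nat.card_congr (Subgroup.subgroupOfEquivOfLe hle).toEquiv, Nat.card_zpowers,
    orderOf_eq_prime (p := 2) (by rw [pow_two, Q.a2]) Q.a1, hc] at h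
  have : Nat.card Q.qJ * 2 = 1024 := h
  omega

theorem qExt (hc : Nat.card Q.J = 1024) : Ext Q.zq Q.qJ := by
  have hmk : ∀ {x y : G} (hx : Commute x a) (hy : Commute y a),
      (y = x ∨ y = x * a) → qmk a x hx = qmk a y hy := fun hx hy h => (qmk_eq Q.a2 hx hy).2 h
  refine ⟨?_, ?_, (Q.mem_qJ Q.za).2 Q.zJ, ?_, Q.card_qJ hc, ?_, ?_, ?_, ?_, ?_⟩
  · show qmk a z Q.za * qmk a z Q.za = 1
    rw [← qmk_mul, ← qmk_one]
    exact qmk_congr _ _ Q.z2
  · intro e
    rw [← qmk_one] at e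
    rcases (qmk_eq Q.a2 _ _).1 e with h | h
    · exact Q.z1 h.symm
    · refine Q.az ?_
      calc a = z * (z * a) := by rw [← mul_assoc, Q.z2, one_mul]
        _ = z := by rw [← h, mul_one]
  · intro j hj
    obtain ⟨x, hx, rfl⟩ := Q.qJ_rep hj
    exact (Q.commute_zq _).2 (Q.cz x hx)
  · intro h hh j hj
    obtain ⟨g, hg, rfl⟩ := qmk_surj h
    obtain ⟨x, hx, rfl⟩ := Q.qJ_rep hj
    rw [← qmk_conj hg (Q.ca x hx)]
    exact (Q.mem_qJ _).2 (Q.norm g ((Q.commute_zq hg).1 hh) x hx)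
  · intro j hj hcm
    obtain ⟨x, hx, rfl⟩ := Q.qJ_rep hj
    have hzc : Q.Zc x := Q.zc_of_comm hx fun k hk => by
      have h1 := (hcm _ ((Q.mem_qJ (Q.ca k hk)).2 hk)).eq
      rw [← qmk_mul, ← qmk_mul, qmk_eq Q.a2] at h1
      refine Commute.symm ?_
      show x * k = k * x
      rcases h1 with e | e
      · exact e.symm
      exfalso
      rcases Q.cmt x hx k hk with d | d
      · rw [mul_inv_eq_one, mul_inv_eq_iff_eq_mul] at d
        rw [← d] at e
        exact Q.a1 (mul_eq_left.1 e.symm)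
      · rw [show x * k * x⁻¹ * k⁻¹ = x * k * (k * x)⁻¹ by group, e, mul_inv_rev, ← mul_assoc,
          mul_inv_eq_iff_eq_mul, Q.a_inv, (Q.ca _ (mul_mem hx hk)).eq] at d
        exact Q.az (mul_right_cancel d)
    rcases hzc with e | e | e | e
    · left; rw [← qmk_one]; exact qmk_congr _ _ e
    · right; exact (Q.zq_eq _).2 (Or.inl e)
    · left; rw [← qmk_one]; exact hmk _ _ (Or.inr (by rw [e, Q.a2]))
    · right; exact (Q.zq_eq _).2 (Or.inr e)
  · intro j hj
    obtain ⟨x, hx, rfl⟩ := Q.qJ_rep hj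
    rw [← qmk_mul]
    rcases Q.sq x hx with e | e
    · left; rw [← qmk_one]; exact qmk_congr _ _ e
    · right; exact (Q.zq_eq _).2 (Or.inl e)
  · intro j hj k hk
    obtain ⟨x, hx, rfl⟩ := Q.qJ_rep hj
    obtain ⟨y, hy, rfl⟩ := Q.qJ_rep hk
    rw [← qmk_inv, ← qmk_inv, ← qmk_mul, ← qmk_mul, ← qmk_mul]
    rcases Q.cmt x hx y hy with e | e
    · left; rw [← qmk_one]; exact qmk_congr _ _ e
    · right; exact (Q.zq_eq _).2 (Or.inl e)
  · intro h hh hcm
    obtain ⟨g, hg, rfl⟩ := qmk_surj h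
    have hgz := (Q.commute_zq hg).1 hh
    refine (Q.mem_qJ hg).2 (Q.ker g hgz (code_ext (Q.κ_lt g) idc_lt fun v hv => ?_))
    obtain ⟨x, hx, rfl⟩ := Q.vc_surj v hv
    rw [ap_idc hv, ← Q.act g hgz x hx]
    have h1 := mul_inv_eq_iff_eq_mul.2 (hcm _ ((Q.mem_qJ (Q.ca x hx)).2 hx)).eq
    rw [← qmk_conj hg (Q.ca x hx), eq_comm, qmk_eq Q.a2] at h1
    rcases h1 with e | e
    · rw [e]
    · rw [e, Q.vc_mul_zc hx (Or.inr (Or.inr (Or.inl rfl)))]

/-- The coordinates of the quotient. -/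
noncomputable def quot (hc : Nat.card Q.J = 1024) : Frame C Q.zq where
  J := Q.qJ
  ext := Q.qExt hc
  vc := fun x => Q.vc (rep x)
  κ := fun x => Q.κ (rep x)
  std := Q.std
  vc_lt := fun _ => Q.vc_lt _
  vc_mul := fun j hj k hk => by
    obtain ⟨x, hx, rfl⟩ := Q.qJ_rep hj
    obtain ⟨y, hy, rfl⟩ := Q.qJ_rep hk
    rw [← qmk_mul]
    rw [Q.rep_vc hx, Q.rep_vc hy, Q.rep_vc (mul_mem hx hy), Q.vc_mul x hx y hy]
  vc_zero := fun j hj h => by
    obtain ⟨x, hx, rfl⟩ := Q.qJ_rep hj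
    rw [Q.rep_vc hx] at h
    rcases Q.vc_zero x hx h with e | e | e | e
    · left; rw [← qmk_one]; exact qmk_congr _ _ e
    · right; exact (Q.zq_eq _).2 (Or.inl e)
    · left; rw [← qmk_one]; exact (qmk_eq Q.a2 _ _).2 (Or.inr (by rw [e, Q.a2]))
    · right; exact (Q.zq_eq _).2 (Or.inr e)
  vc_z := (Q.rep_vc Q.zJ).trans Q.vc_z
  vc_surj := fun v hv => by
    obtain ⟨x, hx, rfl⟩ := Q.vc_surj v hv
    exact ⟨_, (Q.mem_qJ (Q.ca x hx)).2 hx, Q.rep_vc hx⟩
  sq := fun j hj => by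
    obtain ⟨x, hx, rfl⟩ := Q.qJ_rep hj
    rw [Q.rep_vc hx, ← qmk_mul]
    by_cases h : C.q (Q.vc x) = 1
    · rw [if_pos h]; exact (Q.zq_eq _).2 (Or.inl (by rw [Q.sqf x hx, if_pos h]))
    · rw [if_neg h, ← qmk_one]; exact qmk_congr _ _ (by rw [Q.sqf x hx, if_neg h])
  κ_lt := fun _ => Q.κ_lt _
  act := fun h hh j hj => by
    obtain ⟨g, hg, rfl⟩ := qmk_surj h
    obtain ⟨x, hx, rfl⟩ := Q.qJ_rep hj
    have hgz := (Q.commute_zq hg).1 hh
    rw [Q.rep_κ hg hgz, Q.rep_vc hx, ← qmk_conj hg (Q.ca x hx), Q.rep_vc (Q.norm g hgz x hx), Q.act g hgz x hx]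
  gens := fun i hi => by
    obtain ⟨h, hh, he⟩ := Q.gens i hi
    have ha := Q.a_fix h hh (he ▸ wordCode_gen Q.std hi)
    exact ⟨qmk a h ha, (Q.commute_zq ha).2 hh, (Q.rep_κ ha hh).trans he⟩
  ker := fun h hh he => by
    obtain ⟨g, hg, rfl⟩ := qmk_surj h
    have hgz := (Q.commute_zq hg).1 hh
    rw [Q.rep_κ hg hgz] at he
    exact (Q.mem_qJ hg).2 (Q.ker g hgz he)

theorem quot_κ (hc : Nat.card Q.J = 1024) {x : G} (hxa : Commute x a) (hx : Commute x z) :
    (Q.quot hc).κ (qmk a x hxa) = Q.κ x := Q.rep_κ hxa hx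

theorem quot_vc (hc : Nat.card Q.J = 1024) {x : G} (hx : x ∈ Q.J) :
    (Q.quot hc).vc (qmk a x (Q.ca x hx)) = Q.vc x := Q.rep_vc hx

/-- The centraliser in the quotient. -/
theorem card_cent_zq : 2 * Nat.card ↥(Subgroup.centralizer ({Q.zq} : Set (CQ a))) =
    Nat.card ↥(Subgroup.centralizer ({z} : Set G) ⊓ Subgroup.centralizer ({a} : Set G)) := by
  have ha : Subgroup.zpowers a ≤ Subgroup.centralizer ({a} : Set G) :=
    Subgroup.zpowers_le.2 (mem_cent.2 (Commute.refl a))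
  have hle : Subgroup.zpowers a ≤ Subgroup.centralizer ({z} : Set G) :=
    Subgroup.zpowers_le.2 (mem_cent.2 Q.za.symm)
  have h := card_map_mk ((Subgroup.zpowers a).subgroupOf (Subgroup.centralizer ({a} : Set G)))
    (S := (Subgroup.centralizer ({z} : Set G)).subgroupOf (Subgroup.centralizer ({a} : Set G))) (fun x hx => hle hx)
  have e : Nat.card ↥((Subgroup.centralizer ({z} : Set G)).subgroupOf (Subgroup.centralizer ({a} : Set G))) =
      Nat.card ↥(Subgroup.centralizer ({z} : Set G) ⊓ Subgroup.centralizer ({a} : Set G)) :=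
    Nat.card_congr
      { toFun := fun x => ⟨x.1.1, x.2, x.1.2⟩
        invFun := fun x => ⟨⟨x.1, x.2.2⟩, x.2.1⟩
        left_inv := fun _ => rfl
        right_inv := fun _ => rfl }
  rw [Nat.card_congr (Subgroup.subgroupOfEquivOfLe ha).toEquiv, Nat.card_zpowers,
    orderOf_eq_prime (p := 2) (by rw [pow_two, Q.a2]) Q.a1, e] at h
  rw [← h, mul_comm 2]
  congr 2
  refine congrArg (fun P : Subgroup (CQ a) => ↥P) (SetLike.ext fun x => ?_)
  obtain ⟨g, hg, rfl⟩ := qmk_surj x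
  rw [mem_cent, Q.commute_zq]
  constructor
  · intro h
    exact ⟨⟨g, mem_cent.2 hg⟩, Subgroup.mem_subgroupOf.2 (mem_cent.2 h), rfl⟩
  · rintro ⟨y, hy, e⟩
    have hy' : Commute (y : G) z := mem_cent.1 (Subgroup.mem_subgroupOf.1 hy)
    rcases (qmk_eq Q.a2 (mem_cent.1 y.2) hg).1 e with h | h <;> rw [h]
    exacts [hy', hy'.mul_left Q.za.symm]

end Quad

variable [Finite G] {C : Cfg} {z a : G} {Q : Quad C z a}

theorem Full.card_split (hF : Full Q) (hinn : ∀ h, Commute h z → Commute h a → Q.Inn h) :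
    Nat.card ↥(Subgroup.centralizer ({Q.zq} : Set (CQ a))) = 512 * 25920 := by
  obtain ⟨K, hK, hmem⟩ := hF.inner
  have h := Q.card_cent_zq
  have : Subgroup.centralizer ({z} : Set G) ⊓ Subgroup.centralizer ({a} : Set G) = K := by
    ext x
    rw [Subgroup.mem_inf, mem_cent, mem_cent, hmem]
    exact ⟨fun h => hinn x h.1 h.2, fun h => ⟨h.1, Q.inn_comm h⟩⟩
  rw [this, hK] at h
  omega

theorem Full.outer_quot (hF : Full Q) (hA : ∀ h, Commute h z → Commute h a) : Outer (Q.quot hF.cardJ) := by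
  obtain ⟨K, hK, hmem⟩ := hF.inner
  refine ⟨?_, ⟨(K.subgroupOf (Subgroup.centralizer ({a} : Set G))).map (QuotientGroup.mk' _), ?_, fun x => ?_⟩, ?_⟩
  · have h := Q.card_cent_zq
    rw [inf_eq_left.2 (fun x hx => mem_cent.2 (hA x (mem_cent.1 hx))), hF.card] at h
    omega
  · have haK : Subgroup.zpowers a ≤ K := Subgroup.zpowers_le.2 ((hmem a).2 (Q.inn_J Q.aJ))
    have hKa : K ≤ Subgroup.centralizer ({a} : Set G) := fun x hx => mem_cent.2 (Q.inn_comm ((hmem x).1 hx))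
    have h := card_map_mk ((Subgroup.zpowers a).subgroupOf (Subgroup.centralizer ({a} : Set G)))
      (S := K.subgroupOf (Subgroup.centralizer ({a} : Set G))) (fun x hx => haK hx)
    rw [Nat.card_congr (Subgroup.subgroupOfEquivOfLe (haK.trans hKa)).toEquiv,
      Nat.card_congr (Subgroup.subgroupOfEquivOfLe hKa).toEquiv, Nat.card_zpowers,
      orderOf_eq_prime (p := 2) (by rw [pow_two, Q.a2]) Q.a1, hK] at h
    exact Nat.eq_of_mul_eq_mul_right (by norm_num : 0 < 2) (h.trans (by norm_num))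
  · obtain ⟨g, hg, rfl⟩ := qmk_surj x
    constructor
    · rintro ⟨y, hy, e⟩
      have hy' := (hmem _).1 (Subgroup.mem_subgroupOf.1 hy)
      have hgi : Q.Inn g := by
        rcases (qmk_eq Q.a2 (mem_cent.1 y.2) hg).1 e with h | h <;> rw [h]
        exacts [hy', Q.inn_mul hy' (Q.inn_J Q.aJ)]
      exact ⟨(Q.commute_zq hg).2 hgi.1, by rw [Q.quot_κ hF.cardJ hg hgi.1]; exact hgi.2⟩
    · rintro ⟨h1, h2⟩
      have hgz := (Q.commute_zq hg).1 h1
      rw [Q.quot_κ hF.cardJ hg hgz] at h2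
      exact ⟨⟨g, mem_cent.2 hg⟩, Subgroup.mem_subgroupOf.2 ((hmem g).2 ⟨hgz, h2⟩), rfl⟩
  · obtain ⟨k, hk, s, hs, hse, -⟩ := Q.out
    exact ⟨qmk a s (hA s hs), (Q.commute_zq _).2 hs, k, hk, (Q.quot_κ hF.cardJ _ hs).trans hse⟩

/-- An isolated image isolates `z` in the centraliser of `a`. -/
theorem Quad.iso_of_isolated (h : Cfsg.IsIsolatedInvolution Q.zq) : Iso z a := by
  intro g hg hc
  refine Q.conj_zq_eq hg (h.2 _ ?_)
  rw [Q.conj_zq hg]
  exact ((Q.commute_zq _).2 hc).symm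

/-- The two cases. -/
theorem Full.cases (hF : Full Q) : (∀ h, Commute h z → Commute h a) ∨
    ((∀ h, Commute h z → Commute h a → Q.Inn h) ∧ ∃ s, Commute s z ∧ s * a * s⁻¹ = a * z) := by
  by_cases hA : ∀ h, Commute h z → Commute h a
  · exact Or.inl hA
  push Not at hA
  obtain ⟨s, hs, hsa⟩ := hA
  refine Or.inr ⟨fun h hh hha => ?_, s, hs, (Q.a_move s hs).resolve_left fun e => hsa (mul_inv_eq_iff_eq_mul.1 e)⟩
  by_contra hn
  have hns : ¬ WordCode C.gens (Q.κ s) := fun w => hsa (Q.inn_comm ⟨hs, w⟩)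
  have h1 := Q.inn_comm (h := h * s) ⟨hh.mul_left hs, Q.index h s hh hs (fun w => hn ⟨hh, w⟩) hns⟩
  have h2 := hha.inv_left.mul_left h1
  rw [inv_mul_cancel_left] at h2
  exact hsa h2

/-- No member of the class in the centraliser of `a` lies in the core. -/
theorem Full.no_core (hF : Full Q) {g : G} (hg : Commute g a) (hJ : g * z * g⁻¹ ∈ Q.J) : g * z * g⁻¹ = z := by
  refine Q.conj_zq_eq hg ?_
  have hJ' : qmk a g hg * Q.zq * (qmk a g hg)⁻¹ ∈ (Q.quot hF.cardJ).J := by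
    rw [Q.conj_zq hg]; exact (Q.mem_qJ _).2 hJ
  rcases hF.cases with hA | ⟨hinn, -⟩
  · exact (hF.outer_quot hA).no_inside hJ'
  · exact (Q.quot hF.cardJ).no_inside (hF.card_split hinn) hJ'

/-- The hypotheses on fusion, `a` being central in the centraliser of `z`. -/
theorem Full.fus_left (hF : Full Q) (hA : ∀ h, Commute h z → Commute h a) : Fus Q where
  side := Or.inl hA
  centA := hF.cent
  centB := hF.other.cent
  noA := fun _ hg hJ => hF.no_core hg hJ
  noB := fun _ hg hJ => hF.other.no_core hg hJ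
  sym := fun g e => absurd e (hF.not_fused hA g)

theorem Full.fus_right (hF : Full Q) (hinn : ∀ h, Commute h z → Commute h a → Q.Inn h) {s : G}
    (hs : Commute s z) (hsa : s * a * s⁻¹ = a * z) (hIa : Iso z a) : Fus Q where
  side := Or.inr ⟨hIa, by
    have h := hIa.conj s
    rwa [mul_inv_eq_iff_eq_mul.2 hs.eq, hsa] at h, hinn⟩
  centA := hF.cent
  centB := hF.other.cent
  noA := fun _ hg hJ => hF.no_core hg hJ
  noB := fun _ hg hJ => hF.other.no_core hg hJ
  sym := fun _ _ => ⟨s, hs, hsa⟩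

theorem Full.isolated (hF : Full Q) (hFu : Fus Q) (hIa : Iso z a) (hb : Iso z (a * z)) :
    Cfsg.IsIsolatedInvolution z :=
  ⟨orderOf_eq_prime (by rw [pow_two, Q.z2]) Q.z1, fun _ hc => hFu.isolated hIa hb hc.symm⟩

end Cfsg.Lib.U62Type
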