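import Cfsg.Agent.Lib.U62Type.FourChar
import Cfsg.Agent.Lib.Fischer.FromCent.Main
import Cfsg.Agent.S0283

/-!
# The other involution moved in the centraliser: Fi₂₂
-/

set_option autoImplicit false
set_option linter.unusedSectionVars false
set_option linter.style.haveILetI false

namespace Cfsg.Lib.U62Type

variable {G : Type*} [Group G] {C : Cfg} {z a : G}

/-- The coordinates in a subgroup missing `a`. -/
theorem Quad.sub_frame [Finite G] (Q : Quad C z a) (hc : Nat.card Q.J = 1024) (X : Subgroup G) (hz : z ∈ X) (ha : a ∉ X)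
    (hJ : ∀ j ∈ Q.J, j ∈ X ∨ j * a ∈ X)
    (hg : ∀ i < 4, ∃ h ∈ X, Commute h z ∧ Q.κ h = C.gens.getD i 0) :
    ∃ F : Frame C (⟨z, hz⟩ : X), (∀ x : X, F.κ x = Q.κ x) ∧ F.J = Q.J.subgroupOf X := by
  classical
  have hval : ∀ {x y : X}, Commute x y → Commute (x : G) y := fun h => congrArg Subtype.val h
  have hzc : ∀ {x : X}, Q.Zc x → x = 1 ∨ x = ⟨z, hz⟩ := fun {x} h => by
    rcases h with e | e | e | e
    · exact Or.inl (Subtype.ext e)
    · exact Or.inr (Subtype.ext e)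
    · exact absurd (e ▸ x.2) ha
    · refine absurd ?_ ha
      have := mul_mem (e ▸ x.2 : a * z ∈ X) hz
      rwa [Q.az_z] at this
  have hcard : Nat.card ↥(Q.J.subgroupOf X) = 512 := by
    have h1 := Subgroup.card_mul_index (X.subgroupOf Q.J)
    have h2 : (X.subgroupOf Q.J).index = 2 := Subgroup.index_eq_two_iff.2 ⟨⟨a, Q.aJ⟩, fun x => by
      simp only [Subgroup.mem_subgroupOf, Subgroup.coe_mul]
      rcases hJ x x.2 with h | h
      · exact Or.inr ⟨h, fun h' => ha (by simpa using mul_mem (inv_mem h) h')⟩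
      · exact Or.inl ⟨h, fun h' => ha (by simpa using mul_mem (inv_mem h') h)⟩⟩
    rw [h2, hc] at h1
    rw [Nat.card_congr (show ↥(Q.J.subgroupOf X) ≃ ↥(X.subgroupOf Q.J) from
      { toFun := fun x => ⟨⟨x.1.1, x.2⟩, x.1.2⟩
        invFun := fun x => ⟨⟨x.1.1, x.2⟩, x.1.2⟩
        left_inv := fun _ => rfl
        right_inv := fun _ => rfl })]
    omega
  have hsurj : ∀ v < 256, ∃ j : X, (j : G) ∈ Q.J ∧ Q.vc j = v := fun v hv => by
    obtain ⟨j, hj, rfl⟩ := Q.vc_surj v hv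
    rcases hJ j hj with h | h
    · exact ⟨⟨j, h⟩, hj, rfl⟩
    · exact ⟨⟨j * a, h⟩, mul_mem hj Q.aJ, Q.vc_mul_zc hj (Or.inr (Or.inr (Or.inl rfl)))⟩
  refine ⟨{
    J := Q.J.subgroupOf X
    ext := ⟨Subtype.ext Q.z2, fun e => Q.z1 (congrArg Subtype.val e), Q.zJ, fun j hj => Subtype.ext (Q.cz _ hj).eq, hcard,
      fun h hh j hj => Q.norm _ (hval hh) _ hj, fun j hj hcm => hzc (Q.zc_of_comm hj fun k hk => ?_), fun j hj => ?_,
      fun j hj k hk => ?_, fun h hh hcm => Q.ker _ (hval hh) (code_ext (Q.κ_lt _) idc_lt fun v hv => ?_)⟩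
    vc := fun x => Q.vc x
    κ := fun x => Q.κ x
    std := Q.std
    vc_lt := fun _ => Q.vc_lt _
    vc_mul := fun j hj k hk => Q.vc_mul _ hj _ hk
    vc_zero := fun j hj h => hzc (Q.vc_zero _ hj h)
    vc_z := Q.vc_z
    vc_surj := fun v hv => by
      obtain ⟨j, hj, e⟩ := hsurj v hv
      exact ⟨j, hj, e⟩
    sq := fun j hj => Subtype.ext (by
      rw [Subgroup.coe_mul]
      refine (Q.sqf (j : G) hj).trans ?_
      split <;> rfl)
    κ_lt := fun _ => Q.κ_lt _
    act := fun h hh j hj => Q.act _ (hval hh) _ hj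
    gens := fun i hi => by
      obtain ⟨h, hX, hh, he⟩ := hg i hi
      exact ⟨⟨h, hX⟩, Subtype.ext hh.eq, he⟩
    ker := fun h hh he => Q.ker _ (hval hh) he }, fun _ => rfl, rfl⟩
  · rcases hJ k hk with h | h
    · exact (hval (hcm ⟨k, h⟩ hk)).symm
    · have h1 : Commute (j : G) (k * a) := hval (hcm ⟨k * a, h⟩ (mul_mem hk Q.aJ))
      have h2 := h1.symm.mul_left (Q.ca _ hj).symm
      rwa [mul_assoc, Q.a2, mul_one] at h2
  · rcases Q.sq _ hj with e | e
    exacts [Or.inl (Subtype.ext e), Or.inr (Subtype.ext e)]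
  · rcases Q.cmt _ hj _ hk with e | e
    exacts [Or.inl (Subtype.ext e), Or.inr (Subtype.ext e)]
  · obtain ⟨j, hj, rfl⟩ := hsurj v hv
    show ap (Q.κ (h : G)) (Q.vc (j : G)) = ap idc (Q.vc (j : G))
    rw [ap_idc hv, ← Q.act _ (hval hh) _ hj, mul_inv_eq_iff_eq_mul.2 (hval (hcm j hj)).eq]

variable [Finite G]

theorem perfect_le {X : Type*} [Group X] {L G₀ : Subgroup X} (hL : ⁅L, L⁆ = L) (h : G₀.index = 2) : L ≤ G₀ := by
  classical
  haveI := Subgroup.normal_of_index_eq_two h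
  have hc : ∀ x y : X, x * y * x⁻¹ * y⁻¹ ∈ G₀ := fun x y => by
    have hm : ∀ {u v : X}, u * v ∈ G₀ ↔ (u ∈ G₀ ↔ v ∈ G₀) := fun {u v} => Subgroup.mul_mem_iff_of_index_two h
    rw [hm, hm, hm, inv_mem_iff, inv_mem_iff]
    tauto
  rw [← hL, Subgroup.commutator_le]
  exact fun x _ y _ => hc x y

/-- The unitary case with `a` moved is Fi₂₂. -/
theorem Full.right_main {Q : Quad C z a} (hF : Full Q) (hinn : ∀ h, Commute h z → Commute h a → Q.Inn h) {s : G}
    (hs : Commute s z) (hsa : s * a * s⁻¹ = a * z) :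
    Cfsg.IsIsolatedInvolution z ∨ Cfsg.Spor.IsoFi22 G := by
  classical
  rcases dichotomy (Q.quot hF.cardJ) (hF.card_split hinn) with h | hU
  · left
    have hIa := Quad.iso_of_isolated h
    refine hF.isolated (hF.fus_right hinn hs hsa hIa) hIa ?_
    have h1 := hIa.conj s
    rwa [mul_inv_eq_iff_eq_mul.2 hs.eq, hsa] at h1
  obtain rfl : C = cfgU := by
    rcases list_cases Q.std with e | e
    · exact e
    · obtain ⟨t, ht⟩ := hU.more
      exact absurd ((Q.quot hF.cardJ).isolated_orth e (hF.card_split hinn) ht.1 ht.2.1) ht.2.2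
  right
  letI : Fintype (GaloisField 2 2) := Fintype.ofFinite _
  have hF4 : Fintype.card (GaloisField 2 2) = 4 := by
    rw [← Nat.card_eq_fintype_card]; exact GaloisField.card 2 2 two_ne_zero
  obtain ⟨e⟩ := hU.iso hF4
  haveI hsimpPSU : IsSimpleGroup (Cfsg.PSU 6 (GaloisField 2 2) 2) :=
    Cfsg.Agent.S0283.result (by rw [hF4]; norm_num) 6 (by norm_num) (by norm_num)
  haveI hsimpW : IsSimpleGroup (CQ a) := e.isSimpleGroup
  have hperfW := hU.perfect
  obtain ⟨A, hA⟩ : ∃ A, A = Subgroup.centralizer ({a} : Set G) := ⟨_, rfl⟩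
  have hmA : ∀ {x}, x ∈ A ↔ Commute x a := fun {x} => by rw [hA]; exact mem_cent
  -- a member apart from `z`
  obtain ⟨g₀, hg₀, hg₀z, hg₀n⟩ : ∃ g, Commute g a ∧ Commute (g * z * g⁻¹) z ∧ g * z * g⁻¹ ≠ z := by
    obtain ⟨t, ⟨g, hg⟩, htc, htn⟩ := hU.more
    obtain ⟨g, hga, rfl⟩ := qmk_surj g
    rw [Q.conj_zq hga] at hg
    exact ⟨g, hga, (Q.commute_zq _).1 (hg ▸ htc), fun h => htn (hg ▸ (Q.zq_eq _).2 (Or.inl h))⟩
  -- the derived subgroup
  obtain ⟨L, hL⟩ : ∃ L, L = ⁅A, A⁆ := ⟨_, rfl⟩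
  have hLA : L ≤ A := hL ▸ Subgroup.commutator_le_self A
  have hsurjL : ∀ y : CQ a, ∃ (x : G) (hx : Commute x a), x ∈ L ∧ qmk a x hx = y := by
    intro y
    have h1 : (commutator ↥(Subgroup.centralizer ({a} : Set G))).map (QuotientGroup.mk' _) = (⊤ : Subgroup (CQ a)) := by
      rw [commutator_def, Subgroup.map_commutator, Subgroup.map_top_of_surjective _ (QuotientGroup.mk'_surjective _),
        ← commutator_def, hperfW]
    obtain ⟨x, hx, rfl⟩ := (SetLike.ext_iff.1 h1 y).2 (Subgroup.mem_top y)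
    refine ⟨x, mem_cent.1 x.2, ?_, rfl⟩
    have h2 : (x : G) ∈ (commutator ↥(Subgroup.centralizer ({a} : Set G))).map (Subgroup.subtype _) := ⟨x, hx, rfl⟩
    rw [Subgroup.map_subtype_commutator] at h2
    rw [hL, hA]
    exact h2
  have hLor : ∀ x, Commute x a → x ∈ L ∨ x * a ∈ L := by
    intro x hx
    obtain ⟨l, hl, hlL, e⟩ := hsurjL (qmk a x hx)
    rcases (qmk_eq Q.a2 hl hx).1 e with h | h
    · exact Or.inl (h ▸ hlL)
    · right; rw [h, mul_assoc, Q.a2, mul_one]; exact hlL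
  have haL : a ∈ L := by
    by_contra ha
    have hc0 : ∀ {x y}, Commute x a → Commute y a → x * y * x⁻¹ * y⁻¹ ∈ L := fun {x y} hx hy =>
      hL ▸ Subgroup.commutator_mem_commutator (hmA.2 hx) (hmA.2 hy)
    have hLperf : ⁅L, L⁆ = L := by
      refine le_antisymm (Subgroup.commutator_le_self L) ?_
      conv_lhs => rw [hL]
      rw [Subgroup.commutator_le]
      intro x hx y hy
      rw [hmA] at hx hy
      have hcx : ∀ w, Commute w a → (x * a) * w * (x * a)⁻¹ * w⁻¹ = x * w * x⁻¹ * w⁻¹ := fun w hw => by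
        rw [show x * a * w * (x * a)⁻¹ * w⁻¹ = x * (a * w * a⁻¹) * x⁻¹ * w⁻¹ by group,
          mul_inv_eq_iff_eq_mul.2 hw.symm.eq]
      have hcy : ∀ w, Commute w a → w * (y * a) * w⁻¹ * (y * a)⁻¹ = w * y * w⁻¹ * y⁻¹ := fun w hw => by
        rw [show w * (y * a) * w⁻¹ * (y * a)⁻¹ = w * y * (a * w⁻¹ * a⁻¹) * y⁻¹ by group,
          mul_inv_eq_iff_eq_mul.2 hw.inv_left.symm.eq]
      show x * y * x⁻¹ * y⁻¹ ∈ _
      rcases hLor x hx with h1 | h1 <;> rcases hLor y hy with h2 | h2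
      · exact Subgroup.commutator_mem_commutator h1 h2
      · rw [← hcy x hx]; exact Subgroup.commutator_mem_commutator h1 h2
      · rw [← hcx y hy]; exact Subgroup.commutator_mem_commutator h1 h2
      · rw [← hcy x hx, ← hcx (y * a) (hy.mul_left (Commute.refl a))]
        exact Subgroup.commutator_mem_commutator h1 h2
    have hzL : z ∈ L := by
      obtain ⟨u, hu, huv⟩ : ∃ u < 256, cform cfgU 1 u = 1 := (Q.perp_facts (by norm_num) (by norm_num)).1
      obtain ⟨j, hj, hje⟩ := Q.vc_surj 1 (by norm_num)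
      obtain ⟨k, hk, rfl⟩ := Q.vc_surj u hu
      rcases Q.cmt j hj k hk with e | e
      · have := (Q.comm_iff hj hk).1 (mul_inv_eq_iff_eq_mul.1 (mul_inv_eq_one.1 e))
        rw [hje, huv] at this
        exact absurd this (by norm_num)
      · exact e ▸ hc0 (Q.ca j hj) (Q.ca k hk)
    have hazL : a * z ∉ L := fun h => ha (by have := mul_mem h hzL; rwa [Q.az_z] at this)
    have hmul : ∀ {x y}, Commute x a → Commute y a → (x * y ∈ L ↔ (x ∈ L ↔ y ∈ L)) := by
      intro x y hx hy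
      by_cases h1 : x ∈ L
      · simp only [h1, true_iff]; exact Subgroup.mul_mem_cancel_left L h1
      by_cases h2 : y ∈ L
      · simp only [h1, h2, iff_true]; exact (Subgroup.mul_mem_cancel_right L h2).trans (iff_false_intro h1)
      · simp only [h1, h2, iff_self, iff_true]
        have := mul_mem ((hLor x hx).resolve_left h1) ((hLor y hy).resolve_left h2)
        rwa [show x * a * (y * a) = x * y by rw [hy.symm.mul_mul_mul_comm, Q.a2, mul_one]] at this
    -- the character of the inner half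
    obtain ⟨K, hKc, hK⟩ := hF.inner
    have hKa : ∀ {h}, h ∈ K → Commute h a := fun hh => Q.inn_comm ((hK _).1 hh)
    have hKs : ∀ {h u}, h ∈ K → Commute u z → u * h * u⁻¹ ∈ K := fun {h u} hh hu =>
      (hK _).2 (Q.inn_conj ((hK _).1 hh) hu)
    let ε : ↥K →* ℤˣ := MonoidHom.mk' (fun h => if (h : G) ∈ L then 1 else -1) fun x y => by
      show (if (x : G) * y ∈ L then (1 : ℤˣ) else -1) = (if (x : G) ∈ L then 1 else -1) * (if (y : G) ∈ L then 1 else -1)
      by_cases h1 : (x : G) ∈ L <;> by_cases h2 : (y : G) ∈ L <;> simp [hmul (hKa x.2) (hKa y.2), h1, h2]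
    let cs : ↥K →* ↥K := MonoidHom.mk' (fun h => ⟨s * h * s⁻¹, hKs h.2 hs⟩) fun x y => Subtype.ext (by
      show s * ((x : G) * y) * s⁻¹ = s * x * s⁻¹ * (s * y * s⁻¹)
      group)
    have hs_inv : ∀ h ∈ K, (s * h * s⁻¹ ∈ L ↔ h ∈ L) := by
      intro h hh
      have h1 := Q.char_trivial K hK (ε * ε.comp cs) (by
        show (if a ∈ L then (1 : ℤˣ) else -1) * (if s * a * s⁻¹ ∈ L then 1 else -1) = 1
        rw [hsa, if_neg ha, if_neg hazL]
        rfl)
      have h2 : (if h ∈ L then (1 : ℤˣ) else -1) * (if s * h * s⁻¹ ∈ L then 1 else -1) = 1 :=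
        DFunLike.congr_fun h1 (⟨h, hh⟩ : K)
      by_cases e1 : h ∈ L <;> by_cases e2 : s * h * s⁻¹ ∈ L <;> simp [e1, e2] at h2 ⊢
    have hnormM : ∀ {u m}, Commute u z → Commute m z → m ∈ L → u * m * u⁻¹ ∈ L := by
      intro u m hu hm hmL
      have hma : Commute m a := hmA.1 (hLA hmL)
      have hmK : m ∈ K := (hK _).2 (hinn m hm hma)
      have hinner : ∀ {v}, Q.Inn v → ∀ {m}, Commute m a → m ∈ L → v * m * v⁻¹ ∈ L := fun {v} hv {m} hma hmL => by
        rw [show v * m * v⁻¹ = (v * m * v⁻¹ * m⁻¹) * m by group]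
        exact mul_mem (hc0 (Q.inn_comm hv) hma) hmL
      by_cases hi : Q.Inn u
      · exact hinner hi hma hmL
      have hns : ¬ WordCode cfgU.gens (Q.κ s) := fun w => Q.z1 ((mul_eq_left (a := a)).1 (by
        rw [← hsa, mul_inv_eq_iff_eq_mul.2 (Q.inn_comm ⟨hs, w⟩).eq]))
      have hv : Q.Inn (u * s⁻¹) := by
        have hsi : ¬ WordCode cfgU.gens (Q.κ s⁻¹) := fun w => hns (by
          have := (Q.inn_inv ⟨hs.inv_left, w⟩).2
          rwa [inv_inv] at this)
        exact ⟨hu.mul_left hs.inv_left, Q.index u s⁻¹ hu hs.inv_left (fun w => hi ⟨hu, w⟩) hsi⟩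
      have hsm : s * m * s⁻¹ ∈ L := (hs_inv m hmK).2 hmL
      have h1 := hinner hv (hmA.1 (hLA hsm)) hsm
      rwa [show u * s⁻¹ * (s * m * s⁻¹) * (u * s⁻¹)⁻¹ = u * m * u⁻¹ by group] at h1
    obtain ⟨H, hH⟩ : ∃ H, H = Subgroup.centralizer ({z} : Set G) := ⟨_, rfl⟩
    have hmH : ∀ {x}, x ∈ H ↔ Commute x z := fun {x} => by rw [hH]; exact mem_cent
    obtain ⟨M₀, hM₀⟩ : ∃ M₀, M₀ = L.subgroupOf H := ⟨_, rfl⟩
    have hmM : ∀ {x : H}, x ∈ M₀ ↔ (x : G) ∈ L := fun {x} => by rw [hM₀, Subgroup.mem_subgroupOf]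
    haveI hMn : M₀.Normal := ⟨fun m hm u => hmM.2 (hnormM (hmH.1 u.2) (hmH.1 m.2) (hmM.1 hm))⟩
    have hKH : K ≤ H := fun x hx => hmH.2 ((hK x).1 hx).1
    have hMc : Nat.card M₀ = 512 * 25920 := by
      have h1 : (L.subgroupOf K).index = 2 := Subgroup.index_eq_two_iff.2 ⟨⟨a, (hK a).2 (Q.inn_J Q.aJ)⟩, fun x => by
        simp only [Subgroup.mem_subgroupOf, Subgroup.coe_mul]
        rcases hLor x (hKa x.2) with h | h
        · exact Or.inr ⟨h, fun h' => ha (by simpa using mul_mem (inv_mem h) h')⟩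
        · exact Or.inl ⟨h, fun h' => ha (by simpa using mul_mem (inv_mem h') h)⟩⟩
      have h2 := Subgroup.card_mul_index (L.subgroupOf K)
      rw [h1, hKc] at h2
      rw [hM₀, Nat.card_congr (show ↥(L.subgroupOf H) ≃ ↥(L.subgroupOf K) from
        { toFun := fun x => ⟨⟨x.1.1, (hK _).2 (hinn _ (hmH.1 x.1.2) (hmA.1 (hLA x.2)))⟩, x.2⟩
          invFun := fun x => ⟨⟨x.1.1, hKH x.1.2⟩, x.2⟩
          left_inv := fun _ => rfl
          right_inv := fun _ => rfl })]
      omega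
    have hq4 : Nat.card (↥H ⧸ M₀) = 2 ^ 2 := by
      have h1 := Subgroup.card_mul_index M₀
      have h0 : Nat.card H = 2 * (1024 * 25920) := by rw [hH]; exact hF.card
      rw [hMc, h0] at h1
      show M₀.index = _
      omega
    haveI : Fact (Nat.Prime 2) := ⟨Nat.prime_two⟩
    letI : CommGroup (↥H ⧸ M₀) :=
      { (inferInstance : Group (↥H ⧸ M₀)) with mul_comm := IsPGroup.commutative_of_card_eq_prime_sq hq4 }
    obtain ⟨χ, hχ⟩ : ∃ χ : ↥H →* ↥H ⧸ M₀, ∀ x, χ x = 1 ↔ (x : G) ∈ L :=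
      ⟨QuotientGroup.mk' M₀, fun x => (QuotientGroup.eq_one_iff x).trans hmM⟩
    have haH : a ∈ H := hmH.2 Q.za.symm
    have hJH : Q.J ≤ H := fun j hj => hmH.2 (Q.cz j hj)
    obtain ⟨X, hX⟩ : ∃ X, X = (MonoidHom.transfer χ).ker := ⟨_, rfl⟩
    haveI hXn : X.Normal := hX ▸ MonoidHom.normal_ker _
    have haX : a ∉ X := fun h => by
      rw [hX, MonoidHom.mem_ker, transfer_eq_self χ Q.a2 haH (Q.isPGroup_J Q.J le_rfl) hJH Q.ca (fun g hg => ?_),
        hχ] at h
      · exact ha h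
      · refine hmH.2 (mul_inv_eq_iff_eq_mul.1 (hF.commutes_core fun j hj => ?_))
        exact conj_commute (hmH.1 (hg j hj))
    have hLX : L ≤ X := by
      rw [hL, hX, Subgroup.commutator_le]
      intro x _ y _
      rw [MonoidHom.mem_ker, map_commutatorElement, commutatorElement_eq_one_iff_mul_comm]
      exact mul_comm _ _
    have hzX : z ∈ X := hLX hzL
    have hJX : ∀ j ∈ Q.J, j ∈ X ∨ j * a ∈ X := fun j hj =>
      (hLor j (Q.ca j hj)).imp (fun h => hLX h) fun h => hLX h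
    have hgX : ∀ i < 4, ∃ h ∈ X, Commute h z ∧ Q.κ h = cfgU.gens.getD i 0 := fun i hi => by
      obtain ⟨h, hh, he⟩ := Q.gens i hi
      have hha := Q.a_fix h hh (he ▸ wordCode_gen Q.std hi)
      rcases hLor h hha with hl | hl
      · exact ⟨h, hLX hl, hh, he⟩
      · exact ⟨h * a, hLX hl, hh.mul_left Q.za.symm, (Q.κ_mulJ hh Q.aJ).trans he⟩
    obtain ⟨F, hFκ, hFJ⟩ := Q.sub_frame hF.cardJ X hzX haX hJX hgX
    have hinX : ∀ h, Commute h z → (h ∈ L ↔ h ∈ X ∧ Q.Inn h) := fun h hh => ⟨fun hl =>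
      ⟨hLX hl, hinn h hh (hmA.1 (hLA hl))⟩, fun hl => (hLor h (Q.inn_comm hl.2)).resolve_right fun h' => haX (by
        simpa using mul_mem (inv_mem hl.1) (hLX h'))⟩
    obtain ⟨l₀, hl₀a, hl₀L, hl₀⟩ := hsurjL (qmk a g₀ hg₀)
    have hl₀z : l₀ * z * l₀⁻¹ = g₀ * z * g₀⁻¹ := by
      rcases (qmk_eq Q.a2 hl₀a hg₀).1 hl₀ with e' | e' <;> rw [e']
      rw [show l₀ * a * z * (l₀ * a)⁻¹ = l₀ * (a * z * a⁻¹) * l₀⁻¹ by group, mul_inv_eq_iff_eq_mul.2 Q.za.symm.eq]
    have hniso : ¬ Cfsg.IsIsolatedInvolution (⟨z, hzX⟩ : X) := fun hi => hg₀n (by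
      rw [← hl₀z]
      refine congrArg Subtype.val (hi.2 ⟨l₀, hLX hl₀L⟩ (Subtype.ext ?_))
      show z * (l₀ * z * l₀⁻¹) = l₀ * z * l₀⁻¹ * z
      rw [hl₀z]; exact hg₀z.symm.eq)
    -- a subgroup as large as the derived subgroup
    have hLcard : Nat.card L = Nat.card (CQ a) := by
      refine Nat.card_eq_of_bijective (fun x : L => qmk a (x : G) (hmA.1 (hLA x.2))) ⟨fun x y e => ?_, fun y => ?_⟩
      · rcases (qmk_eq Q.a2 _ _).1 e with h | h
        · exact Subtype.ext h.symm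
        · exact absurd (by simpa [h] using mul_mem (inv_mem x.2) y.2) ha
      · obtain ⟨x, hx, hxL, rfl⟩ := hsurjL y
        exact ⟨⟨x, hxL⟩, rfl⟩
    have hLs : ⁅L.map (MulAut.conj s).toMonoidHom, L.map (MulAut.conj s).toMonoidHom⁆ = L.map (MulAut.conj s).toMonoidHom := by
      rw [← Subgroup.map_commutator, hLperf]
    obtain ⟨Y, hYc, hYle⟩ : ∃ Y : Subgroup G, Nat.card Y = Nat.card (CQ a) ∧ ∀ P : Subgroup G, P ≤ X → ⁅P, P⁆ = P → P ≤ Y := by
      obtain ⟨Kx, hKx⟩ : ∃ Kx, Kx = L.subgroupOf X ⊓ Subgroup.centralizer ({(⟨z, hzX⟩ : X)} : Set X) := ⟨_, rfl⟩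
      have hmKx : ∀ {x : X}, x ∈ Kx ↔ Inn F x := fun {x} => by
        rw [hKx, Subgroup.mem_inf, Subgroup.mem_subgroupOf, mem_cent]
        constructor
        · rintro ⟨h1, h2⟩
          exact ⟨h2, by rw [hFκ]; exact ((hinX _ (congrArg Subtype.val h2)).1 h1).2.2⟩
        · rintro ⟨h2, h3⟩
          rw [hFκ] at h3
          exact ⟨(hinX _ (congrArg Subtype.val h2)).2 ⟨x.2, congrArg Subtype.val h2, h3⟩, h2⟩
      have hKxc : Nat.card Kx = 512 * 25920 := by
        rw [← hMc, hM₀, hKx]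
        exact Nat.card_congr
          { toFun := fun x => ⟨⟨x.1.1, hmH.2 (congrArg Subtype.val (mem_cent.1 x.2.2))⟩, x.2.1⟩
            invFun := fun x => ⟨⟨x.1.1, hLX x.2⟩, x.2, mem_cent.2 (Subtype.ext (hmH.1 x.1.2).eq)⟩
            left_inv := fun _ => rfl
            right_inv := fun _ => rfl }
      have hKxle : Kx ≤ Subgroup.centralizer ({(⟨z, hzX⟩ : X)} : Set X) := hKx ▸ inf_le_right
      by_cases hall : ∀ h ∈ X, Commute h z → Q.Inn h
      · have hc : Nat.card ↥(Subgroup.centralizer ({(⟨z, hzX⟩ : X)} : Set X)) = 512 * 25920 := by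
          rw [← hKxc]
          congr 1
          refine congrArg (fun P : Subgroup X => ↥P) (SetLike.ext fun x => ?_)
          rw [hmKx, mem_cent]
          exact ⟨fun h => ⟨h, by rw [hFκ]; exact (hall x x.2 (congrArg Subtype.val h)).2⟩, fun h => h.1⟩
        obtain ⟨ux⟩ := ((dichotomy F hc).resolve_left hniso).iso hF4
        exact ⟨X, (Nat.card_congr ux.toEquiv).trans (Nat.card_congr e.toEquiv).symm, fun P hP _ => hP⟩
      push Not at hall
      obtain ⟨h, hhX, hhz, hhn⟩ := hall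
      have hidx : (Kx.subgroupOf (Subgroup.centralizer ({(⟨z, hzX⟩ : X)} : Set X))).index = 2 := by
        refine Subgroup.index_eq_two_iff.2 ⟨⟨⟨h, hhX⟩, mem_cent.2 (Subtype.ext hhz.eq)⟩, fun x => ?_⟩
        have hxz : Commute ((x.1 : X) : G) z := congrArg Subtype.val (mem_cent.1 x.2)
        simp only [Subgroup.mem_subgroupOf, hmKx]
        have hI : ∀ {y : X}, Inn F y ↔ Q.Inn (y : G) := fun {y} => by
          rw [Inn, Quad.Inn, hFκ]
          exact and_congr_left fun _ => ⟨fun e => congrArg Subtype.val e, fun e => Subtype.ext e.eq⟩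
        rw [hI, hI]
        show Xor (Q.Inn (((x.1 : X) : G) * h)) (Q.Inn ((x.1 : X) : G))
        by_cases hx : Q.Inn ((x.1 : X) : G)
        · exact Or.inr ⟨hx, fun h' => hhn (by simpa using Q.inn_mul (Q.inn_inv hx) h')⟩
        · exact Or.inl ⟨⟨hxz.mul_left hhz, Q.index _ h hxz hhz (fun w => hx ⟨hxz, w⟩) fun w => hhn ⟨hhz, w⟩⟩, hx⟩
      have O : Outer F := by
        refine ⟨?_, ⟨Kx, hKxc, fun x => hmKx⟩, ?_⟩
        · have h1 := Subgroup.card_mul_index (Kx.subgroupOf (Subgroup.centralizer ({(⟨z, hzX⟩ : X)} : Set X)))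
          rw [hidx, Nat.card_congr (Subgroup.subgroupOfEquivOfLe hKxle).toEquiv, hKxc] at h1
          omega
        · obtain ⟨k, hk, s₁, hs₁, hs₁e, hnw⟩ := Q.out
          have hns₁ : ¬ WordCode cfgU.gens (Q.κ s₁) := hs₁e ▸ hnw
          obtain ⟨i, hi⟩ : ∃ i, i = h⁻¹ * s₁ := ⟨_, rfl⟩
          have hhi : ¬ WordCode cfgU.gens (Q.κ h⁻¹) := fun w => hhn (by
            simpa using Q.inn_inv (h := h⁻¹) ⟨hhz.inv_left, w⟩)
          have hia : Commute i a := hi ▸ Q.inn_comm ⟨hhz.inv_left.mul_left hs₁,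
            Q.index _ _ hhz.inv_left hs₁ hhi hns₁⟩
          rcases hLor i hia with hl | hl
          · refine ⟨⟨h * i, mul_mem hhX (hLX hl)⟩, ?_, k, hk, ?_⟩
            · exact Subtype.ext (show Commute (h * i) z by rw [hi, mul_inv_cancel_left]; exact hs₁).eq
            · rw [hFκ]; show Q.κ (h * i) = _; rw [hi, mul_inv_cancel_left]; exact hs₁e
          · refine ⟨⟨h * (i * a), mul_mem hhX (hLX hl)⟩, ?_, k, hk, ?_⟩
            · exact Subtype.ext (show Commute (h * (i * a)) z by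
                rw [← mul_assoc, hi, mul_inv_cancel_left]; exact hs₁.mul_left Q.za.symm).eq
            · rw [hFκ]; show Q.κ (h * (i * a)) = _
              rw [← mul_assoc, hi, mul_inv_cancel_left, Q.κ_mulJ hs₁ Q.aJ]; exact hs₁e
      obtain ⟨G₀, hidx₀, ⟨u₀⟩, -⟩ := (outer_main O hF4).resolve_right hniso
      refine ⟨G₀.map X.subtype, ?_, fun P hP hPP => ?_⟩
      · rw [Subgroup.card_map_of_injective Subtype.val_injective]
        exact (Nat.card_congr u₀.toEquiv).trans (Nat.card_congr e.toEquiv).symm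
      · have h1 : ⁅P.subgroupOf X, P.subgroupOf X⁆ = P.subgroupOf X := by
          apply Subgroup.map_injective X.subtype_injective
          rw [Subgroup.map_commutator, Subgroup.map_subgroupOf_eq_of_le hP, hPP]
        intro x hx
        exact ⟨⟨x, hP hx⟩, perfect_le h1 hidx₀ hx, rfl⟩
    have hLY : L = Y := Subgroup.eq_of_le_of_card_ge (hYle L hLX hLperf) (by rw [hYc, hLcard])
    have hL'Y : L.map (MulAut.conj s).toMonoidHom ≤ L := by
      conv_rhs => rw [hLY]
      refine hYle _ ?_ hLs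
      rintro _ ⟨x, hx, rfl⟩
      exact hXn.conj_mem x (hLX hx) s
    have hLL : L.map (MulAut.conj s).toMonoidHom = L := Subgroup.eq_of_le_of_card_ge hL'Y (by
      rw [Subgroup.card_map_of_injective (MulAut.conj s).injective])
    have hzc : ∀ x ∈ L, Commute x z := fun x hx => by
      have hx' : x ∈ L.map (MulAut.conj s).toMonoidHom := hLL.symm ▸ hx
      obtain ⟨y, hy, hye⟩ := hx'
      have h1 : Commute x (a * z) := by
        rw [← hsa, ← hye]
        exact (Commute.conj_iff s).2 (hmA.1 (hLA hy))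
      have h2 := (hmA.1 (hLA hx)).mul_right h1
      rwa [← mul_assoc, Q.a2, one_mul] at h2
    exact hg₀n (by rw [← hl₀z]; exact mul_inv_eq_iff_eq_mul.2 (hzc l₀ hl₀L).eq)
  -- quasisimple
  have hperf : commutator ↥(Subgroup.centralizer ({a} : Set G)) = ⊤ := by
    refine eq_top_iff.2 fun x _ => ?_
    have hxL : (x : G) ∈ L := by
      rcases hLor x (mem_cent.1 x.2) with h | h
      · exact h
      · have := mul_mem h haL
        rwa [mul_assoc, Q.a2, mul_one] at this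
    have h2 : (x : G) ∈ (commutator ↥(Subgroup.centralizer ({a} : Set G))).map (Subgroup.subtype _) := by
      rw [Subgroup.map_subtype_commutator]; rw [hL, hA] at hxL; exact hxL
    obtain ⟨y, hy, hye⟩ := h2
    rwa [← Subtype.ext hye]
  have hcenter : Subgroup.center ↥(Subgroup.centralizer ({a} : Set G)) =
      (Subgroup.zpowers a).subgroupOf (Subgroup.centralizer ({a} : Set G)) := by
    refine le_antisymm (fun x hx => ?_) fun x hx => ?_
    · rw [← QuotientGroup.eq_one_iff]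
      by_contra hne
      have hc : (x : CQ a) ∈ Subgroup.center (CQ a) := Subgroup.mem_center_iff.2 fun y => by
        obtain ⟨y, rfl⟩ := QuotientGroup.mk_surjective y
        exact congrArg (fun w : ↥(Subgroup.centralizer ({a} : Set G)) => (w : CQ a)) (Subgroup.mem_center_iff.1 hx y)
      rcases IsSimpleGroup.eq_bot_or_eq_top_of_normal (Subgroup.center (CQ a)) inferInstance with h | h
      · exact hne (by rw [h, Subgroup.mem_bot] at hc; exact hc)
      · have h1 : commutator (CQ a) = ⊥ := by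
          rw [commutator_eq_bot_iff_center_eq_top]; exact h
        rw [hperfW] at h1
        exact top_ne_bot h1
    · rw [Subgroup.mem_center_iff]
      intro y
      refine Subtype.ext ?_
      rcases (mem_zpowers_two Q.a2).1 (Subgroup.mem_subgroupOf.1 hx) with e' | e' <;> push_cast <;> rw [e']
      · rw [mul_one, one_mul]
      · exact (mem_cent.1 y.2).eq
  have hq : Cfsg.IsQuasisimple ↥(Subgroup.centralizer ({a} : Set G)) :=
    ⟨⟨hperf⟩, ((QuotientGroup.quotientMulEquivOfEq hcenter).trans e).isSimpleGroup⟩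
  obtain ⟨-, -, hiso⟩ := Cfsg.Lib.Fischer.FromCent.main a (orderOf_eq_prime (by rw [pow_two, Q.a2]) Q.a1) hq
    (GaloisField 2 2) hF4 e ⟨s, by rw [hsa]; exact mem_cent.2 ((Commute.refl a).mul_left Q.za), by
      rw [hsa]; exact fun h => Q.z1 (mul_eq_left.1 h)⟩
  exact hiso

end Cfsg.Lib.U62Type
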