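import Cfsg.Agent.Lib.U62Type.FourFix

/-!
# Commuting conjugates do not move the other central involutions
-/

set_option autoImplicit false
set_option linter.unusedSectionVars false
set_option linter.style.haveILetI false

namespace Cfsg.Lib.U62Type

variable {G : Type*} [Group G] [Finite G]

theorem conj_commute {g x y : G} (h : Commute (g⁻¹ * x * g) y) : Commute x (g * y * g⁻¹) := by
  simpa [mul_assoc] using (Commute.conj_iff g).2 h

theorem Iso.conj {z w : G} (h : Iso z w) (g : G) : Iso (g * z * g⁻¹) (g * w * g⁻¹) := by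
  intro f hf hc
  have hc' := commute_conj_back hc
  rw [show g⁻¹ * (f * (g * z * g⁻¹) * f⁻¹) * g = g⁻¹ * f * g * z * (g⁻¹ * f * g)⁻¹ by group] at hc'
  have h1 := h (g⁻¹ * f * g) (commute_conj_back hf) hc'
  calc f * (g * z * g⁻¹) * f⁻¹ = g * (g⁻¹ * f * g * z * (g⁻¹ * f * g)⁻¹) * g⁻¹ := by group
    _ = g * z * g⁻¹ := by rw [h1]

theorem Cent.conj {z w : G} (h : Cent z w) (g : G) : Cent (g * z * g⁻¹) (g * w * g⁻¹) := by
  intro P hP hw
  obtain ⟨f, hf, hfP⟩ := h (P.map (MulAut.conj g⁻¹).toMonoidHom) (hP.map _) (by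
    rintro _ ⟨p, hp, rfl⟩
    show Commute (g⁻¹ * p * g⁻¹⁻¹) w
    rw [inv_inv]
    exact commute_conj_back (hw p hp))
  refine ⟨g * f * g⁻¹, (Commute.conj_iff g).2 hf, fun p hp => ?_⟩
  have h1 := conj_commute (x := p) (g := g) (y := f * z * f⁻¹) (by simpa using hfP _ ⟨p, hp, rfl⟩)
  rwa [show g * f * g⁻¹ * (g * z * g⁻¹) * (g * f * g⁻¹)⁻¹ = g * (f * z * f⁻¹) * g⁻¹ by group]

variable {C : Cfg} {z a : G} {Q : Quad C z a}

theorem Quad.conj_az (g : G) : g * a * g⁻¹ * (g * z * g⁻¹) = g * (a * z) * g⁻¹ := by group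

theorem Fus.conj (F : Fus Q) (g : G) : Fus (Q.conj g) where
  side := by
    rcases F.side with h | ⟨h1, h2, h3⟩
    · exact Or.inl fun f hf => conj_commute (h _ (commute_conj_back hf))
    · refine Or.inr ⟨h1.conj g, ?_, fun f hf hfa => h3 _ (commute_conj_back hf) (commute_conj_back hfa) |>
        fun hi => ⟨hf, hi.2⟩⟩
      rw [Quad.conj_az (z := z) (a := a) g]
      exact h2.conj g
  centA := F.centA.conj g
  centB := by rw [Quad.conj_az (z := z) (a := a) g]; exact F.centB.conj g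
  noA := fun f hf hJ => by
    have h1 := Q.conj_mem.1 hJ
    rw [show g⁻¹ * (f * (g * z * g⁻¹) * f⁻¹) * g = g⁻¹ * f * g * z * (g⁻¹ * f * g)⁻¹ by group] at h1
    have h2 := F.noA _ (commute_conj_back hf) h1
    calc f * (g * z * g⁻¹) * f⁻¹ = g * (g⁻¹ * f * g * z * (g⁻¹ * f * g)⁻¹) * g⁻¹ := by group
      _ = g * z * g⁻¹ := by rw [h2]
  noB := fun f hf hJ => by
    rw [Quad.conj_az (z := z) (a := a) g] at hf
    have h1 := Q.conj_mem.1 hJ
    rw [show g⁻¹ * (f * (g * z * g⁻¹) * f⁻¹) * g = g⁻¹ * f * g * z * (g⁻¹ * f * g)⁻¹ by group] at h1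
    have h2 := F.noB _ (commute_conj_back hf) h1
    calc f * (g * z * g⁻¹) * f⁻¹ = g * (g⁻¹ * f * g * z * (g⁻¹ * f * g)⁻¹) * g⁻¹ := by group
      _ = g * z * g⁻¹ := by rw [h2]
  sym := fun f hf => by
    rw [Quad.conj_az (z := z) (a := a) g] at hf
    obtain ⟨s, hs, hse⟩ := F.sym (g⁻¹ * f * g) (by
      calc g⁻¹ * f * g * a * (g⁻¹ * f * g)⁻¹ = g⁻¹ * (f * (g * a * g⁻¹) * f⁻¹) * g := by group
        _ = a * z := by rw [hf]; group)
    refine ⟨g * s * g⁻¹, (Commute.conj_iff g).2 hs, ?_⟩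
    rw [Quad.conj_az (z := z) (a := a) g,
      show g * s * g⁻¹ * (g * a * g⁻¹) * (g * s * g⁻¹)⁻¹ = g * (s * a * s⁻¹) * g⁻¹ by group, hse]

/-- What centralises a conjugate of an isolating element in the core centralises the conjugate of `z`. -/
theorem Fus.iso_comm (F : Fus Q) (hb : Iso z (a * z)) {g t x : G} (ht : t = g * z * g⁻¹)
    (hx : x = g * (a * z) * g⁻¹) (htz : Commute t z) {m : G} (hm : m ∈ Q.J) (hmx : Commute m x) : Commute m t := by
  obtain ⟨P, hP⟩ : ∃ P, P = Q.J ⊓ Subgroup.centralizer ({x} : Set G) := ⟨_, rfl⟩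
  have hxt : Commute x t := by
    rw [ht, hx]
    exact (Commute.conj_iff g).2 (Q.cz _ Q.azJ)
  have ht2 : t * t = 1 := by
    rw [ht, show g * z * g⁻¹ * (g * z * g⁻¹) = g * (z * z) * g⁻¹ by group, Q.z2, mul_one, mul_inv_cancel]
  have hnorm : Subgroup.zpowers t ≤ Subgroup.normalizer (P : Set G) := by
    rw [Subgroup.zpowers_le, Subgroup.mem_normalizer_iff]
    have key : ∀ p ∈ P, t * p * t⁻¹ ∈ P := by
      intro p hp
      rw [hP, Subgroup.mem_inf, Subgroup.mem_centralizer_singleton_iff] at hp ⊢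
      exact ⟨Q.norm t htz p hp.1, ((hxt.symm.mul_left (show Commute p x from hp.2)).mul_left hxt.symm.inv_left).eq⟩
    intro p
    refine ⟨key p, fun hp => ?_⟩
    have h1 := key _ hp
    rwa [show t * (t * p * t⁻¹) * t⁻¹ = t * t * p * (t * t)⁻¹ by group, ht2, one_mul, inv_one, mul_one] at h1
  have hzp : IsPGroup 2 ↥(Subgroup.zpowers t) := fun y => ⟨1, Subtype.ext (by
    obtain ⟨n, hn⟩ := Subgroup.mem_zpowers_iff.1 y.2
    rw [SubgroupClass.coe_pow, pow_one, pow_two, ← hn, ← (Commute.refl t).mul_zpow, ht2, one_zpow]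
    rfl)⟩
  have hPt : IsPGroup 2 ↥(P ⊔ Subgroup.zpowers t) := by
    rw [sup_comm]
    exact IsPGroup.to_sup_of_normal_right' hzp (Q.isPGroup_J P (hP ▸ inf_le_left)) hnorm
  have hcomm : P ⊔ Subgroup.zpowers t ≤ Subgroup.centralizer ({x} : Set G) :=
    sup_le (hP ▸ inf_le_right) (Subgroup.zpowers_le.2 (Subgroup.mem_centralizer_singleton_iff.2 hxt.symm.eq))
  obtain ⟨f, hf, hfP⟩ := (F.centB.conj g) _ hPt fun p hp => by
    rw [← hx]
    exact Subgroup.mem_centralizer_singleton_iff.1 (hcomm hp)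
  have h1 := hfP t (Subgroup.mem_sup_right (Subgroup.mem_zpowers t))
  have h2 : f * (g * z * g⁻¹) * f⁻¹ = g * z * g⁻¹ := (hb.conj g) f hf (by rw [← ht] at h1 ⊢; exact h1.symm)
  have h3 := hfP m (Subgroup.mem_sup_left (hP ▸ Subgroup.mem_inf.2
    ⟨hm, Subgroup.mem_centralizer_singleton_iff.2 hmx.eq⟩))
  rwa [h2, ← ht] at h3

/-- If `t` moves `a`, then `z` moves its partner. -/
theorem Fus.moves (F : Fus Q) (hIa : Iso z a) (hb : Iso z (a * z)) (hinn : ∀ h, Commute h z → Commute h a → Q.Inn h)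
    {g t t₁ : G} (ht : t = g * z * g⁻¹) (ht₁ : t₁ = g * a * g⁻¹) (htz : Commute t z) (hnc : ¬ Commute t a) :
    ¬ Commute z t₁ := by
  intro hz1
  obtain ⟨x, hx⟩ : ∃ x, x = g * (a * z) * g⁻¹ := ⟨_, rfl⟩
  have hxe : x = t₁ * t := by rw [hx, ht₁, ht]; group
  by_cases hi : Q.Inn t₁
  · refine hnc (Fus.iso_comm F.other (by rw [Q.az_z]; exact hIa) (x := t₁) ht
      (by rw [ht₁, Q.az_z]) htz Q.aJ (Q.inn_comm hi).symm).symm
  · have hxi : Q.Inn x := by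
      rw [hxe]
      exact ⟨hz1.symm.mul_left htz, Q.index _ _ hz1.symm htz (fun w => hi ⟨hz1.symm, w⟩)
        (fun w => hnc (Q.inn_comm ⟨htz, w⟩))⟩
    exact hnc (F.iso_comm hb ht hx htz Q.aJ (Q.inn_comm hxi).symm).symm

theorem Fus.swap_facts (F : Fus Q) {g t t₁ : G} (ht : t = g * z * g⁻¹) (ht₁ : t₁ = g * a * g⁻¹)
    (htz : Commute t z) (hne : t ≠ z) (hnc : ¬ Commute t a) (hz1 : ¬ Commute z t₁) :
    (∀ w ∈ Q.J, w ∈ (Q.conj g).J → Commute w t → w = 1) ∧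
    (∀ c, WordCode C.gens c → cm c c = idc → c ≠ idc → cm c (Q.κ t) = cm (Q.κ t) c →
      ∃ v ∈ Q.fSet (Q.κ t), ap c v ≠ v) ∧
    (∀ m ∈ Q.J, ap (Q.κ t) (Q.vc m) = Q.vc m → Commute m t ∨ Commute (m * a) t) ∧
    ∃ m ∈ Q.J, Q.vc m ≠ 0 ∧ ap (Q.κ t) (Q.vc m) = Q.vc m := by
  classical
  have ht2 : t * t = 1 := by
    rw [ht, show g * z * g⁻¹ * (g * z * g⁻¹) = g * (z * z) * g⁻¹ by group, Q.z2, mul_one, mul_inv_cancel]
  have hti := inv_eq_of_mul_eq_one_right ht2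
  have hta : t * a * t⁻¹ = a * z := (Q.a_move t htz).resolve_left fun e => hnc (mul_inv_eq_iff_eq_mul.1 e)
  have hexp : ∀ m ∈ Q.J, Commute m t → m * m = 1 := fun m hm hmt => (Q.sq m hm).resolve_right fun e => hz1 (by
    have h1 := (Q.conj g).inn_comm ((Q.conj g).inn_sq (h := m) (ht ▸ hmt))
    rw [e, ← ht₁] at h1
    exact h1)
  have hfix : ∀ m ∈ Q.J, ap (Q.κ t) (Q.vc m) = Q.vc m → Commute m t ∨ Commute (m * a) t := by
    intro m hm e
    obtain ⟨y, hy, hye⟩ : ∃ y, Q.Zc y ∧ t * m * t⁻¹ = m * y :=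
      ⟨_, Q.fixed_zc htz hm e, (mul_inv_cancel_left _ _).symm⟩
    have hty : t * y * t⁻¹ = y := by
      have h1 : m = m * y * (t * y * t⁻¹) := by
        calc m = t * (t * m * t⁻¹) * t⁻¹ := by
              rw [show t * (t * m * t⁻¹) * t⁻¹ = t * t * m * (t * t)⁻¹ by group, ht2, one_mul, inv_one, mul_one]
          _ = t * m * t⁻¹ * (t * y * t⁻¹) := by conv_lhs => rw [hye]
                                                group
          _ = _ := by rw [hye]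
      rw [mul_assoc, eq_comm, mul_eq_left] at h1
      exact (inv_eq_of_mul_eq_one_right h1).symm.trans (inv_eq_of_mul_eq_one_right (Q.zc_sq hy))
    rcases hy with e | e | e | e <;> rw [e] at hye hty
    · exact Or.inl (mul_inv_eq_iff_eq_mul.1 (hye.trans (mul_one m))).symm
    · refine Or.inr (mul_inv_eq_iff_eq_mul.1 ?_ : Commute t (m * a)).symm
      rw [show t * (m * a) * t⁻¹ = t * m * t⁻¹ * (t * a * t⁻¹) by group, hye, hta, mul_assoc, ← mul_assoc z,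
        (Q.za).eq, mul_assoc a, Q.z2, mul_one]
    · exact absurd (mul_inv_eq_iff_eq_mul.1 hty) hnc
    · refine absurd ?_ hnc
      have := (show Commute t (a * z) from mul_inv_eq_iff_eq_mul.1 hty).mul_right htz
      rwa [Q.az_z] at this
  have hsing : ∀ v ∈ Q.fSet (Q.κ t), C.q v = 0 := by
    intro v hv
    obtain ⟨hv, hvf⟩ := Q.mem_fSet.1 hv
    obtain ⟨m, hm, rfl⟩ := Q.vc_surj v hv
    rcases hfix m hm hvf with h | h
    · exact Q.q_of_sq hm (hexp m hm h)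
    · have h1 := Q.q_of_sq (mul_mem hm Q.aJ) (hexp _ (mul_mem hm Q.aJ) h)
      rwa [Q.vc_mul_zc hm (Or.inr (Or.inr (Or.inl rfl)))] at h1
  -- normal coordinates
  obtain ⟨g₀, hg₀, k, hk, j, hj, hp⟩ := Q.outer_normal htz ht2 fun hi => hnc (Q.inn_comm hi)
  obtain ⟨p, hpd⟩ : ∃ p, p = Q.κ (g₀ * t * g₀⁻¹) := ⟨_, rfl⟩
  rw [← hpd] at hp
  obtain ⟨γ, hγ⟩ : ∃ γ, γ = Q.κ g₀ := ⟨_, rfl⟩
  obtain ⟨γ', hγ'⟩ : ∃ γ', γ' = Q.κ g₀⁻¹ := ⟨_, rfl⟩
  have hg : cm γ γ' = idc ∧ cm γ' γ = idc := hγ ▸ hγ' ▸ Q.κ_inv hg₀.1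
  have hback : ∀ v < 256, ap γ' (ap γ v) = v ∧ ap γ (ap γ' v) = v := fun v hv => by
    rw [← ap_cm, ← ap_cm, hg.1, hg.2, ap_idc hv]; exact ⟨rfl, rfl⟩
  have hpe : p = cm (cm γ (Q.κ t)) γ' := by rw [hpd, hγ, hγ', Q.κ_conj hg₀.1 htz]
  have hap : ∀ v < 256, ap p (ap γ v) = ap γ (ap (Q.κ t) v) := fun v hv => by
    rw [hpe, ap_cm, ap_cm, (hback v hv).1]
  have hmem : ∀ v, v ∈ fxL p ↔ v < 256 ∧ ap p v = v := fun v => by simp [fxL, vecs]
  have hdown : ∀ v ∈ fxL p, ap γ' v ∈ Q.fSet (Q.κ t) := by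
    intro v hv
    obtain ⟨hv, hvf⟩ := (hmem v).1 hv
    refine Q.mem_fSet.2 ⟨ap_lt _ _, ?_⟩
    have h1 := hap _ (ap_lt γ' v)
    rw [(hback v hv).2, hvf] at h1
    conv_rhs => rw [h1]
    rw [(hback _ (ap_lt _ _)).1]
  have hsing' : ∀ v ∈ fxL p, C.q v = 0 := by
    intro v hv
    have h1 := hsing _ (hdown v hv)
    rw [hγ', Q.q_act hg₀.1.inv_left ((hmem v).1 hv).1] at h1
    exact h1
  have hchk : swapChk C = true := by
    rcases list_cases Q.std with rfl | rfl | rfl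
    exacts [swap_U, swap_P, swap_M]
  simp only [swapChk, List.all_eq_true, List.mem_range, Bool.or_eq_true, Bool.and_eq_true, List.any_eq_true,
    nbeq_iff, Bool.not_eq_true', beq_eq_false_iff_ne, ne_eq] at hchk
  rcases hchk k hk j hj p hp with ⟨u, hu, v, hv, e⟩ | ⟨⟨hcard, hrng⟩, hno⟩
  · obtain ⟨hu, huf⟩ := (hmem u).1 hu
    obtain ⟨hv, hvf⟩ := (hmem v).1 hv
    rw [hsing' _ ((hmem _).2 ⟨xor_lt hu hv, by rw [ap_xor, huf, hvf]⟩)] at e
    exact absurd e (by norm_num)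
  have hW : ∀ w ∈ Q.J, w ∈ (Q.conj g).J → Commute w t → w = 1 := by
    intro w hw hwT hwt
    have hzT : z ∉ (Q.conj g).J := fun h => by
      refine hne ?_
      have h1 := Q.conj_mem.1 h
      have h2 := F.no_inside (g := g⁻¹) (by simpa using h1)
      rw [inv_inv] at h2
      calc t = g * z * g⁻¹ := ht
        _ = g * (g⁻¹ * z * g) * g⁻¹ := by rw [h2]
        _ = z := by group
    have haT : ∀ {y}, y = a ∨ y = a * z → ¬ Commute y t := by
      rintro y (rfl | rfl) h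
      · exact hnc h.symm
      · exact hnc (by simpa [Q.az_z] using (h.mul_left htz.symm).symm)
    by_cases h0 : Q.vc w = 0
    · rcases Q.vc_zero w hw h0 with e | e | e | e
      · exact e
      · exact absurd (e ▸ hwT) hzT
      · exact absurd hwt (haT (Or.inl e))
      · exact absurd hwt (haT (Or.inr e))
    have hwf := Q.mem_fSet.2 ⟨Q.vc_lt w, Q.fixed_of_commute htz hw hwt.symm⟩
    obtain ⟨hw', hwf'⟩ := Q.mem_fSet.1 hwf
    have hwup : ap γ (Q.vc w) ∈ fxL p := (hmem _).2 ⟨ap_lt _ _, by rw [hap _ hw', hwf']⟩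
    obtain ⟨u, hu, hue⟩ := hrng _ hwup
    rw [vecs, List.mem_range] at hu
    obtain ⟨m, hm, hmu⟩ := Q.vc_surj _ (ap_lt γ' u)
    obtain ⟨e, he⟩ : ∃ e, e = t * m * t⁻¹ * m⁻¹ := ⟨_, rfl⟩
    have heJ : e ∈ Q.J := he ▸ mul_mem (Q.norm t htz m hm) (inv_mem hm)
    have hev : Q.vc e = Q.vc w := by
      rw [he, Q.vc_mul _ (Q.norm t htz m hm) _ (inv_mem hm), Q.act t htz m hm, Q.vc_inv hm, hmu]
      have h1 := hap _ (ap_lt γ' u)
      rw [(hback u hu).2] at h1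
      have h2 := congrArg (ap γ') hue
      rw [ap_xor, h1, (hback _ (ap_lt _ _)).1, (hback _ (Q.vc_lt w)).1] at h2
      exact h2
    obtain ⟨y, hy, rfl⟩ : ∃ y, Q.Zc y ∧ e = w * y :=
      ⟨_, Q.vc_eq hw heJ hev.symm, (mul_inv_cancel_left _ _).symm⟩
    have hw2 := hexp w hw hwt
    have hinv : t * (w * y) * t⁻¹ = (w * y)⁻¹ := by
      rw [he, hti]
      simp only [mul_inv_rev, inv_inv, hti]
      rw [show t * (t * m * t * m⁻¹) * t = t * t * (m * t * m⁻¹ * t) by simp only [mul_assoc], ht2, one_mul]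
      simp only [mul_assoc]
    rw [show t * (w * y) * t⁻¹ = t * w * t⁻¹ * (t * y * t⁻¹) by group, mul_inv_eq_iff_eq_mul.2 hwt.symm.eq,
      mul_inv_rev, inv_eq_of_mul_eq_one_right hw2, inv_eq_of_mul_eq_one_right (Q.zc_sq hy),
      (Q.zc_comm hy hw).eq, mul_right_inj] at hinv
    have hconj : m * t * m⁻¹ = t * (w * y) := by
      rw [he, hti, ← mul_assoc, ← mul_assoc, ← mul_assoc, ht2, one_mul]
    have hy' : y = 1 ∨ y = z := by
      rcases hy with e | e | e | e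
      · exact Or.inl e
      · exact Or.inr e
      · exact absurd (mul_inv_eq_iff_eq_mul.1 hinv : Commute t y).symm (haT (Or.inl e))
      · exact absurd (mul_inv_eq_iff_eq_mul.1 hinv : Commute t y).symm (haT (Or.inr e))
    obtain ⟨f, hf⟩ : ∃ f, f * t * f⁻¹ = t * w := by
      rcases hy' with e' | e' <;> rw [e'] at hconj
      · exact ⟨m, by rw [hconj, mul_one]⟩
      · refine ⟨a * m, ?_⟩
        have h1 : a * t * a⁻¹ = t * z := by
          have h2 : t * a = a * z * t := by rw [← hta]; group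
          rw [mul_inv_eq_iff_eq_mul, mul_assoc, Q.za.eq]
          calc a * t = a * z * (z * t) := by rw [mul_assoc a, ← mul_assoc z, Q.z2, one_mul]
            _ = a * z * t * z := by rw [← htz.eq]; group
            _ = t * a * z := by rw [h2]
            _ = t * (a * z) := mul_assoc _ _ _
        rw [show a * m * t * (a * m)⁻¹ = a * (m * t * m⁻¹) * a⁻¹ by group, hconj,
          show a * (t * (w * z)) * a⁻¹ = a * t * a⁻¹ * (a * (w * z) * a⁻¹) by group, h1,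
          mul_inv_eq_iff_eq_mul.2 (Q.ca _ (mul_mem hw Q.zJ)).symm.eq, (Q.cz w hw).eq, mul_assoc t,
          ← mul_assoc z, Q.z2, one_mul]
    have hmemT : f * g * z * (f * g)⁻¹ ∈ (Q.conj g).J := by
      have hf' := hf
      simp only [ht] at hf'
      rw [show f * g * z * (f * g)⁻¹ = f * (g * z * g⁻¹) * f⁻¹ by group, hf']
      exact mul_mem (Q.conj g).zJ hwT
    have h3 := (F.conj g).no_inside (g := f) (by
      rwa [show f * (g * z * g⁻¹) * f⁻¹ = f * g * z * (f * g)⁻¹ by group])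
    simp only [← ht] at h3
    rw [hf] at h3
    exact mul_eq_left.1 h3
  refine ⟨hW, fun c hc hsq hne' hcomm => ?_, hfix, ?_⟩
  · obtain ⟨h, hh, hhe⟩ := Q.lift_code hc
    have hz' := (hg₀.1.mul_left hh.1).mul_left hg₀.1.inv_left
    have hcl : c < 2 ^ 64 := hhe ▸ Q.κ_lt h
    have he : Q.κ (g₀ * h * g₀⁻¹) = cm (cm γ c) γ' := by rw [Q.κ_conj hg₀.1 hh.1, hhe, hγ, hγ']
    have hmid : ∀ x y, cm (cm (cm γ x) γ') (cm (cm γ y) γ') = cm (cm γ (cm x y)) γ' := fun x y => by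
      calc cm (cm (cm γ x) γ') (cm (cm γ y) γ') = cm (cm (cm γ x) (cm γ' γ)) (cm y γ') := by simp only [cm_assoc]
        _ = cm (cm γ x) (cm y γ') := by rw [hg.2, cm_idc (cm_lt _ _)]
        _ = _ := by simp only [cm_assoc]
    have hsq' : cm (Q.κ (g₀ * h * g₀⁻¹)) (Q.κ (g₀ * h * g₀⁻¹)) = idc := by
      rw [he, hmid, hsq, cm_idc (hγ ▸ Q.κ_lt _), hg.1]
    have hne0 : Q.κ (g₀ * h * g₀⁻¹) ≠ idc := fun h0 => hne' (by
      have h1 := Q.ker _ hz' h0
      have h2 := Q.norm g₀⁻¹ hg₀.1.inv_left _ h1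
      rw [show g₀⁻¹ * (g₀ * h * g₀⁻¹) * g₀⁻¹⁻¹ = h by group] at h2
      rw [← hhe, Q.κ_mem h2])
    have hin := (Q.invol _ (Q.inn_conj hh hg₀.1).2 hsq' hne0).1
    rcases hno _ hin with e | ⟨v, hv, e⟩
    · exact absurd (by rw [he, hpe, hmid, hmid, hcomm]) e
    · refine ⟨ap γ' v, hdown v hv, fun h1 => Bool.noConfusion (e.symm.trans (nbeq_iff.2 ?_))⟩
      rw [he, ap_cm, ap_cm, h1, (hback v ((hmem v).1 hv).1).2]
  · obtain ⟨v, hv, hv0⟩ : ∃ v ∈ fxL p, v ≠ 0 := by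
      by_contra hall
      push Not at hall
      have h1 : (fxL p).toFinset ⊆ {0} := fun v hv => Finset.mem_singleton.2 (hall v (List.mem_toFinset.1 hv))
      have h2 := Finset.card_le_card h1
      rw [List.toFinset_card_of_nodup (show (fxL p).Nodup from List.Nodup.filter _ List.nodup_range), hcard,
        Finset.card_singleton] at h2
      exact absurd h2 (by norm_num)
    obtain ⟨m, hm, hme⟩ := Q.vc_surj _ (ap_lt γ' v)
    refine ⟨m, hm, fun e => hv0 ?_, by rw [hme]; exact (Q.mem_fSet.1 (hdown v hv)).2⟩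
    rw [← (hback v ((hmem v).1 hv).1).2, ← hme, e, ap_zero]

/-- A commuting conjugate centralises `a`. -/
theorem Fus.comm_a (F : Fus Q) {g t : G} (ht : t = g * z * g⁻¹) (htz : Commute t z) (hne : t ≠ z) :
    Commute t a := by
  classical
  rcases F.side with hA | ⟨hIa, hb, hinn⟩
  · exact hA t htz
  by_contra hnc
  obtain ⟨t₁, ht₁⟩ : ∃ t₁, t₁ = g * a * g⁻¹ := ⟨_, rfl⟩
  have hz1 := F.moves hIa hb hinn ht ht₁ htz hnc
  obtain ⟨-, -, hfix, m₀, hm₀, hm₀v, hm₀f⟩ := F.swap_facts ht ht₁ htz hne hnc hz1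
  obtain ⟨hW, -, -, -⟩ := F.swap_facts ht ht₁ htz hne hnc hz1
  have hzz : z = g⁻¹ * (g * z * g⁻¹) * g⁻¹⁻¹ := by group
  obtain ⟨-, hno, hfix', -⟩ := (F.conj g).swap_facts (g := g⁻¹) (t := z) (t₁ := a) hzz (by group)
    (ht ▸ htz.symm) (ht ▸ hne.symm) (ht₁ ▸ hz1) (ht ▸ hnc)
  -- an inner element of the core
  obtain ⟨m, hm, hmv, hmt⟩ : ∃ m ∈ Q.J, Q.vc m ≠ 0 ∧ Commute m t := by
    rcases hfix m₀ hm₀ hm₀f with h | h
    · exact ⟨m₀, hm₀, hm₀v, h⟩
    · exact ⟨m₀ * a, mul_mem hm₀ Q.aJ, by rwa [Q.vc_mul_zc hm₀ (Or.inr (Or.inr (Or.inl rfl)))], h⟩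
  obtain ⟨m', hm', hmv', hmt', hmi⟩ : ∃ m' ∈ Q.J, Q.vc m' ≠ 0 ∧ Commute m' t ∧ (Q.conj g).Inn m' := by
    by_cases hi : (Q.conj g).Inn m
    · exact ⟨m, hm, hmv, hmt, hi⟩
    refine ⟨m * z, mul_mem hm Q.zJ, by rwa [Q.vc_mul_zc hm (Or.inr (Or.inl rfl))], hmt.mul_left htz.symm, ?_, ?_⟩
    · exact ht ▸ hmt.mul_left htz.symm
    · exact (Q.conj g).index m z (ht ▸ hmt) (ht ▸ htz.symm) (fun w => hi ⟨ht ▸ hmt, w⟩)
        (fun w => hz1 (by rw [ht₁]; exact (Q.conj g).inn_comm ⟨ht ▸ htz.symm, w⟩))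
  have hm2 : Commute m' (g * z * g⁻¹) := ht ▸ hmt'
  have hne' : (Q.conj g).κ m' ≠ idc := fun e => hmv' (by
    rw [hW m' hm' ((Q.conj g).ker m' hm2 e) hmt', Q.vc_one])
  have hm'2 : m' * m' = 1 := (Q.sq m' hm').resolve_right fun e => hz1 (by
    have h1 := (Q.conj g).inn_comm ((Q.conj g).inn_sq (h := m') hm2)
    rw [e, ← ht₁] at h1
    exact h1)
  have hzT : Commute z (g * z * g⁻¹) := ht ▸ htz.symm
  obtain ⟨v, hv, hvne⟩ := hno _ hmi.2 ((Q.conj g).κ_invol hm2 hm'2) hne'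
    ((Q.conj g).κ_comm hm2 hzT (Q.cz m' hm'))
  obtain ⟨hv, hvf⟩ := (Q.conj g).mem_fSet.1 hv
  obtain ⟨w, hw, rfl⟩ := (Q.conj g).vc_surj v hv
  obtain ⟨w', hw', hwv, hwz⟩ : ∃ w' ∈ (Q.conj g).J, (Q.conj g).vc w' = (Q.conj g).vc w ∧ Commute w' z := by
    rcases hfix' w hw hvf with h | h
    · exact ⟨w, hw, rfl, h⟩
    · exact ⟨w * (g * a * g⁻¹), mul_mem hw (Q.conj g).aJ,
        (Q.conj g).vc_mul_zc hw (Or.inr (Or.inr (Or.inl rfl))), h⟩
  refine hvne ?_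
  rw [← hwv]
  refine (Q.conj g).fixed_of_commute hm2 hw' (mul_inv_eq_iff_eq_mul.1 (mul_inv_eq_one.1 (hW _ ?_ ?_ ?_)))
  · rw [show m' * w' * m'⁻¹ * w'⁻¹ = m' * (w' * m'⁻¹ * w'⁻¹) by group]
    exact mul_mem hm' (Q.norm w' hwz _ (inv_mem hm'))
  · exact mul_mem ((Q.conj g).norm m' hm2 w' hw') (inv_mem hw')
  · have hwt : Commute w' t := ht ▸ (Q.conj g).cz w' hw'
    exact ((hmt'.mul_left hwt).mul_left hmt'.inv_left).mul_left hwt.inv_left

end Cfsg.Lib.U62Type
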