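import Cfsg.Agent.Lib.U62Type.FourSetup
import Cfsg.Agent.Lib.U62Type.FourCore
import Mathlib.GroupTheory.Nilpotent
import Mathlib.GroupTheory.Sylow

/-!
# Sylow 2-subgroups around the 2-core
-/

set_option autoImplicit false
set_option linter.unusedSectionVars false
set_option linter.style.haveILetI false

namespace Cfsg.Lib.U62Type

variable {G : Type*} [Group G] [Finite G] {C : Cfg} {z a : G} {Q : Quad C z a}

theorem Full.other (hF : Full Q) : Full Q.other := ⟨hF.cardJ, hF.card, hF.inner, hF.self⟩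

omit [Finite G] in
/-- The centre of the core. -/
theorem Quad.zc_of_comm (Q : Quad C z a) {y : G} (hy : y ∈ Q.J) (h : ∀ j ∈ Q.J, Commute j y) : Q.Zc y :=
  Q.vc_zero y hy (Q.nondeg (Q.vc_lt y) fun u hu => by
    obtain ⟨j, hj, rfl⟩ := Q.vc_surj u hu
    rw [cform_comm]
    exact (Q.comm_iff hj hy).1 (h j hj))

theorem Full.commutes_core (hF : Full Q) {n : G} (h : ∀ j ∈ Q.J, Commute j (n * z * n⁻¹)) :
    n * z * n⁻¹ = z := by
  have hy : n * z * n⁻¹ ∈ Q.J := hF.self _ (h z Q.zJ).symm fun j hj => (h j hj).symm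
  rcases Q.zc_of_comm hy h with e | e | e | e
  · exact absurd (conj_eq_one_iff.1 e) Q.z1
  · exact e
  · exact absurd e (Q.neA n)
  · exact absurd e (Q.neB n)

/-- A 2-group containing the core centralises `z`. -/
theorem Full.two_le (hF : Full Q) {T : Subgroup G} (hT : IsPGroup 2 T) (hJT : Q.J ≤ T) {n : G} (hn : n ∈ T) :
    Commute n z := by
  classical
  haveI : Fact (Nat.Prime 2) := ⟨Nat.prime_two⟩
  haveI : Group.IsNilpotent ↥T := hT.isNilpotent
  obtain ⟨D, hD⟩ : ∃ D, D = (T ⊓ Subgroup.centralizer ({z} : Set G)).subgroupOf T := ⟨_, rfl⟩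
  have hmem : ∀ {x : T}, x ∈ D ↔ Commute (x : G) z := fun {x} => by
    rw [hD, Subgroup.mem_subgroupOf, Subgroup.mem_inf, Subgroup.mem_centralizer_singleton_iff]
    exact ⟨fun h => h.2, fun h => ⟨x.2, h.eq⟩⟩
  by_contra hnz
  have hlt : D < ⊤ := lt_top_iff_ne_top.2 fun e => hnz ((hmem (x := ⟨n, hn⟩)).1 (e ▸ Subgroup.mem_top _))
  obtain ⟨x, hx, hxD⟩ := SetLike.exists_of_lt ((Group.normalizerCondition_of_isNilpotent (G := ↥T)) D hlt)
  refine hxD (hmem.2 ?_)
  rw [Subgroup.mem_normalizer_iff] at hx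
  refine mul_inv_eq_iff_eq_mul.1 (hF.commutes_core fun j hj => conj_commute ?_)
  have h1 := (hx ⟨(x : G)⁻¹ * j * x, mul_mem (mul_mem (inv_mem x.2) (hJT hj)) x.2⟩).2 ?_
  · exact hmem.1 h1
  rw [hmem]
  push_cast
  rw [show (x : G) * ((x : G)⁻¹ * j * x) * (x : G)⁻¹ = j by group]
  exact Q.cz j hj

/-- Every 2-group centralising `a` centralises a conjugate of `z` under the centraliser of `a`. -/
theorem Full.cent (hF : Full Q) : Cent z a := by
  classical
  haveI : Fact (Nat.Prime 2) := ⟨Nat.prime_two⟩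
  intro P hP hPa
  obtain ⟨A, hA⟩ : ∃ A, A = Subgroup.centralizer ({a} : Set G) := ⟨_, rfl⟩
  have hmemA : ∀ {x}, x ∈ A ↔ Commute x a := fun {x} => by
    rw [hA, Subgroup.mem_centralizer_singleton_iff]; exact Iff.rfl
  have hJA : Q.J ≤ A := fun j hj => hmemA.2 (Q.ca j hj)
  obtain ⟨R, hR⟩ := ((Q.isPGroup_J Q.J le_rfl).comap_of_injective A.subtype Subtype.val_injective).exists_le_sylow
  have hP' : IsPGroup 2 ↥(P.subgroupOf A) := hP.comap_of_injective _ Subtype.val_injective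
  obtain ⟨S, hS⟩ := hP'.exists_le_sylow
  obtain ⟨g, hg⟩ := MulAction.exists_smul_eq ↥A R S
  refine ⟨g, hmemA.1 g.2, fun p hp => conj_commute ?_⟩
  have hpS : (⟨p, hmemA.2 (hPa p hp)⟩ : A) ∈ g • R := hg.symm ▸ hS hp
  rw [Sylow.smul_def] at hpS
  obtain ⟨r, hr, hre⟩ := hpS
  have hre' : (g : G) * r * (g : G)⁻¹ = p := congrArg Subtype.val hre
  rw [← hre', show (g : G)⁻¹ * ((g : G) * r * (g : G)⁻¹) * g = r by group]
  exact hF.two_le (R.2.map A.subtype) (fun j hj => ⟨⟨j, hJA hj⟩, hR hj, rfl⟩) ⟨r, hr, rfl⟩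

/-- A Sylow 2-subgroup containing the core. -/
theorem Full.exists_sylow (hF : Full Q) : ∃ T : Sylow 2 G, Q.J ≤ T ∧ ∀ n ∈ T, Commute n z := by
  haveI : Fact (Nat.Prime 2) := ⟨Nat.prime_two⟩
  obtain ⟨T, hT⟩ := (Q.isPGroup_J Q.J le_rfl).exists_le_sylow
  exact ⟨T, hT, fun n hn => hF.two_le T.2 hT hn⟩

/-- With `a` central in the centraliser of `z`, `a` and `a z` are not fused. -/
theorem Full.not_fused (hF : Full Q) (hA : ∀ h, Commute h z → Commute h a) (g : G) : g * a * g⁻¹ ≠ a * z := by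
  classical
  haveI : Fact (Nat.Prime 2) := ⟨Nat.prime_two⟩
  intro e
  obtain ⟨T, hJT, hTz⟩ := hF.exists_sylow
  obtain ⟨B, hB⟩ : ∃ B, B = Subgroup.centralizer ({a * z} : Set G) := ⟨_, rfl⟩
  have hTB : (T : Subgroup G) ≤ B := fun n hn => by
    rw [hB, Subgroup.mem_centralizer_singleton_iff]
    exact ((hA n (hTz n hn)).mul_right (hTz n hn)).eq
  have hgB : ((g • T : Sylow 2 G) : Subgroup G) ≤ B := by
    intro n hn
    rw [Sylow.smul_def] at hn
    obtain ⟨r, hr, rfl⟩ := hn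
    rw [hB, Subgroup.mem_centralizer_singleton_iff]
    show Commute (g * r * g⁻¹) (a * z)
    rw [← e]
    exact (Commute.conj_iff g).2 (hA r (hTz r hr))
  obtain ⟨c, hc⟩ := MulAction.exists_smul_eq ↥B ((g • T).subtype hgB) (T.subtype hTB)
  rw [Sylow.smul_subtype] at hc
  replace hc : ((c : G) * g) • T = T := by rw [mul_smul]; exact Sylow.subtype_injective hc
  have hn : Commute ((c : G) * g) z := by
    refine mul_inv_eq_iff_eq_mul.1 (hF.commutes_core fun j hj => ?_)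
    have hj' : j ∈ ((((c : G) * g) • T : Sylow 2 G) : Subgroup G) := by rw [hc]; exact hJT hj
    rw [Sylow.smul_def] at hj'
    obtain ⟨r, hr, rfl⟩ := hj'
    exact (Commute.conj_iff ((c : G) * g)).2 (hTz r hr)
  have h1 : (c : G) * g * a * ((c : G) * g)⁻¹ = a * z := by
    rw [show (c : G) * g * a * ((c : G) * g)⁻¹ = c * (g * a * g⁻¹) * (c : G)⁻¹ by group, e]
    exact mul_inv_eq_iff_eq_mul.2 (Subgroup.mem_centralizer_singleton_iff.1 (hB ▸ c.2))
  rw [mul_inv_eq_iff_eq_mul.2 (hA _ hn).eq] at h1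
  exact Q.z1 (mul_eq_left.1 h1.symm)

end Cfsg.Lib.U62Type
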