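import Cfsg.Agent.Lib.U62Type.FourChecks

/-!
# The lists evaluated
-/

set_option autoImplicit false

namespace Cfsg.Lib.U62Type

theorem move_U0 : moveChk cfgU 0 = true := by decide +kernel

theorem move_U1 : moveChk cfgU 1 = true := by decide +kernel

theorem move_P0 : moveChk cfgP 0 = true := by decide +kernel

theorem move_P1 : moveChk cfgP 1 = true := by decide +kernel

theorem move_M0 : moveChk cfgM 0 = true := by decide +kernel

theorem move_M1 : moveChk cfgM 1 = true := by decide +kernel

end Cfsg.Lib.U62Type
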