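import Cfsg.Agent.Lib.U62Type.FourTriple

/-!
# The plane fixed, first involution
-/

set_option autoImplicit false
set_option maxRecDepth 10000
set_option Elab.async false

namespace Cfsg.Lib.U62Type

theorem plane_ok0 : ((planeL cfgM).all fun v => Nat.beq (ap (oC cfgM 9241439280843457281) v) v) = true := by
  decide +kernel

theorem ptBig0 : ptBig cfgM 9241439280843457281 0 = ptList0 := by decide +kernel

theorem ptTri0 : ptTri cfgM 9241439280843457281 0 ptList0 = true := by decide +kernel

end Cfsg.Lib.U62Type
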