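import Cfsg.Agent.Lib.U62Type.FourPair

/-!
# The unitary case: commuting conjugates share a central involution
-/

set_option autoImplicit false
set_option linter.unusedSectionVars false
set_option linter.style.haveILetI false

namespace Cfsg.Lib.U62Type

variable {G : Type*} [Group G] [Finite G] {z a : G} {Q : Quad cfgU z a}

theorem Sit.u_thick {g t t₁ x : G} (S : Sit Q g t t₁ x) (hi : Q.Inn t)
    (hκ : Q.κ t = xC cfgU.gens 0) : False := by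
  classical
  obtain ⟨hpne, hcne, -, hcp, hcomm⟩ := S.codes
  obtain ⟨k, hk, -, hmem⟩ := Q.code_mem
  have hK := Q.half hi S.t2 hpne
  rw [hκ, Q.fSet_length] at hK
  have h64 : 64 ≤ (cvL cfgU 0).length := by
    have h := fourCount_ok
    simp only [fourCountChk, Bool.and_eq_true, Nat.ble_eq] at h
    exact h.1.1.1.1.1.1
  have hchk := uThick_U
  simp only [uThickChk, List.all_eq_true, Bool.or_eq_true, beq_iff_eq, Nat.blt_eq] at hchk
  have hc := ((hmem 0 (by norm_num) x S.xz (hκ ▸ hcomm)).2 (Q.κ_invol S.xz S.x2) hcne).1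
  rcases hchk k hk _ hc with e | e
  · exact hcp (e.trans hκ.symm)
  · have hsub : Q.kSet t ⊆ ((cvL cfgU 0).filter fun v => Nat.beq (ap (Q.κ x) v) v).toFinset := by
      intro v hv
      obtain ⟨hv256, hvf⟩ := Q.kSet_fix S.htz hv
      rw [hκ] at hvf
      rw [← S.kSet_x] at hv
      rw [List.mem_toFinset, List.mem_filter, nbeq_iff, mem_cvL]
      exact ⟨⟨hv256, hvf⟩, (Q.kSet_fix S.xz hv).2⟩
    have h1 := (Finset.card_le_card hsub).trans (List.toFinset_card_le _)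
    have h2 : (fxL (xC cfgU.gens 0)).length = (cvL cfgU 0).length := rfl
    omega

theorem Sit.u_thin {g t t₁ x : G} (S : Sit Q g t t₁ x)
    (hκ : Q.κ t = xC cfgU.gens 1) : False := by
  classical
  obtain ⟨hpne, hcne, -, hcp, hcomm⟩ := S.codes
  obtain ⟨k, hk, -, hmem⟩ := Q.code_mem
  have hcnt := fourCount_ok
  simp only [fourCountChk, Bool.and_eq_true, List.all_eq_true, Nat.ble_eq, nbeq_iff, List.contains_iff_mem] at hcnt
  obtain ⟨⟨⟨⟨⟨⟨-, h16⟩, hts⟩, hcl⟩, -⟩, -⟩, -⟩ := hcnt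
  -- all fixed vectors are centralised
  have hK : ∀ {v}, v ∈ cvL cfgU 1 → v ∈ Q.kSet t := fun {v} hv => by
    obtain ⟨hq, hr⟩ := hts v hv
    obtain ⟨-, w, hw, rfl⟩ := mem_rL.1 hr
    rw [← hκ] at hq ⊢
    exact (Q.rng_rule S.htz S.ta S.t2 hw).2 hq
  have hlift : ∀ {m}, m ∈ Q.J → ap (Q.κ t) (Q.vc m) = Q.vc m → Commute m t := fun {m} hm e =>
    Q.kSet_lift S.htz S.ta hm (hK (mem_cvL.2 ⟨Q.vc_lt m, hκ ▸ e⟩))
  have hspan : fixSpanChk cfgU 1 = true := span_U1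
  simp only [fixSpanChk, Bool.and_eq_true, List.all_eq_true, Bool.or_eq_true, List.any_eq_true, nbeq_iff,
    List.contains_iff_mem, vecs, List.mem_range] at hspan
  obtain ⟨-, hperp⟩ := hspan
  have hfix : ∀ v ∈ cvL cfgU 1, ap (Q.κ x) v = v := fun v hv =>
    (Q.kSet_fix S.xz (S.kSet_x.symm ▸ hK hv)).2
  have hchk := uThin2_U
  simp only [uThin2Chk, List.all_eq_true, Bool.or_eq_true, beq_iff_eq, List.any_eq_true, Bool.and_eq_true,
    Bool.not_eq_true', beq_eq_false_iff_ne, ne_eq, List.contains_iff_mem] at hchk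
  have hc := ((hmem 1 (by norm_num) x S.xz (hκ ▸ hcomm)).2 (Q.κ_invol S.xz S.x2) hcne).1
  rcases hchk k hk _ hc with ((e | ⟨v, hv, e⟩) | ⟨e, he, hne1, hne2⟩) | e
  · exact hcp (e.trans hκ.symm)
  · exact Bool.noConfusion (e.symm.trans (nbeq_iff.2 (hfix v hv)))
  · -- a lift of `e` whose square centralises `t`
    obtain ⟨hword, hce⟩ := Q.ce_spec (by norm_num : 1 < 2) he
    obtain ⟨h, hh, hhe⟩ := Q.lift_code hword
    obtain ⟨i, hi⟩ : ∃ i, i = t⁻¹ * (h * t * h⁻¹) := ⟨_, rfl⟩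
    have hht : Commute (h * t * h⁻¹) z := (hh.1.mul_left S.htz).mul_left hh.1.inv_left
    have hiJ : i ∈ Q.J := hi ▸ (Q.κ_eq_iff S.htz hht).1
      ((Q.κ_conj_fix hh.1 S.htz).2 (by rw [hhe, hκ]; exact hce.symm)).symm
    have hconj : h * t * h⁻¹ = t * i := by rw [hi, mul_inv_cancel_left]
    obtain ⟨-, w, hw, hwe⟩ : Q.vc i < 256 ∧ ∃ w < 256, ap (xC cfgU.gens 1) w ^^^ w = Q.vc i := by
      refine mem_rL.1 ((hperp _ (Q.vc_lt i)).resolve_left fun ⟨f, hf, hf1⟩ => ?_)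
      obtain ⟨hf256, hff⟩ : f < 256 ∧ ap (xC cfgU.gens 1) f = f := by simpa [fxL, vecs] using hf
      obtain ⟨l, hl, rfl⟩ := Q.vc_surj f hf256
      have hl' := Q.norm h⁻¹ hh.1.inv_left l hl
      have hl'f : ap (Q.κ t) (Q.vc (h⁻¹ * l * h⁻¹⁻¹)) = Q.vc (h⁻¹ * l * h⁻¹⁻¹) := by
        rw [Q.act h⁻¹ hh.1.inv_left l hl, hκ]
        have hh' : cm (xC cfgU.gens 1) (Q.κ h⁻¹) = cm (Q.κ h⁻¹) (xC cfgU.gens 1) := by
          have h1 := congrArg (fun y => cm (Q.κ h⁻¹) (cm y (Q.κ h⁻¹))) hce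
          simp only [← hhe] at h1
          rw [cm_assoc, cm_assoc, (Q.κ_inv hh.1).1, cm_idc (show xC cfgU.gens 1 < 2 ^ 64 from cw_lt _ _),
            ← cm_assoc (Q.κ h⁻¹) (Q.κ h), (Q.κ_inv hh.1).2, idc_cm (cm_lt _ _)] at h1
          exact h1.symm
        rw [← ap_cm, hh', ap_cm, hff]
      have h2 := (Commute.conj_iff h).2 (hlift hl' hl'f)
      rw [show h * (h⁻¹ * l * h⁻¹⁻¹) * h⁻¹ = l by group, hconj] at h2
      have h3 : Commute l i := by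
        simpa [mul_assoc] using (hlift hl (by rw [hκ]; exact hff)).inv_right.mul_right h2
      rw [cform_comm, (Q.comm_iff hl hiJ).1 h3] at hf1
      exact absurd hf1 (by norm_num)
    obtain ⟨k₀, hk₀, rfl⟩ := Q.vc_surj w hw
    obtain ⟨h', hh'⟩ : ∃ h', h' = k₀ * h := ⟨_, rfl⟩
    have hh'i : Q.Inn h' := hh' ▸ Q.inn_mul (Q.inn_J hk₀) hh
    obtain ⟨y, hy⟩ : ∃ y, y = t⁻¹ * (h' * t * h'⁻¹) := ⟨_, rfl⟩
    have hy' : h' * t * h'⁻¹ = t * y := by rw [hy, mul_inv_cancel_left]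
    have hyZ : Q.Zc y := by
      have hk1 := Q.norm t⁻¹ S.htz.inv_left k₀ hk₀
      have e1 : y = t⁻¹ * k₀ * t⁻¹⁻¹ * i * k₀⁻¹ := by
        rw [hy, hh', show k₀ * h * t * (k₀ * h)⁻¹ = k₀ * (h * t * h⁻¹) * k₀⁻¹ by group, hconj]
        group
      refine Q.vc_zero y (e1 ▸ mul_mem (mul_mem hk1 hiJ) (inv_mem hk₀)) ?_
      rw [e1, Q.vc_mul _ (mul_mem hk1 hiJ) _ (inv_mem hk₀), Q.vc_mul _ hk1 _ hiJ, Q.vc_inv hk₀,
        Q.act _ S.htz.inv_left k₀ hk₀, inv_eq_of_mul_eq_one_right S.t2, hκ, ← hwe]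
      generalize ap (xC cfgU.gens 1) (Q.vc k₀) = A
      generalize Q.vc k₀ = B
      rw [← Nat.xor_assoc, Nat.xor_self, Nat.zero_xor, Nat.xor_self]
    obtain ⟨h₂, hh₂⟩ : ∃ h₂, h₂ = h' * h' := ⟨_, rfl⟩
    have hh₂t : Commute h₂ t := by
      refine mul_inv_eq_iff_eq_mul.1 ?_
      rw [hh₂, show h' * h' * t * (h' * h')⁻¹ = h' * (h' * t * h'⁻¹) * h'⁻¹ by group, hy',
        show h' * (t * y) * h'⁻¹ = h' * t * h'⁻¹ * (h' * y * h'⁻¹) by group, hy',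
        mul_inv_eq_iff_eq_mul.2 (Q.inn_zc hh'i hyZ).eq, mul_assoc, Q.zc_sq hyZ, mul_one]
    have hh₂z : Commute h₂ z := hh₂ ▸ hh'i.1.mul_left hh'i.1
    have hh₂κ : Q.κ h₂ = cm e e := by
      rw [hh₂, Q.κ_mul hh'i.1 hh'i.1, hh', Q.κ_Jmul hh.1 hk₀, hhe]
    rcases (Q.conj g).a_move h₂ (S.ht ▸ hh₂t) with e0 | e0 <;> rw [← S.ht₁] at e0
    · have h3 : Commute h₂ x := by
        rw [S.x_eq]
        exact (show Commute h₂ t₁ from mul_inv_eq_iff_eq_mul.1 e0).mul_right hh₂t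
      have h4 := Q.κ_comm hh₂z S.xz h3
      rw [hh₂κ] at h4
      exact hne1 h4.symm
    · rw [← S.ht, ← S.x_eq] at e0
      have h5 : h₂ * x * h₂⁻¹ = x * t := by
        rw [S.x_eq, show h₂ * (t₁ * t) * h₂⁻¹ = h₂ * t₁ * h₂⁻¹ * (h₂ * t * h₂⁻¹) by group, e0,
          mul_inv_eq_iff_eq_mul.2 hh₂t.eq, S.x_eq]
      have h6 := congrArg Q.κ (mul_inv_eq_iff_eq_mul.1 h5)
      rw [Q.κ_mul hh₂z S.xz, Q.κ_mul (S.xz.mul_left S.htz) hh₂z, Q.κ_mul S.xz S.htz, hh₂κ, hκ] at h6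
      exact hne2 h6
  · -- the other class
    obtain ⟨h, hh, hhe, -, -⟩ := Q.invL_spec (List.mem_append_left _ e)
    have hxi : Q.Inn x := ⟨S.xz, hhe ▸ hh.2⟩
    have h1 := Q.half hxi S.x2 hcne
    rw [S.kSet_x, Q.fSet_length] at h1
    have h2 := hcl _ e
    have h3 : (Q.kSet t).card ≤ 16 := by
      have := Finset.card_le_card (Q.kSet_sub S.htz)
      rw [hκ, Q.fSet_length] at this
      exact this.trans (le_of_eq h16)
    omega

theorem Sit.u_outer {g t t₁ x : G} (S : Sit Q g t t₁ x) (hn : ¬ Q.Inn t) : False := by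
  classical
  -- the inner one of the other two
  obtain ⟨u, hu, hui⟩ : ∃ u, (u = x ∨ u = t₁) ∧ Q.Inn u := by
    rcases S.inn_third hn with ⟨h, -⟩ | ⟨h, -⟩
    exacts [⟨x, Or.inl rfl, h⟩, ⟨t₁, Or.inr rfl, h⟩]
  obtain ⟨hpne, hcne, hdne, -, -⟩ := S.codes
  have hu2 : u * u = 1 := by rcases hu with rfl | rfl; exacts [S.x2, S.t₁2]
  have hune : Q.κ u ≠ idc := by rcases hu with rfl | rfl <;> assumption
  obtain ⟨g₀, hg₀, j, hj, hju⟩ := S.normal hui hu2 hune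
  have S' := S.move hg₀
  obtain ⟨hpne', hcne', -, -, hcomm'⟩ := S'.codes
  obtain ⟨k, hk, -, hmem⟩ := Q.code_mem
  have hn' : ¬ WordCode cfgU.gens (Q.κ (g₀ * t * g₀⁻¹)) := fun w => hn ((S.inn_move hg₀).1 ⟨S'.htz, w⟩)
  have hpc : cm (Q.κ (g₀ * t * g₀⁻¹)) (xC cfgU.gens j) = cm (xC cfgU.gens j) (Q.κ (g₀ * t * g₀⁻¹)) := by
    rw [← hju]
    rcases hu with rfl | rfl
    · exact hcomm'.symm
    · exact Q.κ_comm S'.htz S'.t₁z S'.comm_tt₁
  have hp := ((hmem j hj _ S'.htz hpc).2 (Q.κ_invol S'.htz S'.t2) hpne').2 hn'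
  have hcase : Q.κ (g₀ * x * g₀⁻¹) = xC cfgU.gens j ∨
      Q.κ (g₀ * x * g₀⁻¹) = cm (xC cfgU.gens j) (Q.κ (g₀ * t * g₀⁻¹)) := by
    rcases hu with rfl | rfl
    · exact Or.inl hju
    · exact Or.inr (by rw [← hju, ← Q.κ_mul S'.t₁z S'.htz, ← S'.x_eq])
  obtain ⟨t', ht'⟩ : ∃ t', t' = g₀ * t * g₀⁻¹ := ⟨_, rfl⟩
  obtain ⟨x', hx'⟩ : ∃ x', x' = g₀ * x * g₀⁻¹ := ⟨_, rfl⟩
  rw [← ht'] at S' hp hn' hcase
  rw [← hx'] at S' hcase
  have hchk := uOuter_U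
  simp only [uOuterChk, List.all_eq_true, List.mem_range, Bool.and_eq_true, List.any_eq_true, nbeq_iff, vecs,
    Bool.or_eq_true, Nat.blt_eq, Bool.not_eq_true'] at hchk
  obtain ⟨hrng, hc⟩ := hchk k hk j hj _ hp
  have hcm : Q.κ x' ∈ [xC cfgU.gens j, cm (xC cfgU.gens j) (Q.κ t')] := by simpa using hcase
  have hfm : ∀ v, v ∈ fxL (Q.κ t') ↔ v < 256 ∧ ap (Q.κ t') v = v := fun v => by simp [fxL, vecs]
  -- the centralised vectors are the singular fixed ones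
  have hKeq : Q.kSet t' = ((fxL (Q.κ t')).filter fun v => Nat.beq (cfgU.q v) 0).toFinset := by
    ext v
    rw [List.mem_toFinset, List.mem_filter, nbeq_iff]
    constructor
    · intro hv
      obtain ⟨hv256, hvf⟩ := Q.kSet_fix S'.htz hv
      obtain ⟨w, hw, hwe⟩ := hrng v ((hfm v).2 ⟨hv256, hvf⟩)
      rw [← hwe] at hv ⊢
      exact ⟨(hfm _).2 ⟨hwe.symm ▸ hv256, hwe.symm ▸ hvf⟩, (Q.rng_rule S'.htz S'.ta S'.t2 hw).1 hv⟩
    · rintro ⟨hv, hq⟩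
      obtain ⟨w, hw, hwe⟩ := hrng v hv
      rw [← hwe] at hq ⊢
      exact (Q.rng_rule S'.htz S'.ta S'.t2 hw).2 hq
  rcases hc _ hcm with (⟨v, hv, hq, hmove⟩ | hlt) | ⟨w, hw, hbad⟩
  · have h1 : v ∈ Q.kSet x' := by
      rw [S'.kSet_x, hKeq, List.mem_toFinset, List.mem_filter, nbeq_iff]
      exact ⟨hv, hq⟩
    exact Bool.noConfusion (hmove.symm.trans (nbeq_iff.2 (Q.kSet_fix S'.xz h1).2))
  · have h1 := Q.quarter S'.xz S'.xa
    rw [S'.kSet_x, Q.fSet_length, hKeq, List.toFinset_card_of_nodup (List.Nodup.filter _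
      (show (fxL (Q.κ t')).Nodup from List.Nodup.filter _ List.nodup_range))] at h1
    omega
  · have hr := Q.rng_rule S'.xz S'.xa S'.x2 hw
    rw [S'.kSet_x] at hr
    rcases hbad with ⟨hq, hnot⟩ | ⟨hq, -, hq0⟩
    · obtain ⟨-, hf⟩ := Q.kSet_fix S'.htz (hr.2 hq)
      simp [hf, hq] at hnot
    · rw [hq0] at hq
      exact absurd hq (by norm_num)

/-- A commuting conjugate is reached by an element centralising `a`. -/
theorem Sit.u_false {g t t₁ x : G} (S : Sit Q g t t₁ x) : False := by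
  by_cases hi : Q.Inn t
  · obtain ⟨g₀, hg₀, j, hj, hju⟩ := S.normal hi S.t2 S.codes.1
    interval_cases j
    · exact (S.move hg₀).u_thick ((S.inn_move hg₀).2 hi) hju
    · exact (S.move hg₀).u_thin hju
  · exact S.u_outer hi

end Cfsg.Lib.U62Type
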