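import Cfsg.Agent.Lib.U62Type.FourQuot

/-!
# The unitary case on one side
-/

set_option autoImplicit false
set_option linter.unusedSectionVars false
set_option linter.style.haveILetI false

namespace Cfsg.Lib.U62Type

/-- The subgroup of index two, kept inside the group. -/
theorem outer_uni {G : Type*} [Group G] [Finite G] {C : Cfg} {z : G} {F : Frame C z} (O : Outer F) :
    Cfsg.IsIsolatedInvolution z ∨ ∃ (G₁ : Subgroup G) (hJ : F.J ≤ G₁), G₁.Normal ∧ G₁.index = 2 ∧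
      (∀ i < 4, ∃ h ∈ G₁, Commute h z ∧ F.κ h = C.gens.getD i 0) ∧ Uni (⟨z, hJ F.ext.zJ⟩ : G₁) ∧ C = cfgU ∧
      ∀ g, ∃ g₁ ∈ G₁, g₁ * z * g₁⁻¹ = g * z * g⁻¹ := by
  classical
  obtain ⟨s, hs, hns, hst⟩ := O.exists_tr
  obtain ⟨G₁, hG₁⟩ : ∃ G₁, G₁ = O.tr.ker := ⟨_, rfl⟩
  have hmem : ∀ x, x ∈ G₁ ↔ O.tr x = 1 := fun x => by rw [hG₁, MonoidHom.mem_ker]
  haveI hnorm : G₁.Normal := hG₁ ▸ MonoidHom.normal_ker _
  have hindex : G₁.index = 2 := by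
    rw [hG₁, Subgroup.index_ker, MonoidHom.range_eq_top.2 fun u => ?_, Subgroup.card_top, Nat.card_eq_fintype_card,
      Fintype.card_units_int]
    rcases Int.units_eq_one_or u with rfl | rfl
    exacts [⟨1, map_one _⟩, ⟨s, hst⟩]
  have hin : ∀ h, Commute h z → (h ∈ G₁ ↔ Inn F h) := by
    intro h hh
    refine ⟨fun hg => ?_, fun hi => (hmem h).2 (O.tr_inn hi)⟩
    by_contra hn
    have h1 : Inn F (s * h) := (O.inn_mul hs hh).2 ⟨fun hi => absurd hi hns, fun hi => absurd hi hn⟩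
    have h2 := O.tr_inn h1
    rw [map_mul, hst, (hmem h).1 hg] at h2
    exact absurd h2 (by decide)
  have hJG : F.J ≤ G₁ := fun j hj => (hmem j).2 (O.tr_J hj)
  have hgG : ∀ i < 4, ∃ h ∈ G₁, Commute h z ∧ F.κ h = C.gens.getD i 0 := fun i hi => by
    obtain ⟨h, hh, he⟩ := F.gens i hi
    exact ⟨h, (hin h hh).2 ⟨hh, he ▸ wordCode_gen F.std hi⟩, hh, he⟩
  have hrep : ∀ g, ∃ g₁ ∈ G₁, g₁ * z * g₁⁻¹ = g * z * g⁻¹ := fun g => by
    by_cases hgG₁ : g ∈ G₁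
    · exact ⟨g, hgG₁, rfl⟩
    · refine ⟨g * s, ?_, by rw [show g * s * z * (g * s)⁻¹ = g * (s * z * s⁻¹) * g⁻¹ by group,
        mul_inv_eq_iff_eq_mul.2 hs.eq]⟩
      have hg' : O.tr g = -1 := (Int.units_eq_one_or _).resolve_left fun e => hgG₁ ((hmem g).2 e)
      rw [hmem, map_mul, hst, hg']
      decide
  obtain ⟨K₁, hK₁, hK₁m, -⟩ := O.inn_index
  have hc : Nat.card ↥(Subgroup.centralizer ({(⟨z, hJG F.ext.zJ⟩ : G₁)} : Set G₁)) = 512 * 25920 := by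
    rw [card_centralizer_sub, ← hK₁]
    congr 1
    refine congrArg (fun P : Subgroup G => ↥P) (SetLike.ext fun x => ?_)
    rw [Subgroup.mem_inf, Subgroup.mem_centralizer_singleton_iff, hK₁m]
    exact ⟨fun h => (hin x h.2).1 h.1, fun h => ⟨(hin x h.1).2 h, h.1⟩⟩
  rcases dichotomy (F.restrict G₁ hJG hgG) hc with h | h
  · left
    refine ⟨orderOf_eq_prime (by rw [pow_two]; exact F.ext.z2) F.ext.z1, fun g hg => ?_⟩
    obtain ⟨g₁, hg₁, he⟩ := hrep g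
    have := congrArg Subtype.val (h.2 ⟨g₁, hg₁⟩ (Subtype.ext (show z * (g₁ * z * g₁⁻¹) = g₁ * z * g₁⁻¹ * z by
      rw [he]; exact hg.eq)))
    exact he ▸ this
  · refine Or.inr ⟨G₁, hJG, hnorm, hindex, hgG, h, ?_, hrep⟩
    rcases list_cases F.std with e | e
    · exact e
    · obtain ⟨t, ht⟩ := h.more
      exact absurd ((F.restrict G₁ hJG hgG).isolated_orth e hc ht.1 ht.2.1) ht.2.2

variable {G : Type*} [Group G] [Finite G] {z a : G}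

/-- The conjugate `t` lies over the first listed involution. -/
def Over (Q : Quad cfgU z a) (g : G) : Prop :=
  Commute g a ∧ Commute (g * z * g⁻¹) z ∧ g * z * g⁻¹ ≠ z ∧ Q.κ (g * z * g⁻¹) = xC gensU 0

/-- The members over the first listed involution. -/
structure Thick (Q : Quad cfgU z a) : Prop where
  more : ∃ g, Over Q g
  gam : ∀ g, Over Q g → ∀ j ∈ Q.J, Q.vc j ∈ cvL cfgU 0 →
    Commute (g * z * g⁻¹) j ∨ g * z * g⁻¹ * j * (g * z * g⁻¹)⁻¹ = j * a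
  mate : ∀ g, Over Q g → ∃ u, Commute u a ∧ u * z * u⁻¹ ≠ z ∧ ∃ j ∈ Q.J, z * (g * z * g⁻¹) = u * j * u⁻¹

/-- The members in the subgroup of index two. -/
theorem Full.thick {Q : Quad cfgU z a} (hF : Full Q) (hA : ∀ h, Commute h z → Commute h a)
    (hI : ¬ Iso z a) : Thick Q := by
  classical
  obtain ⟨Fq, hFq⟩ : ∃ Fq, Fq = Q.quot hF.cardJ := ⟨_, rfl⟩
  have O : Outer Fq := hFq ▸ hF.outer_quot hA
  rcases outer_uni O with h | ⟨G₁, hJ, hn, -, hgG, hU, -, hrep⟩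
  · exact absurd (Quad.iso_of_isolated h) hI
  haveI := hn
  obtain ⟨F', hF'⟩ : ∃ F', F' = Fq.restrict G₁ hJ hgG := ⟨_, rfl⟩
  have hzG : Q.zq ∈ G₁ := hJ Fq.ext.zJ
  have hκ : ∀ {x : G} (hx : Commute x a) (h : qmk a x hx ∈ G₁), Commute x z → F'.κ ⟨qmk a x hx, h⟩ = Q.κ x := by
    intro x hx h hxz
    rw [hF']
    show Fq.κ (qmk a x hx) = Q.κ x
    rw [hFq]
    exact Q.quot_κ hF.cardJ hx hxz
  -- from the group to the subgroup
  have hdown : ∀ g, Over Q g → ∃ (hg : Commute (g * z * g⁻¹) a) (h : qmk a (g * z * g⁻¹) hg ∈ G₁),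
      Nb (⟨Q.zq, hzG⟩ : G₁) ⟨qmk a (g * z * g⁻¹) hg, h⟩ ∧ F'.κ ⟨qmk a (g * z * g⁻¹) hg, h⟩ = xC gensU 0 := by
    rintro g ⟨hga, hgz, hne, he⟩
    have hgt : Commute (g * z * g⁻¹) a := (hga.mul_left Q.za).mul_left hga.inv_left
    refine ⟨hgt, ?_, ⟨?_, Subtype.ext ?_, fun e => hne ?_⟩, (hκ hgt _ hgz).trans he⟩
    · rw [← Q.conj_zq hga]; exact hn.conj_mem _ hzG _
    · obtain ⟨g₁, hg₁, e⟩ := hrep (qmk a g hga)
      exact ⟨⟨g₁, hg₁⟩, Subtype.ext (e.trans (Q.conj_zq hga))⟩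
    · exact ((Q.commute_zq hgt).2 hgz).eq
    · exact ((Q.zq_eq hgt).1 (congrArg Subtype.val e)).resolve_right (Q.neB g)
  refine ⟨?_, ?_, ?_⟩
  · obtain ⟨t₀, ht₀⟩ := hU.more
    obtain ⟨g', hg', T, P, he, -⟩ := F'.normalise hU ht₀
    obtain ⟨⟨g, hgG'⟩, hge⟩ := (ht₀.conj hg').1
    obtain ⟨g, hga, rfl⟩ := qmk_surj g
    have hval : qmk a g hga * Q.zq * (qmk a g hga)⁻¹ = ((g' * t₀ * g'⁻¹ : G₁) : CQ a) := congrArg Subtype.val hge
    have hta : Commute (g * z * g⁻¹) a := (hga.mul_left Q.za).mul_left hga.inv_left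
    have hte : qmk a (g * z * g⁻¹) hta = ((g' * t₀ * g'⁻¹ : G₁) : CQ a) := (Q.conj_zq hga).symm.trans hval
    have hgz : Commute (g * z * g⁻¹) z := (Q.commute_zq hta).1 (by
      rw [hte]; exact congrArg Subtype.val (ht₀.conj hg').2.1.eq)
    refine ⟨g, hga, hgz, fun e => (ht₀.conj hg').2.2 (Subtype.ext ?_), ?_⟩
    · rw [← hte]; exact (Q.zq_eq _).2 (Or.inl e)
    · rw [← hκ hta (hte ▸ (g' * t₀ * g'⁻¹ : G₁).2) hgz, ← he]
      exact congrArg F'.κ (Subtype.ext hte)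
  · intro g hg j hj hv
    obtain ⟨hgt, hmem, hnb, he⟩ := hdown g hg
    obtain ⟨-, T, P, hT⟩ := F'.nb_pair hU (k := 0) (by norm_num) hnb he
    have hja := Q.ca j hj
    have hjG : qmk a j hja ∈ G₁ := hJ (by rw [hFq]; exact (Q.mem_qJ hja).2 hj)
    have hvj : F'.vc ⟨qmk a j hja, hjG⟩ = Q.vc j := by
      rw [hF']
      show Fq.vc (qmk a j hja) = Q.vc j
      rw [hFq]
      exact Q.quot_vc hF.cardJ hj
    have h1 := P.thick_gam he hT (j := ⟨qmk a j hja, hjG⟩)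
      (by rw [hF']; show qmk a j hja ∈ Fq.J; rw [hFq]; exact (Q.mem_qJ hja).2 hj) (by rw [hvj]; exact hv)
    have h2 : qmk a (g * z * g⁻¹ * j) (hgt.mul_left hja) = qmk a (j * (g * z * g⁻¹)) (hja.mul_left hgt) :=
      congrArg Subtype.val h1.eq
    rcases (qmk_eq Q.a2 _ _).1 h2 with e | e
    · exact Or.inl e.symm
    · right
      rw [mul_inv_eq_iff_eq_mul, mul_assoc j, ← (hgt).eq, ← mul_assoc, e, mul_assoc _ a a, Q.a2, mul_one]
  · intro g hg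
    obtain ⟨hgt, hmem, hnb, he⟩ := hdown g hg
    obtain ⟨t, ht⟩ : ∃ t : G₁, t = ⟨qmk a (g * z * g⁻¹) hgt, hmem⟩ := ⟨_, rfl⟩
    rw [← ht] at hnb he
    obtain ⟨p, q, r, hnd, hfib, -⟩ := F'.nb_four hU hnb
    obtain ⟨hp, hpκ⟩ := (hfib p).2 (by simp)
    have hpt : p ≠ t := fun e => by simp [e] at hnd
    obtain ⟨gu, hgu⟩ := hp.1
    subst hgu
    have hUu := hU.move hp.1
    have hln := (F'.ln_at hU hp (p := t)).2 (Or.inr ⟨hnb, hpκ.symm⟩)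
    have hln' : t ∈ Cfsg.Lib.Fischer.Polar.ln (mems (gu * ⟨Q.zq, hzG⟩ * gu⁻¹)) (gu * ⟨Q.zq, hzG⟩ * gu⁻¹)
        (⟨Q.zq, hzG⟩ : G₁) := by
      rw [mems_eq hp.1]
      exact ⟨hln.1, fun d hd => hln.2 d ⟨hd.1, hd.2.2, hd.2.1⟩⟩
    have hzu : Nb (gu * (⟨Q.zq, hzG⟩ : G₁) * gu⁻¹) ⟨Q.zq, hzG⟩ := ⟨hp.1.symm, hp.2.1.symm, hp.2.2.symm⟩
    rcases ((F'.conj gu).ln_at hUu hzu).1 hln' with e | ⟨htu, eκ⟩
    · exact absurd e.symm hpt
    obtain ⟨x, hx, hxe⟩ := ((F'.conj gu).κ_eq_iff hzu.2.1 htu.2.1).1 eκ.symm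
    obtain ⟨gu, hguG⟩ := gu
    obtain ⟨u, hua, rfl⟩ := qmk_surj gu
    have hxJ : (x : CQ a) ∈ Q.qJ := by
      rw [hF'] at hx
      have h' : (x : CQ a) ∈ Fq.J := hx
      rwa [hFq] at h'
    obtain ⟨j, hj, hje⟩ := Q.qJ_rep hxJ
    have hval : qmk a u hua * (x : CQ a) * (qmk a u hua)⁻¹ = (Q.zq)⁻¹ * (t : CQ a) := congrArg Subtype.val hxe
    rw [← hje, ht] at hval
    have hval' : qmk a (u * j * u⁻¹) ((hua.mul_left (Q.ca j hj)).mul_left hua.inv_left) =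
        qmk a (z⁻¹ * (g * z * g⁻¹)) (Q.za.inv_left.mul_left hgt) := hval
    refine ⟨u, hua, fun e => hp.2.2 (Subtype.ext ?_), ?_⟩
    · show qmk a u hua * Q.zq * (qmk a u hua)⁻¹ = Q.zq
      rw [Q.conj_zq hua]; exact (Q.zq_eq _).2 (Or.inl e)
    rcases (qmk_eq Q.a2 _ _).1 hval' with e | e <;> rw [Q.z_inv] at e
    · exact ⟨j, hj, e⟩
    · refine ⟨j * a, mul_mem hj Q.aJ, e.trans ?_⟩
      rw [mul_assoc (u * j), hua.inv_left.eq]
      group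

/-- A conjugate by either centraliser. -/
theorem Quad.same_conj {C : Cfg} (Q : Quad C z a) (hA : ∀ h, Commute h z → Commute h a) {g h : G}
    (hg : Commute g a) (hh : Commute h (a * z)) (e : g * z * g⁻¹ = h * z * h⁻¹) : g * z * g⁻¹ = z := by
  have hc : Commute (g⁻¹ * h) z := mul_inv_eq_iff_eq_mul.1 (by
    rw [show g⁻¹ * h * z * (g⁻¹ * h)⁻¹ = g⁻¹ * (h * z * h⁻¹) * g by group, ← e]; group)
  have hha : Commute h a := by
    have := hg.mul_left (hA _ hc)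
    rwa [mul_inv_cancel_left] at this
  have hhz : Commute h z := by
    have := hha.mul_right hh
    rwa [← mul_assoc, Q.a2, one_mul] at this
  rw [e]; exact mul_inv_eq_iff_eq_mul.2 hhz.eq

/-- The members commute exactly with the lifts. -/
theorem Thick.gam' {Q : Quad cfgU z a} (L : Thick Q) {g : G} (hg : Over Q g) {j : G} (hj : j ∈ Q.J)
    (hv : Q.vc j ∈ cvL cfgU 0) : Commute (g * z * g⁻¹) j := by
  refine (L.gam g hg j hj hv).resolve_right fun e => ?_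
  obtain ⟨-, hgz, -, he⟩ := hg
  have h2 : g * z * g⁻¹ * (g * z * g⁻¹) = 1 := by
    rw [show g * z * g⁻¹ * (g * z * g⁻¹) = g * (z * z) * g⁻¹ by group, Q.z2, mul_one, mul_inv_cancel]
  have hne : Q.κ (g * z * g⁻¹) ≠ idc := by
    rw [he]; exact (xC_sq gensU (by simp) 0 (by norm_num)).2
  have hd := Q.inner_defect (u := g * z * g⁻¹) ⟨hgz, by rw [he]; exact ⟨xW 0, xW_lt 0 (by norm_num), rfl⟩⟩ h2 hne hj
    (by rw [he]; exact (mem_cvL.1 hv).2)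
  rw [e, inv_mul_cancel_left] at hd
  exact hd.elim Q.a1 Q.az

/-- Only one side is unitary. -/
theorem Thick.not_both {Q : Quad cfgU z a} (F : Fus Q) (hA : ∀ h, Commute h z → Commute h a) (L : Thick Q)
    (L' : Thick Q.other) : False := by
  obtain ⟨g, hg⟩ := L.more
  obtain ⟨h, hh⟩ := L'.more
  obtain ⟨t', ht'⟩ : ∃ t', t' = h * z * h⁻¹ := ⟨_, rfl⟩
  have ht'z : Commute t' z := ht' ▸ hh.2.1
  have hdJ : (g * z * g⁻¹)⁻¹ * t' ∈ Q.J := (Q.κ_eq_iff hg.2.1 ht'z).1 (by rw [hg.2.2.2, ht']; exact hh.2.2.2.symm)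
  have hR : Q.vc ((g * z * g⁻¹)⁻¹ * t') ∈ rL cfgU 0 := by
    refine perp_R _ (Q.vc_lt _) fun v hv => ?_
    obtain ⟨j, hj, rfl⟩ := Q.vc_surj v (mem_cvL.1 hv).1
    refine (Q.comm_iff hdJ hj).1 ((L.gam' hg hj hv).inv_left.mul_left ?_)
    rw [ht']
    exact L'.gam' hh hj hv
  obtain ⟨-, v, hv, hve⟩ := mem_rL.1 hR
  obtain ⟨k, hk, rfl⟩ := Q.vc_surj v hv
  obtain ⟨t, ht⟩ : ∃ t, t = g * z * g⁻¹ := ⟨_, rfl⟩
  rw [← ht] at hdJ hve
  have htz : Commute t z := ht ▸ hg.2.1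
  have ht2 : t⁻¹ = t := by rw [ht, mul_inv_rev, mul_inv_rev, inv_inv, Q.z_inv, mul_assoc]
  obtain ⟨e, he⟩ : ∃ e, e = t⁻¹ * k * t⁻¹⁻¹ * k⁻¹ := ⟨_, rfl⟩
  have heJ : e ∈ Q.J := he ▸ mul_mem (Q.norm _ htz.inv_left k hk) (inv_mem hk)
  have hev : Q.vc e = Q.vc (t⁻¹ * t') := by
    rw [← hve, he, Q.vc_mul _ (Q.norm _ htz.inv_left k hk) _ (inv_mem hk), Q.vc_inv hk, Q.act _ htz.inv_left k hk,
      ht2, ht, hg.2.2.2]
    rfl
  -- the conjugate under the core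
  have hg₂ : k * g * z * (k * g)⁻¹ = t * e := by rw [he, ht]; group
  have hover : Over Q (k * g) := by
    refine ⟨(Q.ca k hk).mul_left hg.1, ?_, fun hz => hg.2.2.1 ?_, ?_⟩
    · rw [hg₂]; exact htz.mul_left (Q.cz e heJ)
    · rw [show k * g * z * (k * g)⁻¹ = k * (g * z * g⁻¹) * k⁻¹ by group] at hz
      exact mul_left_cancel (mul_right_cancel (hz.trans (mul_inv_eq_iff_eq_mul.2 (Q.cz k hk).eq).symm))
    · rw [hg₂, Q.κ_mulJ htz heJ, ht]; exact hg.2.2.2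
  have hy : Q.Zc (e⁻¹ * (t⁻¹ * t')) := Q.vc_eq heJ hdJ hev
  obtain ⟨y, hye⟩ : ∃ y, y = e⁻¹ * (t⁻¹ * t') := ⟨_, rfl⟩
  rw [← hye] at hy
  obtain ⟨T, hT⟩ : ∃ T, T = k * g * z * (k * g)⁻¹ := ⟨_, rfl⟩
  have hty : t' = T * y := by rw [hye, hT, hg₂]; group
  have hTz : Commute T z := hT ▸ hover.2.1
  have hTa : Commute T a := hT ▸ ((hover.1.mul_left Q.za).mul_left hover.1.inv_left)
  have hne : t' ≠ z := ht' ▸ hh.2.2.1
  -- in the core of a third member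
  have key : ∀ {u w : G}, Commute u a → u * z * u⁻¹ ≠ z → w ∈ Q.J → t' = u * w * u⁻¹ → False := by
    intro u w hua hu hw hwe
    have h1 : h * u⁻¹ * (u * z * u⁻¹) * (h * u⁻¹)⁻¹ = t' := by rw [ht']; group
    have h2 := (F.conj u).no_inside (g := h * u⁻¹) (by rw [h1]; exact ⟨w, hw, hwe.symm⟩)
    rw [h1, ht'] at h2
    exact hu (Q.same_conj hA hua hh.1 h2.symm)
  rcases hy with e' | e' | e' | e'
  · rw [e', mul_one, hT, ht'] at hty
    exact hover.2.2.1 (Q.same_conj hA hover.1 hh.1 hty.symm)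
  · obtain ⟨u, hua, hu, j, hj, hje⟩ := L.mate _ hover
    rw [← hT] at hje
    exact key hua hu hj (by rw [hty, e', hTz.eq, hje])
  · obtain ⟨u, hua, hu, j, hj, hje⟩ := L'.mate _ hh
    rw [← ht', hty, e'] at hje
    have h1 : T = u * (j * (a * z)) * u⁻¹ := by
      rw [show u * (j * (a * z)) * u⁻¹ = u * j * u⁻¹ * (u * (a * z) * u⁻¹) by group, ← hje,
        mul_inv_eq_iff_eq_mul.2 hua.eq]
      calc T = T * (a * a) * (z * z) := by rw [Q.a2, Q.z2, mul_one, mul_one]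
        _ = z * (T * a) * (a * z) := by
          rw [← mul_assoc z, ← hTz.eq, mul_assoc T z a, Q.za.eq]
          simp only [mul_assoc]
          rw [← mul_assoc z a z, Q.za.eq, mul_assoc a z z]
    have h3 : k * g * u⁻¹ * (u * z * u⁻¹) * (k * g * u⁻¹)⁻¹ = T := by rw [hT]; group
    have h2 := (F.other.conj u).no_inside (g := k * g * u⁻¹) (by rw [h3]; exact ⟨_, mul_mem hj Q.azJ, h1.symm⟩)
    rw [h3, hT] at h2
    exact hover.2.2.1 (Q.same_conj hA hover.1 hua h2)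
  · obtain ⟨u, hua, hu, j, hj, hje⟩ := L.mate _ hover
    rw [← hT] at hje
    refine key hua hu (mul_mem hj Q.aJ) ?_
    rw [hty, e', show u * (j * a) * u⁻¹ = u * j * u⁻¹ * (u * a * u⁻¹) by group, ← hje,
      mul_inv_eq_iff_eq_mul.2 hua.eq, ← hTz.eq, mul_assoc T, Q.za.eq]

end Cfsg.Lib.U62Type
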