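import Cfsg.Agent.Lib.U62Type.Coord

/-!
# Only one map can be the fourth generator
-/

set_option autoImplicit false

namespace Cfsg.Lib.U62Type

/-- The code of a word. -/
def cwT (t : ℕ) (w : List ℕ) : ℕ := cw (tGens t) w

/-- The map determined by the images of the first two basis vectors, commuting with the translations. -/
def gCode (t x y : ℕ) : ℕ :=
  mkc fun j =>
    if j < 2 * tN t then
      ap (cwT t ((tP t).getD (j / 2) [])) ([x, y, x ^^^ y].getD (eW t (j / 2) (j % 2 + 1)) 0)
    else 2 ^ j

/-- The requirements on the fourth generator. -/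
def gOK (t : ℕ) (q : ℕ → ℕ) (g : ℕ) : Bool :=
  let s := (tGens t).getD 1 0
  cm g g == idc && cm g s == cm s g && vecs.all (fun v => q (ap g v) == q v) &&
    cw ((tGens t).take 3 ++ [g]) (pW [3, 0] 4) == idc && cw ((tGens t).take 3 ++ [g]) (pW [3, 2, 0] 5) == idc

/-- The fourth generator is forced. -/
def gChk (t : ℕ) (q : ℕ → ℕ) : Bool :=
  let fx := (tS t).map (cwT t)
  let fy := (fx.take 2)
  let X := vecs.filter fun v => fx.all fun f => ap f v == v
  let Y := vecs.filter fun v => fy.all fun f => ap f v == v
  X.all fun x => Y.all fun y => !gOK t q (gCode t x y) || gCode t x y == (tGens t).getD 3 0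

theorem gChk_U : gChk 0 qU = true := by decide +kernel

theorem gChk_P : gChk 1 qP = true := by decide +kernel

theorem gChk_M : gChk 1 qU = true := by decide +kernel

/-- The translations commute with the fourth generator, and the stabiliser of the base vector too. -/
def gComm : Bool :=
  (List.range 2).all fun t =>
    (tP t ++ tS t).all (fun w => meq ([3] ++ w) (w ++ [3])) &&
    (List.range (tS t).length).all (fun k =>
      let f := (tS t).getD k []
      meq (f ++ f) [] &&
      (List.range 2).all (fun b => (List.range 9).any fun e =>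
        meq (tK t b ++ f) (f ++ (pW (tK t 0) (e % 3) ++ pW (tK t 1) (e / 3)))) &&
      (List.range 9).any (fun e =>
        meq (tM t ++ f) (f ++ (pW (tK t 0) (e % 3) ++ (pW (tK t 1) (e / 3) ++ pW (tM t) (if k == 2 then 2 else 1))))))

theorem gComm_true : gComm = true := by decide +kernel

/-- The word for an element centralising an element whose fixed vectors are those of the subgroup. -/
def hW : List ℕ := [2, 3, 0, 0, 2, 1, 2, 0, 3]

/-- The element centralised. -/
def zW : List ℕ := [0, 2, 0, 2, 2, 2, 2, 0, 2, 2, 2]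

/-- The fourth generator in terms of the first three and `hW`. -/
def g3W : List ℕ := hW ++ [2] ++ hW ++ [0, 0, 2] ++ hW ++ [2, 0, 2] ++ hW

/-- The relations used for the fixed plane. -/
def planeRels : Bool :=
  meq [1, 1] [] && meq [3, 3] [] && meq [3, 2] [2, 3] && meq [3, 1] [1, 3] && meq (pW [2] 4) [] &&
  meq (pW [3, 2, 0] 5) [] && meq (pW [3, 1, 0] 3) [] && meq (pW [0, 1, 2, 3] 9) [] &&
  meq (pW [3, 0] 4) [] &&
  meq [3] g3W && meq (zW ++ hW) (hW ++ zW) &&
  (List.range 3).all (fun x => [1, 2].all fun i => (List.range 27).any fun e =>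
    meq (aW x ++ [i]) ([i] ++ (pW (aW 0) (e % 3) ++ (pW (aW 1) (e / 3 % 3) ++ pW (aW 2) (e / 9))))) &&
  ((List.range 27).any fun e => meq zW (pW (aW 0) (e % 3) ++ (pW (aW 1) (e / 3 % 3) ++ pW (aW 2) (e / 9)))) &&
  (List.range 3).all (fun i =>
    let p := (tP 1).getD i []
    (List.range 27).any fun e =>
      meq (zW ++ p) (p ++ (pW (tK 1 0) (e % 3) ++ (pW (tK 1 1) (e / 3 % 3) ++ pW (tM 1) (e / 9)))) &&
        e / 9 != 0)

theorem planeRels_true : planeRels = true := by decide +kernel

end Cfsg.Lib.U62Type
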