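import Cfsg.Agent.Lib.U62Type.Tables

/-!
# The transvections: commutation, directions, generation
-/

set_option autoImplicit false

namespace Cfsg.Lib.U62Type

/-- For each transvection, the mask of those commuting with it. -/
def adjT : List ℕ := [
  31090230428673, 3456379281730, 56690483988, 26973133750344, 55240032436, 20274478580272, 2216376995914,
  14844644360848, 1171100058886, 29759828730532, 9706761399553, 3857698008064, 4746250506304, 692564930054,
  19557141991690, 253610788096, 10076027982528, 13402244263946, 4413213909581, 1512250804328, 552005090416,
  18697442330625, 7168390627522, 2488539306128, 5360711106980, 17593850204485, 8803146956856, 69936645592,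
  5618088417300, 11004369045772, 17730877137043, 5508363993395, 279254987268, 6780151498753, 11321806423127,
  18339778904092, 24258378110752, 456357814306, 9229910430753, 22574370155656, 9898023275394, 19886248036962,
  5027549024385, 10188266604169, 20445153739305]

/-- For each transvection, its three directions. -/
def rT : List (List ℕ) := [
  [85, 170, 255], [94, 167, 249], [91, 173, 246], [121, 158, 231], [6, 11, 13], [109, 182, 219], [7, 9, 14],
  [118, 155, 237], [122, 159, 229], [24, 44, 52], [5, 10, 15], [106, 191, 213], [103, 185, 222], [111, 181, 218],
  [28, 36, 56], [127, 149, 234], [110, 183, 217], [18, 35, 49], [119, 153, 238], [126, 151, 233], [96, 176, 208],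
  [20, 40, 60], [87, 169, 254], [123, 157, 230], [19, 33, 50], [105, 190, 215], [107, 189, 214], [112, 144, 224],
  [86, 171, 253], [72, 140, 196], [125, 150, 235], [102, 187, 221], [67, 129, 194], [17, 34, 51], [80, 160, 240],
  [93, 166, 251], [117, 154, 239], [76, 132, 200], [95, 165, 250], [101, 186, 223], [66, 131, 193],
  [89, 174, 247], [68, 136, 204], [90, 175, 245], [65, 130, 195]]

/-- The generators as products of transvections. -/
def genT : List (List ℕ) := [
  [4, 10], [10], [10, 21, 34], [0]]

/-- The basis as sums of directions. -/
def spanT : List (List (ℕ × ℕ)) := [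
  [(0, 85), (1, 94), (1, 167), (2, 173)], [(0, 170), (1, 94), (2, 91), (2, 173)],
  [(0, 85), (1, 167), (2, 91), (2, 173)], [(0, 170), (1, 94), (1, 167), (2, 91)],
  [(0, 85), (1, 94), (1, 167), (2, 91), (3, 121), (3, 158)], [(0, 170), (1, 94), (2, 173), (3, 121)],
  [(1, 167), (3, 121), (3, 158)], [(1, 94), (1, 167), (3, 121)]]

end Cfsg.Lib.U62Type
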