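import Cfsg.Agent.Lib.U62Type.GlobalData

/-!
# The polar geometry of the transvections
-/

set_option autoImplicit false
set_option Elab.async false

namespace Cfsg.Lib.U62Type

/-- A transvection by its number. -/
def cl (i : ℕ) : ℕ := clU0.getD i 0

/-- Two transvections commute. -/
def adjB (i j : ℕ) : Bool := Nat.beq (bit (adjT.getD i 0) j) 1

/-- The numbers of the transvections. -/
def idx : List ℕ := List.range 45

/-- The list has no `n` pairwise commuting entries. -/
def noClique : ℕ → List ℕ → Bool
  | 0, _ => false
  | n + 1, l => l.all fun a => noClique n (l.filter fun b => !(Nat.beq a b) && adjB a b)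

/-- The commutation table. -/
def adjChk : Bool := idx.all fun i => idx.all fun j => adjB i j == (cm (cl i) (cl j) == cm (cl j) (cl i))

/-- The direction table. -/
def rngChk : Bool :=
  idx.all fun i => vecs.all fun v =>
    Nat.beq (ap (cl i) v ^^^ v) 0 || (rT.getD i []).contains (ap (cl i) v ^^^ v)

/-- Commuting transvections: different directions, product no transvection, perps differ. -/
def commChk : Bool :=
  idx.all fun i => idx.all fun j => Nat.beq i j || !(adjB i j) ||
    (!((rT.getD i []).any fun r => (rT.getD j []).contains r) &&
      !(clU0.contains (cm (cl i) (cl j))) && !(Nat.beq (cm (cl i) (cl j)) idc) &&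
      idx.any fun k => adjB i k && !(adjB j k))

/-- Non-commuting transvections braid, and the third one's directions are moved. -/
def braidChk : Bool :=
  idx.all fun i => idx.all fun j => adjB i j ||
    (cm (cm (cl i) (cl j)) (cl i) == cm (cm (cl j) (cl i)) (cl j) &&
      idx.any fun k => cl k == cm (cm (cl i) (cl j)) (cl i) && (rT.getD k []).all fun r => !(Nat.beq (ap (cl i) r) r))

/-- The polar space of rank two. -/
def quadChk : Bool :=
  idx.all (fun i => idx.any fun j => !(adjB i j)) &&
    idx.all (fun i => idx.all fun j => idx.any fun k => adjB i k && adjB j k) &&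
    idx.all fun i => idx.all fun j => adjB i j ||
      noClique 4 (idx.filter fun k => adjB i k && !(Nat.beq i k) && !(adjB j k))

/-- A neighbour of the first that is none of the second. -/
def splitChk : Bool :=
  idx.all fun i => idx.all fun j => adjB i j || idx.any fun k => !(Nat.beq k i) && adjB i k && !(adjB j k)

/-- Generators and basis. -/
def genChk : Bool :=
  (List.range 4).all (fun g => (genT.getD g []).all (fun i => Nat.blt i 45) &&
    Nat.beq (gensU.getD g 0) ((genT.getD g []).foldr (fun i k => cm (cl i) k) idc)) &&
  (List.range 8).all (fun b => (spanT.getD b []).all (fun p => Nat.blt p.1 45 && (rT.getD p.1 []).contains p.2) &&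
    Nat.beq (2 ^ b) ((spanT.getD b []).foldr (fun p v => p.2 ^^^ v) 0)) &&
  idx.all (fun i => (rT.getD i []).all fun r => vecs.any fun v => Nat.beq (ap (cl i) v ^^^ v) r)

theorem adj_ok : adjChk = true := by decide +kernel

theorem rng_ok : rngChk = true := by decide +kernel

theorem comm_ok : commChk = true := by decide +kernel

theorem braid_ok : braidChk = true := by decide +kernel

theorem quad_ok : quadChk = true := by decide +kernel

theorem split_ok : splitChk = true := by decide +kernel

theorem gen_ok : genChk = true := by decide +kernel

end Cfsg.Lib.U62Type
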