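import Cfsg.Agent.Lib.U62Type.Tables

/-!
# Half of the fixed vectors of an involution contain a non-singular vector
-/

set_option autoImplicit false

namespace Cfsg.Lib.U62Type

/-- A basis of the fixed vectors. -/
def fxBasis (C : Cfg) (k : ℕ) : ℕ :=
  let step (acc : List ℕ) (v : ℕ) : List ℕ :=
    if (List.range (2 ^ acc.length)).any fun n => ap (mkc fun i => acc.getD i 0) n == v then acc else acc ++ [v]
  mkc fun i => ((cvL C k).foldl step []).getD i 0

/-- Every hyperplane of the fixed vectors has a non-singular vector. -/
def sqChk (C : Cfg) (k : ℕ) : Bool :=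
  (List.range 64).all (fun n => (cvL C k).contains (ap (fxBasis C k) n)) &&
    (List.range 64).all fun m => (List.range 64).any fun n =>
      Nat.beq (ap (mkc fun i => bit m i) n) 0 && Nat.beq (C.q (ap (fxBasis C k) n)) 1

theorem sq_U0 : sqChk cfgU 0 = true := by decide +kernel

theorem sq_P0 : sqChk cfgP 0 = true := by decide +kernel

theorem sq_P1 : sqChk cfgP 1 = true := by decide +kernel

theorem sq_M0 : sqChk cfgM 0 = true := by decide +kernel

theorem sq_M1 : sqChk cfgM 1 = true := by decide +kernel

end Cfsg.Lib.U62Type
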