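import Cfsg.Agent.Lib.U62Type.Pair
import Cfsg.Agent.Lib.U62Type.SquareChecks
import Cfsg.Agent.Lib.U62Type.ActionChecks

/-!
# The functional on fixed vectors
-/

set_option autoImplicit false
set_option linter.unusedSectionVars false
set_option linter.style.haveILetI false

namespace Cfsg.Lib.U62Type

variable {G : Type*} [Group G] [Finite G] {C : Cfg} {z : G}

/-- Whether the elements over a vector commute with `t`. -/
noncomputable def Frame.gam (F : Frame C z) (t : G) (v : ℕ) : ℕ := by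
  classical exact if ∃ a ∈ F.J, F.vc a = v ∧ Commute a t then 0 else 1

variable {t : G} {F : Frame C z} {T : Frame C t}

namespace Pair

variable (P : Pair F T)

include P

theorem comm_of_vc {a b : G} (ha : a ∈ F.J) (hb : b ∈ F.J) (e : F.vc a = F.vc b) (h : Commute a t) :
    Commute b t := by
  rcases F.vc_eq ha hb e with e' | e' <;> rw [e']
  exacts [h, h.mul_left P.comm.symm]

theorem gam_zero {a : G} (ha : a ∈ F.J) : F.gam t (F.vc a) = 0 ↔ Commute a t := by
  classical
  unfold Frame.gam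
  constructor
  · intro h
    split at h
    · rename_i h'
      obtain ⟨b, hb, hv, hbt⟩ := h'
      exact P.comm_of_vc hb ha hv hbt
    · exact absurd h (by norm_num)
  · intro h
    rw [if_pos ⟨a, ha, rfl, h⟩]

omit P in
theorem gam_lt (v : ℕ) : F.gam t v < 2 := by
  classical
  unfold Frame.gam; split <;> norm_num

theorem conj_gam {a : G} (ha : a ∈ F.J) (hf : ap (F.κ t) (F.vc a) = F.vc a) :
    t * a * t⁻¹ = a * if F.gam t (F.vc a) = 1 then z else 1 := by
  have hg := P.gam_zero ha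
  rcases F.conj_cases P.comm ha hf with e | e
  · rw [hg.2 (show a * t = t * a from (mul_inv_eq_iff_eq_mul.1 e).symm), if_neg (by norm_num), mul_one, e]
  · have hnc : ¬ Commute a t := fun h => F.ext.z1 (by
      rw [mul_inv_eq_iff_eq_mul.2 h.symm.eq] at e; exact (mul_eq_left.1 e.symm))
    rw [if_pos (by have := gam_lt (F := F) (t := t) (F.vc a); by_contra h; exact hnc (hg.1 (by omega))), e]

theorem gam_xor {u v : ℕ} (hu : u < 256) (hv : v < 256) (hfu : ap (F.κ t) u = u) (hfv : ap (F.κ t) v = v) :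
    F.gam t (u ^^^ v) = F.gam t u ^^^ F.gam t v := by
  obtain ⟨a, ha, rfl⟩ := F.vc_surj u hu
  obtain ⟨b, hb, rfl⟩ := F.vc_surj v hv
  have hab : ap (F.κ t) (F.vc (a * b)) = F.vc (a * b) := by rw [F.vc_mul a ha b hb, ap_xor, hfu, hfv]
  have h1 := P.conj_gam ha hfu
  have h2 := P.conj_gam hb hfv
  have h3 := P.conj_gam (mul_mem ha hb) hab
  rw [← F.vc_mul a ha b hb]
  have e : t * (a * b) * t⁻¹ = t * a * t⁻¹ * (t * b * t⁻¹) := by group
  rw [h1, h2, h3] at e
  have l1 := gam_lt (F := F) (t := t) (F.vc a)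
  have l2 := gam_lt (F := F) (t := t) (F.vc b)
  have l3 := gam_lt (F := F) (t := t) (F.vc (a * b))
  obtain ⟨E, hE⟩ : ∃ E, E = if F.gam t (F.vc a) = 1 then z else 1 := ⟨_, rfl⟩
  have hEb : Commute E b := by rw [hE]; split; exacts [F.z_comm hb, Commute.one_left b]
  rw [← hE, show a * E * (b * if F.gam t (F.vc b) = 1 then z else 1) =
    a * (E * b) * (if F.gam t (F.vc b) = 1 then z else 1) by simp only [mul_assoc], hEb.eq,
    show a * (b * E) * (if F.gam t (F.vc b) = 1 then z else 1) =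
      a * b * (E * if F.gam t (F.vc b) = 1 then z else 1) by simp only [mul_assoc]] at e
  have e' := mul_left_cancel e
  rw [hE] at e'
  rcases (show F.gam t (F.vc a) = 0 ∨ F.gam t (F.vc a) = 1 by omega) with x | x <;>
    rcases (show F.gam t (F.vc b) = 0 ∨ F.gam t (F.vc b) = 1 by omega) with y | y <;>
    rcases (show F.gam t (F.vc (a * b)) = 0 ∨ F.gam t (F.vc (a * b)) = 1 by omega) with w | w <;>
    simp [x, y, w, F.ext.z1, F.ext.z2, Ne.symm F.ext.z1] at e' ⊢

/-- The functional on the vectors listed by a basis. -/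
theorem functional {k : ℕ} (hκ : F.κ t = xC C.gens k) (B : ℕ) (hB : ∀ n < 64, ap B n ∈ cvL C k) :
    ∃ m < 64, ∀ n < 64, F.gam t (ap B n) = ap (mkc fun i => bit m i) n := by
  obtain ⟨f, hf⟩ : ∃ f : ℕ → ℕ, ∀ n, f n = F.gam t (ap B (n &&& 63)) := ⟨_, fun _ => rfl⟩
  have h63 : ∀ n, n &&& 63 < 64 := fun n => Nat.lt_succ_of_le Nat.and_le_right
  have hfix : ∀ n, ap (F.κ t) (ap B (n &&& 63)) = ap B (n &&& 63) := fun n => by
    rw [hκ]; exact (mem_cvL.1 (hB _ (h63 n))).2
  have hadd : ∀ u < 256, ∀ v < 256, f (u ^^^ v) = f u ^^^ f v := fun u _ v _ => by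
    rw [hf, hf, hf, Nat.and_xor_distrib_right, ap_xor]
    exact P.gam_xor (ap_lt _ _) (ap_lt _ _) (hfix u) (hfix v)
  have h0 : f 0 = 0 := by
    rw [hf, show (0 : ℕ) &&& 63 = 0 from rfl, ap_zero]
    have h := (P.gam_zero (one_mem F.J)).2 (Commute.one_left t)
    rwa [F.vc_one] at h
  obtain ⟨g, hg⟩ : ∃ g : ℕ → ℕ, ∀ i, g i = if i < 6 then f (2 ^ i) else 0 := ⟨_, fun _ => rfl⟩
  obtain ⟨-, hbit⟩ := bitsOf_spec (f := g) fun i => by
    rw [hg]; split; exacts [hf _ ▸ gam_lt _, by norm_num]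
  refine ⟨bitsOf g, ?_, fun n hn => ?_⟩
  · have hl : ∀ i, g i < 2 := fun i => by rw [hg]; split; exacts [hf _ ▸ gam_lt _, by norm_num]
    have := hl 0; have := hl 1; have := hl 2; have := hl 3; have := hl 4; have := hl 5
    have h6 : g 6 = 0 := by rw [hg]; rfl
    have h7 : g 7 = 0 := by rw [hg]; rfl
    unfold bitsOf; omega
  · have he := exists_code (f := f) (fun v _ => lt_trans (hf v ▸ gam_lt _) (by norm_num)) hadd
      (v := n) (by omega)
    rw [mkc_congr (g := fun i => f (2 ^ i)) fun i hi => ?_, he, hf]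
    · have : n &&& 63 = n := by
        rw [show (63 : ℕ) = 2 ^ 6 - 1 by norm_num, Nat.and_two_pow_sub_one_eq_mod, Nat.mod_eq_of_lt hn]
      rw [this]
    · rw [hbit i hi, hg]
      split
      · rfl
      · have h64 : 2 ^ i &&& 63 = 0 := by interval_cases i <;> first | rfl | omega
        rw [hf, h64, ap_zero]
        rw [hf, show (0 : ℕ) &&& 63 = 0 from rfl, ap_zero] at h0
        exact h0.symm

/-- An element commuting with `t` that squares to `z`. -/
theorem sq_elem {k : ℕ} (hκ : F.κ t = xC C.gens k) (hsq : sqChk C k = true) :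
    ∃ a ∈ F.J, Commute a t ∧ a * a = z := by
  simp only [sqChk, Bool.and_eq_true, List.all_eq_true, List.any_eq_true, List.mem_range,
    List.contains_iff_mem, nbeq_iff] at hsq
  obtain ⟨hB, hm⟩ := hsq
  obtain ⟨m, hm64, hf⟩ := P.functional hκ (fxBasis C k) hB
  obtain ⟨n, hn, hn0, hq⟩ := hm m hm64
  obtain ⟨a, ha, hav⟩ := F.vc_surj _ (ap_lt (fxBasis C k) n)
  exact ⟨a, ha, (P.gam_zero ha).1 (by rw [hav, hf n hn, hn0]), F.sq_z ha (by rw [hav, hq])⟩

/-- Half of the fixed vectors have elements commuting with `t`. -/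
theorem half {k : ℕ} (hκ : F.κ t = xC C.gens k) :
    (cvL C k).length ≤ 2 * ((cvL C k).filter fun v => decide (F.gam t v = 0)).length := by
  classical
  obtain ⟨S, hS⟩ : ∃ S, S = (cvL C k).toFinset := ⟨_, rfl⟩
  obtain ⟨S0, hS0⟩ : ∃ S0, S0 = S.filter fun v => F.gam t v = 0 := ⟨_, rfl⟩
  have hnd : (cvL C k).Nodup := List.Nodup.filter _ List.nodup_range
  have hc : S.card = (cvL C k).length := by rw [hS, List.toFinset_card_of_nodup hnd]
  have hc0 : S0.card = ((cvL C k).filter fun v => decide (F.gam t v = 0)).length := by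
    rw [← List.toFinset_card_of_nodup (hnd.filter _), hS0, hS, List.toFinset_filter]
    simp
  rw [← hc, ← hc0]
  have hsplit : (S.filter fun v => F.gam t v = 0).card + (S.filter fun v => ¬ F.gam t v = 0).card = S.card :=
    Finset.card_filter_add_card_filter_not _
  by_cases hall : ∀ v ∈ S, F.gam t v = 0
  · rw [hS0, Finset.filter_true_of_mem hall]; omega
  push Not at hall
  obtain ⟨v₁, hv₁, hne⟩ := hall
  have hle : (S.filter fun v => ¬ F.gam t v = 0).card ≤ S0.card := by
    refine Finset.card_le_card_of_injOn (fun v => v ^^^ v₁) (fun v hv => ?_) fun a _ b _ h => ?_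
    · rw [Finset.mem_coe, Finset.mem_filter, hS, List.mem_toFinset] at hv
      rw [hS, List.mem_toFinset] at hv₁
      rw [Finset.mem_coe, hS0, Finset.mem_filter, hS, List.mem_toFinset]
      obtain ⟨⟨hv1, hne1⟩, hv₁'⟩ := (⟨hv, mem_cvL.1 hv₁⟩ : _ ∧ _)
      obtain ⟨hlt, hfx⟩ := mem_cvL.1 hv1
      refine ⟨mem_cvL.2 ⟨xor_lt hlt hv₁'.1, by rw [ap_xor, hfx, hv₁'.2]⟩, ?_⟩
      rw [P.gam_xor hlt hv₁'.1 (hκ ▸ hfx) (hκ ▸ hv₁'.2)]
      have := gam_lt (F := F) (t := t) v
      have := gam_lt (F := F) (t := t) v₁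
      rw [show F.gam t v = 1 by omega, show F.gam t v₁ = 1 by omega]
      rfl
    · exact Nat.xor_left_injective h
  rw [hS0] at hle ⊢
  omega

end Pair

end Cfsg.Lib.U62Type
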