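import Cfsg.Agent.Lib.U62Type.Tables

/-!
# The orbits of singular vectors
-/

set_option autoImplicit false

namespace Cfsg.Lib.U62Type

theorem orb_U : orbChk cfgU = true := by decide +kernel

theorem orb_P : orbChk cfgP = true := by decide +kernel

theorem orb_M : orbChk cfgM = true := by decide +kernel

end Cfsg.Lib.U62Type
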