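import Cfsg.Agent.Lib.U62Type.Group
import Cfsg.Agent.Lib.U62Type.OrbChecks

/-!
# No other conjugate of the involution lies in the extraspecial group
-/

set_option autoImplicit false
set_option linter.unusedSectionVars false
set_option linter.style.haveILetI false

namespace Cfsg.Lib.U62Type

theorem card_le_mul_image {G : Type*} [Finite G] [Group G] (P : Subgroup G) (f : G → ℕ) (B : Finset G)
    (hB : ∀ p ∈ P, ∀ q ∈ P, f p = f q → p⁻¹ * q ∈ B) :
    Nat.card P ≤ B.card * ((Set.toFinite (P : Set G)).toFinset.image f).card := by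
  classical
  rw [show Nat.card P = (Set.toFinite (P : Set G)).toFinset.card from
    Nat.card_eq_card_finite_toFinset (Set.toFinite (P : Set G))]
  refine Finset.card_le_mul_card_image _ _ fun b hb => ?_
  obtain ⟨p, hp, rfl⟩ := Finset.mem_image.1 hb
  refine Finset.card_le_card_of_injOn (fun q => p⁻¹ * q) (fun q hq => ?_) (fun a _ c _ h => mul_left_cancel h)
  simp only [Finset.coe_filter, Set.mem_setOf_eq, Set.Finite.mem_toFinset, SetLike.mem_coe] at hq hp
  exact hB p hp q hq.1 hq.2.symm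

theorem card_centralizer_conj {G : Type*} [Group G] (g z : G) :
    Nat.card ↥(Subgroup.centralizer ({g * z * g⁻¹} : Set G)) = Nat.card ↥(Subgroup.centralizer ({z} : Set G)) := by
  refine Nat.card_congr ((MulAut.conj g).toEquiv.subtypeEquiv fun h => ?_).symm
  rw [Subgroup.mem_centralizer_singleton_iff, Subgroup.mem_centralizer_singleton_iff]
  exact (Commute.conj_iff g (a := h) (b := z)).symm

namespace Frame

variable {G : Type*} [Group G] {C : Cfg} {z : G} (F : Frame C z)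

theorem κ_conj_eq {g p q : G} (hg : Commute g z) (hp : Commute p z) (hq : Commute q z)
    (h : F.κ (g * p * g⁻¹) = F.κ (g * q * g⁻¹)) : p⁻¹ * q ∈ F.J := by
  have h1 := (F.κ_eq_iff ((hg.mul_left hp).mul_left hg.inv_left) ((hg.mul_left hq).mul_left hg.inv_left)).1 h
  have := F.ext.norm g⁻¹ hg.inv_left _ h1
  rwa [show g⁻¹ * ((g * p * g⁻¹)⁻¹ * (g * q * g⁻¹)) * g⁻¹⁻¹ = p⁻¹ * q by group] at this

/-- What commutes with the centraliser of `t` in the extraspecial group. -/
theorem double_perp {t w : G} (ht : t ∈ F.J) (hw : w ∈ F.J) (h : ∀ a ∈ F.J, Commute a t → Commute a w) :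
    w = 1 ∨ w = z ∨ w = t ∨ w = t * z := by
  have huv : F.vc w = 0 ∨ F.vc w = F.vc t := by
    by_cases ht0 : ∀ v < 256, cform C (F.vc t) v = 0
    · left
      refine F.nondeg (F.vc_lt _) fun v hv => ?_
      obtain ⟨a, ha, rfl⟩ := F.vc_surj v hv
      rw [cform_comm]
      exact (F.comm_iff ha hw).1 (h a ha ((F.comm_iff ha ht).2 (by rw [cform_comm]; exact ht0 _ (F.vc_lt a))))
    push Not at ht0
    obtain ⟨v₁, hv₁, hne⟩ := ht0
    have hlt : ∀ {x : G}, x ∈ F.J → ∀ v < 256, cform C (F.vc x) v < 2 := fun {x} hx v hv => by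
      obtain ⟨a, ha, rfl⟩ := F.vc_surj v hv
      exact F.cform_lt hx ha
    have h1 : cform C (F.vc t) v₁ = 1 := by have := hlt ht v₁ hv₁; omega
    have key : ∀ v < 256, cform C (F.vc t) v = 0 → cform C (F.vc w) v = 0 := fun v hv hv0 => by
      obtain ⟨a, ha, rfl⟩ := F.vc_surj v hv
      rw [cform_comm]
      exact (F.comm_iff ha hw).1 (h a ha ((F.comm_iff ha ht).2 (by rw [cform_comm]; exact hv0)))
    have all : ∀ v < 256, cform C (F.vc w) v = (cform C (F.vc w) v₁) * cform C (F.vc t) v := fun v hv => by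
      rcases Nat.lt_succ_iff_lt_or_eq.1 (hlt ht v hv) with e | e
      · rw [Nat.lt_one_iff.1 e, mul_zero, key v hv (Nat.lt_one_iff.1 e)]
      · have h3 := key (v ^^^ v₁) (xor_lt hv hv₁) (by rw [F.cform_xor (F.vc_lt _) hv hv₁, e, h1, Nat.xor_self])
        rw [F.cform_xor (F.vc_lt _) hv hv₁, Nat.xor_eq_zero_iff] at h3
        rw [h3, e, mul_one]
    rcases Nat.lt_succ_iff_lt_or_eq.1 (hlt hw v₁ hv₁) with e | e
    · left
      exact F.nondeg (F.vc_lt _) fun v hv => by rw [all v hv, Nat.lt_one_iff.1 e, zero_mul]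
    · right
      rw [← Nat.xor_eq_zero_iff, ← F.vc_mul w hw t ht]
      refine F.nondeg (F.vc_lt _) fun v hv => ?_
      rw [cform_comm, F.vc_mul w hw t ht, F.cform_xor hv (F.vc_lt _) (F.vc_lt _), cform_comm C v, cform_comm C v,
        all v hv, e, one_mul, Nat.xor_self]
  rcases huv with e | e
  · rcases F.vc_zero w hw e with e | e
    exacts [Or.inl e, Or.inr (Or.inl e)]
  · exact Or.inr (Or.inr (F.vc_eq ht hw e.symm))

theorem exists_noncomm {t : G} (ht : t ∈ F.J) (h1 : t ≠ 1) (hz : t ≠ z) :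
    ∃ a ∈ F.J, a * t * a⁻¹ = t * z := by
  have hnc : ¬ ∀ a ∈ F.J, Commute t a := fun h => by rcases F.ext.zc t ht h with e | e <;> contradiction
  push Not at hnc
  obtain ⟨a, ha, hat⟩ := hnc
  refine ⟨a, ha, ?_⟩
  rcases F.ext.cmt a ha t ht with e | e
  · exact absurd (mul_inv_eq_iff_eq_mul.1 (mul_inv_eq_one.1 e)).symm hat
  · rw [mul_inv_eq_iff_eq_mul] at e
    rw [e, (F.ext.cz t ht).eq]

variable [Finite G]

theorem perp_card {t : G} (ht : t ∈ F.J) (h1 : t ≠ 1) (hz : t ≠ z) :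
    Nat.card ↥(F.J ⊓ Subgroup.centralizer ({t} : Set G)) = 256 := by
  classical
  obtain ⟨a, ha, hat⟩ := F.exists_noncomm ht h1 hz
  let φ : Bool × ↥(F.J ⊓ Subgroup.centralizer ({t} : Set G)) → F.J := fun p =>
    ⟨(if p.1 then a else 1) * p.2, mul_mem (by split; exacts [ha, one_mem _]) (Subgroup.mem_inf.1 p.2.2).1⟩
  have hA : ∀ {b}, b ∈ F.J → (Commute b t ↔ cform C (F.vc b) (F.vc t) = 0) := fun hb => F.comm_iff hb ht
  have hnc : ¬ Commute a t := fun h => F.ext.z1 (by
    rw [h.eq, mul_inv_cancel_right] at hat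
    exact (mul_eq_left.1 hat.symm))
  have hb : Function.Bijective φ := by
    constructor
    · rintro ⟨b, x, hx⟩ ⟨c, y, hy⟩ h
      have h' := congrArg Subtype.val h
      simp only [φ] at h'
      have hxt := Subgroup.mem_centralizer_singleton_iff.1 (Subgroup.mem_inf.1 hx).2
      have hyt := Subgroup.mem_centralizer_singleton_iff.1 (Subgroup.mem_inf.1 hy).2
      cases b <;> cases c <;> simp only [Bool.false_eq_true, if_false, if_true, one_mul] at h'
      · subst h'; rfl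
      · exact absurd (by rw [eq_mul_inv_of_mul_eq h'.symm]; exact Commute.mul_left hxt (Commute.inv_left hyt)) hnc
      · exact absurd (by rw [eq_mul_inv_of_mul_eq h']; exact Commute.mul_left hyt (Commute.inv_left hxt)) hnc
      · cases mul_left_cancel h'; rfl
    · rintro ⟨b, hb⟩
      by_cases hbt : Commute b t
      · exact ⟨(false, ⟨b, Subgroup.mem_inf.2 ⟨hb, Subgroup.mem_centralizer_singleton_iff.2 hbt⟩⟩),
          Subtype.ext (one_mul b)⟩
      · have hbt' : b * t * b⁻¹ = t * z := by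
          rcases F.ext.cmt b hb t ht with e | e
          · exact absurd (mul_inv_eq_iff_eq_mul.1 (mul_inv_eq_one.1 e)) hbt
          · rw [mul_inv_eq_iff_eq_mul] at e
            rw [e, (F.ext.cz t ht).eq]
        refine ⟨(true, ⟨a⁻¹ * b, Subgroup.mem_inf.2 ⟨mul_mem (inv_mem ha) hb,
          Subgroup.mem_centralizer_singleton_iff.2 (mul_inv_eq_iff_eq_mul.1 ?_)⟩⟩),
          Subtype.ext (mul_inv_cancel_left a b)⟩
        calc a⁻¹ * b * t * (a⁻¹ * b)⁻¹ = a⁻¹ * (b * t * b⁻¹) * a := by group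
          _ = a⁻¹ * (a * t * a⁻¹) * a := by rw [hbt', hat]
          _ = t := by group
  have := Nat.card_eq_of_bijective φ hb
  rw [F.ext.card, Nat.card_prod, Nat.card_eq_fintype_card (α := Bool), Fintype.card_bool] at this
  omega

include F in
theorem pt_fix {c : ℕ} (hc : WordCode C.gens c) {v u : ℕ} (hv : ap c v = v) (hu : u ∈ ptL C.gens v) :
    ap c u = u := by
  have hclt : c < 2 ^ 64 := by obtain ⟨w, -, rfl⟩ := hc; exact cw_lt _ _
  have hp : ptChk C.gens = true := by rcases F.gens_cases with h | h <;> rw [h]; exacts [pt_U, pt_P]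
  simp only [ptChk, List.all_eq_true, List.mem_range] at hp
  rcases F.gens_cases with hg | hg <;> rw [hg] at hp hu hc
  · simp only [show isU gensU = true from rfl, if_true, beq_iff_eq] at hp
    have hcomm : cm c omC = cm omC c := by
      obtain ⟨w, hw, rfl⟩ := hc
      clear hclt hv
      induction w with
      | nil => rw [cw_nil, cm_idc, idc_cm] <;> decide
      | cons a w ih =>
        rw [cw_cons, cm_assoc, ih fun i hi => hw i (List.mem_cons_of_mem _ hi), ← cm_assoc,
          hp a (hw a List.mem_cons_self), cm_assoc]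
    have hom : ∀ x, ap c (ap omC x) = ap omC (ap c x) := fun x => by rw [← ap_cm, hcomm, ap_cm]
    simp only [ptL, show isU gensU = true from rfl, if_true, List.mem_cons, List.not_mem_nil, or_false] at hu
    rcases hu with rfl | rfl
    · rw [hom, hv]
    · rw [hom, hom, hv]
  · simp only [show isU gensP = false from rfl, Bool.false_eq_true, if_false, Bool.and_eq_true, beq_iff_eq] at hp
    have hcomm : cm c p6C = cm p6C c ∧ ap c 64 = 64 ∧ ap c 128 = 128 ∧ ap c 192 = 192 := by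
      obtain ⟨w, hw, rfl⟩ := hc
      clear hclt hv
      induction w with
      | nil =>
        rw [cw_nil, cm_idc, idc_cm, ap_idc, ap_idc, ap_idc]
        exact ⟨rfl, rfl, rfl, rfl⟩
        all_goals decide
      | cons a w ih =>
        obtain ⟨h1, h2, h3, h4⟩ := ih fun i hi => hw i (List.mem_cons_of_mem _ hi)
        obtain ⟨⟨⟨g1, g2⟩, g3⟩, g4⟩ := hp a (hw a List.mem_cons_self)
        rw [cw_cons, ap_cm, ap_cm, ap_cm, h2, h3, h4, cm_assoc, h1, ← cm_assoc, g1, cm_assoc]
        exact ⟨rfl, g2, g3, g4⟩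
    obtain ⟨hcomm, c64, c128, c192⟩ := hcomm
    have hom : ∀ x, ap c (ap p6C x) = ap p6C (ap c x) := fun x => by rw [← ap_cm, hcomm, ap_cm]
    simp only [ptL, show isU gensP = false from rfl, Bool.false_eq_true, if_false, List.mem_cons, List.not_mem_nil,
      or_false] at hu
    rcases hu with rfl | rfl | rfl | rfl | rfl | rfl | rfl <;> simp only [ap_xor, hom, hv, c64, c128, c192]

include F in
theorem orb_ok : orbChk C = true := by
  have h := F.std
  simp only [List.mem_cons, List.not_mem_nil, or_false] at h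
  rcases h with rfl | rfl | rfl
  exacts [orb_U, orb_P, orb_M]

/-- The intersection of two of the extraspecial groups when each involution lies in both. -/
theorem inter_small (hc : Nat.card ↥(Subgroup.centralizer ({z} : Set G)) = 512 * 25920) {t : G} (T : Frame C t)
    (ht : t ∈ F.J) (ht1 : t ≠ 1) (htz : t ≠ z) (hzT : z ∈ T.J) :
    ∀ w, w ∈ F.J → w ∈ T.J → w = 1 ∨ w = z ∨ w = t ∨ w = t * z := by
  classical
  -- the representative of the orbit of `vc t`, and the element carrying it to `vc t`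
  have horb := F.orb_ok
  simp only [orbChk, Bool.and_eq_true, Bool.or_eq_true, List.all_eq_true, List.any_eq_true, vecs, List.mem_range,
    nbeq_iff, List.contains_iff_mem, beq_iff_eq, Nat.blt_eq, Bool.not_eq_true', Bool.not_eq_false'] at horb
  obtain ⟨hcov, hdata⟩ := horb
  have hv0 : F.vc t ≠ 0 := fun e => by rcases F.vc_zero t ht e with h | h <;> contradiction
  have hq : C.q (F.vc t) = 0 := F.q_of_sq ht T.ext.z2
  rcases hcov _ (F.vc_lt t) with (e | e) | ⟨o, ho, hto⟩
  · exact absurd e hv0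
  · rw [hq] at e; exact absurd e (by norm_num)
  obtain ⟨⟨⟨htree, hlt⟩, hwords⟩, hu⟩ := hdata o ho
  obtain ⟨a, ha, hav⟩ : ∃ a, Commute a z ∧ ap (F.κ a) o.1 = F.vc t := by
    refine tree_ind htree (fun x => ∃ a, Commute a z ∧ ap (F.κ a) o.1 = x)
      ⟨1, Commute.one_left z, ?_⟩ ?_ _ hto
    · rw [F.κ_one]
      have ho1 : o.1 ∈ o.2.1 := by
        simp only [treeChk, List.all_eq_true, List.mem_range] at htree
        obtain ⟨i, hi, -⟩ := List.getElem_of_mem hto
        have h0 := htree 0 (by omega)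
        simp only [beq_self_eq_true, if_true, beq_iff_eq] at h0
        rw [← h0, List.getD_eq_getElem _ _ (by omega)]
        exact List.getElem_mem _
      by_cases h256 : o.1 < 256
      · exact ap_idc h256
      · exfalso
        have hall : ∀ p ∈ orbL C, p.1 < 256 := by
          unfold orbL
          split
          · decide +kernel
          · split <;> decide +kernel
        exact h256 (hall o ho)
    · rintro i hi x ⟨b, hb, rfl⟩
      obtain ⟨s, hs, hse⟩ := F.gens _ (hlt i hi)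
      exact ⟨s * b, hs.mul_left hb, by rw [F.κ_mul hs hb, hse, ap_cm]⟩
  intro w₀ hw₀ hw₀T
  -- conjugate everything to the representative
  have haz : a⁻¹ * z * a⁻¹⁻¹ = z := mul_inv_eq_iff_eq_mul.2 ha.inv_left.eq
  suffices hmain : a⁻¹ * w₀ * a = 1 ∨ a⁻¹ * w₀ * a = z ∨ a⁻¹ * w₀ * a = a⁻¹ * t * a ∨
      a⁻¹ * w₀ * a = a⁻¹ * t * a * z by
    have hz' : a⁻¹ * z * a = z := by rw [mul_assoc, ← ha.eq, inv_mul_cancel_left]
    rcases hmain with e | e | e | e
    · left; rw [show w₀ = a * (a⁻¹ * w₀ * a) * a⁻¹ by group, e]; group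
    · right; left; rw [show w₀ = a * (a⁻¹ * w₀ * a) * a⁻¹ by group, e, mul_inv_eq_iff_eq_mul.2 ha.eq]
    · right; right; left; rw [show w₀ = a * (a⁻¹ * w₀ * a) * a⁻¹ by group, e]; group
    · right; right; right
      rw [show w₀ = a * (a⁻¹ * w₀ * a) * a⁻¹ by group, e]
      conv_lhs => rw [show a * (a⁻¹ * t * a * z) * a⁻¹ = t * (a * z * a⁻¹) by group]
      rw [mul_inv_eq_iff_eq_mul.2 ha.eq]
  let T' := T.conj a⁻¹
  have hmem : ∀ {x}, x ∈ T.J → a⁻¹ * x * a⁻¹⁻¹ ∈ T'.J := fun {x} hx => ⟨x, hx, rfl⟩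
  have hzT' : z ∈ T'.J := by have := hmem hzT; rwa [haz] at this
  have hsJ : a⁻¹ * t * a⁻¹⁻¹ ∈ F.J := F.ext.norm _ ha.inv_left _ ht
  have hsv : F.vc (a⁻¹ * t * a⁻¹⁻¹) = o.1 := by
    have h1 := F.act _ ha _ hsJ
    rw [show a * (a⁻¹ * t * a⁻¹⁻¹) * a⁻¹ = t by group, ← hav] at h1
    have h2 := congrArg (ap (F.κ a⁻¹)) h1
    rw [← ap_cm, ← ap_cm, (F.κ_inv ha).2] at h2
    have h256 : o.1 < 256 := by
      have hall : ∀ p ∈ orbL C, p.1 < 256 := by
        unfold orbL
        split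
        · decide +kernel
        · split <;> decide +kernel
      exact hall o ho
    rwa [ap_idc h256, ap_idc (F.vc_lt _), eq_comm] at h2
  rw [show a⁻¹ * w₀ * a = a⁻¹ * w₀ * a⁻¹⁻¹ by rw [inv_inv],
    show a⁻¹ * t * a = a⁻¹ * t * a⁻¹⁻¹ by rw [inv_inv]]
  obtain ⟨s, hs⟩ : ∃ s, s = a⁻¹ * t * a⁻¹⁻¹ := ⟨_, rfl⟩
  obtain ⟨w, hw⟩ : ∃ w, w = a⁻¹ * w₀ * a⁻¹⁻¹ := ⟨_, rfl⟩
  rw [← hs, ← hw]
  rw [← hs] at hsJ hsv
  have hwJ : w ∈ F.J := hw ▸ F.ext.norm _ ha.inv_left _ hw₀
  have hwT : w ∈ T'.J := hw ▸ hmem hw₀T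
  -- an element whose vector is fixed with `vc s` is central over both
  have hfix : ∀ y, y ∈ F.J → y ∈ T'.J → F.vc y ∈ ptL C.gens o.1 → y = 1 ∨ y = z ∨ y = s ∨ y = s * z := by
    intro y hyJ hyT hpt
    have key : ∀ r ∈ T'.J, Commute r z → Commute r y := by
      intro r hr hrz
      have hrs : r * s * r⁻¹ = s := by rw [hs]; exact mul_inv_eq_iff_eq_mul.2 (T'.ext.cz r hr).eq
      have h1 : ap (F.κ r) o.1 = o.1 := by rw [← hsv, ← F.act r hrz s hsJ, hrs]
      have h2 : F.vc (r * y * r⁻¹) = F.vc y :=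
        (F.act r hrz y hyJ).trans (F.pt_fix (F.word_code hc hrz) h1 hpt)
      refine mul_inv_eq_iff_eq_mul.1 ?_
      rcases F.vc_eq hyJ (F.ext.norm r hrz _ hyJ) h2.symm with e | e
      · exact e
      exfalso
      rcases T'.ext.cmt r hr y hyT with e' | e' <;> rw [e, (F.ext.cz y hyJ).eq, mul_inv_cancel_right] at e'
      · exact F.ext.z1 e'
      · apply htz
        rw [show t = a * (a⁻¹ * t * a⁻¹⁻¹) * a⁻¹ by group, ← e', mul_inv_eq_iff_eq_mul.2 ha.eq]
    rcases T'.double_perp hzT' hyT key with e | e | e | e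
    · exact Or.inl e
    · exact Or.inr (Or.inr (Or.inl (hs ▸ e)))
    · exact Or.inr (Or.inl e)
    · right; right; right
      rw [e, hs, (F.z_comm (hs ▸ hsJ)).eq]
  by_cases hw0 : F.vc w = 0
  · rcases F.vc_zero w hwJ hw0 with e | e
    exacts [Or.inl e, Or.inr (Or.inl e)]
  by_cases hwv : F.vc w = o.1
  · exact Or.inr (Or.inr (F.vc_eq hsJ hwJ (hsv.trans hwv.symm)))
  have hsT : s ∈ T'.J := hs ▸ hmem T.ext.zJ
  have hs2 : s * s = 1 := hs ▸ T'.ext.z2
  have hsz : ¬ z = s := fun e => htz (by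
    rw [show t = a * (a⁻¹ * t * a⁻¹⁻¹) * a⁻¹ by group, ← hs, ← e, mul_inv_eq_iff_eq_mul.2 ha.eq])
  -- the commutators of the intersection are trivial
  have hcomm : ∀ x y, x ∈ F.J → x ∈ T'.J → y ∈ F.J → y ∈ T'.J → Commute x y := by
    intro x y hx hx' hy hy'
    refine mul_inv_eq_one.1 ?_ |> mul_inv_eq_iff_eq_mul.1
    rcases F.ext.cmt x hx y hy with e | e
    · exact e
    · rcases T'.ext.cmt x hx' y hy' with e' | e'
      · exact e'
      · rw [← hs] at e'
        exact absurd (e.symm.trans e') hsz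
  have hqw : C.q (F.vc w) ≠ 1 := fun hq1 => by
    have h := F.sq_z hwJ hq1
    rcases T'.ext.sq w hwT with e | e
    · exact F.ext.z1 (h.symm.trans e)
    · exact hsz (h.symm.trans (e.trans hs.symm))
  have hcw : cform C (F.vc w) o.1 ≠ 1 := by
    rw [← hsv, (F.comm_iff hwJ hsJ).1 (hcomm w s hwJ hwT hsJ hsT)]; norm_num
  rcases hu (F.vc w) (F.vc_lt w) with (((((e | e) | e) | e) | e) | ⟨c, hc', e⟩)
  · exact absurd e hw0
  · exact absurd e hwv
  · exact absurd e hqw
  · exact absurd e hcw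
  · exact hfix w hwJ hwT e
  obtain ⟨hcw4, hcv⟩ := hwords c hc'
  obtain ⟨h, hh, hhe⟩ := F.lift_word c hcw4
  -- adjust to centralise `s`
  obtain ⟨k, hk, hkκ, hks⟩ : ∃ k, Commute k z ∧ F.κ k = cw C.gens c ∧ k * s * k⁻¹ = s := by
    have hv : F.vc (h * s * h⁻¹) = F.vc s := by rw [F.act h hh s hsJ, hhe, hsv, hcv]
    rcases F.vc_eq hsJ (F.ext.norm h hh _ hsJ) hv.symm with e' | e'
    · exact ⟨h, hh, hhe, e'⟩
    obtain ⟨j, hj, hjs⟩ := F.exists_noncomm hsJ (fun e => T'.ext.z1 (hs.symm.trans e)) (fun e => hsz e.symm)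
    refine ⟨j * h, (F.ext.cz j hj).mul_left hh, by rw [F.κ_Jmul hh hj, hhe], ?_⟩
    rw [show j * h * s * (j * h)⁻¹ = j * (h * s * h⁻¹) * j⁻¹ by group, e',
      show j * (s * z) * j⁻¹ = j * s * j⁻¹ * (j * z * j⁻¹) by group, hjs,
      mul_inv_eq_iff_eq_mul.2 (F.ext.cz j hj).eq, mul_assoc, F.ext.z2, mul_one]
  have hkT : Commute k s := mul_inv_eq_iff_eq_mul.1 hks
  have hwk : k * w * k⁻¹ ∈ F.J := F.ext.norm k hk w hwJ
  have hwk' : k * w * k⁻¹ ∈ T'.J := T'.ext.norm k (by rw [← hs]; exact hkT) w hwT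
  have hv : F.vc (k * w * k⁻¹) = ap (cw C.gens c) (F.vc w) := by rw [F.act k hk w hwJ, hkκ]
  rcases e with e | ⟨⟨e, e0⟩, ev⟩
  · rw [← hv, (F.comm_iff hwJ hwk).1 (hcomm _ _ hwJ hwT hwk hwk')] at e
    exact absurd e (by norm_num)
  have hp : F.vc (w * (k * w * k⁻¹)) = F.vc w ^^^ ap (cw C.gens c) (F.vc w) := by
    rw [F.vc_mul _ hwJ _ hwk, hv]
  exfalso
  rw [← hp] at e e0 ev
  have n0 : F.vc (w * (k * w * k⁻¹)) ≠ 0 := fun h => by rw [nbeq_iff.2 h] at e0; exact Bool.noConfusion e0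
  have nv : F.vc (w * (k * w * k⁻¹)) ≠ o.1 := fun h => by rw [nbeq_iff.2 h] at ev; exact Bool.noConfusion ev
  rcases hfix _ (mul_mem hwJ hwk) (mul_mem hwT hwk') e with e' | e' | e' | e' <;> rw [e'] at n0 nv
  · exact n0 F.vc_one
  · exact n0 F.vc_z
  · exact nv hsv
  · exact nv (by rw [F.vc_mul_z hsJ]; exact hsv)

/-- No conjugate of `z` other than itself lies in its extraspecial group. -/
theorem no_inside (hc : Nat.card ↥(Subgroup.centralizer ({z} : Set G)) = 512 * 25920) {g : G}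
    (hg : g * z * g⁻¹ ∈ F.J) : g * z * g⁻¹ = z := by
  classical
  by_contra htz
  obtain ⟨t, ht⟩ : ∃ t, t = g * z * g⁻¹ := ⟨_, rfl⟩
  have hct : Nat.card ↥(Subgroup.centralizer ({t} : Set G)) = 512 * 25920 := by rw [ht, card_centralizer_conj, hc]
  let T : Frame C t := ht ▸ F.conj g
  rw [← ht] at hg htz
  have ht1 : t ≠ 1 := T.ext.z1
  by_cases hzT : z ∈ T.J
  · have hW := F.inter_small hc T hg ht1 htz hzT
    obtain ⟨R, hR⟩ : ∃ R, R = T.J ⊓ Subgroup.centralizer ({z} : Set G) := ⟨_, rfl⟩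
    have hR256 : Nat.card R = 256 := hR ▸ T.perp_card hzT F.ext.z1 (Ne.symm htz)
    have hRz : ∀ r ∈ R, Commute r z := fun r hr => by
      rw [hR] at hr; exact Subgroup.mem_centralizer_singleton_iff.1 (Subgroup.mem_inf.1 hr).2
    have hRT : ∀ r ∈ R, r ∈ T.J := fun r hr => by rw [hR] at hr; exact (Subgroup.mem_inf.1 hr).1
    haveI : Fact (Nat.Prime 2) := ⟨Nat.prime_two⟩
    obtain ⟨a, ha, haS⟩ := F.syl_conj hc R hRz (IsPGroup.of_card (n := 8) (by rw [hR256]; norm_num))
    have hB := card_le_mul_image R (fun r => F.κ (a * r * a⁻¹)) {1, z, t, t * z} (fun p hp q hq h => by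
      rcases hW _ (F.κ_conj_eq ha (hRz p hp) (hRz q hq) h) (mul_mem (inv_mem (hRT p hp)) (hRT q hq)) with
        e | e | e | e <;> simp [e])
    have h4 : ({1, z, t, t * z} : Finset G).card ≤ 4 := Finset.card_le_four
    obtain ⟨-, hnd, hlen, -, hnc, -⟩ := F.syl_spec
    have hsub : (Set.toFinite (R : Set G)).toFinset.image (fun r => F.κ (a * r * a⁻¹)) ⊆ (sylL C.gens).toFinset := by
      intro x hx
      obtain ⟨r, hr, rfl⟩ := Finset.mem_image.1 hx
      rw [Set.Finite.mem_toFinset] at hr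
      exact List.mem_toFinset.2 (haS r hr)
    have h64 : (sylL C.gens).toFinset.card = 64 := by rw [List.toFinset_card_of_nodup hnd, hlen]
    have heq := Finset.eq_of_subset_of_card_le hsub (by
      rw [h64]
      rw [hR256] at hB
      have := hB.trans (Nat.mul_le_mul_right _ h4)
      omega)
    obtain ⟨x, hx, y, hy, hne⟩ := hnc
    rw [← List.mem_toFinset, ← heq, Finset.mem_image] at hx hy
    obtain ⟨p, hp, rfl⟩ := hx
    obtain ⟨q, hq, rfl⟩ := hy
    rw [Set.Finite.mem_toFinset] at hp hq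
    have hpz := (ha.mul_left (hRz p hp)).mul_left ha.inv_left
    have hqz := (ha.mul_left (hRz q hq)).mul_left ha.inv_left
    apply hne
    rw [← F.κ_mul hpz hqz, ← F.κ_mul hqz hpz, F.κ_eq_iff (hpz.mul_left hqz) (hqz.mul_left hpz),
      show (a * p * a⁻¹ * (a * q * a⁻¹))⁻¹ * (a * q * a⁻¹ * (a * p * a⁻¹)) = a * (q⁻¹ * p⁻¹ * q * p) * a⁻¹ by group]
    refine F.ext.norm a ha _ ?_
    rcases T.ext.cmt _ (inv_mem (hRT q hq)) _ (inv_mem (hRT p hp)) with e | e <;> rw [inv_inv, inv_inv] at e <;>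
      rw [e]
    exacts [one_mem _, hg]
  · obtain ⟨A, hA⟩ : ∃ A, A = F.J ⊓ Subgroup.centralizer ({t} : Set G) := ⟨_, rfl⟩
    have hA256 : Nat.card A = 256 := hA ▸ F.perp_card hg ht1 htz
    have hAt : ∀ r ∈ A, Commute r t := fun r hr => by
      rw [hA] at hr; exact Subgroup.mem_centralizer_singleton_iff.1 (Subgroup.mem_inf.1 hr).2
    have hAJ : ∀ r ∈ A, r ∈ F.J := fun r hr => by rw [hA] at hr; exact (Subgroup.mem_inf.1 hr).1
    have hW : ∀ w, w ∈ F.J → w ∈ T.J → w = 1 ∨ w = t := by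
      intro w hw hwT
      rcases F.double_perp hg hw (fun a ha hat => by
        refine mul_inv_eq_iff_eq_mul.1 (mul_inv_eq_one.1 ?_)
        rcases F.ext.cmt a ha w hw with e | e
        · exact e
        · exfalso
          refine hzT (e ▸ mul_mem ?_ (inv_mem hwT))
          exact T.ext.norm a hat w hwT) with e | e | e | e
      · exact Or.inl e
      · exact absurd (e ▸ hwT) hzT
      · exact Or.inr e
      · exact absurd (by
          have := mul_mem (inv_mem T.ext.zJ) (e ▸ hwT)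
          rwa [inv_mul_cancel_left] at this) hzT
    haveI : Fact (Nat.Prime 2) := ⟨Nat.prime_two⟩
    obtain ⟨a, ha, haS⟩ := T.syl_conj hct A hAt (IsPGroup.of_card (n := 8) (by rw [hA256]; norm_num))
    have hB := card_le_mul_image A (fun r => T.κ (a * r * a⁻¹)) {1, t} (fun p hp q hq h => by
      rcases hW _ (mul_mem (inv_mem (hAJ p hp)) (hAJ q hq)) (T.κ_conj_eq ha (hAt p hp) (hAt q hq) h) with e | e <;>
        simp [e])
    obtain ⟨-, hnd, hlen, -, -, -⟩ := T.syl_spec
    have hsub : (Set.toFinite (A : Set G)).toFinset.image (fun r => T.κ (a * r * a⁻¹)) ⊆ (sylL C.gens).toFinset := by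
      intro x hx
      obtain ⟨r, hr, rfl⟩ := Finset.mem_image.1 hx
      rw [Set.Finite.mem_toFinset] at hr
      exact List.mem_toFinset.2 (haS r hr)
    have h1 := Finset.card_le_card hsub
    rw [List.toFinset_card_of_nodup hnd, hlen] at h1
    have h2 : ({1, t} : Finset G).card ≤ 2 := Finset.card_le_two
    have := hB.trans (Nat.mul_le_mul h2 h1)
    rw [hA256] at this
    omega

end Frame

end Cfsg.Lib.U62Type
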