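import Cfsg.Agent.Lib.U62Type.Lines
import Cfsg.Agent.Lib.Fischer.FromCent.Pairs
import Cfsg.Agent.Lib.ZStar.Main

/-!
# The centraliser of the product of two commuting conjugates permutes them
-/

set_option autoImplicit false
set_option linter.unusedSectionVars false
set_option linter.style.haveILetI false

namespace Cfsg.Lib.U62Type

open Cfsg.Lib.Fischer (perp)
open Cfsg.Lib.Fischer.Polar (ln com)
open Cfsg.Lib.Fischer.FromCent (oddPart)

variable {G : Type*} [Group G] [Finite G] {z a b r s x p : G}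

theorem mem_conj {z a : G} (ha : a ∈ mems z) (g : G) : g * a * g⁻¹ ∈ mems z := Mem.conj ha g

theorem ln_conj (g : G) (hp : p ∈ ln (mems z) a b) :
    g * p * g⁻¹ ∈ ln (mems z) (g * a * g⁻¹) (g * b * g⁻¹) := by
  refine ⟨mem_conj hp.1 g, fun d hd => ?_⟩
  have h : g⁻¹ * d * g ∈ com (mems z) a b := by
    refine ⟨by simpa using mem_conj hd.1 g⁻¹, ?_, ?_⟩
    · have := (Commute.conj_iff g⁻¹).2 hd.2.1
      simpa [mul_assoc] using this
    · have := (Commute.conj_iff g⁻¹).2 hd.2.2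
      simpa [mul_assoc] using this
  have := (Commute.conj_iff g).2 (hp.2 _ h)
  rwa [show g * (g⁻¹ * d * g) * g⁻¹ = d by group] at this

theorem Uni.ln_perp (hU : Uni z) (ha : a ∈ mems z) (hb : b ∈ perp (mems z) a) (hp : p ∈ ln (mems z) a b)
    (hpa : p ≠ a) : p ∈ perp (mems z) a :=
  ⟨hp.1, hpa, (hp.2 a ⟨ha, Commute.refl a, hb.2.2.symm⟩).symm⟩

/-- Any two points give the line. -/
theorem Uni.ln_eq_left (hU : Uni z) (ha : a ∈ mems z) (hb : b ∈ perp (mems z) a) (hp : p ∈ ln (mems z) a b)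
    (hpa : p ≠ a) : ln (mems z) a p = ln (mems z) a b := by
  have hUa := hU.move ha
  obtain ⟨F⟩ := hUa.frame
  have hn := (nb_iff_perp ha).2 hb
  have hnp := (nb_iff_perp ha).2 (hU.ln_perp ha hb hp hpa)
  rw [← mems_eq ha, F.ln_at hUa hn] at hp
  obtain ⟨-, he⟩ := hp.resolve_left hpa
  ext q
  rw [← mems_eq ha, F.ln_at hUa hn, F.ln_at hUa hnp, he]

theorem Uni.ln_eq (hU : Uni z) (ha : a ∈ mems z) (hb : b ∈ perp (mems z) a) {e f : G}
    (he : e ∈ ln (mems z) a b) (hf : f ∈ ln (mems z) a b) (hne : e ≠ f) :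
    f ∈ perp (mems z) e ∧ ln (mems z) e f = ln (mems z) a b := by
  by_cases hea : e = a
  · subst hea
    exact ⟨hU.ln_perp ha hb hf hne.symm, hU.ln_eq_left ha hb hf hne.symm⟩
  have h1 := hU.ln_eq_left ha hb he hea
  rw [Cfsg.Lib.Fischer.Polar.ln_comm] at h1
  have hp : a ∈ perp (mems z) e := ⟨ha, Ne.symm hea, (hU.ln_perp ha hb he hea).2.2.symm⟩
  rw [← h1] at hf ⊢
  exact ⟨hU.ln_perp he.1 hp hf hne.symm, hU.ln_eq_left he.1 hp hf hne.symm⟩

/-- A group of exponent two preserving a line fixes one of its points. -/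
theorem Uni.fixed_point (hU : Uni z) (hr : r ∈ mems z) (hs : s ∈ perp (mems z) r) {U : Subgroup G}
    (hsq : ∀ u ∈ U, u * u = 1) (hpres : ∀ u ∈ U, ∀ e ∈ ln (mems z) r s, u * e * u⁻¹ ∈ ln (mems z) r s) :
    ∃ e ∈ ln (mems z) r s, ∀ u ∈ U, Commute u e := by
  classical
  letI : MulAction U (ln (mems z) r s) :=
    { smul := fun u e => ⟨_, hpres u u.2 e e.2⟩
      one_smul := fun e => Subtype.ext (show ((1 : U) : G) * e * ((1 : U) : G)⁻¹ = e by simp)
      mul_smul := fun u v e => Subtype.ext (show ((u * v : U) : G) * e * ((u * v : U) : G)⁻¹ =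
        u * ((v : G) * e * (v : G)⁻¹) * (u : G)⁻¹ by push_cast; group) }
  haveI : Fact (Nat.Prime 2) := ⟨Nat.prime_two⟩
  have hp : IsPGroup 2 U :=
    fun u => ⟨1, Subtype.ext (by rw [pow_one, SubgroupClass.coe_pow, pow_two]; exact hsq u u.2)⟩
  obtain ⟨c, d, e, hnd, hmem, -⟩ := hU.line hr hs
  have hcard : Nat.card (ln (mems z) r s) = 5 := by
    rw [Nat.card_coe_set_eq, show ln (mems z) r s = ↑([r, s, c, d, e].toFinset) from Set.ext fun q => by
      rw [hmem, Finset.mem_coe, List.mem_toFinset], Set.ncard_coe_finset, List.toFinset_card_of_nodup hnd]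
    rfl
  obtain ⟨q, hq⟩ := hp.nonempty_fixed_point_of_prime_not_dvd_card (ln (mems z) r s) (by rw [hcard]; norm_num)
  exact ⟨q, q.2, fun u hu => mul_inv_eq_iff_eq_mul.1 (congrArg Subtype.val (hq ⟨u, hu⟩) : u * q.1 * u⁻¹ = q.1)⟩

theorem mem_zpowers_invol {x g : G} (hx : x * x = 1) (hg : g ∈ Subgroup.zpowers x) : g = 1 ∨ g = x :=
  (mem_zpowers_two hx).1 hg

/-- A conjugate does not swap two commuting ones. -/
theorem Uni.not_swap (hU : Uni z) (hr : r ∈ mems z) (hs : s ∈ perp (mems z) r) (hx : x ∈ mems z) :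
    x * r * x ≠ s := by
  intro h
  have hxx := hU.sq hx
  have hxi := hU.inv hx
  have hswap : x * s * x = r := by
    rw [← h, show x * (x * r * x) * x = x * x * r * (x * x) by simp only [mul_assoc], hxx, one_mul, mul_one]
  have hncomm : ¬ Commute x r := fun hc => hs.2.1 (by rw [← h, hc.eq, mul_assoc, hxx, mul_one])
  obtain ⟨e, he, hfix⟩ := hU.fixed_point hr hs (U := Subgroup.zpowers x)
    (fun u hu => by rcases mem_zpowers_invol hxx hu with rfl | rfl; exacts [one_mul 1, hxx])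
    (fun u hu q hq => by
      rcases mem_zpowers_invol hxx hu with rfl | rfl
      · simpa using hq
      · have := ln_conj u hq
        rw [hxi, h, hswap, Cfsg.Lib.Fischer.Polar.ln_comm] at this
        rw [hxi]
        exact this)
  have hex : Commute x e := hfix x (Subgroup.mem_zpowers x)
  have her : e ≠ r := fun e' => hncomm (e' ▸ hex)
  have hxe : x ≠ e := fun e' => hncomm (e' ▸ he.2 r ⟨hr, Commute.refl r, hs.2.2.symm⟩)
  have hre : r ∈ perp (mems z) e := ⟨hr, her.symm, he.2 r ⟨hr, Commute.refl r, hs.2.2.symm⟩⟩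
  have hb := hU.braid he.1 ⟨hx, hxe, hex.symm⟩ hre hncomm
  rw [h] at hb
  -- `s = r x r`, but `s` commutes with `r`
  refine hncomm ?_
  have h3 : x = r * s * r := by
    rw [hb, show r * (r * x * r) * r = r * r * x * (r * r) by simp only [mul_assoc], hU.sq hr, one_mul, mul_one]
  rw [h3]
  exact ((Commute.refl r).mul_left hs.2.2.symm).mul_left (Commute.refl r)

/-- The odd part at a product meets the centraliser of a point of the line trivially. -/
theorem Uni.odd_meet (hU : Uni z) (hr : r ∈ mems z) (hs : s ∈ perp (mems z) r) {e : G}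
    (he : e ∈ ln (mems z) r s) {v : G} (hv : v ∈ oddPart (r * s)) (hve : Commute v e) : v = 1 := by
  obtain ⟨f, hf, hfe⟩ : ∃ f ∈ ln (mems z) r s, f ≠ e := by
    by_cases h : r = e
    · exact ⟨s, ⟨hs.1, fun d hd => hd.2.2⟩, fun h' => hs.2.1 (h'.trans h.symm)⟩
    · exact ⟨r, ⟨hr, fun d hd => hd.2.1⟩, h⟩
  obtain ⟨hfp, heq⟩ := hU.ln_eq hr hs he hf hfe.symm
  have hUe := hU.move he.1
  obtain ⟨F⟩ := hUe.frame
  have hn := (nb_iff_perp he.1).2 hfp
  refine F.odd_fix hUe hn hve (Cfsg.Lib.Fischer.FromCent.oddPart_odd hv) fun a ha haf => ?_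
  have hae : Commute a e := F.ext.cz a ha
  have hall : ∀ q ∈ ln (mems z) r s, Commute a q := by
    intro q hq
    rw [← heq, ← mems_eq he.1, F.ln_at hUe hn] at hq
    rcases hq with rfl | ⟨hqn, hqe⟩
    exacts [hae, F.cent_four hUe hn hqn hqe.symm ha haf]
  have hap : Commute a (r * s) := (hall r ⟨hr, fun d hd => hd.2.1⟩).mul_right (hall s ⟨hs.1, fun d hd => hd.2.2⟩)
  obtain ⟨c, hc⟩ : ∃ c, c = v * a * v⁻¹ * a⁻¹ := ⟨_, rfl⟩
  have hcO : c ∈ oddPart (r * s) := by
    rw [hc, show v * a * v⁻¹ * a⁻¹ = v * (a * v⁻¹ * a⁻¹) by group]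
    exact mul_mem hv (Cfsg.Lib.Fischer.FromCent.oddPart_conj hap (inv_mem hv))
  have hcJ : c ∈ F.J := hc ▸ mul_mem (F.ext.norm v hve a ha) (inv_mem ha)
  have hc4 : c ^ 4 = 1 := by
    rw [show c ^ 4 = c * c * (c * c) by simp [pow_succ, mul_assoc]]
    rcases F.ext.sq c hcJ with e' | e' <;> rw [e']
    · rw [one_mul]
    · exact F.ext.z2
  have hd := orderOf_dvd_of_pow_eq_one hc4
  have hodd := Cfsg.Lib.Fischer.FromCent.oddPart_odd hcO
  have hc1 : orderOf c = 1 :=
    Nat.eq_one_of_dvd_coprimes (a := 4) (b := orderOf c)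
      (Nat.Coprime.pow_left 2 (Nat.coprime_two_left.2 hodd)) hd dvd_rfl
  rw [orderOf_eq_one_iff, hc] at hc1
  exact mul_inv_eq_iff_eq_mul.1 (mul_inv_eq_one.1 hc1)

theorem Uni.odd_trivial (hU : Uni z) (hr : r ∈ mems z) (hs : s ∈ perp (mems z) r) {v : G}
    (hv : v ∈ oddPart (r * s)) : v = 1 := by
  obtain ⟨c, d, e, -, hmem, hprod⟩ := hU.line hr hs
  have hinv : ∀ q ∈ [r, s, c, d, e], ∀ w ∈ oddPart (r * s), q * w * q = w⁻¹ := by
    intro q hq w hw
    have hq' := (hmem q).2 hq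
    refine Cfsg.Lib.Fischer.FromCent.oddPart_inverts (hU.sq hq'.1) ?_
      (fun u hu hc => hU.odd_meet hr hs hq' hu hc) hw
    exact (hq'.2 r ⟨hr, Commute.refl r, hs.2.2.symm⟩).mul_right (hq'.2 s ⟨hs.1, hs.2.2, Commute.refl s⟩)
  have hvi := inv_mem hv
  have e1 : r * (s * (c * (d * (e * v * e) * d) * c) * s) * r = v⁻¹ := by
    rw [hinv e (by simp) v hv, hinv d (by simp) _ hvi, inv_inv, hinv c (by simp) v hv, hinv s (by simp) _ hvi,
      inv_inv, hinv r (by simp) v hv]
  have hback : e * d * c * s * r = 1 := by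
    have := congrArg (fun y : G => y⁻¹) hprod
    simp only [mul_inv_rev, inv_one, hU.inv ((hmem r).2 (by simp)).1, hU.inv ((hmem s).2 (by simp)).1,
      hU.inv ((hmem c).2 (by simp)).1, hU.inv ((hmem d).2 (by simp)).1, hU.inv ((hmem e).2 (by simp)).1] at this
    simpa only [mul_assoc] using this
  rw [show r * (s * (c * (d * (e * v * e) * d) * c) * s) * r = r * s * c * d * e * v * (e * d * c * s * r) by
    simp only [mul_assoc], hprod, one_mul, hback, mul_one] at e1
  refine Cfsg.Lib.Fischer.FromCent.eq_one_of_odd (Cfsg.Lib.Fischer.FromCent.oddPart_odd hv) ?_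
  nth_rewrite 2 [e1]
  exact mul_inv_cancel v

/-- The centraliser of the product permutes the two. -/
theorem Uni.cent_pair (hU : Uni z) (hr : r ∈ mems z) (hs : s ∈ perp (mems z) r) {w : G}
    (hw : Commute w (r * s)) :
    (w * r * w⁻¹ = r ∧ w * s * w⁻¹ = s) ∨ (w * r * w⁻¹ = s ∧ w * s * w⁻¹ = r) := by
  have hrr := hU.sq hr
  have hss := hU.sq hs.1
  obtain ⟨p, hp⟩ : ∃ p, p = r * s := ⟨_, rfl⟩
  rw [← hp] at hw
  have hpp : p * p = 1 := by
    rw [hp, show r * s * (r * s) = r * r * (s * s) from hs.2.2.symm.mul_mul_mul_comm r s, hrr, hss, mul_one]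
  have hp1 : p ≠ 1 := fun h => hs.2.1 (by
    rw [hp] at h; exact (eq_inv_of_mul_eq_one_right h).trans (hU.inv hr))
  have hrp : Commute r p := hp ▸ (Commute.refl r).mul_right hs.2.2
  have hrs : r * p = s := by rw [hp, ← mul_assoc, hrr, one_mul]
  let W := Subgroup.centralizer ({p} : Set G)
  let pW : W := ⟨p, Subgroup.mem_centralizer_singleton_iff.2 rfl⟩
  let rW : W := ⟨r, Subgroup.mem_centralizer_singleton_iff.2 hrp.eq⟩
  have hpW : pW ∈ Subgroup.center W := Subgroup.mem_center_iff.2 fun g =>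
    Subtype.ext (Subgroup.mem_centralizer_singleton_iff.1 g.2)
  have hpW2 : pW * pW = 1 := Subtype.ext hpp
  have hop : orderOf pW = 2 := orderOf_eq_prime (by rw [pow_two, hpW2]) fun h => hp1 (congrArg Subtype.val h)
  haveI hn : (Subgroup.zpowers pW).Normal := ⟨fun n hn g => by
    have hc : n ∈ Subgroup.center W := (Subgroup.zpowers_le.2 hpW) hn
    rw [Subgroup.mem_center_iff.1 hc g, mul_inv_cancel_right]; exact hn⟩
  have hclass : ∀ g : W, ((g * rW * g⁻¹ : W) : W ⧸ Subgroup.zpowers pW) = (rW : W ⧸ Subgroup.zpowers pW) ↔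
      (g : G) * r * (g : G)⁻¹ = r ∨ (g : G) * r * (g : G)⁻¹ = s := by
    intro g
    rw [eq_comm, QuotientGroup.eq, mem_zpowers_two hpW2, inv_mul_eq_one, inv_mul_eq_iff_eq_mul]
    constructor
    · rintro (h | h)
      · exact Or.inl (congrArg Subtype.val h).symm
      · exact Or.inr ((congrArg Subtype.val h).trans hrs)
    · rintro (h | h)
      · exact Or.inl (Subtype.ext h.symm)
      · exact Or.inr (Subtype.ext (h.trans hrs.symm))
  have hiso : Cfsg.IsIsolatedInvolution (rW : W ⧸ Subgroup.zpowers pW) := by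
    constructor
    · refine orderOf_eq_prime ?_ fun h => ?_
      · rw [pow_two, ← QuotientGroup.mk_mul, show rW * rW = 1 from Subtype.ext hrr, QuotientGroup.mk_one]
      · rcases (mem_zpowers_two hpW2).1 ((QuotientGroup.eq_one_iff rW).1 h) with e | e
        · exact hU.ne_one hr (congrArg Subtype.val e)
        · exact hU.pair_nmem hr hs (by
            rw [← hp, ← show r = p from congrArg Subtype.val e]; exact hr)
    · intro gq hcomm
      obtain ⟨g, rfl⟩ := QuotientGroup.mk_surjective gq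
      rw [← QuotientGroup.mk_inv, ← QuotientGroup.mk_mul, ← QuotientGroup.mk_mul] at hcomm ⊢
      obtain ⟨y, hy⟩ : ∃ y, y = (g : G) * r * (g : G)⁻¹ := ⟨_, rfl⟩
      have hym : y ∈ mems z := hy ▸ mem_conj hr _
      refine (hclass g).2 ?_
      rw [← hy]
      have hgp : Commute (g : G) p := Subgroup.mem_centralizer_singleton_iff.1 g.2
      have hyp : Commute y p := hy ▸ (hgp.mul_left hrp).mul_left hgp.inv_left
      have h1 : ((g * rW * g⁻¹ * rW * (g * rW * g⁻¹)⁻¹ : W) : W ⧸ Subgroup.zpowers pW) = rW := by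
        rw [QuotientGroup.mk_mul, QuotientGroup.mk_mul, QuotientGroup.mk_inv, ← hcomm.eq, mul_inv_cancel_right]
      rw [eq_comm, QuotientGroup.eq, mem_zpowers_two hpW2, inv_mul_eq_one, inv_mul_eq_iff_eq_mul] at h1
      rcases h1 with h1 | h1
      · have hyr : y * r * y⁻¹ = r := by rw [hy]; exact (congrArg Subtype.val h1).symm
        have hcr : Commute y r := mul_inv_eq_iff_eq_mul.1 hyr
        by_contra hne
        push Not at hne
        have hcs : Commute y s := by rw [← hrs]; exact hcr.mul_right hyp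
        have hys : y * r * s ∈ mems z := by
          rw [mul_assoc, ← hp]
          have h2 : (g : G) * s * (g : G)⁻¹ = y * p := by
            rw [← hrs, hy]
            calc (g : G) * (r * p) * (g : G)⁻¹ = (g : G) * r * (g : G)⁻¹ * ((g : G) * p * (g : G)⁻¹) := by group
              _ = _ := by rw [mul_inv_eq_iff_eq_mul.2 hgp.eq]
          exact h2 ▸ mem_conj hs.1 _
        exact hU.triple_nmem hym ⟨hr, hne.1.symm, hcr⟩ ⟨hs.1, hne.2.symm, hcs⟩ hs.2.1.symm hs.2.2 hys
      · exfalso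
        refine hU.not_swap hr hs hym ?_
        have : y * r * y⁻¹ = s := by rw [hy]; exact (congrArg Subtype.val h1).trans hrs
        rwa [hU.inv hym] at this
  let wW : W := ⟨w, Subgroup.mem_centralizer_singleton_iff.2 hw.eq⟩
  have hz' := ZStar.zStarHolds (W ⧸ Subgroup.zpowers pW) _ hiso (wW : W ⧸ Subgroup.zpowers pW)
  have htriv : ∀ u : W, u ∈ Cfsg.oddCore W → u = 1 := fun u hu => Subtype.ext
    (hU.odd_trivial hr hs (v := (u : G)) (hp ▸ ⟨u, hu, rfl⟩))
  have hmain : w * r * w⁻¹ = r ∨ w * r * w⁻¹ = s := by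
    refine (hclass wW).1 ?_
    rw [← QuotientGroup.mk_inv, ← QuotientGroup.mk_inv, ← QuotientGroup.mk_mul, ← QuotientGroup.mk_mul,
      ← QuotientGroup.mk_mul] at hz'
    rw [QuotientGroup.eq, mem_zpowers_two hpW2]
    have hu := Cfsg.Lib.Fischer.FromCent.oddCore_lift hop hpW hz'
    have e : (wW * rW * wW⁻¹)⁻¹ * rW = wW * rW⁻¹ * wW⁻¹ * rW := by group
    have hcom : rW * wW * rW⁻¹ * wW⁻¹ = 1 ∨ rW * wW * rW⁻¹ * wW⁻¹ = pW := by
      rcases hu with h | h
      · exact Or.inl (htriv _ h)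
      · exact Or.inr (inv_mul_eq_one.1 (by rw [inv_eq_of_mul_eq_one_right hpW2]; exact htriv _ h)).symm
    rw [show (wW * rW * wW⁻¹)⁻¹ * rW = rW⁻¹ * (rW * wW * rW⁻¹ * wW⁻¹) * rW by group]
    rcases hcom with h | h <;> rw [h]
    · left; group
    · right; rw [mul_assoc, ← Subgroup.mem_center_iff.1 hpW rW, inv_mul_cancel_left]
  have hws : ∀ u, w * r * w⁻¹ = u → w * s * w⁻¹ = u * p := fun u hu => by
    rw [← hrs, ← hu]
    calc w * (r * p) * w⁻¹ = w * r * w⁻¹ * (w * p * w⁻¹) := by group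
      _ = _ := by rw [mul_inv_eq_iff_eq_mul.2 hw.eq]
  rcases hmain with h | h
  · exact Or.inl ⟨h, (hws r h).trans hrs⟩
  · exact Or.inr ⟨h, (hws s h).trans (by rw [← hrs, mul_assoc, hpp, mul_one])⟩

/-- A conjugate centralising the product centralises both. -/
theorem Uni.member_commute_pair (hU : Uni z) (hr : r ∈ mems z) (hs : s ∈ perp (mems z) r) (hx : x ∈ mems z)
    (h : Commute x (r * s)) : Commute x r ∧ Commute x s := by
  rcases hU.cent_pair hr hs h with ⟨h1, h2⟩ | ⟨h1, -⟩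
  · exact ⟨mul_inv_eq_iff_eq_mul.1 h1, mul_inv_eq_iff_eq_mul.1 h2⟩
  · exfalso
    rw [hU.inv hx] at h1
    exact hU.not_swap hr hs hx h1

end Cfsg.Lib.U62Type
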