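import Cfsg.Agent.Lib.U62Type.Members
import Cfsg.Agent.Lib.Fischer.Polar.Lines

/-!
# Lines of five conjugates
-/

set_option autoImplicit false
set_option linter.unusedSectionVars false
set_option linter.style.haveILetI false

namespace Cfsg.Lib.U62Type

open Cfsg.Lib.Fischer (perp)
open Cfsg.Lib.Fischer.Polar (ln com)

/-- The conjugates of `z`. -/
def mems {G : Type*} [Group G] (z : G) : Set G := {t | Mem z t}

variable {G : Type*} [Group G] [Finite G] {z t s a b p : G}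

theorem mems_eq {a : G} (h : a ∈ mems z) : mems a = mems z := by
  ext x
  exact ⟨fun hx => Mem.trans h hx, fun hx => Mem.trans (Mem.symm h) hx⟩

theorem nb_iff_perp {a x : G} (ha : a ∈ mems z) : Nb a x ↔ x ∈ perp (mems z) a :=
  ⟨fun h => ⟨Mem.trans ha h.1, h.2.2, h.2.1.symm⟩,
    fun h => ⟨Mem.trans (Mem.symm ha) h.1, h.2.2.symm, h.2.1⟩⟩

theorem Uni.sq (hU : Uni z) (ha : a ∈ mems z) : a * a = 1 := by
  obtain ⟨F⟩ := (hU.move ha).frame
  exact F.ext.z2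

theorem Uni.inv (hU : Uni z) (ha : a ∈ mems z) : a⁻¹ = a := inv_eq_of_mul_eq_one_right (hU.sq ha)

theorem Uni.ne_one (hU : Uni z) (ha : a ∈ mems z) : a ≠ 1 := by
  obtain ⟨F⟩ := (hU.move ha).frame
  exact F.ext.z1

namespace Frame

variable (F : Frame cfgU z) (hU : Uni z)

include F hU

theorem nb_four (ht : Nb z t) : ∃ a b c, [t, a, b, c].Nodup ∧
    (∀ p, Nb z p ∧ F.κ p = F.κ t ↔ p ∈ [t, a, b, c]) ∧ t * a * b * c = z := by
  obtain ⟨g, hg, T, P, he, hT⟩ := F.normalise hU ht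
  obtain ⟨x, hx⟩ : ∃ x, x = g * t * g⁻¹ := ⟨_, rfl⟩
  have hnx : Nb z x := hx ▸ ht.conj hg
  have h0 : F.κ x = cl 0 := by rw [hx, he, cl_xC]
  have hr : rT.getD 0 [] = [85, 170, 255] := by decide +kernel
  obtain ⟨v₁, hv₁, e₁⟩ := range_surj (i := 0) (r := 85) (by norm_num) (by rw [hr]; simp)
  obtain ⟨v₂, hv₂, e₂⟩ := range_surj (i := 0) (r := 170) (by norm_num) (by rw [hr]; simp)
  obtain ⟨k₁, hk₁, rfl⟩ := F.vc_surj v₁ hv₁
  obtain ⟨k₂, hk₂, rfl⟩ := F.vc_surj v₂ hv₂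
  rw [cl_xC] at e₁ e₂
  have hprod := P.thick_prod he hT hk₁ hk₂ (by rw [e₁]; norm_num) (by rw [e₂]; norm_num)
    (by rw [e₁, e₂]; norm_num)
  rw [← hx] at hprod
  have hmk : ∀ k ∈ F.J, Nb z (k⁻¹ * x * k) ∧ F.κ (k⁻¹ * x * k) = F.κ x ∧
      F.vc (x⁻¹ * (k⁻¹ * x * k)) = ap (cl 0) (F.vc k) ^^^ F.vc k := by
    intro k hk
    have hkz : Commute k z := F.ext.cz k hk
    have h1 : Nb z (k⁻¹ * x * k) := by simpa using hnx.conj hkz.inv_left
    refine ⟨h1, ?_, ?_⟩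
    · rw [F.κ_mulJ (hkz.inv_left.mul_left hnx.2.1) hk, F.κ_Jmul hnx.2.1 (inv_mem hk)]
    · obtain ⟨c, hc, hke, hcv⟩ := P.move hk
      rw [← hx] at hke hcv
      rw [hke, inv_mul_cancel_left, hcv, h0]
  obtain ⟨n₁, c₁, u₁⟩ := hmk k₁ hk₁
  obtain ⟨n₂, c₂, u₂⟩ := hmk k₂ hk₂
  obtain ⟨n₃, c₃, u₃⟩ := hmk (k₁ * k₂) (mul_mem hk₁ hk₂)
  rw [cl_xC, e₁] at u₁
  rw [cl_xC, e₂] at u₂
  rw [cl_xC, F.vc_mul _ hk₁ _ hk₂, ap_xor, xor4, e₁, e₂] at u₃
  obtain ⟨s₁, hs₁⟩ : ∃ s, s = k₁⁻¹ * x * k₁ := ⟨_, rfl⟩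
  obtain ⟨s₂, hs₂⟩ : ∃ s, s = k₂⁻¹ * x * k₂ := ⟨_, rfl⟩
  obtain ⟨s₃, hs₃⟩ : ∃ s, s = (k₁ * k₂)⁻¹ * x * (k₁ * k₂) := ⟨_, rfl⟩
  rw [← hs₁] at n₁ c₁ u₁ hprod
  rw [← hs₂] at n₂ c₂ u₂ hprod
  rw [← hs₃] at n₃ c₃ u₃ hprod
  have u₀ : F.vc (x⁻¹ * x) = 0 := by rw [inv_mul_cancel, F.vc_one]
  have hclass : ∀ q, Nb z q ∧ F.κ q = F.κ x ↔ q ∈ [x, s₁, s₂, s₃] := by
    intro q
    constructor
    · rintro ⟨hq, hqe⟩
      have hsame : ∀ s, Nb z s → F.κ s = F.κ x → F.vc (x⁻¹ * q) = F.vc (x⁻¹ * s) → q = s := by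
        intro s hs hse hv
        rcases F.vc_eq (F.fibre_vec hU hnx hs hse.symm).1 (F.fibre_vec hU hnx hq hqe.symm).1 hv.symm with e | e
        · exact mul_left_cancel e
        · exfalso
          rw [mul_assoc] at e
          exact F.fibre_ne hU hs ((mul_left_cancel e) ▸ hq.1)
      obtain ⟨-, v, hv, hqv⟩ := F.fibre_vec hU hnx hq hqe.symm
      have hmem := range_mem (i := 0) (by norm_num) hv
      rw [hr, ← h0, ← hqv] at hmem
      simp only [List.mem_cons, List.not_mem_nil, or_false] at hmem ⊢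
      rcases hmem with e | e | e | e
      exacts [Or.inl (hsame x hnx rfl (e.trans u₀.symm)), Or.inr (Or.inl (hsame _ n₁ c₁ (e.trans u₁.symm))),
        Or.inr (Or.inr (Or.inl (hsame _ n₂ c₂ (e.trans u₂.symm)))),
        Or.inr (Or.inr (Or.inr (hsame _ n₃ c₃ (e.trans u₃.symm))))]
    · simp only [List.mem_cons, List.not_mem_nil, or_false]
      rintro (rfl | rfl | rfl | rfl)
      exacts [⟨hnx, rfl⟩, ⟨n₁, c₁⟩, ⟨n₂, c₂⟩, ⟨n₃, c₃⟩]
  have hnd : [x, s₁, s₂, s₃].Nodup := by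
    refine List.Nodup.of_map (fun q => F.vc (x⁻¹ * q)) ?_
    simp only [List.map_cons, List.map_nil, u₀, u₁, u₂, u₃]
    decide
  have hgz : g⁻¹ * z * g = z := by rw [mul_assoc, ← hg.eq, inv_mul_cancel_left]
  have hback : g⁻¹ * x * g = t := by rw [hx]; group
  refine ⟨g⁻¹ * s₁ * g, g⁻¹ * s₂ * g, g⁻¹ * s₃ * g, ?_, fun q => ?_, ?_⟩
  · have := hnd.map (f := fun q => g⁻¹ * q * g) fun u v h => mul_left_cancel (mul_right_cancel h)
    simpa only [List.map_cons, List.map_nil, hback] using this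
  · have h := hclass (g * q * g⁻¹)
    have hiff : (Nb z (g * q * g⁻¹) ∧ F.κ (g * q * g⁻¹) = F.κ x) ↔ (Nb z q ∧ F.κ q = F.κ t) := by
      constructor
      · rintro ⟨hq, hqe⟩
        have hq' : Nb z q := by
          have := hq.conj hg.inv_left
          rwa [show g⁻¹ * (g * q * g⁻¹) * g⁻¹⁻¹ = q by group] at this
        refine ⟨hq', ?_⟩
        rw [hx] at hqe
        exact (F.κ_eq_iff hq'.2.1 ht.2.1).2 (F.κ_conj_eq hg hq'.2.1 ht.2.1 hqe)
      · rintro ⟨hq, hqe⟩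
        refine ⟨hq.conj hg, ?_⟩
        rw [hx, F.κ_conj hg hq.2.1, hqe, ← F.κ_conj hg ht.2.1]
    rw [← hiff, h]
    simp only [List.mem_cons, List.not_mem_nil, or_false]
    have e : ∀ w, g * q * g⁻¹ = w ↔ q = g⁻¹ * w * g := fun w =>
      ⟨fun e => by rw [← e]; group, fun e => by rw [e]; group⟩
    rw [e x, e s₁, e s₂, e s₃, hback]
  · rw [← hback]
    calc g⁻¹ * x * g * (g⁻¹ * s₁ * g) * (g⁻¹ * s₂ * g) * (g⁻¹ * s₃ * g) = g⁻¹ * (x * s₁ * s₂ * s₃) * g := by group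
      _ = z := by rw [hprod, hgz]

/-- The line through the involution and a neighbour. -/
theorem ln_at (ht : Nb z t) : p ∈ ln (mems z) z t ↔ p = z ∨ Nb z p ∧ F.κ p = F.κ t := by
  constructor
  · intro hp
    by_cases hpz : p = z
    · exact Or.inl hpz
    right
    have hzc : z ∈ com (mems z) z t := ⟨Mem.refl z, Commute.refl z, ht.2.1⟩
    have hn : Nb z p := ⟨hp.1, hp.2 z hzc, hpz⟩
    refine ⟨hn, ?_⟩
    obtain ⟨i, hi, hti⟩ := F.nb_code hU ht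
    obtain ⟨j, hj, hpj⟩ := F.nb_code hU hn
    by_contra hne
    have htp : Commute p t := hp.2 t ⟨ht.1, ht.2.1.symm, Commute.refl t⟩
    obtain ⟨-, -, -, k, hk, hik, hjk⟩ := comm_facts hi hj (fun h => hne (by rw [hpj, hti, h]))
      (by rw [← hti, ← hpj]; exact (F.comm_iff_code hU ht hn).1 htp.symm)
    obtain ⟨d, hd, hdk⟩ := F.exists_code hU hk
    have hdc : d ∈ com (mems z) z t :=
      ⟨hd.1, hd.2.1.symm, F.comm_of_code hU ht hd (by rw [hti, hdk]; exact hik)⟩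
    apply hjk
    rw [← hpj, ← hdk]
    exact (F.comm_iff_code hU hn hd).1 (hp.2 d hdc)
  · rintro (rfl | ⟨hn, he⟩)
    · exact ⟨Mem.refl p, fun d hd => hd.2.1⟩
    refine ⟨hn.1, fun d hd => ?_⟩
    by_cases hdz : d = z
    · rw [hdz]; exact hn.2.1
    have hnd : Nb z d := ⟨hd.1, hd.2.1.symm, hdz⟩
    refine F.comm_of_code hU hn hnd ?_
    rw [he]
    exact (F.comm_iff_code hU ht hnd).1 hd.2.2

end Frame

/-- A line has five points, with product one. -/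
theorem Uni.line (hU : Uni z) (ha : a ∈ mems z) (hb : b ∈ perp (mems z) a) : ∃ c d e, [a, b, c, d, e].Nodup ∧
    (∀ p, p ∈ ln (mems z) a b ↔ p ∈ [a, b, c, d, e]) ∧ a * b * c * d * e = 1 := by
  have hn := (nb_iff_perp ha).2 hb
  obtain ⟨F⟩ := (hU.move ha).frame
  obtain ⟨c, d, e, hnd, hmem, hprod⟩ := F.nb_four (hU.move ha) hn
  refine ⟨c, d, e, List.nodup_cons.2 ⟨fun h => ((hmem a).2 h).1.2.2 rfl, hnd⟩, fun p => ?_, ?_⟩
  · rw [← mems_eq ha, F.ln_at (hU.move ha) hn, hmem, List.mem_cons (a := p) (b := a)]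
  · calc a * b * c * d * e = a * (b * c * d * e) := by simp only [mul_assoc]
      _ = 1 := by rw [hprod]; exact hU.sq ha

/-- An involution fixing two points of a line fixes each. -/
theorem Uni.fix_line (hU : Uni z) (ha : a ∈ mems z) (hb : b ∈ perp (mems z) a) {u : G} (hu : u * u = 1)
    (hua : Commute u a) (hub : Commute u b) (hp : p ∈ ln (mems z) a b) : Commute u p := by
  have hn := (nb_iff_perp ha).2 hb
  obtain ⟨F⟩ := (hU.move ha).frame
  rw [← mems_eq ha, F.ln_at (hU.move ha) hn] at hp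
  rcases hp with rfl | ⟨hpn, hpe⟩
  · exact hua
  · exact F.fix_four (hU.move ha) hn hpn hpe.symm hu hua hub

/-- The product of two commuting conjugates is no conjugate. -/
theorem Uni.pair_nmem (hU : Uni z) (ha : a ∈ mems z) (hb : b ∈ perp (mems z) a) : a * b ∉ mems z := by
  intro h
  obtain ⟨F⟩ := (hU.move ha).frame
  refine F.fibre_ne (hU.move ha) ((nb_iff_perp ha).2 hb) ?_
  rw [← hb.2.2.eq]
  exact Mem.trans (Mem.symm ha) h

/-- The product of three commuting conjugates is no conjugate. -/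
theorem Uni.triple_nmem (hU : Uni z) (ha : a ∈ mems z) (hb : b ∈ perp (mems z) a) {c : G}
    (hc : c ∈ perp (mems z) a) (hne : b ≠ c) (hbc : Commute b c) : a * b * c ∉ mems z := by
  intro h
  have hUa := hU.move ha
  have hnb := (nb_iff_perp ha).2 hb
  have hnc := (nb_iff_perp ha).2 hc
  obtain ⟨F⟩ := hUa.frame
  by_cases e : a * b * c = a
  · rw [mul_assoc] at e
    exact hne ((eq_inv_of_mul_eq_one_left (mul_eq_left.1 e)).trans (hU.inv hc.1))
  have hn : Nb a (a * b * c) :=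
    ⟨Mem.trans (Mem.symm ha) h, ((Commute.refl a).mul_left hnb.2.1).mul_left hnc.2.1, e⟩
  obtain ⟨i, hi, hbi⟩ := F.nb_code hUa hnb
  obtain ⟨j, hj, hcj⟩ := F.nb_code hUa hnc
  obtain ⟨k, hk, hkk⟩ := F.nb_code hUa hn
  rw [mul_assoc, F.κ_Jmul (hnb.2.1.mul_left hnc.2.1) F.ext.zJ, F.κ_mul hnb.2.1 hnc.2.1, hbi, hcj] at hkk
  by_cases hij : i = j
  · subst hij
    rw [(cl_invol i hi).1] at hkk
    exact (cl_invol k hk).2 hkk.symm
  · refine (comm_facts hi hj hij ?_).2.1 (hkk ▸ cl_mem hk)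
    rw [← hbi, ← hcj]
    exact (F.comm_iff_code hUa hnb hnc).1 hbc

/-- Two neighbours of a conjugate commute or braid. -/
theorem Uni.braid (hU : Uni z) {x y : G} (ha : a ∈ mems z) (hx : x ∈ perp (mems z) a)
    (hy : y ∈ perp (mems z) a) (hn : ¬ Commute x y) : x * y * x = y * x * y := by
  obtain ⟨F⟩ := (hU.move ha).frame
  exact F.nb_braid (hU.move ha) ((nb_iff_perp ha).2 hx) ((nb_iff_perp ha).2 hy) hn

end Cfsg.Lib.U62Type
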