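import Cfsg.Agent.Lib.U62Type.Thick
import Cfsg.Agent.Lib.U62Type.GlobalTables

/-!
# The conjugates commuting with the involution: forty-five fours
-/

set_option autoImplicit false
set_option linter.unusedSectionVars false
set_option linter.style.haveILetI false

namespace Cfsg.Lib.U62Type

/-- A conjugate of `z` commuting with it, other than itself. -/
def Nb {G : Type*} [Group G] (z t : G) : Prop := Mem z t ∧ Commute t z ∧ t ≠ z

theorem cl_xC : cl 0 = xC gensU 0 := by decide +kernel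

theorem cl_mem {i : ℕ} (hi : i < 45) : cl i ∈ clL gensU 0 := by
  have hlen : clU0.length = 45 := by decide +kernel
  show clU0.getD i 0 ∈ clU0
  rw [List.getD_eq_getElem _ _ (hlen ▸ hi)]
  exact List.getElem_mem _

theorem mem_cl {c : ℕ} (h : c ∈ clL gensU 0) : ∃ i < 45, c = cl i := by
  have hlen : clU0.length = 45 := by decide +kernel
  obtain ⟨i, hi, rfl⟩ := List.getElem_of_mem (show c ∈ clU0 from h)
  exact ⟨i, hlen ▸ hi, (List.getD_eq_getElem _ _ hi).symm⟩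

theorem cl_inj : ∀ i < 45, ∀ j < 45, cl i = cl j → i = j := by decide +kernel

theorem cl_invol : ∀ i < 45, cm (cl i) (cl i) = idc ∧ cl i ≠ idc := by decide +kernel

theorem rT_spec : ∀ i < 45, (0 :: rT.getD i []).Nodup ∧ (0 :: rT.getD i []).length = 4 := by decide +kernel

theorem adjB_iff {i j : ℕ} (hi : i < 45) (hj : j < 45) :
    adjB i j = true ↔ cm (cl i) (cl j) = cm (cl j) (cl i) := by
  have h := adj_ok
  simp only [adjChk, idx, List.all_eq_true, List.mem_range, beq_iff_eq] at h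
  rw [h i hi j hj, beq_iff_eq]

theorem range_mem {i v : ℕ} (hi : i < 45) (hv : v < 256) : ap (cl i) v ^^^ v ∈ 0 :: rT.getD i [] := by
  have h := rng_ok
  simp only [rngChk, idx, vecs, List.all_eq_true, List.mem_range, Bool.or_eq_true, nbeq_iff,
    List.contains_iff_mem] at h
  rcases h i hi v hv with e | e
  · rw [e]; exact List.mem_cons_self
  · exact List.mem_cons_of_mem _ e

theorem range_surj {i r : ℕ} (hi : i < 45) (hr : r ∈ 0 :: rT.getD i []) : ∃ v < 256, ap (cl i) v ^^^ v = r := by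
  rcases List.mem_cons.1 hr with rfl | hr
  · exact ⟨0, by norm_num, by rw [ap_zero, Nat.xor_self]⟩
  have h := gen_ok
  simp only [genChk, idx, vecs, Bool.and_eq_true, List.all_eq_true, List.any_eq_true, List.mem_range, nbeq_iff] at h
  exact h.2 i hi r hr

theorem comm_facts {i j : ℕ} (hi : i < 45) (hj : j < 45) (hne : i ≠ j) (h : cm (cl i) (cl j) = cm (cl j) (cl i)) :
    (∀ r ∈ rT.getD i [], r ∉ rT.getD j []) ∧ cm (cl i) (cl j) ∉ clL gensU 0 ∧ cm (cl i) (cl j) ≠ idc ∧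
      ∃ k < 45, cm (cl i) (cl k) = cm (cl k) (cl i) ∧ cm (cl j) (cl k) ≠ cm (cl k) (cl j) := by
  have hc := comm_ok
  simp only [commChk, idx, List.all_eq_true, List.mem_range, Bool.or_eq_true, Bool.and_eq_true, Bool.not_eq_true',
    List.any_eq_true, List.any_eq_false, List.contains_iff_mem] at hc
  rcases hc i hi j hj with (e | e) | ⟨⟨⟨a, b⟩, c⟩, k, hk, d, e⟩
  · exact absurd (nbeq_iff.1 e) hne
  · rw [(adjB_iff hi hj).2 h] at e; exact Bool.noConfusion e
  refine ⟨fun r hr => a r hr, fun hm => ?_, fun hm => ?_, k, hk, (adjB_iff hi hk).1 d, fun h' => ?_⟩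
  · have := List.contains_iff_mem.2 (show cm (cl i) (cl j) ∈ clU0 from hm)
    rw [this] at b; exact Bool.noConfusion b
  · rw [nbeq_iff.2 hm] at c; exact Bool.noConfusion c
  · rw [(adjB_iff hj hk).2 h'] at e; exact Bool.noConfusion e

theorem braid_facts {i j : ℕ} (hi : i < 45) (hj : j < 45) (h : cm (cl i) (cl j) ≠ cm (cl j) (cl i)) :
    cm (cm (cl i) (cl j)) (cl i) = cm (cm (cl j) (cl i)) (cl j) ∧
      ∃ k < 45, cl k = cm (cm (cl i) (cl j)) (cl i) ∧ ∀ r ∈ rT.getD k [], ap (cl i) r ≠ r := by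
  have hc := braid_ok
  simp only [braidChk, idx, List.all_eq_true, List.any_eq_true, List.mem_range, Bool.or_eq_true, Bool.and_eq_true,
    Bool.not_eq_true', beq_iff_eq] at hc
  rcases hc i hi j hj with e | ⟨e, k, hk, hke, hr⟩
  · exact absurd ((adjB_iff hi hj).1 e) h
  refine ⟨e, k, hk, hke, fun r hrm hh => ?_⟩
  have := hr r hrm
  rw [nbeq_iff.2 hh] at this
  exact Bool.noConfusion this

variable {G : Type*} [Group G] [Finite G] {z t : G}

/-- The unitary situation at an involution. -/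
structure Uni (z : G) : Prop where
  card : Nat.card ↥(Subgroup.centralizer ({z} : Set G)) = 512 * 25920
  frame : Nonempty (Frame cfgU z)
  more : ∃ t, Nb z t

theorem Uni.move (hU : Uni z) (h : Mem z t) : Uni t := by
  obtain ⟨F⟩ := hU.frame
  obtain ⟨s, hs, hsz, hne⟩ := hU.more
  refine ⟨h.card.trans hU.card, F.at_mem h, ?_⟩
  obtain ⟨g, rfl⟩ := h
  exact ⟨g * s * g⁻¹, (Mem.trans (Mem.symm ⟨g, rfl⟩) (hs.conj g)), (Commute.conj_iff g).2 hsz,
    fun e => hne (mul_left_cancel (mul_right_cancel e))⟩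

theorem Nb.conj (ht : Nb z t) {g : G} (hg : Commute g z) : Nb z (g * t * g⁻¹) := by
  refine ⟨ht.1.conj g, (hg.mul_left ht.2.1).mul_left hg.inv_left, fun e => ht.2.2 ?_⟩
  rw [← mul_inv_eq_iff_eq_mul.2 hg.eq] at e
  exact mul_left_cancel (mul_right_cancel e)

namespace Frame

variable (F : Frame cfgU z) (hU : Uni z)

include F hU

/-- Coordinates at the other involution. -/
theorem nb_pair {k : ℕ} (hk : k < 2) (ht : Nb z t) (hκ : F.κ t = xC gensU k) :
    k = 0 ∧ ∃ T : Frame cfgU t, Pair F T ∧ T.κ z = xC gensU 0 := by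
  obtain ⟨i, hi, i', hi', F', T, eJ, P, -, hT⟩ := F.exists_pair hU.card ht.1 ht.2.1 ht.2.2
  have P' : Pair F T := P.reframe eJ.symm
  interval_cases k <;> interval_cases i'
  · exact ⟨rfl, T, P', hT⟩
  · exact (P'.symm.not_mixed hT hκ).elim
  · exact (P'.not_mixed hκ hT).elim
  · exact (P'.not_thin_thin hκ hT).elim

theorem nb_notin (ht : Nb z t) : t ∉ F.J := fun h => by
  obtain ⟨g, hg⟩ := ht.1
  exact ht.2.2 (hg ▸ F.no_inside hU.card (hg ▸ h))

theorem nb_sq (ht : Nb z t) : t * t = 1 := by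
  obtain ⟨T⟩ := F.at_mem ht.1
  exact T.ext.z2

/-- Up to conjugacy the code is the standard one. -/
theorem normalise (ht : Nb z t) : ∃ g, Commute g z ∧ ∃ T : Frame cfgU (g * t * g⁻¹), Pair F T ∧
    F.κ (g * t * g⁻¹) = xC gensU 0 ∧ T.κ z = xC gensU 0 := by
  obtain ⟨k, hk, g, hg, he⟩ := F.invol_class hU.card ht.2.1
    (by rw [← F.κ_mul ht.2.1 ht.2.1, F.nb_sq hU ht, F.κ_one])
    (fun e => F.nb_notin hU ht (F.ker _ ht.2.1 e))
  obtain ⟨rfl, T, P, hT⟩ := F.nb_pair hU hk (ht.conj hg) he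
  exact ⟨g, hg, T, P, he, hT⟩

theorem nb_code (ht : Nb z t) : ∃ i < 45, F.κ t = cl i := by
  obtain ⟨g, hg, T, P, he, -⟩ := F.normalise hU ht
  have h := (F.cover hU.card (k := 0) (by norm_num) (ht.conj hg).2.1 he hg.inv_left).1
  rw [show g⁻¹ * (g * t * g⁻¹) * g⁻¹⁻¹ = t by group] at h
  exact mem_cl h

theorem exists_code {i : ℕ} (hi : i < 45) : ∃ t, Nb z t ∧ F.κ t = cl i := by
  obtain ⟨t₀, ht₀⟩ := hU.more
  obtain ⟨g, hg, T, P, he, -⟩ := F.normalise hU ht₀
  obtain ⟨a, ha, hae, -⟩ := F.cl_spec (k := 0) (by norm_num) (ht₀.conj hg).2.1 he (cl_mem hi)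
  exact ⟨_, (ht₀.conj hg).conj ha, hae⟩

theorem fibre_ne (ht : Nb z t) : ¬ Mem z (t * z) := by
  obtain ⟨g, hg, T, P, he, hT⟩ := F.normalise hU ht
  intro h
  refine P.thick_nz he hT ?_
  have := h.conj g
  rwa [show g * (t * z) * g⁻¹ = g * t * g⁻¹ * (g * z * g⁻¹) by group, mul_inv_eq_iff_eq_mul.2 hg.eq] at this

theorem fibre_conj (ht : Nb z t) {s : G} (hs : Nb z s) (e : F.κ t = F.κ s) :
    ∃ k ∈ F.J, k⁻¹ * t * k = s := by
  obtain ⟨g, hg, T, P, he, hT⟩ := F.normalise hU ht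
  have hj := F.ext.norm g hg _ ((F.κ_eq_iff ht.2.1 hs.2.1).1 e)
  have es : g * t * g⁻¹ * (g * (t⁻¹ * s) * g⁻¹) = g * s * g⁻¹ := by group
  obtain ⟨-, k, hk, hke⟩ := P.thick_fibre he hT hj (es ▸ hs.1.conj g) (es ▸ (hs.conj hg).2.1)
  refine ⟨g⁻¹ * k * g, ?_, ?_⟩
  · have := F.ext.norm g⁻¹ hg.inv_left k hk
    rwa [inv_inv] at this
  · rw [es] at hke
    calc (g⁻¹ * k * g)⁻¹ * t * (g⁻¹ * k * g) = g⁻¹ * (k⁻¹ * (g * t * g⁻¹) * k) * g := by group
      _ = s := by rw [hke]; group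

/-- The displacement within a four. -/
theorem fibre_vec (ht : Nb z t) {s : G} (hs : Nb z s) (e : F.κ t = F.κ s) :
    t⁻¹ * s ∈ F.J ∧ ∃ v < 256, F.vc (t⁻¹ * s) = ap (F.κ t) v ^^^ v := by
  obtain ⟨k, hk, hke⟩ := F.fibre_conj hU ht hs e
  obtain ⟨T⟩ := F.at_mem ht.1
  obtain ⟨g, hg⟩ := ht.1
  have P : Pair F T := ⟨hU.card, ht.1.card.trans hU.card, ht.2.1, F.nb_notin hU ht,
    fun h => by
      obtain ⟨a, ha⟩ := ht.1.symm
      exact ht.2.2 (by
        have := T.no_inside (g := a) (ht.1.card.trans hU.card) (ha.symm ▸ h)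
        exact (ha.symm.trans this).symm),
    ht.1⟩
  obtain ⟨j, hj, hkt, hjv⟩ := P.move hk
  have : t⁻¹ * s = j := by rw [← hke, hkt, inv_mul_cancel_left]
  rw [this]
  exact ⟨hj, _, F.vc_lt k, hjv⟩

theorem fibre_comm (ht : Nb z t) {s : G} (hs : Nb z s) (e : F.κ t = F.κ s) : Commute t s := by
  obtain ⟨g, hg, T, P, he, hT⟩ := F.normalise hU ht
  have hj := F.ext.norm g hg _ ((F.κ_eq_iff ht.2.1 hs.2.1).1 e)
  have es : g * t * g⁻¹ * (g * (t⁻¹ * s) * g⁻¹) = g * s * g⁻¹ := by group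
  obtain ⟨hR, -⟩ := P.thick_fibre he hT hj (es ▸ hs.1.conj g) (es ▸ (hs.conj hg).2.1)
  have hc := P.thick_gam he hT hj (thick_facts.2.2.2.2.1 _ hR).1
  have := (Commute.refl (g * t * g⁻¹)).mul_right hc
  rw [es] at this
  exact (Commute.conj_iff g).1 this

/-- Commuting codes mean commuting elements. -/
theorem comm_of_code (ht : Nb z t) {s : G} (hs : Nb z s) (e : cm (F.κ t) (F.κ s) = cm (F.κ s) (F.κ t)) :
    Commute t s := by
  by_cases heq : F.κ t = F.κ s
  · exact F.fibre_comm hU ht hs heq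
  obtain ⟨i, hi, hti⟩ := F.nb_code hU ht
  obtain ⟨j, hj, hsj⟩ := F.nb_code hU hs
  have hs' : Nb z (t * s * t⁻¹) := hs.conj ht.2.1
  have ht' : Nb z (s⁻¹ * t * s⁻¹⁻¹) := ht.conj hs.2.1.inv_left
  have h1 : F.κ (t * s * t⁻¹) = F.κ s := (F.κ_conj_fix ht.2.1 hs.2.1).2 e
  have h2 : F.κ (s⁻¹ * t * s⁻¹⁻¹) = F.κ t := by
    refine (F.κ_conj_fix hs.2.1.inv_left ht.2.1).2 ?_
    rw [inv_eq_of_mul_eq_one_right (F.nb_sq hU hs)]; exact e.symm
  obtain ⟨hw, v, hv, hwv⟩ := F.fibre_vec hU hs hs' h1.symm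
  obtain ⟨hw', v', hv', hwv'⟩ := F.fibre_vec hU ht ht' h2.symm
  obtain ⟨w, hwdef⟩ : ∃ w, w = s⁻¹ * (t * s * t⁻¹) := ⟨_, rfl⟩
  have heq2 : w = t * (t⁻¹ * (s⁻¹ * t * s⁻¹⁻¹)) * t⁻¹ := by rw [hwdef]; group
  rw [← hwdef] at hw hwv
  have hv2 : F.vc w = ap (cl i) v' ^^^ v' := by
    have hfix : ap (cl i) (ap (cl i) v' ^^^ v') = ap (cl i) v' ^^^ v' := by
      rw [ap_xor, ← ap_cm, (cl_invol i hi).1, ap_idc hv', Nat.xor_comm]
    rw [heq2, F.act t ht.2.1 _ hw', hwv', hti, hfix]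
  have hzero : F.vc w = 0 := by
    by_contra hne
    have a1 : F.vc w ∈ rT.getD i [] := (List.mem_cons.1 (hv2 ▸ range_mem hi hv')).resolve_left hne
    have a2 : F.vc w ∈ rT.getD j [] := (List.mem_cons.1 (by rw [hwv, hsj]; exact range_mem hj hv)).resolve_left hne
    exact (comm_facts hi hj (fun h => heq (by rw [hti, hsj, h])) (by rw [← hti, ← hsj, e])).1 _ a1 a2
  rcases F.vc_zero _ hw hzero with e1 | e1
  · rw [hwdef, inv_mul_eq_one] at e1
    exact mul_inv_eq_iff_eq_mul.1 e1.symm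
  · exfalso
    rw [hwdef, inv_mul_eq_iff_eq_mul] at e1
    exact F.fibre_ne hU hs (e1 ▸ hs'.1)

theorem comm_iff_code (ht : Nb z t) {s : G} (hs : Nb z s) :
    Commute t s ↔ cm (F.κ t) (F.κ s) = cm (F.κ s) (F.κ t) :=
  ⟨fun h => by rw [← F.κ_mul ht.2.1 hs.2.1, ← F.κ_mul hs.2.1 ht.2.1, h.eq], F.comm_of_code hU ht hs⟩

/-- Two neighbours commute or braid. -/
theorem nb_braid (ht : Nb z t) {s : G} (hs : Nb z s) (hn : ¬ Commute t s) : t * s * t = s * t * s := by
  have hti' : t⁻¹ = t := inv_eq_of_mul_eq_one_right (F.nb_sq hU ht)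
  have hsi' : s⁻¹ = s := inv_eq_of_mul_eq_one_right (F.nb_sq hU hs)
  obtain ⟨i, hi, hti⟩ := F.nb_code hU ht
  obtain ⟨j, hj, hsj⟩ := F.nb_code hU hs
  obtain ⟨hb, k, hk, hke, hr⟩ := braid_facts hi hj (fun h => hn (F.comm_of_code hU ht hs (by rw [hti, hsj, h])))
  have ha : Nb z (t * s * t) := by simpa [hti'] using hs.conj ht.2.1
  have hb' : Nb z (s * t * s) := by simpa [hsi'] using ht.conj hs.2.1
  have hka : F.κ (t * s * t) = cl k := by
    rw [F.κ_mul (ht.2.1.mul_left hs.2.1) ht.2.1, F.κ_mul ht.2.1 hs.2.1, hti, hsj, hke]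
  have hkb : F.κ (s * t * s) = cl k := by
    rw [F.κ_mul (hs.2.1.mul_left ht.2.1) hs.2.1, F.κ_mul hs.2.1 ht.2.1, hti, hsj, hke, hb]
  obtain ⟨hw, v, hv, hwv⟩ := F.fibre_vec hU ha hb' (hka.trans hkb.symm)
  have hai := inv_eq_of_mul_eq_one_right (F.nb_sq hU ha)
  have hbi := inv_eq_of_mul_eq_one_right (F.nb_sq hU hb')
  have hcom := (F.fibre_comm hU ha hb' (hka.trans hkb.symm)).eq
  rw [hai] at hw hwv
  have hfix : t * (t * s * t * (s * t * s)) * t⁻¹ = t * s * t * (s * t * s) := by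
    calc t * (t * s * t * (s * t * s)) * t⁻¹ = t * t * (s * t * s * (t * s * t⁻¹)) := by simp only [mul_assoc]
      _ = _ := by rw [F.nb_sq hU ht, one_mul, hti', ← hcom]
  have hf2 : ap (cl i) (F.vc (t * s * t * (s * t * s))) = F.vc (t * s * t * (s * t * s)) := by
    rw [← hti, ← F.act t ht.2.1 _ hw, hfix]
  have hzero : F.vc (t * s * t * (s * t * s)) = 0 := by
    by_contra hne
    refine hr _ ((List.mem_cons.1 ?_).resolve_left hne) hf2
    rw [hwv, hka]
    exact range_mem hk hv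
  rcases F.vc_zero _ hw hzero with e | e
  · have := eq_inv_of_mul_eq_one_left e
    rwa [hbi] at this
  · exfalso
    refine F.fibre_ne hU ha ?_
    have h2 : t * s * t * z = s * t * s := by
      conv_lhs => rw [← e]
      rw [← mul_assoc, F.nb_sq hU ha, one_mul]
    rw [h2]
    exact hb'.1

/-- An involution fixing two points of a line fixes it. -/
theorem fix_four (ht : Nb z t) {s : G} (hs : Nb z s) (e : F.κ t = F.κ s) {u : G} (hu : u * u = 1)
    (huz : Commute u z) (hut : Commute u t) : Commute u s := by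
  obtain ⟨g, hg, T, P, he, hT⟩ := F.normalise hU ht
  obtain ⟨c, hc⟩ : ∃ c, c = g * (t⁻¹ * s) * g⁻¹ := ⟨_, rfl⟩
  have hcJ : c ∈ F.J := hc ▸ F.ext.norm g hg _ ((F.κ_eq_iff ht.2.1 hs.2.1).1 e)
  have es : g * t * g⁻¹ * c = g * s * g⁻¹ := by rw [hc]; group
  obtain ⟨hR, -⟩ := P.thick_fibre he hT hcJ (es ▸ hs.1.conj g) (es ▸ (hs.conj hg).2.1)
  obtain ⟨w, hw⟩ : ∃ w, w = g * u * g⁻¹ := ⟨_, rfl⟩
  have hwz : Commute w z := hw ▸ (hg.mul_left huz).mul_left hg.inv_left
  have hwt : Commute w (g * t * g⁻¹) := hw ▸ (Commute.conj_iff g).2 hut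
  have hce : F.κ w ∈ ceL gensU 0 := by
    refine (F.cover hU.card (k := 0) (by norm_num) P.comm he hwz).2.2 ?_
    rw [← F.κ_mul hwz P.comm, ← F.κ_mul P.comm hwz, hwt.eq]
  have hw2 : cm (F.κ w) (F.κ w) = idc := by
    rw [← F.κ_mul hwz hwz, show w * w = g * (u * u) * g⁻¹ by rw [hw]; group, hu, mul_one, mul_inv_cancel, F.κ_one]
  have hws : Commute w (g * t * g⁻¹ * c) := by
    refine hwt.mul_right (mul_inv_eq_iff_eq_mul.1 ?_)
    rcases F.conj_cases hwz hcJ (thick_facts.2.2.2.2.2.1 _ hce hw2 _ hR) with e' | e'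
    · exact e'
    exfalso
    refine F.fibre_ne hU ((hs.conj hg)) ?_
    have hm : Mem z (w * (g * t * g⁻¹ * c) * w⁻¹) := (es ▸ hs.1.conj g : Mem z (g * t * g⁻¹ * c)).conj w
    rwa [show w * (g * t * g⁻¹ * c) * w⁻¹ = w * (g * t * g⁻¹) * w⁻¹ * (w * c * w⁻¹) by group, e',
      mul_inv_eq_iff_eq_mul.2 hwt.eq, ← mul_assoc, es] at hm
  rw [es, hw] at hws
  exact (Commute.conj_iff g).1 hws

/-- What centralises one point of a line in the extraspecial group centralises all. -/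
theorem cent_four (ht : Nb z t) {s : G} (hs : Nb z s) (e : F.κ t = F.κ s) {a : G} (ha : a ∈ F.J)
    (hat : Commute a t) : Commute a s := by
  obtain ⟨g, hg, T, P, he, hT⟩ := F.normalise hU ht
  have haJ := F.ext.norm g hg a ha
  have hgs : F.κ (g * s * g⁻¹) = xC gensU 0 := by
    rw [F.κ_conj hg hs.2.1, ← e, ← F.κ_conj hg ht.2.1, he]
  obtain ⟨-, S, Q, hS⟩ := F.nb_pair hU (k := 0) (by norm_num) (hs.conj hg) hgs
  have hfix := F.fix_of_comm P.comm haJ ((Commute.conj_iff g).2 hat).symm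
  rw [he] at hfix
  exact ((Commute.conj_iff g).1 (Q.thick_gam hgs hS haJ (mem_cvL.2 ⟨F.vc_lt _, hfix⟩))).symm

/-- An element of odd order fixing a line pointwise and its fixed vectors is trivial. -/
theorem odd_fix (ht : Nb z t) {v : G} (hvz : Commute v z) (hodd : Odd (orderOf v))
    (h : ∀ a ∈ F.J, Commute a t → Commute v a) : v = 1 := by
  obtain ⟨g, hg, T, P, he, hT⟩ := F.normalise hU ht
  obtain ⟨w, hw⟩ : ∃ w, w = g * v * g⁻¹ := ⟨_, rfl⟩
  have hwz : Commute w z := hw ▸ (hg.mul_left hvz).mul_left hg.inv_left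
  have hfixv : ∀ x ∈ cvL cfgU 0, ap (F.κ w) x = x := by
    intro x hx
    obtain ⟨a, ha, rfl⟩ := F.vc_surj x (mem_cvL.1 hx).1
    refine F.fix_of_comm hwz ha ?_
    have ha' := F.ext.norm g⁻¹ hg.inv_left a ha
    have hat : Commute (g⁻¹ * a * g⁻¹⁻¹) t := by
      have := (Commute.conj_iff g⁻¹).2 (P.thick_gam he hT ha hx).symm
      rwa [show g⁻¹ * (g * t * g⁻¹) * g⁻¹⁻¹ = t by group] at this
    have := (Commute.conj_iff g).2 (h _ ha' hat)
    rwa [show g * (g⁻¹ * a * g⁻¹⁻¹) * g⁻¹ = a by group, ← hw] at this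
  have hcm : cm (F.κ w) (F.κ (g * t * g⁻¹)) = cm (F.κ (g * t * g⁻¹)) (F.κ w) := by
    refine (F.κ_conj_fix hwz P.comm).1 ?_
    rw [he]
    refine thick_facts.2.2.2.1 _ (F.cover hU.card (k := 0) (by norm_num) P.comm he hwz).1 fun x hx => ?_
    obtain ⟨a, ha, rfl⟩ := F.vc_surj x (mem_cvL.1 hx).1
    have hca : ap (F.κ w) (F.vc a) = F.vc a := hfixv _ hx
    have hci : ap (F.κ w⁻¹) (F.vc a) = F.vc a := by
      conv_lhs => rw [← hca]
      rw [← ap_cm, (F.κ_inv hwz).2, ap_idc (F.vc_lt a)]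
    rw [F.κ_conj hwz P.comm, ap_cm, ap_cm, hci, he]
    show ap (F.κ w) (ap (xC cfgU.gens 0) _) = _
    rw [(mem_cvL.1 hx).2, hca]
  have hall : ∀ n : ℕ, F.κ (w ^ n) ∈ (ceL gensU 0).filter fun e => (cvL cfgU 0).all fun x => ap e x == x := by
    intro n
    refine List.mem_filter.2 ⟨(F.cover hU.card (k := 0) (by norm_num) P.comm he (hwz.pow_left n)).2.2 ?_,
      List.all_eq_true.2 fun x hx => beq_iff_eq.2 ?_⟩
    · show cm _ _ = cm _ _
      induction n with
      | zero => rw [pow_zero, F.κ_one, idc_cm (F.κ_lt _), cm_idc (F.κ_lt _)]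
      | succ n ih => rw [pow_succ, F.κ_mul (hwz.pow_left n) hwz, cm_assoc, hcm, ← cm_assoc, ih, cm_assoc]
    · induction n with
      | zero => rw [pow_zero, F.κ_one, ap_idc (mem_cvL.1 hx).1]
      | succ n ih => rw [pow_succ, F.κ_mul (hwz.pow_left n) hwz, ap_cm, hfixv x hx, ih]
  obtain ⟨m, hm⟩ := hodd
  have hordw : orderOf w = 2 * m + 1 := by
    rw [hw, show g * v * g⁻¹ = MulAut.conj g v from rfl, MulEquiv.orderOf_eq, hm]
  have hwJ : w ∈ F.J := by
    classical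
    have hle : ((Finset.range 3).image fun n => F.κ (w ^ n)).card ≤ 2 :=
      (Finset.card_le_card fun x hx => by
        obtain ⟨n, -, rfl⟩ := Finset.mem_image.1 hx
        exact List.mem_toFinset.2 (hall n)).trans ((List.toFinset_card_le _).trans thick_facts.2.2.1)
    have hsq : w * w ∈ F.J → w ∈ F.J := fun h2 => by
      have : w = (w * w) ^ (m + 1) := by
        rw [← pow_two, ← pow_mul, show 2 * (m + 1) = orderOf w + 1 by omega, pow_succ, pow_orderOf_eq_one, one_mul]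
      rw [this]; exact pow_mem h2 _
    by_contra hout
    have hinj : Set.InjOn (fun n => F.κ (w ^ n)) (Finset.range 3) := by
      intro a ha b hb heq
      simp only [Finset.coe_range, Set.mem_Iio] at ha hb
      have hmem := (F.κ_eq_iff (hwz.pow_left a) (hwz.pow_left b)).1 heq
      interval_cases a <;> interval_cases b <;> first | rfl | exfalso
      all_goals apply hout
      all_goals simp only [pow_zero, pow_one, pow_two, inv_one, one_mul, mul_one, inv_mul_cancel_left,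
        mul_inv_rev, inv_mul_cancel_right] at hmem
      all_goals first | exact hmem | exact hsq hmem | exact (inv_mem_iff.1 hmem) |
        exact hsq (inv_mem_iff.1 (by rwa [mul_inv_rev]))
    rw [Finset.card_image_of_injOn hinj, Finset.card_range] at hle
    omega
  obtain ⟨m', hm'⟩ : ∃ m', orderOf w = 2 * m' + 1 := ⟨m, hordw⟩
  have hw8 : w ^ 4 = 1 := by
    rw [show w ^ 4 = w * w * (w * w) by simp [pow_succ, mul_assoc]]
    rcases F.ext.sq w hwJ with e | e <;> rw [e]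
    · rw [one_mul]
    · exact F.ext.z2
  have hd := orderOf_dvd_of_pow_eq_one hw8
  have h1 : orderOf w = 1 := by
    rw [hm'] at hd ⊢
    have hle := Nat.le_of_dvd (by norm_num) hd
    rcases (show m' = 0 ∨ m' = 1 by omega) with rfl | rfl
    · rfl
    · norm_num at hd
  rw [orderOf_eq_one_iff, hw] at h1
  exact conj_eq_one_iff.1 h1

end Frame

end Cfsg.Lib.U62Type
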