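import Cfsg.Agent.Lib.U62Type.Class
import Cfsg.Agent.S0245
import Cfsg.Agent.S0280

/-!
# The two-part of the order
-/

set_option autoImplicit false
set_option linter.unusedSectionVars false
set_option linter.style.haveILetI false

namespace Cfsg.Lib.U62Type

theorem two_part_unique {a b x y : ℕ} (hx : Odd x) (hy : Odd y) (h : 2 ^ a * x = 2 ^ b * y) : a = b := by
  have key : ∀ {a b x y : ℕ}, Odd x → 2 ^ a * x = 2 ^ b * y → b ≤ a := by
    intro a b x y hx h
    by_contra hlt
    obtain ⟨d, rfl⟩ : ∃ d, b = a + 1 + d := ⟨b - a - 1, by omega⟩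
    rw [pow_add, pow_add, mul_assoc, mul_assoc] at h
    have h2 := Nat.eq_of_mul_eq_mul_left (Nat.two_pow_pos a) h
    rw [pow_one] at h2
    exact Nat.not_even_iff_odd.2 hx (h2 ▸ even_two_mul _)
  exact le_antisymm (key hy h.symm) (key hx h)

theorem odd_prod {n : ℕ} {f : ℕ → ℕ} (h : ∀ i < n, Odd (f i)) : Odd (∏ i ∈ Finset.range n, f i) := by
  induction n with
  | zero => simp
  | succ n ih =>
    rw [Finset.prod_range_succ]
    exact (ih fun i hi => h i (by omega)).mul (h n (by omega))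

theorem sp_exponent {F : Type*} [Field F] [Fintype F] (hF : Fintype.card F = 2) {n m a : ℕ} (hm : Odd m)
    (h : Nat.card (Matrix.symplecticGroup (Fin n) F) = 2 ^ a * m) : n ^ 2 = a := by
  rw [Cfsg.Agent.S0245.result hF] at h
  refine two_part_unique (odd_prod fun i _ => ?_) hm h
  exact Nat.Even.sub_odd (Nat.one_le_two_pow) ((Nat.even_pow' (by omega)).2 even_two) odd_one

theorem psu_exponent {F : Type*} [Field F] [Fintype F] (hF : Fintype.card F = 2 ^ 2) {n m a : ℕ} (hn : 2 ≤ n)
    (hm : Odd m) (h : Nat.card (Cfsg.PSU n F 2) = 2 ^ a * m) : n * (n - 1) / 2 = a := by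
  have hc := Cfsg.Agent.S0280.result hF n hn
  rw [h] at hc
  refine (two_part_unique (x := Nat.gcd n (2 + 1) * ((2 + 1) * m)) ?_ ?_ ((Eq.trans ?_ hc))).symm
  · exact (Odd.of_dvd_nat (by decide : Odd 3) (Nat.gcd_dvd_right n 3)).mul ((by decide : Odd 3).mul hm)
  · exact odd_prod (f := fun i => if Even i then 2 ^ (i + 1) + 1 else 2 ^ (i + 1) - 1) fun i _ => by
      have he : Even (2 ^ (i + 1)) := (Nat.even_pow' (by omega)).2 even_two
      split
      · exact he.add_one
      · exact Nat.Even.sub_odd Nat.one_le_two_pow he odd_one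
  · ring

variable {G : Type*} [Group G] [Finite G] {z : G}

theorem order_two_part (F : Frame cfgU z) (hc : Nat.card ↥(Subgroup.centralizer ({z} : Set G)) = 512 * 25920) :
    ∃ m, Odd m ∧ Nat.card G = 2 ^ 15 * m := by
  classical
  haveI : Fact (Nat.Prime 2) := ⟨Nat.prime_two⟩
  obtain ⟨H, hH⟩ : ∃ H, H = Subgroup.centralizer ({z} : Set G) := ⟨_, rfl⟩
  have hJH : F.J ≤ H := fun j hj => hH ▸ Subgroup.mem_centralizer_singleton_iff.2 (F.ext.cz j hj).eq
  obtain ⟨S, hS⟩ := (IsPGroup.of_card (n := 9) (p := 2)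
    (show Nat.card (F.J.subgroupOf H) = 2 ^ 9 by
      rw [Nat.card_congr (Subgroup.subgroupOfEquivOfLe hJH).toEquiv, F.ext.card]; norm_num)).exists_le_sylow
  have hcard : Nat.card S = 2 ^ 15 := by
    obtain ⟨n, hn⟩ := IsPGroup.iff_card.1 S.isPGroup'
    have hidx := S.not_dvd_index
    have hmul := Subgroup.card_mul_index (S : Subgroup H)
    rw [hn, show Nat.card H = 512 * 25920 by rw [hH]; exact hc] at hmul
    have hn15 : n ≤ 15 := by
      by_contra hlt
      rw [not_le] at hlt
      have h16 : 2 ^ 16 ∣ 512 * 25920 := (pow_dvd_pow 2 hlt).trans (Dvd.intro _ hmul)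
      norm_num at h16
    have he : n = 15 := by
      refine two_part_unique (x := (S : Subgroup H).index) (y := 405) ?_ (by decide) (by rw [hmul]; norm_num)
      rw [← Nat.not_even_iff_odd, even_iff_two_dvd]
      exact hidx
    rw [hn, he]
  obtain ⟨T, hT⟩ : ∃ T, T = (S : Subgroup H).map H.subtype := ⟨_, rfl⟩
  have hTcard : Nat.card T = 2 ^ 15 := by
    rw [hT, Subgroup.card_map_of_injective H.subtype_injective, hcard]
  have hTH : T ≤ H := hT ▸ Subgroup.map_subtype_le _
  have hJT : F.J ≤ T := fun j hj => by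
    rw [hT]
    exact ⟨⟨j, hJH hj⟩, hS (Subgroup.mem_subgroupOf.2 hj), rfl⟩
  obtain ⟨P, hP⟩ := (IsPGroup.of_card hTcard).exists_le_sylow
  have hTP : T = (P : Subgroup G) := by
    by_contra hne
    have hlt : T.subgroupOf (P : Subgroup G) < ⊤ := by
      refine lt_of_le_of_ne le_top fun e => hne (le_antisymm hP ?_)
      exact fun p hp => by
        have := e ▸ Subgroup.mem_top (⟨p, hp⟩ : (P : Subgroup G))
        exact Subgroup.mem_subgroupOf.1 this
    haveI := P.isPGroup'.isNilpotent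
    obtain ⟨g, hgN, hgT⟩ := SetLike.exists_of_lt (Group.normalizerCondition_of_isNilpotent _ hlt)
    rw [Subgroup.mem_subgroupOf] at hgT
    have hconj : ∀ x ∈ T, (g : G) * x * (g : G)⁻¹ ∈ T := fun x hx =>
      Subgroup.mem_subgroupOf.1 ((Subgroup.mem_normalizer_iff.1 hgN ⟨x, hP hx⟩).1 (Subgroup.mem_subgroupOf.2 hx))
    have hconj' : ∀ x ∈ T, (g : G)⁻¹ * x * (g : G) ∈ T := fun x hx => by
      have := (Subgroup.mem_normalizer_iff.1 (inv_mem hgN) ⟨x, hP hx⟩).1 (Subgroup.mem_subgroupOf.2 hx)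
      simpa [Subgroup.mem_subgroupOf] using this
    have hzT : ∀ x ∈ T, Commute x z := fun x hx => by
      have := hTH hx
      rw [hH] at this
      exact Subgroup.mem_centralizer_singleton_iff.1 this
    have hgz : Commute (g : G) z := by
      have hmem := hconj z (hJT F.ext.zJ)
      have hcomm : ∀ j ∈ F.J, Commute ((g : G) * z * (g : G)⁻¹) j := fun j hj => by
        have h1 := (Commute.conj_iff (g : G)).2 (hzT _ (hconj' j (hJT hj))).symm
        rwa [show (g : G) * ((g : G)⁻¹ * j * (g : G)) * (g : G)⁻¹ = j by group] at h1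
      rcases F.ext.zc _ (F.ext.self _ (hzT _ hmem) hcomm) hcomm with e | e
      · exact absurd (conj_eq_one_iff.1 e) F.ext.z1
      · exact mul_inv_eq_iff_eq_mul.1 e
    have hle : (S : Subgroup H) ≤ ((P : Subgroup G).subgroupOf H) := fun x hx =>
      Subgroup.mem_subgroupOf.2 (hP (hT ▸ ⟨x, hx, rfl⟩))
    have heq := S.is_maximal' (P.isPGroup'.comap_of_injective H.subtype H.subtype_injective) hle
    have hgS : (⟨(g : G), hH ▸ Subgroup.mem_centralizer_singleton_iff.2 hgz.eq⟩ : H) ∈ (S : Subgroup H) := by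
      rw [← heq]; exact Subgroup.mem_subgroupOf.2 g.2
    exact hgT (hT ▸ ⟨_, hgS, rfl⟩)
  refine ⟨(P : Subgroup G).index, ?_, ?_⟩
  · rw [← Nat.not_even_iff_odd, even_iff_two_dvd]
    exact P.not_dvd_index
  · rw [← Subgroup.card_mul_index (P : Subgroup G), ← hTP, hTcard]

end Cfsg.Lib.U62Type
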