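import Cfsg.Agent.Lib.U62Type.Inside

/-!
# Two commuting conjugates of the involution
-/

set_option autoImplicit false
set_option linter.unusedSectionVars false
set_option linter.style.haveILetI false

namespace Cfsg.Lib.U62Type

variable {G : Type*} [Group G]

/-- Being conjugate to `z`. -/
def Mem (z t : G) : Prop := ∃ g : G, g * z * g⁻¹ = t

theorem Mem.refl (z : G) : Mem z z := ⟨1, by simp⟩

theorem Mem.conj {z t : G} (h : Mem z t) (a : G) : Mem z (a * t * a⁻¹) := by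
  obtain ⟨g, rfl⟩ := h
  exact ⟨a * g, by group⟩

theorem Mem.symm {z t : G} (h : Mem z t) : Mem t z := by
  obtain ⟨g, rfl⟩ := h
  exact ⟨g⁻¹, by group⟩

theorem Mem.trans {z t s : G} (h : Mem z t) (h' : Mem t s) : Mem z s := by
  obtain ⟨g, rfl⟩ := h
  obtain ⟨a, rfl⟩ := h'
  exact ⟨a * g, by group⟩

theorem Mem.card [Finite G] {z t : G} (h : Mem z t) :
    Nat.card ↥(Subgroup.centralizer ({t} : Set G)) = Nat.card ↥(Subgroup.centralizer ({z} : Set G)) := by
  obtain ⟨g, rfl⟩ := h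
  exact card_centralizer_conj g z

theorem Frame.at_mem {C : Cfg} {z t : G} (F : Frame C z) (h : Mem z t) : Nonempty (Frame C t) := by
  obtain ⟨g, rfl⟩ := h
  exact ⟨F.conj g⟩

theorem frame_cast {C : Cfg} {y z : G} (e : y = z) (F : Frame C y) :
    ∃ F' : Frame C z, F'.J = F.J ∧ ∀ h, F'.κ h = F.κ h := by
  subst e
  exact ⟨F, rfl, fun _ => rfl⟩

variable [Finite G] {C : Cfg} {z : G} (F : Frame C z)

/-- Coordinates in which a given involution is a listed one. -/
theorem Frame.exists_normal (hc : Nat.card ↥(Subgroup.centralizer ({z} : Set G)) = 512 * 25920) {t : G}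
    (ht : Commute t z) (hin : t ∉ F.J) (h2 : t * t = 1) :
    ∃ k < 2, ∃ F' : Frame C z, F'.J = F.J ∧ F'.κ t = xC C.gens k := by
  obtain ⟨k, hk, a, ha, hak⟩ := F.invol_class hc ht (by rw [← F.κ_mul ht ht, h2, F.κ_one])
    (fun e => hin (F.ker _ ht e))
  obtain ⟨F', hJ, hκ⟩ := frame_cast
    (show a⁻¹ * z * a⁻¹⁻¹ = z from mul_inv_eq_iff_eq_mul.2 ha.inv_left.eq) (F.conj a⁻¹)
  refine ⟨k, hk, F', ?_, ?_⟩
  · rw [hJ]
    ext x
    show x ∈ F.J.map (MulAut.conj a⁻¹).toMonoidHom ↔ _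
    rw [Subgroup.mem_map_equiv, MulAut.conj_symm_apply]
    constructor
    · intro h
      have := F.ext.norm a⁻¹ ha.inv_left _ h
      rwa [show a⁻¹ * (a⁻¹⁻¹ * x * a⁻¹) * a⁻¹⁻¹ = x by group] at this
    · intro h
      have := F.ext.norm a ha _ h
      rwa [inv_inv]
  · rw [hκ]
    show F.κ (a⁻¹⁻¹ * t * a⁻¹) = _
    rwa [inv_inv]

/-- Commuting conjugates, neither in the other's extraspecial group. -/
structure Pair {C : Cfg} {z t : G} (F : Frame C z) (T : Frame C t) : Prop where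
  hcz : Nat.card ↥(Subgroup.centralizer ({z} : Set G)) = 512 * 25920
  hct : Nat.card ↥(Subgroup.centralizer ({t} : Set G)) = 512 * 25920
  comm : Commute t z
  tJ : t ∉ F.J
  zJ : z ∉ T.J
  mem : Mem z t

theorem Pair.symm {t : G} {T : Frame C t} {F : Frame C z} (P : Pair F T) : Pair T F :=
  ⟨P.hct, P.hcz, P.comm.symm, P.zJ, P.tJ, P.mem.symm⟩

theorem Pair.reframe {t : G} {T : Frame C t} {F F' : Frame C z} (P : Pair F T) (e : F'.J = F.J) : Pair F' T :=
  ⟨P.hcz, P.hct, P.comm, e ▸ P.tJ, P.zJ, P.mem⟩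

/-- A commuting conjugate gives a pair in normal coordinates. -/
theorem Frame.exists_pair (hc : Nat.card ↥(Subgroup.centralizer ({z} : Set G)) = 512 * 25920) {t : G}
    (hm : Mem z t) (ht : Commute t z) (htz : t ≠ z) :
    ∃ k < 2, ∃ k' < 2, ∃ (F' : Frame C z) (T : Frame C t),
      F'.J = F.J ∧ Pair F' T ∧ F'.κ t = xC C.gens k ∧ T.κ z = xC C.gens k' := by
  obtain ⟨T⟩ := F.at_mem hm
  have hct : Nat.card ↥(Subgroup.centralizer ({t} : Set G)) = 512 * 25920 := hm.card.trans hc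
  have htJ : t ∉ F.J := fun h => by
    obtain ⟨g, rfl⟩ := hm
    exact htz (F.no_inside hc h)
  have hzJ : z ∉ T.J := fun h => by
    obtain ⟨g, hg⟩ := hm.symm
    subst hg
    exact htz (T.no_inside hct h).symm
  have P : Pair F T := ⟨hc, hct, ht, htJ, hzJ, hm⟩
  obtain ⟨k, hk, F', eF, hF⟩ := F.exists_normal hc ht htJ T.ext.z2
  obtain ⟨k', hk', T', eT, hT⟩ := T.exists_normal hct ht.symm hzJ F.ext.z2
  exact ⟨k, hk, k', hk', F', T', eF, ((P.reframe eF).symm.reframe eT).symm, hF, hT⟩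

theorem mem_cvL {k v : ℕ} : v ∈ cvL C k ↔ v < 256 ∧ ap (xC C.gens k) v = v := by
  simp [cvL, vecs]

theorem mem_rL {k u : ℕ} : u ∈ rL C k ↔ u < 256 ∧ ∃ v < 256, ap (xC C.gens k) v ^^^ v = u := by
  simp [rL, vecs]

theorem Frame.conj_cases {h j : G} (hh : Commute h z) (hj : j ∈ F.J) (e : ap (F.κ h) (F.vc j) = F.vc j) :
    h * j * h⁻¹ = j ∨ h * j * h⁻¹ = j * z :=
  F.vc_eq hj (F.ext.norm h hh j hj) (by rw [F.act h hh j hj, e])

theorem Frame.fix_of_comm {h j : G} (hh : Commute h z) (hj : j ∈ F.J) (e : Commute h j) :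
    ap (F.κ h) (F.vc j) = F.vc j := by
  rw [← F.act h hh j hj, mul_inv_eq_iff_eq_mul.2 e.eq]

namespace Pair

variable {F} {t : G} {T : Frame C t} (P : Pair F T)

include P

theorem inv_t : t⁻¹ = t := inv_eq_of_mul_eq_one_right T.ext.z2

theorem only {s : G} (hs : Mem z s) (hsT : s ∈ T.J) : s = t := by
  obtain ⟨g, hg⟩ := P.mem.symm.trans hs
  subst hg
  exact T.no_inside P.hct hsT

theorem no_z {x : G} (h : x = 1 ∨ x = z) (hx : x ∈ T.J) : x = 1 :=
  h.resolve_right fun e => P.zJ (e ▸ hx)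

/-- The commutator of the two centralisers of extraspecial groups. -/
theorem comm_mem {a b : G} (ha : a ∈ F.J) (hat : Commute a t) (hb : b ∈ T.J) (hbz : Commute b z) :
    a * b * a⁻¹ * b⁻¹ ∈ F.J ∧ a * b * a⁻¹ * b⁻¹ ∈ T.J := by
  refine ⟨?_, mul_mem (T.ext.norm a hat b hb) (inv_mem hb)⟩
  rw [show a * b * a⁻¹ * b⁻¹ = a * (b * a⁻¹ * b⁻¹) by group]
  exact mul_mem ha (F.ext.norm b hbz _ (inv_mem ha))

theorem meet_comm {a w : G} (ha : a ∈ F.J) (hat : Commute a t) (hw : w ∈ F.J) (hwT : w ∈ T.J) : Commute a w :=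
  mul_inv_eq_iff_eq_mul.1 (mul_inv_eq_one.1 (P.no_z (F.ext.cmt a ha w hw)
    (mul_mem (T.ext.norm a hat w hwT) (inv_mem hwT))))

/-- Conjugating `t` inside the extraspecial group. -/
theorem move {k : G} (hk : k ∈ F.J) :
    ∃ j ∈ F.J, k⁻¹ * t * k = t * j ∧ F.vc j = ap (F.κ t) (F.vc k) ^^^ F.vc k := by
  refine ⟨t * k⁻¹ * t⁻¹ * k, mul_mem (F.ext.norm t P.comm _ (inv_mem hk)) hk, ?_, ?_⟩
  · have : t * (t * k⁻¹ * t⁻¹ * k) = (t * t) * (k⁻¹ * t⁻¹ * k) := by group
    rw [this, T.ext.z2, one_mul, P.inv_t]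
  · rw [F.vc_mul _ (F.ext.norm t P.comm _ (inv_mem hk)) _ hk, F.act t P.comm _ (inv_mem hk), F.vc_inv hk]

/-- A common element is moved to with the central involution. -/
theorem move_meet {w k : G} (hw : w ∈ F.J) (hwT : w ∈ T.J) (hw1 : w ≠ 1) (hk : k ∈ F.J)
    (hv : ap (F.κ t) (F.vc k) ^^^ F.vc k = F.vc w) :
    k⁻¹ * t * k = t * w * z ∧ ¬ Mem z (t * z) := by
  obtain ⟨j, hj, hkt, hjv⟩ := P.move hk
  have hne : ¬ Mem z (t * w) := fun h => hw1 (mul_eq_left.1 (P.only h (mul_mem T.ext.zJ hwT)))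
  have hm : Mem z (k⁻¹ * t * k) := by simpa using P.mem.conj k⁻¹
  rcases F.vc_eq hw hj (hv ▸ hjv.symm) with e | e
  · exact absurd (by rw [← e, ← hkt]; exact hm) hne
  have e1 : k⁻¹ * t * k = t * w * z := by rw [hkt, e, mul_assoc]
  refine ⟨e1, fun hz => hne ?_⟩
  have h2 := hz.conj k⁻¹
  rwa [inv_inv, show k⁻¹ * (t * z) * k = k⁻¹ * t * k * (k⁻¹ * z * k) by group, e1,
    show k⁻¹ * z * k = z by rw [mul_assoc, ← (F.ext.cz k hk).eq, inv_mul_cancel_left],
    mul_assoc _ z z, F.ext.z2, mul_one] at h2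

/-- At most two elements over each fixed vector. -/
theorem fix_card_le {k : ℕ} (hκ : F.κ t = xC C.gens k) :
    Nat.card ↥(F.J ⊓ Subgroup.centralizer ({t} : Set G)) ≤ 2 * (cvL C k).length := by
  classical
  have h := card_le_mul_image (F.J ⊓ Subgroup.centralizer ({t} : Set G)) F.vc {1, z} (fun p hp q hq e => by
    rcases F.vc_eq (Subgroup.mem_inf.1 hp).1 (Subgroup.mem_inf.1 hq).1 e with e' | e' <;> simp [e'])
  refine h.trans (Nat.mul_le_mul Finset.card_le_two ((Finset.card_le_card ?_).trans (List.toFinset_card_le _)))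
  intro x hx
  obtain ⟨a, ha, rfl⟩ := Finset.mem_image.1 hx
  rw [Set.Finite.mem_toFinset, SetLike.mem_coe, Subgroup.mem_inf, Subgroup.mem_centralizer_singleton_iff] at ha
  have hf := F.fix_of_comm P.comm ha.1 (show Commute t a from ha.2.symm)
  rw [hκ] at hf
  exact List.mem_toFinset.2 (mem_cvL.2 ⟨F.vc_lt _, hf⟩)

/-- All the elements over the fixed vectors. -/
theorem fix_card_ge {k : ℕ} (h : ∀ j ∈ F.J, F.vc j ∈ cvL C k → Commute t j) :
    2 * (cvL C k).length ≤ Nat.card ↥(F.J ⊓ Subgroup.centralizer ({t} : Set G)) := by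
  classical
  choose r hr hrv using fun v : {v // v ∈ (cvL C k).toFinset} =>
    F.vc_surj v (mem_cvL.1 (List.mem_toFinset.1 v.2)).1
  let φ : Bool × {v // v ∈ (cvL C k).toFinset} → ↥(F.J ⊓ Subgroup.centralizer ({t} : Set G)) := fun p =>
    ⟨r p.2 * (if p.1 then z else 1), Subgroup.mem_inf.2 ⟨mul_mem (hr _) (by split; exacts [F.ext.zJ, one_mem _]),
      Subgroup.mem_centralizer_singleton_iff.2 (Commute.mul_left
        (h _ (hr _) (by rw [hrv]; exact List.mem_toFinset.1 p.2.2)).symm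
        (by split; exacts [P.comm.symm, Commute.one_left t])).eq⟩⟩
  have hφ : Function.Injective φ := by
    rintro ⟨b, v⟩ ⟨c, w⟩ e
    have e' : r v * (if b then z else 1) = r w * (if c then z else 1) := congrArg Subtype.val e
    have hv : v = w := Subtype.ext (by
      have := congrArg F.vc e'
      rwa [F.vc_mul _ (hr _) _ (by split; exacts [F.ext.zJ, one_mem _]),
        F.vc_mul _ (hr _) _ (by split; exacts [F.ext.zJ, one_mem _]), hrv, hrv,
        show ∀ b : Bool, F.vc (if b then z else 1) = 0 by intro b; cases b <;> simp [F.vc_one, F.vc_z],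
        show ∀ b : Bool, F.vc (if b then z else 1) = 0 by intro b; cases b <;> simp [F.vc_one, F.vc_z],
        Nat.xor_zero, Nat.xor_zero] at this)
    subst hv
    have e'' := mul_left_cancel e'
    cases b <;> cases c <;> simp_all [F.ext.z1, Ne.symm F.ext.z1]
  have := Nat.card_le_card_of_injective φ hφ
  rwa [Nat.card_prod, Nat.card_eq_fintype_card (α := Bool), Fintype.card_bool, Nat.card_eq_finsetCard,
    List.toFinset_card_of_nodup (show (cvL C k).Nodup from List.Nodup.filter _ List.nodup_range)] at this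

/-- If the two extraspecial groups meet trivially, the centraliser in one acts faithfully. -/
theorem faithful {k : ℕ} (hk : k < 2) (hκ : F.κ t = xC C.gens k)
    (hA : ∀ j ∈ F.J, F.vc j ∈ cvL C k → Commute t j) (hW : ∀ w, w ∈ F.J → w ∈ T.J → w = 1) :
    Nat.card ↥(T.J ⊓ Subgroup.centralizer ({z} : Set G)) ≤
      ((ceL C.gens k).filter fun e => (cvL C k).all fun v => ap e v == v).length := by
  classical
  have h := card_le_mul_image (T.J ⊓ Subgroup.centralizer ({z} : Set G)) F.κ {1} (fun p hp q hq e => by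
    rw [Subgroup.mem_inf, Subgroup.mem_centralizer_singleton_iff] at hp hq
    simp [hW _ ((F.κ_eq_iff hp.2 hq.2).1 e) (mul_mem (inv_mem hp.1) hq.1)])
  rw [Finset.card_singleton, one_mul] at h
  refine h.trans ((Finset.card_le_card ?_).trans (List.toFinset_card_le _))
  intro x hx
  obtain ⟨b, hb, rfl⟩ := Finset.mem_image.1 hx
  rw [Set.Finite.mem_toFinset, SetLike.mem_coe, Subgroup.mem_inf, Subgroup.mem_centralizer_singleton_iff] at hb
  refine List.mem_toFinset.2 (List.mem_filter.2 ⟨?_, List.all_eq_true.2 fun v hv => beq_iff_eq.2 ?_⟩)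
  · refine (F.cover P.hcz hk P.comm hκ hb.2).2.2 ?_
    rw [← F.κ_mul hb.2 P.comm, ← F.κ_mul P.comm hb.2]
    exact congrArg F.κ (T.ext.cz b hb.1).eq
  · obtain ⟨a, ha, rfl⟩ := F.vc_surj v (mem_cvL.1 hv).1
    have hat : Commute a t := (hA a ha hv).symm
    obtain ⟨h1, h2⟩ := P.comm_mem ha hat hb.1 hb.2
    refine F.fix_of_comm hb.2 ha (show b * a = a * b from ?_)
    exact (mul_inv_eq_iff_eq_mul.1 (mul_inv_eq_one.1 (hW _ h1 h2))).symm

end Pair

end Cfsg.Lib.U62Type
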