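import Cfsg.Agent.Lib.U62Type.OuterValue
import Cfsg.Agent.Lib.U62Type.Pair

/-!
# The transfer is nontrivial
-/

set_option autoImplicit false
set_option linter.unusedSectionVars false
set_option linter.style.haveILetI false

namespace Cfsg.Lib.U62Type

theorem mem_ovL {C : Cfg} {k v : ℕ} : v ∈ ovL C k ↔ v < 256 ∧ ap (oC C k) v = v := by simp [ovL, vecs]

theorem list_cases {C : Cfg} (hC : C ∈ [cfgU, cfgP, cfgM]) : C = cfgU ∨ (C = cfgP ∨ C = cfgM) := by
  simpa using hC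

variable {G : Type*} [Group G] [Finite G] {C : Cfg} {z : G}

namespace Frame

variable (F : Frame C z)

theorem comm_of_same {h a b : G} (hh : Commute h z) (ha : a ∈ F.J) (hb : b ∈ F.J) (e : F.vc a = F.vc b)
    (hc : Commute h a) : Commute h b := by
  rcases F.vc_eq ha hb e with e' | e' <;> rw [e']
  exacts [hc, hc.mul_right hh]

/-- An element squaring into the centre inverts what lies over the range of its action. -/
theorem inv_comm {h j : G} (hh : Commute h z) (h2 : h * h = 1 ∨ h * h = z) (hj : j ∈ F.J) {u : ℕ} (hu : u < 256)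
    (e : ap (F.κ h) u ^^^ u = F.vc j) : h * j * h⁻¹ = j⁻¹ := by
  obtain ⟨k, hk, rfl⟩ := F.vc_surj u hu
  obtain ⟨c, hc⟩ : ∃ c, c = h * k * h⁻¹ * k⁻¹ := ⟨_, rfl⟩
  have hcJ : c ∈ F.J := hc ▸ mul_mem (F.ext.norm h hh k hk) (inv_mem hk)
  have hcv : F.vc c = F.vc j := by
    rw [hc, F.vc_mul _ (F.ext.norm h hh k hk) _ (inv_mem hk), F.vc_inv hk, F.act h hh k hk, e]
  have hkk : h * h * k * (h * h)⁻¹ = k := by
    rcases h2 with e' | e' <;> rw [e']
    · simp
    · exact mul_inv_eq_iff_eq_mul.2 (F.z_comm hk).eq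
  have hci : h * c * h⁻¹ = c⁻¹ := by
    rw [hc, show h * (h * k * h⁻¹ * k⁻¹) * h⁻¹ = h * h * k * (h * h)⁻¹ * (h * k⁻¹ * h⁻¹) by group, hkk]
    group
  rcases F.vc_eq hcJ hj hcv with e' | e' <;> rw [e']
  · exact hci
  · rw [show h * (c * z) * h⁻¹ = h * c * h⁻¹ * (h * z * h⁻¹) by group, hci, mul_inv_eq_iff_eq_mul.2 hh.eq,
      mul_inv_rev, inv_eq_of_mul_eq_one_right F.ext.z2, (F.z_comm (inv_mem hcJ)).eq]

theorem comm_range {h j : G} (hh : Commute h z) (h2 : h * h = 1 ∨ h * h = z) (hj : j ∈ F.J) {u : ℕ} (hu : u < 256)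
    (e : ap (F.κ h) u ^^^ u = F.vc j) : Commute h j ↔ C.q (F.vc j) = 0 := by
  have h1 := F.inv_comm hh h2 hj hu e
  constructor
  · intro hc
    rw [mul_inv_eq_iff_eq_mul.2 hc.eq] at h1
    exact F.q_of_sq hj (by nth_rewrite 1 [h1]; exact inv_mul_cancel j)
  · intro hq
    rw [inv_eq_of_mul_eq_one_right (F.sq_one hj hq)] at h1
    exact mul_inv_eq_iff_eq_mul.1 h1

theorem moved_z {h j : G} (hh : Commute h z) (hj : j ∈ F.J) (e : ap (F.κ h) (F.vc j) = F.vc j)
    (hn : ¬ Commute h j) : h * j * h⁻¹ = j * z :=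
  (F.conj_cases' hh hj e).resolve_left fun h' => hn (mul_inv_eq_iff_eq_mul.1 h')

theorem comm_mul {h a b : G} (hh : Commute h z) (ha : a ∈ F.J) (hb : b ∈ F.J)
    (ea : ap (F.κ h) (F.vc a) = F.vc a) (eb : ap (F.κ h) (F.vc b) = F.vc b) (na : ¬ Commute h a)
    (nb : ¬ Commute h b) : Commute h (a * b) := by
  refine mul_inv_eq_iff_eq_mul.1 ?_
  rw [show h * (a * b) * h⁻¹ = h * a * h⁻¹ * (h * b * h⁻¹) by group, F.moved_z hh ha ea na, F.moved_z hh hb eb nb,
    show a * z * (b * z) = a * (z * b) * z by group, (F.z_comm hb).eq,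
    show a * (b * z) * z = a * b * (z * z) by group, F.ext.z2, mul_one]

/-- An element of square `z` commuting with `h`. -/
theorem exists_sq {h : G} (hh : Commute h z) {S : List ℕ} (hS : ∀ v ∈ S, v < 256 ∧ ap (F.κ h) v = v)
    (ht : triple C S = true) : ∃ j ∈ F.J, Commute h j ∧ j * j = z := by
  simp only [triple, List.any_eq_true, Bool.and_eq_true, nbeq_iff] at ht
  obtain ⟨u, hu, qu, v, hv, qv, quv⟩ := ht
  obtain ⟨a, ha, rfl⟩ := F.vc_surj u (hS u hu).1
  obtain ⟨b, hb, rfl⟩ := F.vc_surj v (hS v hv).1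
  by_cases ca : Commute h a
  · exact ⟨a, ha, ca, F.sq_z ha qu⟩
  by_cases cb : Commute h b
  · exact ⟨b, hb, cb, F.sq_z hb qv⟩
  exact ⟨a * b, mul_mem ha hb, F.comm_mul hh ha hb (hS _ hu).2 (hS _ hv).2 ca cb,
    F.sq_z (mul_mem ha hb) (by rw [F.vc_mul a ha b hb]; exact quv)⟩

/-- Every element over the vector commutes with `h`. -/
def Com (h : G) (v : ℕ) : Prop := ∀ j ∈ F.J, F.vc j = v → Commute h j

/-- Half of the fixed vectors. -/
theorem half {h : G} (hh : Commute h z) (K : Finset ℕ) (hK : ∀ v, v ∈ K ↔ v < 256 ∧ ap (F.κ h) v = v ∧ F.Com h v) :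
    (vecs.filter fun v => ap (F.κ h) v == v).length ≤ 2 * K.card := by
  classical
  obtain ⟨S, hS⟩ : ∃ S, S = (vecs.filter fun v => ap (F.κ h) v == v).toFinset := ⟨_, rfl⟩
  have hnd : (vecs.filter fun v => ap (F.κ h) v == v).Nodup := List.Nodup.filter _ List.nodup_range
  rw [← List.toFinset_card_of_nodup hnd, ← hS]
  have hmem : ∀ v, v ∈ S ↔ v < 256 ∧ ap (F.κ h) v = v := fun v => by simp [hS, vecs]
  by_cases hall : ∀ v ∈ S, v ∈ K
  · have := Finset.card_le_card hall; omega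
  push Not at hall
  obtain ⟨v₁, hv₁, hn⟩ := hall
  have hle : (S \ K).card ≤ K.card := by
    refine Finset.card_le_card_of_injOn (fun v => v ^^^ v₁) (fun v hv => ?_) fun a _ b _ h => Nat.xor_left_injective h
    rw [Finset.mem_coe, Finset.mem_sdiff, hmem] at hv
    obtain ⟨⟨hv256, hvf⟩, hvn⟩ := hv
    obtain ⟨hl₁, hf₁⟩ := (hmem _).1 hv₁
    obtain ⟨a, ha, rfl⟩ := F.vc_surj v hv256
    obtain ⟨b, hb, rfl⟩ := F.vc_surj v₁ hl₁
    rw [Finset.mem_coe, hK]
    have na : ¬ Commute h a := fun c => hvn ((hK _).2 ⟨hv256, hvf, fun j hj e => F.comm_of_same hh ha hj e.symm c⟩)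
    have nb : ¬ Commute h b := fun c => hn ((hK _).2 ⟨hl₁, hf₁, fun j hj e => F.comm_of_same hh hb hj e.symm c⟩)
    refine ⟨xor_lt hv256 hl₁, by rw [ap_xor, hvf, hf₁], fun j hj e => ?_⟩
    exact F.comm_of_same hh (mul_mem ha hb) hj (by rw [F.vc_mul a ha b hb, e]) (F.comm_mul hh ha hb hvf hf₁ na nb)
  have hsub : K ⊆ S := fun v hv => (hmem v).2 ⟨((hK v).1 hv).1, ((hK v).1 hv).2.1⟩
  rw [Finset.card_sdiff_of_subset hsub] at hle
  omega

end Frame

/-- An involution fixes at least sixteen vectors. -/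
theorem fix_sixteen {k : ℕ} (h : cm k k = idc) : 16 ≤ (vecs.filter fun v => ap k v == v).length := by
  classical
  have hnd : (vecs.filter fun v => ap k v == v).Nodup := List.Nodup.filter _ List.nodup_range
  rw [← List.toFinset_card_of_nodup hnd]
  obtain ⟨S, hS⟩ : ∃ S, S = (vecs.filter fun v => ap k v == v).toFinset := ⟨_, rfl⟩
  rw [← hS]
  have hmem : ∀ v, v ∈ S ↔ v < 256 ∧ ap k v = v := fun v => by simp [hS, vecs]
  have hsub : (Finset.range 256).image (fun v => ap k v ^^^ v) ⊆ S := by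
    intro x hx
    obtain ⟨v, hv, rfl⟩ := Finset.mem_image.1 hx
    rw [Finset.mem_range] at hv
    refine (hmem _).2 ⟨xor_lt (ap_lt _ _) hv, ?_⟩
    rw [ap_xor, ← ap_cm, h, ap_idc hv, Nat.xor_comm]
  have hfib := Finset.card_le_mul_card_image (f := fun v => ap k v ^^^ v) (Finset.range 256) S.card fun b hb => by
    obtain ⟨v, hv, rfl⟩ := Finset.mem_image.1 hb
    rw [Finset.mem_range] at hv
    refine Finset.card_le_card_of_injOn (fun w => w ^^^ v) (fun w hw => ?_) fun a _ c _ h => Nat.xor_left_injective h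
    rw [Finset.coe_filter, Set.mem_setOf_eq, Finset.mem_range] at hw
    refine (hmem _).2 ⟨xor_lt hw.1 hv, ?_⟩
    rw [ap_xor]
    calc ap k w ^^^ ap k v = (ap k w ^^^ w) ^^^ (ap k v ^^^ v) ^^^ (w ^^^ v) := by
          apply Nat.eq_of_testBit_eq
          intro i
          simp only [Nat.testBit_xor]
          cases (ap k w).testBit i <;> cases (ap k v).testBit i <;> cases w.testBit i <;> cases v.testBit i <;> rfl
      _ = w ^^^ v := by rw [hw.2, Nat.xor_self, Nat.zero_xor]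
  rw [Finset.card_range] at hfib
  have := hfib.trans (Nat.mul_le_mul le_rfl (Finset.card_le_card hsub))
  by_contra hlt
  rw [not_le] at hlt
  have := Nat.mul_le_mul (Nat.lt_succ_iff.1 hlt) (Nat.lt_succ_iff.1 hlt)
  omega

/-- The codes outside the inner half have the form found. -/
structure Shape {C : Cfg} {z : G} (F : Frame C z) (k : ℕ) : Prop where
  mem : k ∈ outL C
  form : ∀ h, Commute h z → ¬ Inn F h → ∃ e, WordCode C.gens e ∧ F.κ h = cm (oC C k) e

section Uni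

variable {F : Frame cfgU z} (O : Outer F)

theorem thin_outer {k : ℕ} (hk : k ∈ outL cfgU) :
    (ovL cfgU k).length = 16 ∧
    (∀ v ∈ ovL cfgU k, qU v = 0 ∧ ∃ u < 256, ap (oC cfgU k) u ^^^ u = v) ∧
    (∀ i < 8, ∃ u ∈ ovL cfgU k, ∃ w ∈ ovL cfgU k, u ^^^ ap omC w = 2 ^ i) ∧
    ∀ v < 256, ap (oC cfgU k) v ^^^ v ≠ 0 → ∃ w, (∀ a ∈ w, a < 4) ∧
      cm (oC cfgU k) (cw gensU w) = cm (cw gensU w) (oC cfgU k) ∧
      ap (cw gensU w) (ap (oC cfgU k) v ^^^ v) ≠ ap (oC cfgU k) v ^^^ v ∧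
      cform cfgU v (ap (cw gensU w) (ap (oC cfgU k) v ^^^ v)) = 0 := by
  have h := outerThin_ok
  simp only [outerThinChk, List.all_eq_true, Bool.and_eq_true, List.any_eq_true, vecs, List.mem_range, nbeq_iff,
    Bool.or_eq_true, Bool.not_eq_true', beq_iff_eq, Nat.blt_eq] at h
  obtain ⟨⟨⟨h1, h2⟩, h3⟩, h4⟩ := h k hk
  refine ⟨h1, h2, h3, fun v hv hne => ?_⟩
  rcases h4 v hv with e | ⟨w, -, ⟨⟨hw, hcomm⟩, hm⟩, hf⟩
  · exact absurd e hne
  · exact ⟨w, hw, hcomm, fun e => by rw [nbeq_iff.2 e] at hm; exact Bool.noConfusion hm, hf⟩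

theorem linear_fix {k e : ℕ} (hk : k ∈ outL cfgU) (he : WordCode gensU e)
    (hfix : ∀ v ∈ ovL cfgU k, ap e v = v) : e = idc := by
  have helt : e < 2 ^ 64 := by obtain ⟨w, -, rfl⟩ := he; exact cw_lt _ _
  rw [← mkc_byte helt]
  refine mkc_congr fun i hi => ?_
  obtain ⟨u, hu, w, hw, e'⟩ := (thin_outer hk).2.2.1 i hi
  rw [← ap_pow hi, ← e', ap_xor, hfix u hu, ← ap_cm, omega_comm he, ap_cm, hfix w hw]

include O

/-- What fixes the fixed vectors of the outer involution. -/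
theorem Outer.uni_code {k : ℕ} (S : Shape F k) {h : G} (hh : Commute h z)
    (hfix : ∀ v ∈ ovL cfgU k, ap (F.κ h) v = v) : F.κ h = idc ∨ F.κ h = oC cfgU k := by
  by_cases hi : Inn F h
  · exact Or.inl (linear_fix S.mem hi.2 hfix)
  right
  obtain ⟨e, he, hee⟩ := S.form h hh hi
  have hcc := (F.out_ok S.mem).2.2.2.1
  have : e = idc := by
    refine linear_fix S.mem he fun v hv => ?_
    have h1 := hfix v hv
    rw [hee, ap_cm] at h1
    have h2 := congrArg (ap (oC cfgU k)) h1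
    rw [← ap_cm, hcc, ap_idc (ap_lt _ _), (mem_ovL.1 hv).2] at h2
    exact h2
  rw [hee, this, cm_idc (show oC cfgU k < 2 ^ 64 from cm_lt _ _)]

/-- A conjugate acting as the outer involution is impossible. -/
theorem Outer.uni_member {k : ℕ} (S : Shape F k) {g : G} (ht : Commute (g * z * g⁻¹) z) (htz : g * z * g⁻¹ ≠ z)
    (hκ : F.κ (g * z * g⁻¹) = oC cfgU k) : False := by
  classical
  have OT := O.conj g
  obtain ⟨T, hT⟩ : ∃ T : Frame cfgU (g * z * g⁻¹), T = F.conj g := ⟨_, rfl⟩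
  rw [← hT] at OT
  obtain ⟨t, htd⟩ : ∃ t, t = g * z * g⁻¹ := ⟨_, rfl⟩
  have honly : ∀ s, Mem z s → s ∈ T.J → s = g * z * g⁻¹ := fun s hs hsT => by
    obtain ⟨b, hb⟩ := (Mem.symm ⟨g, rfl⟩).trans hs
    subst hb
    exact OT.no_inside hsT
  clear hT
  revert T
  rw [← htd] at ht htz hκ ⊢
  intro T OT honly
  have hmem : Mem z t := ⟨g, htd.symm⟩
  obtain ⟨hlen, hq, -, hwit⟩ := thin_outer S.mem
  have htJ : t ∉ F.J := fun h => by
    subst htd
    exact htz (O.no_inside h)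
  have hzT : z ∉ T.J := fun h => htz (honly z (Mem.refl z) h).symm
  have ht2 : t * t = 1 := T.ext.z2
  have hgam : ∀ {j}, j ∈ F.J → F.vc j ∈ ovL cfgU k → Commute t j := fun {j} hj hv => by
    obtain ⟨hq0, u, hu, hue⟩ := hq _ hv
    exact (F.comm_range ht (Or.inl ht2) hj hu (by rw [hκ]; exact hue)).2 hq0
  -- the two extraspecial groups meet
  obtain ⟨w, hw, hwT, hw1⟩ : ∃ w, w ∈ F.J ∧ w ∈ T.J ∧ w ≠ 1 := by
    by_contra hno
    push Not at hno
    obtain ⟨K, hK⟩ : ∃ K : Finset ℕ, K = (Finset.range 256).filter fun v => ap (T.κ z) v = v ∧ T.Com z v := ⟨_, rfl⟩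
    have hK' : ∀ v, v ∈ K ↔ v < 256 ∧ ap (T.κ z) v = v ∧ T.Com z v := fun v => by simp [hK, and_assoc]
    have hzt : Commute z t := ht.symm
    have h16 := (fix_sixteen (k := T.κ z) (by rw [← T.κ_mul hzt hzt, F.ext.z2, T.κ_one])).trans (T.half hzt K hK')
    have hle : K.card ≤ 2 := by
      refine le_trans ?_ (Finset.card_le_two (a := idc) (b := oC cfgU k))
      choose b hb hbv using fun v : {v // v ∈ K} => T.vc_surj v.1 ((hK' _).1 v.2).1
      rw [← Finset.card_attach]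
      refine Finset.card_le_card_of_injOn (fun v => F.κ (b v)) (fun v _ => ?_) fun u _ v _ e => ?_
      · have hbz : Commute (b v) z := (((hK' _).1 v.2).2.2 _ (hb v) (hbv v)).symm
        rw [Finset.mem_coe, Finset.mem_insert, Finset.mem_singleton]
        refine O.uni_code S hbz fun x hx => ?_
        obtain ⟨a, ha, rfl⟩ := F.vc_surj x (mem_ovL.1 hx).1
        have hat : Commute a t := (hgam ha hx).symm
        have h1 : a * b v * a⁻¹ * (b v)⁻¹ = 1 := by
          refine hno _ ?_ (mul_mem (T.ext.norm a hat _ (hb v)) (inv_mem (hb v)))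
          rw [show a * b v * a⁻¹ * (b v)⁻¹ = a * (b v * a⁻¹ * (b v)⁻¹) by group]
          exact mul_mem ha (F.ext.norm _ hbz _ (inv_mem ha))
        rw [← F.act _ hbz a ha]
        congr 1
        exact mul_inv_eq_iff_eq_mul.2 (mul_inv_eq_iff_eq_mul.1 (mul_inv_eq_one.1 h1)).symm
      · have hu : Commute (b u) z := (((hK' _).1 u.2).2.2 _ (hb u) (hbv u)).symm
        have hv : Commute (b v) z := (((hK' _).1 v.2).2.2 _ (hb v) (hbv v)).symm
        have h1 := hno _ ((F.κ_eq_iff hu hv).1 e) (mul_mem (inv_mem (hb u)) (hb v))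
        refine Subtype.ext ?_
        rw [← hbv u, ← hbv v, inv_mul_eq_one.1 h1]
    omega
  have hpre : ∀ {y}, y ∈ F.J → Commute y t → ∃ m ∈ F.J, ap (oC cfgU k) (F.vc m) ^^^ F.vc m = F.vc y := by
    intro y hy hyt
    have hf := F.act t ht y hy
    rw [mul_inv_eq_iff_eq_mul.2 hyt.symm.eq, hκ] at hf
    obtain ⟨-, u, hu, e⟩ := hq _ (mem_ovL.2 ⟨F.vc_lt y, hf.symm⟩)
    obtain ⟨m, hm, rfl⟩ := F.vc_surj u hu
    exact ⟨m, hm, e⟩
  have hmove : ∀ {m}, m ∈ F.J → ∃ c ∈ F.J, m⁻¹ * t * m = t * c ∧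
      F.vc c = ap (oC cfgU k) (F.vc m) ^^^ F.vc m := by
    intro m hm
    have hti : t⁻¹ = t := inv_eq_of_mul_eq_one_right ht2
    refine ⟨t * m⁻¹ * t⁻¹ * m, mul_mem (F.ext.norm t ht _ (inv_mem hm)) hm, ?_, ?_⟩
    · rw [show t * (t * m⁻¹ * t⁻¹ * m) = (t * t) * (m⁻¹ * t⁻¹ * m) by group, ht2, one_mul, hti]
    · rw [F.vc_mul _ (F.ext.norm t ht _ (inv_mem hm)) _ hm, F.act t ht _ (inv_mem hm), F.vc_inv hm, hκ]
  have honly1 : ∀ {y}, y ∈ T.J → Mem z (t * y) → y = 1 := fun {y} hy h =>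
    mul_eq_left.1 (honly _ h (mul_mem T.ext.zJ hy))
  -- moving by an element over a preimage
  have hmeet : ∀ {y m}, y ∈ F.J → y ∈ T.J → y ≠ 1 → m ∈ F.J →
      ap (oC cfgU k) (F.vc m) ^^^ F.vc m = F.vc y → m⁻¹ * t * m = t * y * z ∧ ¬ Mem z (t * z) := by
    intro y m hy hyT hy1 hm hv
    obtain ⟨c, hc, hmt, hcv⟩ := hmove hm
    have hmz : Mem z (m⁻¹ * t * m) := by simpa using hmem.conj m⁻¹
    rcases F.vc_eq hy hc (hv ▸ hcv.symm) with e | e
    · exact absurd (honly1 hyT (by rw [← e, ← hmt]; exact hmz)) hy1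
    have e1 : m⁻¹ * t * m = t * y * z := by rw [hmt, e, mul_assoc]
    refine ⟨e1, fun hz => hy1 (honly1 hyT ?_)⟩
    have h2 := hz.conj m⁻¹
    rwa [inv_inv, show m⁻¹ * (t * z) * m = m⁻¹ * t * m * (m⁻¹ * z * m) by group, e1,
      show m⁻¹ * z * m = z by rw [mul_assoc, ← (F.ext.cz m hm).eq, inv_mul_cancel_left],
      mul_assoc _ z z, F.ext.z2, mul_one] at h2
  obtain ⟨m, hm, hmw⟩ := hpre hw (T.ext.cz w hwT)
  obtain ⟨hmt, hnz⟩ := hmeet hw hwT hw1 hm hmw
  have hu0 : ap (oC cfgU k) (F.vc m) ^^^ F.vc m ≠ 0 := by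
    rw [hmw]
    intro e
    rcases F.vc_zero w hw e with e | e
    exacts [hw1 e, hzT (e ▸ hwT)]
  obtain ⟨wd, hwd, hcomm, hne, hform⟩ := hwit _ (F.vc_lt m) hu0
  rw [hmw] at hne hform
  obtain ⟨h₀, hh₀, hh₀e⟩ := F.lift_word wd hwd
  replace hh₀e : F.κ h₀ = cw gensU wd := hh₀e
  -- the lift can be taken in the centraliser of `t`
  obtain ⟨l, hlz, hlt, hle⟩ : ∃ l, Commute l z ∧ Commute l t ∧ F.κ l = cw gensU wd := by
    have hs : F.κ (h₀ * t * h₀⁻¹) = F.κ t := (F.κ_conj_fix hh₀ ht).2 (by rw [hh₀e, hκ]; exact hcomm.symm)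
    have hsz : Commute (h₀ * t * h₀⁻¹) z := (hh₀.mul_left ht).mul_left hh₀.inv_left
    have hj := (F.κ_eq_iff ht hsz).1 hs.symm
    obtain ⟨j, hjdef⟩ : ∃ j, j = t⁻¹ * (h₀ * t * h₀⁻¹) := ⟨_, rfl⟩
    rw [← hjdef] at hj
    have hst : h₀ * t * h₀⁻¹ = t * j := by rw [hjdef, mul_inv_cancel_left]
    have hinv : t * j * (t * j) = 1 := by
      rw [← hst, show h₀ * t * h₀⁻¹ * (h₀ * t * h₀⁻¹) = h₀ * (t * t) * h₀⁻¹ by group, ht2, mul_one, mul_inv_cancel]
    have hfix : F.vc j ∈ ovL cfgU k := by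
      refine mem_ovL.2 ⟨F.vc_lt j, ?_⟩
      rw [← hκ, ← F.act t ht j hj]
      have : t * j * t⁻¹ = j⁻¹ := by
        rw [inv_eq_of_mul_eq_one_right ht2, eq_inv_iff_mul_eq_one, mul_assoc, hinv]
      rw [this, F.vc_inv hj]
    obtain ⟨m₀, hm₀, hm₀e⟩ := hpre hj (hgam hj hfix).symm
    obtain ⟨c, hc, hct, hcv⟩ := hmove hm₀
    have hcj : F.vc c = F.vc j := hcv.trans hm₀e
    refine ⟨m₀ * h₀, (F.ext.cz _ hm₀).mul_left hh₀, mul_inv_eq_iff_eq_mul.1 ?_, by rw [F.κ_Jmul hh₀ hm₀, hh₀e]⟩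
    rw [show m₀ * h₀ * t * (m₀ * h₀)⁻¹ = m₀ * (h₀ * t * h₀⁻¹) * m₀⁻¹ by group, hst]
    rcases F.vc_eq hc hj hcj with e' | e'
    · rw [e', ← hct]; group
    · exfalso
      refine hnz ?_
      have h1 : Mem z (m₀ * (h₀ * t * h₀⁻¹) * m₀⁻¹) := (hmem.conj h₀).conj m₀
      rwa [hst, e', show m₀ * (t * (c * z)) * m₀⁻¹ = m₀ * (t * c) * m₀⁻¹ * (m₀ * z * m₀⁻¹) by group, ← hct,
        show m₀ * (m₀⁻¹ * t * m₀) * m₀⁻¹ = t by group, mul_inv_eq_iff_eq_mul.2 (F.ext.cz _ hm₀).eq] at h1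
  have hw' : l * w * l⁻¹ ∈ F.J := F.ext.norm l hlz w hw
  have hwT' : l * w * l⁻¹ ∈ T.J := T.ext.norm l hlt w hwT
  have hv' : F.vc (l * w * l⁻¹) = ap (cw gensU wd) (F.vc w) := by rw [F.act l hlz w hw, hle]
  have hw1' : l * w * l⁻¹ ≠ 1 := fun h => hw1 (conj_eq_one_iff.1 h)
  obtain ⟨m', hm', hmw'⟩ := hpre hw' (T.ext.cz _ hwT')
  obtain ⟨hmt', -⟩ := hmeet hw' hwT' hw1' hm' hmw'
  have hmc : Commute m (l * w * l⁻¹) := (F.comm_iff hm hw').2 (by rw [hv']; exact hform)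
  have hmz : m⁻¹ * z * m = z := by rw [mul_assoc, ← (F.ext.cz m hm).eq, inv_mul_cancel_left]
  have hM : Mem z (m⁻¹ * (t * (l * w * l⁻¹) * z) * m) := by
    rw [← hmt']
    simpa using (hmem.conj m'⁻¹).conj m⁻¹
  rw [show m⁻¹ * (t * (l * w * l⁻¹) * z) * m = m⁻¹ * t * m * (m⁻¹ * (l * w * l⁻¹) * m) * (m⁻¹ * z * m) by group,
    hmt, hmz, show m⁻¹ * (l * w * l⁻¹) * m = l * w * l⁻¹ by rw [mul_assoc, ← hmc.eq, inv_mul_cancel_left],
    show t * w * z * (l * w * l⁻¹) * z = t * w * (z * (l * w * l⁻¹)) * z by group, (F.z_comm hw').eq,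
    show t * w * (l * w * l⁻¹ * z) * z = t * (w * (l * w * l⁻¹)) * (z * z) by group, F.ext.z2, mul_one] at hM
  have h2 : w * (l * w * l⁻¹) = 1 := honly1 (mul_mem hwT hwT') hM
  apply hne
  rw [← hv', ← inv_eq_of_mul_eq_one_right h2, F.vc_inv hw]

end Uni

section Orth

variable {F : Frame C z} (O : Outer F)

include O

/-- An involution commuting with the outer one and fixing half of its fixed vectors. -/
theorem Outer.orth_code (hC : C = cfgP ∨ C = cfgM) {k : ℕ} (S : Shape F k) {s h : G} (hs : Commute s z)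
    (hse : F.κ s = oC C k) (hs2 : s * s = 1) (hh : Commute h z) (h2 : h * h = 1) (hcs : Commute h s)
    (hfix : ∀ j ∈ F.J, Commute s j → Commute h j) : F.κ h = idc ∨ F.κ h = oC C k := by
  classical
  obtain ⟨hcc, -⟩ : cm (oC C k) (oC C k) = idc ∧ True := ⟨(F.out_ok S.mem).2.2.2.1, trivial⟩
  obtain ⟨e, he, hcase⟩ : ∃ e, WordCode C.gens e ∧ (F.κ h = e ∨ F.κ h = cm (oC C k) e) := by
    by_cases hi : Inn F h
    · exact ⟨_, hi.2, Or.inl rfl⟩
    · obtain ⟨e, he, hee⟩ := S.form h hh hi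
      exact ⟨e, he, Or.inr hee⟩
  have helt : e < 2 ^ 64 := by obtain ⟨w, -, rfl⟩ := he; exact cw_lt _ _
  have hcomm : cm (oC C k) (F.κ h) = cm (F.κ h) (oC C k) := by
    rw [← hse, ← F.κ_mul hs hh, ← F.κ_mul hh hs, hcs.eq]
  have hsq : cm (F.κ h) (F.κ h) = idc := by rw [← F.κ_mul hh hh, h2, F.κ_one]
  have hec : cm (oC C k) e = cm e (oC C k) ∧ cm e e = idc := by
    rcases hcase with e' | e'
    · exact e' ▸ ⟨hcomm, hsq⟩
    · rw [e', ← cm_assoc, hcc, idc_cm helt] at hcomm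
      have hce : cm (oC C k) e = cm e (oC C k) := by
        conv_rhs => rw [hcomm, cm_assoc, hcc, cm_idc (cm_lt _ _)]
      refine ⟨hce, ?_⟩
      rw [e', cm_assoc, ← cm_assoc e, ← hce, cm_assoc, ← cm_assoc, hcc, idc_cm (cm_lt _ _)] at hsq
      exact hsq
  suffices hidc : e = idc by
    rcases hcase with e' | e'
    · exact Or.inl (e'.trans hidc)
    · exact Or.inr (by rw [e', hidc, cm_idc (show oC C k < 2 ^ 64 from cm_lt _ _)])
  obtain ⟨a, ha, hae⟩ := F.lift_code he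
  rcases O.invol_code (h := a) ⟨ha, hae ▸ he⟩ (hae ▸ hec.2) with e' | e'
  · exact hae ▸ e'
  exfalso
  rw [hae] at e'
  -- the vectors commuting with `s`
  obtain ⟨K, hK⟩ : ∃ K : Finset ℕ, K = (Finset.range 256).filter fun v => ap (F.κ s) v = v ∧ F.Com s v := ⟨_, rfl⟩
  have hK' : ∀ v, v ∈ K ↔ v < 256 ∧ ap (F.κ s) v = v ∧ F.Com s v := fun v => by simp [hK, and_assoc]
  have hhalf := F.half hs K hK'
  rw [hse] at hhalf
  change (ovL C k).length ≤ 2 * K.card at hhalf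
  obtain ⟨Fix, hFix⟩ : ∃ Fix, Fix = (ovL C k).filter fun v => ap e v == v := ⟨_, rfl⟩
  have hKF : K ⊆ Fix.toFinset := by
    intro v hv
    obtain ⟨hv256, hvf, hvc⟩ := (hK' v).1 hv
    rw [hse] at hvf
    refine List.mem_toFinset.2 (hFix ▸ List.mem_filter.2 ⟨mem_ovL.2 ⟨hv256, hvf⟩, beq_iff_eq.2 ?_⟩)
    obtain ⟨j, hj, rfl⟩ := F.vc_surj v hv256
    have hf := F.act h hh j hj
    rw [mul_inv_eq_iff_eq_mul.2 (hfix j hj (hvc j hj rfl)).eq] at hf
    rcases hcase with e'' | e'' <;> rw [e''] at hf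
    · exact hf.symm
    · rw [ap_cm] at hf
      have h2' := congrArg (ap (oC C k)) hf
      rw [← ap_cm, hcc, ap_idc (ap_lt _ _), hvf] at h2'
      exact h2'.symm
  have hnd : (ovL C k).Nodup := List.Nodup.filter _ List.nodup_range
  have hcard : Fix.toFinset.card = Fix.length :=
    List.toFinset_card_of_nodup (hFix ▸ hnd.filter _)
  have hle := Finset.card_le_card hKF
  have hchk : halfChk C = true := by rcases hC with rfl | rfl; exacts [half_P, half_M]
  simp only [halfChk, List.all_eq_true, Bool.and_eq_true, Bool.or_eq_true, Bool.not_eq_true', beq_eq_false_iff_ne,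
    List.any_eq_true, vecs, List.mem_range, nbeq_iff, Nat.blt_eq, beq_iff_eq] at hchk
  rcases (hchk k S.mem).2 e e' with e'' | e'' | ⟨heq, u, hu, e''⟩
  · exact e'' hec.1
  · rw [← hFix] at e''; omega
  rw [← hFix] at heq
  have hKeq : K = Fix.toFinset := Finset.eq_of_subset_of_card_le hKF (by omega)
  obtain ⟨r, hr⟩ : ∃ r, r = ap (oC C k) u ^^^ u := ⟨_, rfl⟩
  rw [← hr] at e''
  have hr256 : r < 256 := hr ▸ xor_lt (ap_lt _ _) hu
  have hrf : ap (oC C k) r = r := by rw [hr, ap_xor, ← ap_cm, hcc, ap_idc hu, Nat.xor_comm]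
  obtain ⟨j, hj, hjr⟩ := F.vc_surj r hr256
  have hcr := F.comm_range hs (Or.inl hs2) hj hu (by rw [hse, hjr, hr])
  rw [hjr] at hcr
  rcases e'' with ⟨hq, hfr⟩ | ⟨hq, hfr⟩
  · have : r ∈ K := hKeq ▸ List.mem_toFinset.2 (hFix ▸ List.mem_filter.2 ⟨mem_ovL.2 ⟨hr256, hrf⟩, beq_iff_eq.2 hfr⟩)
    rw [hcr.1 (((hK' r).1 this).2.2 j hj hjr)] at hq
    exact absurd hq (by norm_num)
  · have hm : r ∈ Fix.toFinset := hKeq ▸ (hK' r).2 ⟨hr256, by rw [hse]; exact hrf,
      fun j' hj' e'' => F.comm_of_same hs hj hj' (hjr.trans e''.symm) (hcr.2 hq)⟩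
    rw [List.mem_toFinset, hFix, List.mem_filter, beq_iff_eq] at hm
    rw [nbeq_iff.2 hm.2] at hfr
    exact Bool.noConfusion hfr

/-- A conjugate acting as the outer involution is impossible. -/
theorem Outer.orth_member (hC : C = cfgP ∨ C = cfgM) {k : ℕ} (hk : k ∈ outL C) {g : G}
    (ht : Commute (g * z * g⁻¹) z) (htz : g * z * g⁻¹ ≠ z) (hκ : F.κ (g * z * g⁻¹) = oC C k) : False := by
  have hchk : halfChk C = true := by rcases hC with rfl | rfl; exacts [half_P, half_M]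
  simp only [halfChk, List.all_eq_true, Bool.and_eq_true] at hchk
  obtain ⟨a, ha, hat, haz⟩ := F.exists_sq ht (S := ovL C k)
    (fun v hv => by rw [hκ]; exact mem_ovL.1 hv) (hchk k hk).1
  have OT := O.conj g
  obtain ⟨T, hT⟩ : ∃ T : Frame C (g * z * g⁻¹), T = F.conj g := ⟨_, rfl⟩
  rw [← hT] at OT
  have hzI : Inn T z := haz ▸ OT.inn_sq hat.symm
  have hzJ : z ∉ T.J := fun h => htz (by
    have h2 := OT.no_inside (g := g⁻¹) (by rwa [show g⁻¹ * (g * z * g⁻¹) * g⁻¹⁻¹ = z by group])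
    rw [show g⁻¹ * (g * z * g⁻¹) * g⁻¹⁻¹ = z by group] at h2
    exact h2.symm)
  have hne : T.κ z ≠ idc := fun e => hzJ (T.ker z hzI.1 e)
  have hin := (OT.invol_code hzI (by rw [← T.κ_mul hzI.1 hzI.1, F.ext.z2, T.κ_one])).resolve_left hne
  have htr : tripleChk C = true := by rcases hC with rfl | rfl; exacts [triple_P, triple_M]
  simp only [tripleChk, List.all_eq_true] at htr
  obtain ⟨b, hb, hbz, hbt⟩ := T.exists_sq hzI.1 (S := vecs.filter fun v => ap (T.κ z) v == v)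
    (fun v hv => by simpa [vecs] using hv) (htr _ hin)
  have h1 : Inn F (g * z * g⁻¹) := hbt ▸ O.inn_sq hbz.symm
  exact O.code_not_word hk (hκ ▸ h1.2)

end Orth

variable {F : Frame C z} (O : Outer F)

include O

/-- The transfer is trivial on an involution of the extraspecial group. -/
theorem Outer.tr_involution {j : G} (hj : j ∈ F.J) (hj2 : j * j = 1) : O.tr j = 1 := by
  classical
  haveI : Fact (Nat.Prime 2) := ⟨Nat.prime_two⟩
  have hjz := F.ext.cz j hj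
  rw [O.tr_value hjz (Or.inl hj2) (F.J ⊓ Subgroup.centralizer ({j} : Set G))
    ((IsPGroup.of_card (p := 2) (n := 9) (by rw [F.ext.card]; norm_num : Nat.card F.J = 2 ^ 9)).to_le inf_le_left)
    (fun a ha => Subgroup.mem_centralizer_singleton_iff.1 (Subgroup.mem_inf.1 ha).2)
    (fun h => fun a _ => absurd (h.symm.trans hj2) F.ext.z1) (fun a ha => F.ext.cz a (Subgroup.mem_inf.1 ha).1)
    fun g hgz hA _ => ?_]
  · exact O.chi_inn (F.inn_J hj)
  obtain ⟨t, ht⟩ : ∃ t, t = g * z * g⁻¹ := ⟨_, rfl⟩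
  rw [← ht] at hA
  have htz : Commute t z := (hA z (Subgroup.mem_inf.2 ⟨F.ext.zJ, Subgroup.mem_centralizer_singleton_iff.2 hjz.symm.eq⟩)).symm
  have hA' : ∀ a ∈ F.J, Commute a j → Commute a t := fun a ha haj =>
    hA a (Subgroup.mem_inf.2 ⟨ha, Subgroup.mem_centralizer_singleton_iff.2 haj.eq⟩)
  have key : ∀ m ∈ F.J, F.vc (t * m * t⁻¹) = F.vc m := by
    intro m hm
    obtain ⟨d, hd⟩ : ∃ d, d = t * m * t⁻¹ * m⁻¹ := ⟨_, rfl⟩
    have hdJ : d ∈ F.J := hd ▸ mul_mem (F.ext.norm t htz m hm) (inv_mem hm)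
    have hd' : t * m * t⁻¹ = d * m := by rw [hd]; group
    have hdA : ∀ a ∈ F.J, Commute a j → Commute a d := by
      intro a ha haj
      have hat := hA' a ha haj
      refine mul_inv_eq_iff_eq_mul.1 ?_
      have e1 : a * d * a⁻¹ = t * (a * m * a⁻¹) * t⁻¹ * (a * m * a⁻¹)⁻¹ := by
        rw [hd]
        calc a * (t * m * t⁻¹ * m⁻¹) * a⁻¹ = a * t * m * t⁻¹ * (m⁻¹ * a⁻¹) := by group
          _ = t * a * m * t⁻¹ * (m⁻¹ * a⁻¹) := by rw [hat.eq]
          _ = t * a * m * (t⁻¹ * a⁻¹) * (a * m⁻¹ * a⁻¹) := by group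
          _ = t * a * m * (a⁻¹ * t⁻¹) * (a * m⁻¹ * a⁻¹) := by rw [hat.inv_inv.symm.eq]
          _ = _ := by group
      rcases F.ext.cmt a ha m hm with e | e
      · rw [e1, hd, show a * m * a⁻¹ = m by rw [← mul_inv_eq_one]; exact e]
      · have : a * m * a⁻¹ = z * m := by rw [← e]; group
        rw [e1, hd, this, show t * (z * m) * t⁻¹ * (z * m)⁻¹ = t * z * (m * t⁻¹ * m⁻¹) * z⁻¹ by group, htz.eq,
          show z * t * (m * t⁻¹ * m⁻¹) * z⁻¹ = z * d * z⁻¹ by rw [hd]; group,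
          mul_inv_eq_iff_eq_mul.2 (F.z_comm hdJ).eq, hd]
    rw [hd', F.vc_mul d hdJ m hm]
    suffices d = 1 ∨ d = z by rcases this with e | e <;> simp [e, F.vc_one, F.vc_z]
    have hsq : d * m * (d * m) = m * m := by
      rw [← hd', show t * m * t⁻¹ * (t * m * t⁻¹) = t * (m * m) * t⁻¹ by group]
      rcases F.ext.sq m hm with e | e <;> rw [e]
      · simp
      · exact mul_inv_eq_iff_eq_mul.2 htz.eq
    rcases F.double_perp hj hdJ hdA with e | e | e | e
    · exact Or.inl e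
    · exact Or.inr e
    all_goals
      by_cases hmj : Commute m j
      · left
        rw [hd, show t * m = m * t from (hA' m hm hmj).symm.eq]; group
      exfalso
      have hmd : m * d = d * m * z := by
        have hmj' : m * j = z * (j * m) := by
          rcases F.ext.cmt m hm j hj with e' | e'
          · exact absurd (mul_inv_eq_iff_eq_mul.1 (mul_inv_eq_one.1 e')) hmj
          · rw [← e']; group
        rw [e]
        first
          | rw [hmj', (F.z_comm (mul_mem hj hm)).eq]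
          | rw [← mul_assoc, hmj', (F.z_comm (mul_mem hj hm)).eq, mul_assoc j z m, (F.z_comm hm).eq, ← mul_assoc]
      have hdd : d * d = 1 := by
        rw [e]
        first
          | exact hj2
          | rw [(F.z_comm hj).mul_mul_mul_comm, hj2, F.ext.z2, one_mul]
      refine F.ext.z1 ?_
      have : d * m * (d * m) = m * m * z := by
        rw [show d * m * (d * m) = d * (m * d) * m by group, hmd,
          show d * (d * m * z) * m = d * d * (m * (z * m)) by group, (F.z_comm hm).eq, hdd, one_mul, mul_assoc]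
      exact mul_eq_left.1 (this.symm.trans hsq)
  have hidc : F.κ t = idc := code_ext (F.κ_lt _) idc_lt fun v hv => by
    obtain ⟨m, hm, rfl⟩ := F.vc_surj v hv
    rw [← F.act t htz m hm, key m hm, ap_idc (F.vc_lt m)]
  exact hgz (O.no_inside (ht ▸ F.ker t htz hidc))

/-- The transfer is trivial on the extraspecial group. -/
theorem Outer.tr_J {j : G} (hj : j ∈ F.J) : O.tr j = 1 := by
  have hsplit : ∀ v < 256, ∃ x < 256, C.q x = 0 ∧ C.q (v ^^^ x) = 0 := by
    rcases list_cases F.std with rfl | rfl | rfl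
    · exact split_q.1
    · exact split_q.2
    · exact split_q.1
  obtain ⟨x, hx, hx0, hx1⟩ := hsplit _ (F.vc_lt j)
  obtain ⟨a, ha, rfl⟩ := F.vc_surj x hx
  have h1 := O.tr_involution ha (F.sq_one ha hx0)
  have h2 := O.tr_involution (mul_mem hj ha) (F.sq_one (mul_mem hj ha) (by rw [F.vc_mul j hj a ha]; exact hx1))
  rwa [map_mul, h1, mul_one] at h2
where
  /-- Every vector is a sum of two singular ones. -/
  split_q : (∀ v < 256, ∃ x < 256, qU x = 0 ∧ qU (v ^^^ x) = 0) ∧ ∀ v < 256, ∃ x < 256, qP x = 0 ∧ qP (v ^^^ x) = 0 := by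
    decide +kernel

/-- The transfer is nontrivial. -/
theorem Outer.exists_tr : ∃ s, Commute s z ∧ ¬ Inn F s ∧ O.tr s = -1 := by
  classical
  haveI : Fact (Nat.Prime 2) := ⟨Nat.prime_two⟩
  obtain ⟨s₀, k, hk, hs₀, hs₀e, hns₀, hform⟩ := O.out_spec
  have S : Shape F k := ⟨hk, hform⟩
  obtain ⟨hcc, hgood⟩ : cm (oC C k) (oC C k) = idc ∧ ∀ v < 256, (∀ f ∈ ovL C k, cform C v f ≠ 1) →
      ∃ u < 256, ap (oC C k) u ^^^ u = v := by
    have h : outPerpChk C = true := by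
      rcases list_cases F.std with rfl | rfl | rfl
      exacts [outPerp_U, outPerp_P, outPerp_M]
    simp only [outPerpChk, List.all_eq_true, vecs, List.mem_range, Bool.or_eq_true, List.any_eq_true, nbeq_iff] at h
    exact ⟨(F.out_ok hk).2.2.2.1, fun v hv hperp => (h k hk v hv).resolve_left fun ⟨f, hf, e⟩ => hperp f hf e⟩
  -- the square lies over the range
  have hj : s₀ * s₀ ∈ F.J := F.ker _ (hs₀.mul_left hs₀) (by rw [F.κ_mul hs₀ hs₀, hs₀e, hcc])
  obtain ⟨u, hu, hue⟩ := hgood _ (F.vc_lt (s₀ * s₀)) fun f hf => by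
    obtain ⟨a, ha, rfl⟩ := F.vc_surj f (mem_ovL.1 hf).1
    have hfa : ap (F.κ s₀) (F.vc a) = F.vc a := by rw [hs₀e]; exact (mem_ovL.1 hf).2
    have : Commute (s₀ * s₀) a := by
      refine mul_inv_eq_iff_eq_mul.1 ?_
      rw [show s₀ * s₀ * a * (s₀ * s₀)⁻¹ = s₀ * (s₀ * a * s₀⁻¹) * s₀⁻¹ by group]
      rcases F.conj_cases' hs₀ ha hfa with e | e <;> rw [e]
      · exact e
      · rw [show s₀ * (a * z) * s₀⁻¹ = s₀ * a * s₀⁻¹ * (s₀ * z * s₀⁻¹) by group, e,
          mul_inv_eq_iff_eq_mul.2 hs₀.eq, mul_assoc, F.ext.z2, mul_one]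
    rw [(F.comm_iff hj ha).1 this]; norm_num
  obtain ⟨m, hm, rfl⟩ := F.vc_surj u hu
  obtain ⟨s, hsd⟩ : ∃ s, s = s₀ * m := ⟨_, rfl⟩
  have hs : Commute s z := hsd ▸ hs₀.mul_left (F.ext.cz m hm)
  have hse : F.κ s = oC C k := by rw [hsd, F.κ_mulJ hs₀ hm, hs₀e]
  have hns : ¬ Inn F s := fun h => O.code_not_word hk (hse ▸ h.2)
  have hs2 : s * s = 1 ∨ s * s = z := by
    have e : s * s = s₀ * m * s₀⁻¹ * (s₀ * s₀) * m := by rw [hsd]; group
    rw [e]
    have h1 := F.ext.norm s₀ hs₀ m hm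
    refine F.vc_zero _ (mul_mem (mul_mem h1 hj) hm) ?_
    rw [F.vc_mul _ (mul_mem h1 hj) _ hm, F.vc_mul _ h1 _ hj, F.act s₀ hs₀ m hm, hs₀e, ← hue]
    generalize ap (oC C k) (F.vc m) = A
    generalize F.vc m = B
    apply Nat.eq_of_testBit_eq
    intro i
    simp only [Nat.testBit_xor, Nat.zero_testBit]
    cases A.testBit i <;> cases B.testBit i <;> rfl
  have hEp : ∀ s : G, IsPGroup 2 ↥(F.J ⊓ Subgroup.centralizer ({s} : Set G)) := fun _ =>
    (IsPGroup.of_card (p := 2) (n := 9) (by rw [F.ext.card]; norm_num : Nat.card F.J = 2 ^ 9)).to_le inf_le_left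
  have hEc : ∀ {s a : G}, a ∈ F.J ⊓ Subgroup.centralizer ({s} : Set G) → Commute a s := fun h =>
    Subgroup.mem_centralizer_singleton_iff.1 (Subgroup.mem_inf.1 h).2
  have hzE : ∀ {s : G}, Commute s z → z ∈ F.J ⊓ Subgroup.centralizer ({s} : Set G) := fun h =>
    Subgroup.mem_inf.2 ⟨F.ext.zJ, Subgroup.mem_centralizer_singleton_iff.2 h.symm.eq⟩
  rcases list_cases F.std with rfl | hC
  · refine ⟨s, hs, hns, ?_⟩
    obtain ⟨-, hq, -, -⟩ := thin_outer hk
    rw [O.tr_value hs hs2 _ (hEp s) (fun a ha => hEc ha) (fun _ a ha => F.sq_one (Subgroup.mem_inf.1 ha).1 ?_)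
      (fun a ha => F.ext.cz a (Subgroup.mem_inf.1 ha).1) fun g hgz hA _ => ?_]
    · exact O.chi_out hns
    · refine (hq _ (mem_ovL.2 ⟨F.vc_lt a, ?_⟩)).1
      rw [← hse, ← F.act s hs a (Subgroup.mem_inf.1 ha).1, mul_inv_eq_iff_eq_mul.2 (hEc ha).symm.eq]
    have htz : Commute (g * z * g⁻¹) z := (hA z (hzE hs)).symm
    rcases O.uni_code S htz (fun v hv => by
      obtain ⟨hq0, u, hu, hue⟩ := hq v hv
      obtain ⟨a, ha, rfl⟩ := F.vc_surj v (mem_ovL.1 hv).1
      have hsa := (F.comm_range hs hs2 ha hu (by rw [hse]; exact hue)).2 hq0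
      have h := hA a (Subgroup.mem_inf.2 ⟨ha, Subgroup.mem_centralizer_singleton_iff.2 hsa.symm.eq⟩)
      rw [← F.act _ htz a ha, mul_inv_eq_iff_eq_mul.2 h.symm.eq]) with e | e
    · exact hgz (O.no_inside (F.ker _ htz e))
    · exact O.uni_member S htz hgz e
  · have hchk : halfChk C = true := by rcases hC with rfl | rfl; exacts [half_P, half_M]
    simp only [halfChk, List.all_eq_true, Bool.and_eq_true] at hchk
    obtain ⟨s', hs', hse', hs'2⟩ : ∃ s', Commute s' z ∧ F.κ s' = oC C k ∧ s' * s' = 1 := by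
      rcases hs2 with e | e
      · exact ⟨s, hs, hse, e⟩
      obtain ⟨a, ha, has, haz⟩ := F.exists_sq hs (S := ovL C k) (fun v hv => by rw [hse]; exact mem_ovL.1 hv)
        (hchk k hk).1
      refine ⟨s * a, hs.mul_left (F.ext.cz a ha), by rw [F.κ_mulJ hs ha, hse], ?_⟩
      rw [has.symm.mul_mul_mul_comm, e, haz, F.ext.z2]
    have hns' : ¬ Inn F s' := fun h => O.code_not_word hk (hse' ▸ h.2)
    refine ⟨s', hs', hns', ?_⟩
    rw [O.tr_value hs' (Or.inl hs'2) _ (hEp s') (fun a ha => hEc ha)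
      (fun h => absurd (h.symm.trans hs'2) F.ext.z1) (fun a ha => F.ext.cz a (Subgroup.mem_inf.1 ha).1)
      fun g hgz hA hor => ?_]
    · exact O.chi_out hns'
    have htz : Commute (g * z * g⁻¹) z := (hA z (hzE hs')).symm
    have hts : Commute (g * z * g⁻¹) s' := by
      rcases hor with h | ⟨h, -⟩
      · exact h.symm
      · exact absurd (h.symm.trans hs'2) F.ext.z1
    rcases O.orth_code hC S hs' hse' hs'2 htz (by rw [show g * z * g⁻¹ * (g * z * g⁻¹) = g * (z * z) * g⁻¹ by group,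
        F.ext.z2, mul_one, mul_inv_cancel]) hts (fun a ha hsa =>
        (hA a (Subgroup.mem_inf.2 ⟨ha, Subgroup.mem_centralizer_singleton_iff.2 hsa.symm.eq⟩)).symm) with e | e
    · exact hgz (O.no_inside (F.ker _ htz e))
    · exact O.orth_member hC hk htz hgz e

end Cfsg.Lib.U62Type
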