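import Cfsg.Agent.Lib.U62Type.Tables

/-!
# Lists for the extension by an outer automorphism
-/

set_option autoImplicit false

namespace Cfsg.Lib.U62Type

/-- The similitude inducing the outer automorphism. -/
def dL : List ℕ :=
  [2, 0, 0, 0, 0, 2, 0, 0, 1, 2, 1, 0, 2, 1, 0, 1]

/-- The possible codes of the outer automorphism, unitary case. -/
def outU : List ℕ :=
  [13853125299270845185, 4647732545138983170, 9277450623048745475]

/-- The possible codes of the outer automorphism, plus case. -/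
def outP : List ℕ :=
  [9241439280843457281, 4647767660925551361]

/-- The possible codes of the outer automorphism, minus case. -/
def outM : List ℕ :=
  [9241439280843457281, 13853125299270845185, 4647767660925551361, 9277468077862421249]

/-- The basis from a base vector, unitary case. -/
def exprU : List (List (ℕ × List ℕ)) :=
  [[(0, [])], [(0, [0])], [(0, [1])], [(0, [1, 0])], [(0, [2, 1])], [(0, [2, 1, 0])], [(0, [1]), (0, [3]), (0,
  [2, 1])], [(0, [1, 0]), (0, [3, 0]), (0, [2, 1, 0])]]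

/-- The basis from three base vectors, orthogonal cases. -/
def exprP : List (List (ℕ × List ℕ)) :=
  [[(0, [])], [(0, [2, 0, 2])], [(0, [1, 2])], [(0, [1, 2]), (0, [1, 0, 2])], [(0, [2])], [(0, [0, 2])], [(1,
  [])], [(2, [])]]

/-- Words fixing the base vector, unitary case. -/
def stbU : List (List ℕ) :=
  [[1, 2], [1, 0, 2, 0]]

/-- Words fixing the base vector, orthogonal cases. -/
def stbP : List (List ℕ) :=
  [[1], [3], [0]]

/-- The generators as products of conjugates of powers of the first. -/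
def oddW : List (List (List ℕ × ℕ)) :=
  [[([], 1)], [([2], 1), ([3], 2), ([2, 3], 1), ([2, 2], 2), ([2, 3], 1), ([0, 3], 1), ([2, 2], 2)], [([3], 1),
  ([2, 2], 2), ([3], 1), ([1, 2], 1), ([2, 2], 2), ([2, 3], 2), ([0, 3], 1)], [([], 1), ([2, 3], 2), ([2, 2], 1),
  ([3], 1), ([2], 1), ([2, 3], 1), ([2, 2], 1)]]

/-- Elements commuting with the outer involution. -/
def witW : List (List ℕ) :=
  [[2, 2, 3], [0, 3, 0]]

/-- Words fixing each orbit representative. -/
def fixWU : List (ℕ × List (List ℕ)) :=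
  [(5, [[0, 2, 1, 0, 2, 3, 0, 1, 2, 0, 3], [2, 2, 0, 2, 2], [0, 3, 0, 1, 2, 1, 2, 2, 0, 3, 0], [0, 0, 2, 0, 2, 2,
  3, 0, 2, 0, 0, 3]])]

/-- Words fixing each orbit representative. -/
def fixWP : List (ℕ × List (List ℕ)) :=
  [(5, [[0, 2, 3, 0], [2, 0, 3, 0, 2]]), (64, [[0, 1, 2, 1, 2, 2], [0]]), (69, [[0, 2, 3, 0, 2, 2], [2, 2]]),
  (128, [[0, 1, 2, 1, 2, 2], [0]]), (133, [[0, 2, 3, 0, 2, 2], [2, 2]]), (193, [[0, 2, 2, 3], [0, 2, 2, 0, 1, 2,
  2, 3]])]

/-- Words fixing each orbit representative. -/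
def fixWM : List (ℕ × List (List ℕ)) :=
  [(5, [[2, 0, 3, 0, 2], [0, 2, 3, 0]]), (65, [[0, 2, 2, 0, 3], [2, 2, 3, 0]]), (129, [[0, 2, 2, 0, 3], [2, 2, 3,
  0]]), (193, [[0, 2, 2, 0, 3], [2, 2, 3, 0]])]

/-- The three Lagrangians over a singular vector. -/
def lagU : List (List ℕ) :=
  [[0, 5, 10, 15, 80, 85, 90, 95, 176, 181, 186, 191, 224, 229, 234, 239], [0, 5, 10, 15, 96, 101, 106, 111, 144,
  149, 154, 159, 240, 245, 250, 255], [0, 5, 10, 15, 112, 117, 122, 127, 160, 165, 170, 175, 208, 213, 218, 223]]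

end Cfsg.Lib.U62Type
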