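import Cfsg.Agent.Lib.U62Type.Outer

/-!
# With an outer automorphism: no other conjugate in the extraspecial group
-/

set_option autoImplicit false
set_option linter.unusedSectionVars false
set_option linter.style.haveILetI false

namespace Cfsg.Lib.U62Type

variable {G : Type*} [Group G] [Finite G] {C : Cfg} {z t : G} {F : Frame C z} {T : Frame C t}

theorem plane_ok (F : Frame C z) : ∀ v < 256,
    (∀ i < 4, ap (C.gens.getD i 0) v = v) ↔ v ∈ planeL C := by
  have h : planeChk C = true := by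
    have h := F.std
    simp only [List.mem_cons, List.not_mem_nil, or_false] at h
    rcases h with rfl | rfl | rfl
    exacts [plane_U, plane_P, (show planeChk cfgP = planeChk cfgM from rfl) ▸ plane_P]
  intro v hv
  simp only [planeChk, vecs, List.all_eq_true, List.mem_range, beq_iff_eq] at h
  rw [← List.contains_iff_mem, ← h v hv, List.all_eq_true]
  simp

theorem inside_ok (F : Frame C z) : insideChk C = true := by
  have h := F.std
  simp only [List.mem_cons, List.not_mem_nil, or_false] at h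
  rcases h with rfl | rfl | rfl
  exacts [inside_U, inside_P, inside_M]

theorem Frame.word_fix (F : Frame C z) {c : ℕ} (hc : WordCode C.gens c) {v : ℕ} (hv : v < 256) (hp : v ∈ planeL C) :
    ap c v = v := by
  obtain ⟨w, hw, rfl⟩ := hc
  induction w with
  | nil => rw [cw_nil, ap_idc hv]
  | cons a w ih =>
    rw [cw_cons, ap_cm, ih fun i hi => hw i (List.mem_cons_of_mem _ hi)]
    exact (plane_ok F v hv).2 hp a (hw a List.mem_cons_self)

/-- The whole centraliser stabilises the plane. -/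
theorem Outer.plane_inv (O : Outer F) {h : G} (hh : Commute h z) {v : ℕ} (hv : v < 256) (hp : v ∈ planeL C) :
    ap (F.κ h) v ∈ planeL C := by
  refine (plane_ok F _ (ap_lt _ _)).1 fun i hi => ?_
  obtain ⟨l, hl, hle⟩ := F.gens i hi
  have hli : Inn F l := ⟨hl, hle ▸ wordCode_gen F.std hi⟩
  have hc : Inn F (h⁻¹ * l * h) := by
    have := (O.inn_conj hh.inv_left hl).2 hli
    rwa [inv_inv] at this
  rw [← hle, ← ap_cm, ← F.κ_mul hl hh, show l * h = h * (h⁻¹ * l * h) by group, F.κ_mul hh hc.1, ap_cm,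
    F.word_fix hc.2 hv hp]

/-- Inner elements fill at least half. -/
theorem Outer.inn_half (O : Outer F) (P : Subgroup G) (hP : ∀ p ∈ P, Commute p z) :
    ∃ P0 : Subgroup G, P0 ≤ P ∧ (∀ p ∈ P0, Inn F p) ∧ Nat.card P ≤ 2 * Nat.card P0 := by
  classical
  obtain ⟨K, -, hmem, -, -, -⟩ := O.inn_index
  refine ⟨P ⊓ K, inf_le_left, fun p hp => (hmem p).1 (Subgroup.mem_inf.1 hp).2, ?_⟩
  by_cases hall : ∀ p ∈ P, Inn F p
  · rw [inf_eq_left.2 fun p hp => (hmem p).2 (hall p hp)]; omega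
  push Not at hall
  obtain ⟨r, hr, hrn⟩ := hall
  let φ : P → Bool × ↥(P ⊓ K) := fun p => if h : Inn F (p : G) then (true, ⟨p, Subgroup.mem_inf.2 ⟨p.2, (hmem _).2 h⟩⟩)
    else (false, ⟨r⁻¹ * p, Subgroup.mem_inf.2 ⟨mul_mem (inv_mem hr) p.2, (hmem _).2
      ((O.inn_mul (hP r hr).inv_left (hP _ p.2)).2
        ⟨fun hi => absurd ((O.inn_inv (hP r hr)).1 hi) hrn, fun hi => absurd hi h⟩)⟩⟩)
  have hφ : Function.Injective φ := by
    intro p q e
    simp only [φ] at e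
    split_ifs at e with h1 h2 h2 <;> simp only [Prod.mk.injEq, Subtype.mk.injEq, Bool.false_eq_true, Bool.true_eq_false,
      false_and, true_and] at e
    · exact Subtype.ext e
    · exact Subtype.ext (mul_left_cancel e)
  have := Nat.card_le_card_of_injective φ hφ
  rwa [Nat.card_prod, Nat.card_eq_fintype_card (α := Bool), Fintype.card_bool] at this

/-- A conjugate of the representative of the orbit. -/
theorem Frame.exists_rep (F : Frame C z) {t : G} (ht : t ∈ F.J) (h2 : t * t = 1) (h1 : t ≠ 1) (hz : t ≠ z) :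
    ∃ a, Commute a z ∧ ∃ o ∈ orbL C, F.vc (a⁻¹ * t * a) = o.1 := by
  have horb := F.orb_ok
  simp only [orbChk, Bool.and_eq_true, Bool.or_eq_true, List.all_eq_true, List.any_eq_true, vecs, List.mem_range,
    nbeq_iff, List.contains_iff_mem, beq_iff_eq, Nat.blt_eq] at horb
  obtain ⟨hcov, hdata⟩ := horb
  rcases hcov _ (F.vc_lt t) with (e | e) | ⟨o, ho, hto⟩
  · exfalso; rcases F.vc_zero t ht e with h | h <;> contradiction
  · rw [F.q_of_sq ht h2] at e; exact absurd e (by norm_num)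
  have hin := inside_ok F
  simp only [insideChk, Bool.and_eq_true, List.all_eq_true, Nat.blt_eq] at hin
  have h256 : o.1 < 256 := (hin o ho).1.1.1.1
  obtain ⟨⟨⟨htree, hlt⟩, -⟩, -⟩ := hdata o ho
  obtain ⟨a, ha, hav⟩ : ∃ a, Commute a z ∧ ap (F.κ a) o.1 = F.vc t := by
    refine tree_ind htree (fun x => ∃ a, Commute a z ∧ ap (F.κ a) o.1 = x)
      ⟨1, Commute.one_left z, by rw [F.κ_one, ap_idc h256]⟩ ?_ _ hto
    rintro i hi x ⟨b, hb, rfl⟩
    obtain ⟨s, hs, hse⟩ := F.gens _ (hlt i hi)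
    exact ⟨s * b, hs.mul_left hb, by rw [F.κ_mul hs hb, hse, ap_cm]⟩
  refine ⟨a, ha, o, ho, ?_⟩
  have h2 := F.act a⁻¹ ha.inv_left t ht
  rw [inv_inv] at h2
  rw [h2, ← hav, ← ap_cm, (F.κ_inv ha).2, ap_idc h256]

theorem spanL_mem (P : ℕ → Prop) (h0 : P 0) (hx : ∀ u v, P u → P v → P (u ^^^ v)) {l : List ℕ}
    (hl : ∀ x ∈ l, P x) : ∀ x ∈ spanL l, P x := by
  have key : ∀ (l acc : List ℕ), (∀ x ∈ l, P x) → (∀ x ∈ acc, P x) →
      ∀ x ∈ l.foldl (fun acc x => acc ++ acc.map (x ^^^ ·)) acc, P x := by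
    intro l
    induction l with
    | nil => exact fun acc _ h => h
    | cons a l ih =>
      intro acc hl hacc
      refine ih _ (fun x hx' => hl x (List.mem_cons_of_mem _ hx')) fun x hx' => ?_
      rcases List.mem_append.1 hx' with h | h
      · exact hacc x h
      · obtain ⟨y, hy, rfl⟩ := List.mem_map.1 h
        exact hx _ _ (hl a List.mem_cons_self) (hacc y hy)
  exact key l [0] hl (by simpa using h0)

theorem Frame.conj_cases' (F : Frame C z) {h j : G} (hh : Commute h z) (hj : j ∈ F.J)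
    (e : ap (F.κ h) (F.vc j) = F.vc j) : h * j * h⁻¹ = j ∨ h * j * h⁻¹ = j * z :=
  F.vc_eq hj (F.ext.norm h hh j hj) (by rw [F.act h hh j hj, e])

/-- A lift of a word fixing the vector commutes with the element over it. -/
theorem Frame.fix_lift (F : Frame C z) {t : G} (ht : t ∈ F.J) (h1 : t ≠ 1) (hz : t ≠ z) {w : List ℕ}
    (hw : ∀ i ∈ w, i < 4) (hv : ap (cw C.gens w) (F.vc t) = F.vc t) :
    ∃ k, Commute k z ∧ Commute k t ∧ F.κ k = cw C.gens w := by
  obtain ⟨h, hh, hhe⟩ := F.lift_word w hw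
  rcases F.conj_cases' hh ht (hhe ▸ hv) with e | e
  · exact ⟨h, hh, mul_inv_eq_iff_eq_mul.1 e, hhe⟩
  obtain ⟨j, hj, hjs⟩ := F.exists_noncomm ht h1 hz
  refine ⟨j * h, (F.ext.cz j hj).mul_left hh, mul_inv_eq_iff_eq_mul.1 ?_, by rw [F.κ_Jmul hh hj, hhe]⟩
  rw [show j * h * t * (j * h)⁻¹ = j * (h * t * h⁻¹) * j⁻¹ by group, e,
    show j * (t * z) * j⁻¹ = j * t * j⁻¹ * (j * z * j⁻¹) by group, hjs,
    mul_inv_eq_iff_eq_mul.2 (F.ext.cz j hj).eq, mul_assoc, F.ext.z2, mul_one]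

/-- Each involution lies in the extraspecial group of the other. -/
structure Mutual (F : Frame C z) (T : Frame C t) : Prop where
  tJ : t ∈ F.J
  zJ : z ∈ T.J
  t1 : t ≠ 1
  tz : t ≠ z

namespace Mutual

variable (M : Mutual F T)

include M

theorem symm : Mutual T F := ⟨M.zJ, M.tJ, F.ext.z1, Ne.symm M.tz⟩

theorem comm {x y : G} (hx : x ∈ F.J) (hx' : x ∈ T.J) (hy : y ∈ F.J) (hy' : y ∈ T.J) : Commute x y := by
  refine mul_inv_eq_one.1 ?_ |> mul_inv_eq_iff_eq_mul.1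
  rcases F.ext.cmt x hx y hy with e | e
  · exact e
  · rcases T.ext.cmt x hx' y hy' with e' | e'
    · exact e'
    · exact absurd (e'.symm.trans e) M.tz

theorem q_zero {x : G} (hx : x ∈ F.J) (hx' : x ∈ T.J) : C.q (F.vc x) = 0 := by
  refine F.q_of_sq hx ?_
  rcases F.ext.sq x hx with e | e
  · exact e
  · rcases T.ext.sq x hx' with e' | e'
    · exact e'
    · exact absurd (e'.symm.trans e) M.tz

theorem sq_mem {r : G} (hr : r ∈ T.J) : r * r ∈ F.J := by
  rcases T.ext.sq r hr with e | e <;> rw [e]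
  exacts [one_mem _, M.tJ]

theorem commutator_mem {a r : G} (ha : a ∈ F.J) (hat : Commute a t) (hr : r ∈ T.J) (hrz : Commute r z) :
    a * r * a⁻¹ * r⁻¹ ∈ F.J ∧ a * r * a⁻¹ * r⁻¹ ∈ T.J := by
  refine ⟨?_, mul_mem (T.ext.norm a hat r hr) (inv_mem hr)⟩
  rw [show a * r * a⁻¹ * r⁻¹ = a * (r * a⁻¹ * r⁻¹) by group]
  exact mul_mem ha (F.ext.norm r hrz _ (inv_mem ha))

/-- The meet is small, or contains a Lagrangian. -/
theorem cases (O : Outer F) {o : ℕ × List ℕ × List (ℕ × ℕ) × List (List ℕ)} (ho : o ∈ orbL C)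
    (hv : F.vc t = o.1) :
    (∀ w, w ∈ F.J → w ∈ T.J → F.vc w ∈ smallL C o.1) ∨
      ∃ L ∈ lagL C, ∀ l ∈ L, ∃ w, w ∈ F.J ∧ w ∈ T.J ∧ F.vc w = l := by
  have hin := inside_ok F
  simp only [insideChk, Bool.and_eq_true, Bool.or_eq_true, List.all_eq_true, List.any_eq_true, vecs, List.mem_range,
    nbeq_iff, List.contains_iff_mem, Nat.blt_eq, beq_iff_eq, Bool.not_eq_true'] at hin
  obtain ⟨⟨⟨⟨-, hws⟩, hu⟩, -⟩, -⟩ := hin o ho
  by_cases hall : ∀ w, w ∈ F.J → w ∈ T.J → F.vc w ∈ smallL C o.1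
  · exact Or.inl hall
  right
  push Not at hall
  obtain ⟨w, hw, hwT, hnS⟩ := hall
  have hlift : ∀ c ∈ fixL C o.1, ∃ x, x ∈ F.J ∧ x ∈ T.J ∧ F.vc x = ap (cw C.gens c) (F.vc w) := by
    intro c hc
    obtain ⟨k, hkz, hkt, hke⟩ := F.fix_lift M.tJ M.t1 M.tz (hws c hc).1.1.1 (hv.symm ▸ (hws c hc).1.1.2)
    exact ⟨k * w * k⁻¹, F.ext.norm k hkz w hw, T.ext.norm k hkt w hwT, by rw [F.act k hkz w hw, hke]⟩
  rcases hu _ (F.vc_lt w) with ((((e | e) | e) | ⟨c, hc, e⟩) | ⟨⟨hnU, hvp⟩, e⟩) | ⟨L, hL, e⟩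
  · rw [M.q_zero hw hwT] at e; exact absurd e (by norm_num)
  · rw [← hv, (F.comm_iff hw M.tJ).1 (M.comm hw hwT M.tJ T.ext.zJ)] at e; exact absurd e (by norm_num)
  · exact absurd e hnS
  · obtain ⟨x, hx, hxT, hxv⟩ := hlift c hc
    rw [← hxv, (F.comm_iff hw hx).1 (M.comm hw hwT hx hxT)] at e
    exact absurd e (by norm_num)
  · exfalso
    have hvp' : o.1 ∉ planeL C := fun h => by
      rw [List.contains_iff_mem.2 h] at hvp
      exact Bool.noConfusion hvp
    have hS : F.vc w ≠ 0 ∧ F.vc w ≠ o.1 := by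
      simp only [smallL, hnU, Bool.false_eq_true, if_false, List.mem_cons, List.not_mem_nil, or_false, not_or] at hnS
      exact hnS
    -- an element of the meet over the plane
    obtain ⟨y, hy, hyT, hyp, hy0, hyv⟩ : ∃ y, y ∈ F.J ∧ y ∈ T.J ∧ F.vc y ∈ planeL C ∧ F.vc y ≠ 0 ∧
        F.vc y ≠ o.1 := by
      rcases e with e | e
      · exact ⟨w, hw, hwT, e, hS.1, hS.2⟩
      · have hm : F.vc (w * t) = F.vc w ^^^ o.1 := by rw [F.vc_mul w hw t M.tJ, hv]
        refine ⟨w * t, mul_mem hw M.tJ, mul_mem hwT T.ext.zJ, hm ▸ e, fun h => hS.2 ?_, fun h => hS.1 ?_⟩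
        · exact Nat.xor_eq_zero_iff.1 (hm.symm.trans h)
        · calc F.vc w = F.vc w ^^^ o.1 ^^^ o.1 := by rw [Nat.xor_assoc, Nat.xor_self, Nat.xor_zero]
            _ = 0 := by rw [← hm, h, Nat.xor_self]
    have hxor : ∀ a ∈ planeL C, ∀ b ∈ planeL C, a ^^^ b ∈ planeL C := by
      unfold planeL
      split <;> decide
    have key : ∀ r ∈ T.J, Commute r z → Commute r y := by
      intro r hr hrz
      rcases T.ext.cmt r hr y hyT with e' | e'
      · exact mul_inv_eq_iff_eq_mul.1 (mul_inv_eq_one.1 e')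
      · exfalso
        refine hvp' ?_
        rw [← hv, ← e', F.vc_mul _ (F.ext.norm r hrz y hy) _ (inv_mem hy), F.vc_inv hy, F.act r hrz y hy]
        exact hxor _ (O.plane_inv hrz (F.vc_lt y) hyp) _ hyp
    rcases T.double_perp M.zJ hyT key with e' | e' | e' | e'
    · exact hy0 (e' ▸ F.vc_one)
    · exact hyv (e' ▸ hv)
    · exact hy0 (e' ▸ F.vc_z)
    · exact hyv (by rw [e', F.vc_mul _ F.ext.zJ _ M.tJ, F.vc_z, Nat.zero_xor, hv])
  · refine ⟨L, hL, fun l hl => ?_⟩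
    refine spanL_mem (fun x => ∃ w, w ∈ F.J ∧ w ∈ T.J ∧ F.vc w = x) ⟨1, one_mem _, one_mem _, F.vc_one⟩ ?_ ?_ l
      (e l hl)
    · rintro _ _ ⟨a, ha, haT, rfl⟩ ⟨b, hb, hbT, rfl⟩
      exact ⟨a * b, mul_mem ha hb, mul_mem haT hbT, F.vc_mul a ha b hb⟩
    · intro x hx
      simp only [List.mem_cons, List.mem_map] at hx
      rcases hx with rfl | rfl | ⟨c, hc, rfl⟩
      exacts [⟨t, M.tJ, T.ext.zJ, hv⟩, ⟨w, hw, hwT, rfl⟩, hlift c hc]

theorem meet_card (S : Finset ℕ) (h : ∀ w, w ∈ F.J → w ∈ T.J → F.vc w ∈ S) :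
    Nat.card ↥(F.J ⊓ T.J) ≤ 2 * S.card := by
  classical
  have h1 := card_le_mul_image (F.J ⊓ T.J) F.vc {1, z} (fun p hp q hq e => by
    rcases F.vc_eq (Subgroup.mem_inf.1 hp).1 (Subgroup.mem_inf.1 hq).1 e with e' | e' <;> simp [e'])
  refine h1.trans (Nat.mul_le_mul Finset.card_le_two (Finset.card_le_card fun x hx => ?_))
  obtain ⟨w, hw, rfl⟩ := Finset.mem_image.1 hx
  rw [Set.Finite.mem_toFinset, SetLike.mem_coe, Subgroup.mem_inf] at hw
  exact h w hw.1 hw.2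

/-- The inner half of what commutes with the central involution. -/
theorem inner_part (O : Outer F) :
    ∃ R : Subgroup G, R ≤ T.J ∧ (∀ r ∈ R, Inn F r) ∧ 128 ≤ Nat.card R := by
  obtain ⟨R, hR, hRi, hc⟩ := O.inn_half (T.J ⊓ Subgroup.centralizer ({z} : Set G))
    fun p hp => Subgroup.mem_centralizer_singleton_iff.1 (Subgroup.mem_inf.1 hp).2
  rw [T.perp_card M.zJ F.ext.z1 (Ne.symm M.tz)] at hc
  exact ⟨R, hR.trans inf_le_left, hRi, by omega⟩

theorem code_cases (O : Outer F) {r : G} (hr : r ∈ T.J) (hi : Inn F r) : F.κ r = idc ∨ F.κ r ∈ invL C :=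
  O.invol_code hi (by rw [← F.κ_mul hi.1 hi.1, F.κ_mem (M.sq_mem hr)])

theorem fix_t {r : G} (hr : r ∈ T.J) (hrz : Commute r z) : ap (F.κ r) (F.vc t) = F.vc t := by
  rw [← F.act r hrz t M.tJ, mul_inv_eq_iff_eq_mul.2 (T.ext.cz r hr).eq]

/-- The small case is impossible. -/
theorem small_false (O : Outer F) {o : ℕ × List ℕ × List (ℕ × ℕ) × List (List ℕ)} (ho : o ∈ orbL C)
    (hv : F.vc t = o.1) (hsmall : ∀ w, w ∈ F.J → w ∈ T.J → F.vc w ∈ smallL C o.1) : False := by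
  classical
  have hin := inside_ok F
  simp only [insideChk, Bool.and_eq_true, List.all_eq_true, Nat.blt_eq] at hin
  obtain ⟨⟨-, hcount⟩, -⟩ := hin o ho
  obtain ⟨S, hS⟩ : ∃ S, S = smallL C o.1 := ⟨_, rfl⟩
  obtain ⟨N, hN⟩ : ∃ N, N = (invL C).filter fun e => Nat.beq (ap e o.1) o.1 &&
    vecs.all fun x => Nat.beq (cform C x o.1) 1 || S.contains (ap e x ^^^ x) := ⟨_, rfl⟩
  rw [← hS, ← hN] at hcount
  obtain ⟨R, hRT, hRi, hR⟩ := M.inner_part O
  have h1 := card_le_mul_image R F.κ (Set.toFinite ((F.J ⊓ T.J : Subgroup G) : Set G)).toFinset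
    (fun p hp q hq e => by
      rw [Set.Finite.mem_toFinset, SetLike.mem_coe, Subgroup.mem_inf]
      exact ⟨(F.κ_eq_iff (hRi p hp).1 (hRi q hq).1).1 e, mul_mem (inv_mem (hRT hp)) (hRT hq)⟩)
  rw [← Nat.card_eq_card_finite_toFinset] at h1
  have hW : Nat.card ↥(F.J ⊓ T.J) ≤ 2 * S.length :=
    (M.meet_card S.toFinset fun w hw hwT => List.mem_toFinset.2 (hS ▸ hsmall w hw hwT)).trans
      (Nat.mul_le_mul le_rfl (List.toFinset_card_le _))
  have hI : ((Set.toFinite (R : Set G)).toFinset.image F.κ).card ≤ N.length + 1 := by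
    refine (Finset.card_le_card (t := insert idc N.toFinset) fun x hx => ?_).trans
      ((Finset.card_insert_le _ _).trans (Nat.add_le_add_right (List.toFinset_card_le _) 1))
    obtain ⟨r, hr, rfl⟩ := Finset.mem_image.1 hx
    rw [Set.Finite.mem_toFinset] at hr
    rcases M.code_cases O (hRT hr) (hRi r hr) with e | e
    · rw [e]; exact Finset.mem_insert_self _ _
    refine Finset.mem_insert_of_mem (List.mem_toFinset.2 (hN ▸ List.mem_filter.2 ⟨e, ?_⟩))
    simp only [Bool.and_eq_true, Bool.or_eq_true, List.all_eq_true, vecs, List.mem_range, nbeq_iff,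
      List.contains_iff_mem]
    refine ⟨hv ▸ M.fix_t (hRT hr) (hRi r hr).1, fun x hx => ?_⟩
    obtain ⟨a, ha, rfl⟩ := F.vc_surj x hx
    by_cases hat : Commute a t
    · right
      obtain ⟨h1, h2⟩ := M.commutator_mem ha hat (hRT hr) (hRi r hr).1
      have := hsmall _ h1 h2
      rw [show a * r * a⁻¹ * r⁻¹ = a * (r * a⁻¹ * r⁻¹) by group,
        F.vc_mul a ha _ (F.ext.norm r (hRi r hr).1 _ (inv_mem ha)), F.act r (hRi r hr).1 _ (inv_mem ha),
        F.vc_inv ha, Nat.xor_comm] at this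
      rw [hS]; exact this
    · left
      have h2 := F.cform_lt ha M.tJ
      rw [← hv]
      by_contra hne
      exact hat ((F.comm_iff ha M.tJ).2 (by omega))
  have := h1.trans (Nat.mul_le_mul hW hI)
  omega

/-- What is orthogonal to the meet lies in it, in normal coordinates. -/
theorem perp_core (O : Outer F) {o : ℕ × List ℕ × List (ℕ × ℕ) × List (List ℕ)} (ho : o ∈ orbL C)
    (hv : F.vc t = o.1) {x : G} (hx : x ∈ F.J) (hc : ∀ w, w ∈ F.J → w ∈ T.J → Commute x w) : x ∈ T.J := by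
  rcases M.cases O ho hv with h | ⟨L, hL, hLw⟩
  · exact (M.small_false O ho hv h).elim
  have hin := inside_ok F
  simp only [insideChk, Bool.and_eq_true, Bool.or_eq_true, List.all_eq_true, List.any_eq_true, vecs, List.mem_range,
    nbeq_iff, List.contains_iff_mem] at hin
  obtain ⟨-, hlag⟩ := hin o ho
  rcases (hlag L hL).1.2 _ (F.vc_lt x) with ⟨l, hl, e⟩ | e
  · obtain ⟨w, hw, hwT, rfl⟩ := hLw l hl
    rw [(F.comm_iff hx hw).1 (hc w hw hwT)] at e
    exact absurd e (by norm_num)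
  · obtain ⟨w, hw, hwT, hwe⟩ := hLw _ e
    rcases F.vc_eq hw hx hwe with e' | e' <;> rw [e']
    exacts [hwT, mul_mem hwT M.zJ]

end Mutual

/-- Coordinates in which the other involution lies over a representative. -/
theorem Mutual.move (M : Mutual F T) : ∃ a, Commute a z ∧ Mutual F (T.conj a⁻¹) ∧
    ∃ o ∈ orbL C, F.vc (a⁻¹ * t * a⁻¹⁻¹) = o.1 := by
  obtain ⟨a, ha, o, ho, he⟩ := F.exists_rep M.tJ T.ext.z2 M.t1 M.tz
  have haz : a⁻¹ * z * a⁻¹⁻¹ = z := mul_inv_eq_iff_eq_mul.2 ha.inv_left.eq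
  refine ⟨a, ha, ⟨F.ext.norm _ ha.inv_left _ M.tJ, ⟨z, M.zJ, haz⟩, fun e => M.t1 (conj_eq_one_iff.1 e), fun e => M.tz ?_⟩,
    o, ho, by rw [inv_inv]; exact he⟩
  rw [show t = a * (a⁻¹ * t * a⁻¹⁻¹) * a⁻¹ by group, e, mul_inv_eq_iff_eq_mul.2 ha.eq]

/-- What is orthogonal to the meet lies in it. -/
theorem Mutual.perp (M : Mutual F T) (O : Outer F) {x : G} (hx : x ∈ F.J)
    (hc : ∀ w, w ∈ F.J → w ∈ T.J → Commute x w) : x ∈ T.J := by
  obtain ⟨a, ha, M', o, ho, hv⟩ := M.move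
  have hmem : ∀ {y}, y ∈ (T.conj a⁻¹).J ↔ a * y * a⁻¹ ∈ T.J := by
    intro y
    show y ∈ T.J.map (MulAut.conj a⁻¹).toMonoidHom ↔ _
    rw [Subgroup.mem_map_equiv, MulAut.conj_symm_apply, inv_inv]
  have hx' : a⁻¹ * x * a⁻¹⁻¹ ∈ F.J := F.ext.norm _ ha.inv_left x hx
  have h := M'.perp_core O ho hv hx' fun w hw hwT => by
    have h1 := hc (a * w * a⁻¹) (F.ext.norm a ha w hw) (hmem.1 hwT)
    have := (Commute.conj_iff a⁻¹).2 h1
    simpa [mul_assoc] using this
  rw [hmem, show a * (a⁻¹ * x * a⁻¹⁻¹) * a⁻¹ = x by group] at h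
  exact h

/-- Two involutions in each other's extraspecial groups are impossible. -/
theorem Mutual.false (M₀ : Mutual F T) (O : Outer F) (OT : Outer T) : False := by
  classical
  obtain ⟨a, -, M, o, ho, hv⟩ := M₀.move
  have OT' := OT.conj a⁻¹
  rcases M.cases O ho hv with h | ⟨L, hL, hLw⟩
  · exact M.small_false O ho hv h
  have hin := inside_ok F
  simp only [insideChk, Bool.and_eq_true, Bool.or_eq_true, List.all_eq_true, List.any_eq_true, vecs, List.mem_range,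
    nbeq_iff, List.contains_iff_mem, Nat.blt_eq, beq_iff_eq, Bool.not_eq_true', beq_eq_false_iff_ne] at hin
  obtain ⟨⟨⟨⟨-, hws⟩, -⟩, -⟩, hlag⟩ := hin o ho
  obtain ⟨⟨hlen, hperp⟩, hinv⟩ := hlag L hL
  have hW : Nat.card ↥(F.J ⊓ (T.conj a⁻¹).J) ≤ 2 * 16 := by
    refine (M.meet_card L.toFinset fun w hw hwT => List.mem_toFinset.2 ?_).trans
      (Nat.mul_le_mul le_rfl ((List.toFinset_card_le _).trans hlen.le))
    rcases hperp _ (F.vc_lt w) with ⟨l, hl, e⟩ | e
    · obtain ⟨w', hw', hwT', rfl⟩ := hLw l hl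
      rw [(F.comm_iff hw hw').1 (M.comm hw hwT hw' hwT')] at e
      exact absurd e (by norm_num)
    · exact e
  -- what fixes the Lagrangian is in the meet
  have hfix : ∀ r ∈ (T.conj a⁻¹).J, Commute r z → (∀ l ∈ L, ap (F.κ r) l = l) → r ∈ F.J := by
    intro r hr hrz hl
    refine M.symm.perp OT' hr fun w hwT hw => ?_
    have hwl : F.vc w ∈ L := by
      rcases hperp _ (F.vc_lt w) with ⟨l, hl', e⟩ | e
      · obtain ⟨w', hw', hwT', rfl⟩ := hLw l hl'
        rw [(F.comm_iff hw hw').1 (M.comm hw hwT hw' hwT')] at e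
        exact absurd e (by norm_num)
      · exact e
    refine mul_inv_eq_iff_eq_mul.1 ?_
    rcases F.vc_eq hw (F.ext.norm r hrz w hw) (by rw [F.act r hrz w hw, hl _ hwl]) with e | e
    · exact e
    · exfalso
      rcases (T.conj a⁻¹).ext.cmt r hr w hwT with e' | e' <;>
        rw [e, (F.ext.cz w hw).eq, mul_inv_cancel_right] at e'
      · exact F.ext.z1 e'
      · exact M.tz e'.symm
  obtain ⟨R, hRT, hRi, hR⟩ := M.inner_part O
  obtain ⟨r, hr, hrJ⟩ : ∃ r ∈ R, r ∉ F.J := by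
    by_contra hall
    push Not at hall
    have := Subgroup.card_le_of_le (show R ≤ F.J ⊓ (T.conj a⁻¹).J from fun r hr =>
      Subgroup.mem_inf.2 ⟨hall r hr, hRT hr⟩)
    omega
  have hrz := (hRi r hr).1
  have hcode : F.κ r ∈ invL C := (M.code_cases O (hRT hr) (hRi r hr)).resolve_left fun e => hrJ (F.ker r hrz e)
  rcases hinv _ hcode with ((e | ⟨l, hl, h0, h1⟩) | e) | ⟨c, hc, hne, e⟩
  · have hft := M.fix_t (hRT hr) hrz
    rw [hv] at hft
    rw [nbeq_iff.2 hft] at e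
    exact Bool.noConfusion e
  · obtain ⟨w, hw, hwT, rfl⟩ := hLw l hl
    have hd : F.vc (r * w * r⁻¹ * w⁻¹) = ap (F.κ r) (F.vc w) ^^^ F.vc w := by
      rw [F.vc_mul _ (F.ext.norm r hrz w hw) _ (inv_mem hw), F.vc_inv hw, F.act r hrz w hw]
    rcases (T.conj a⁻¹).ext.cmt r (hRT hr) w hwT with e' | e' <;> rw [e'] at hd
    · rw [F.vc_one] at hd; rw [nbeq_iff.2 hd.symm] at h0; exact Bool.noConfusion h0
    · rw [hv] at hd; rw [nbeq_iff.2 hd.symm] at h1; exact Bool.noConfusion h1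
  · exact hrJ (hfix r (hRT hr) hrz e)
  · obtain ⟨⟨⟨hc4, hcv⟩, hci⟩, -⟩ := hws c hc
    obtain ⟨k, hkz, hkt, hke⟩ := F.fix_lift M.tJ M.t1 M.tz hc4 (hv.symm ▸ hcv)
    have hki : F.κ k⁻¹ = cw C.gens (iW c) := by
      have h2 := congrArg (cm (F.κ k⁻¹)) hci
      rw [← hke, ← cm_assoc, (F.κ_inv hkz).2, idc_cm (cw_lt _ _), cm_idc (F.κ_lt _)] at h2
      exact h2.symm
    have hr' : r * (k * r * k⁻¹) ∈ (T.conj a⁻¹).J := mul_mem (hRT hr) ((T.conj a⁻¹).ext.norm k hkt r (hRT hr))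
    have hz' : Commute (r * (k * r * k⁻¹)) z := hrz.mul_left ((hkz.mul_left hrz).mul_left hkz.inv_left)
    have hκ : F.κ (r * (k * r * k⁻¹)) = cm (F.κ r) (cm (cm (cw C.gens c) (F.κ r)) (cw C.gens (iW c))) := by
      rw [F.κ_mul hrz ((hkz.mul_left hrz).mul_left hkz.inv_left), F.κ_conj hkz hrz, hke, hki]
    refine hne ?_
    rw [← hκ]
    exact F.κ_mem (hfix _ hr' hz' fun l hl => hκ ▸ e l hl)

/-- No other conjugate lies in the extraspecial group. -/
theorem Outer.no_inside (O : Outer F) {g : G} (hg : g * z * g⁻¹ ∈ F.J) : g * z * g⁻¹ = z := by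
  classical
  by_contra htz
  have OT := O.conj g
  obtain ⟨T, hT⟩ : ∃ T : Frame C (g * z * g⁻¹), T = F.conj g := ⟨_, rfl⟩
  rw [← hT] at OT
  obtain ⟨t, ht⟩ : ∃ t, t = g * z * g⁻¹ := ⟨_, rfl⟩
  clear hT
  revert T
  rw [← ht] at hg htz ⊢
  intro T OT
  have ht1 : t ≠ 1 := T.ext.z1
  by_cases hzT : z ∈ T.J
  · exact Mutual.false ⟨hg, hzT, ht1, htz⟩ O OT
  have hW : ∀ w, w ∈ F.J → w ∈ T.J → w = 1 ∨ w = t := by
    intro w hw hwT
    rcases F.double_perp hg hw (fun a ha hat => by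
      refine mul_inv_eq_iff_eq_mul.1 (mul_inv_eq_one.1 ?_)
      rcases F.ext.cmt a ha w hw with e | e
      · exact e
      · exact absurd (e ▸ mul_mem (T.ext.norm a hat w hwT) (inv_mem hwT)) hzT) with e | e | e | e
    · exact Or.inl e
    · exact absurd (e ▸ hwT) hzT
    · exact Or.inr e
    · refine absurd ?_ hzT
      have := mul_mem (inv_mem T.ext.zJ) (e ▸ hwT)
      rwa [inv_mul_cancel_left] at this
  have hAt : ∀ r ∈ F.J ⊓ Subgroup.centralizer ({t} : Set G), Commute r t := fun r hr =>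
    Subgroup.mem_centralizer_singleton_iff.1 (Subgroup.mem_inf.1 hr).2
  obtain ⟨A, hA, hAi, hc⟩ := OT.inn_half _ hAt
  rw [F.perp_card hg ht1 htz] at hc
  obtain ⟨K, hK, hmem, -, hJK, hgens⟩ := OT.inn_index
  let FK := T.restrict K hJK hgens
  have hcK : Nat.card ↥(Subgroup.centralizer ({(⟨t, hJK T.ext.zJ⟩ : K)} : Set K)) = 512 * 25920 := by
    rw [card_centralizer_sub, inf_eq_left.2 fun x hx => Subgroup.mem_centralizer_singleton_iff.2
      ((hmem x).1 hx).1.eq, hK]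
  haveI : Fact (Nat.Prime 2) := ⟨Nat.prime_two⟩
  have h2 : IsPGroup 2 A := (IsPGroup.of_card (p := 2) (n := 8)
    (by rw [F.perp_card hg ht1 htz]; norm_num : Nat.card ↥(F.J ⊓ Subgroup.centralizer ({t} : Set G)) = 2 ^ 8)).to_le hA
  have hAK : A ≤ K := fun x hx => (hmem x).2 (hAi x hx)
  obtain ⟨b, hb, hbS⟩ := FK.syl_conj hcK (A.subgroupOf K)
    (fun p hp => Subtype.ext (hAt _ (hA hp)).eq) (h2.of_equiv (Subgroup.subgroupOfEquivOfLe hAK).symm)
  have hbt : Commute (b : G) t := congrArg Subtype.val hb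
  obtain ⟨f, hf⟩ : ∃ f : G → ℕ, ∀ p, f p = T.κ (b * p * (b : G)⁻¹) := ⟨_, fun _ => rfl⟩
  have hfS : ∀ p ∈ A, f p ∈ sylL C.gens := fun p hp => by
    rw [hf]; exact hbS ⟨p, hAK hp⟩ hp
  have h1 := card_le_mul_image A f {1, t} (fun p hp q hq e => by
    rw [hf, hf] at e
    rcases hW _ (mul_mem (inv_mem (Subgroup.mem_inf.1 (hA hp)).1) (Subgroup.mem_inf.1 (hA hq)).1)
      (T.κ_conj_eq hbt (hAt _ (hA hp)) (hAt _ (hA hq)) e) with e' | e' <;> simp [e'])
  obtain ⟨-, hnd, hlen, -, -, -⟩ := T.syl_spec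
  have hsub : (Set.toFinite (A : Set G)).toFinset.image f ⊆ (sylL C.gens).toFinset := by
    intro x hx
    obtain ⟨r, hr, rfl⟩ := Finset.mem_image.1 hx
    exact List.mem_toFinset.2 (hfS r ((Set.Finite.mem_toFinset _).1 hr))
  have heq := Finset.eq_of_subset_of_card_le hsub (by
    rw [List.toFinset_card_of_nodup hnd, hlen]
    have := h1.trans (Nat.mul_le_mul_right _ (Finset.card_le_two (a := (1 : G)) (b := t)))
    omega)
  have hpre : ∀ i < 64, ∃ p ∈ A, f p = (sylL C.gens).getD i 0 := by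
    intro i hi
    have : (sylL C.gens).getD i 0 ∈ (sylL C.gens).toFinset := by
      rw [List.mem_toFinset, List.getD_eq_getElem _ _ (hlen.symm ▸ hi)]
      exact List.getElem_mem _
    rw [← heq, Finset.mem_image] at this
    obtain ⟨p, hp, e⟩ := this
    exact ⟨p, (Set.Finite.mem_toFinset _).1 hp, e⟩
  have hcm : commutChk C.gens = true := by
    rcases T.gens_cases with h | h <;> rw [h]
    exacts [commut_U, commut_P]
  simp only [commutChk, List.any_eq_true, List.mem_range, Bool.and_eq_true, Bool.not_eq_true', beq_iff_eq,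
    beq_eq_false_iff_ne] at hcm
  obtain ⟨x, hx, y, hy, hxy, c, -, hce, u, hu, v, hv, huv, hue⟩ := hcm
  obtain ⟨Z, hZ⟩ : ∃ Z, Z = f z := ⟨_, rfl⟩
  have hprod : ∀ p ∈ A, ∀ q ∈ A, cm (f p) (f q) ≠ cm (f q) (f p) → cm (f p) (f q) = cm Z (cm (f q) (f p)) := by
    intro p hp q hq hne
    have hpz : Commute (b * p * (b : G)⁻¹) t := (hbt.mul_left (hAt _ (hA hp))).mul_left hbt.inv_left
    have hqz : Commute (b * q * (b : G)⁻¹) t := (hbt.mul_left (hAt _ (hA hq))).mul_left hbt.inv_left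
    rcases F.ext.cmt p (Subgroup.mem_inf.1 (hA hp)).1 q (Subgroup.mem_inf.1 (hA hq)).1 with e | e
    · refine absurd ?_ hne
      rw [hf, hf, ← T.κ_mul hpz hqz, ← T.κ_mul hqz hpz]
      congr 1
      have : p * q = q * p := by
        rw [mul_inv_eq_one] at e
        conv_rhs => rw [← e]
        group
      rw [show (b : G) * p * (b : G)⁻¹ * (b * q * (b : G)⁻¹) = b * (p * q) * (b : G)⁻¹ by group, this]; group
    · have hzt : Commute z t := (F.ext.cz _ hg).symm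
      have hzb : Commute (b * z * (b : G)⁻¹) t := (hbt.mul_left hzt).mul_left hbt.inv_left
      rw [hZ, hf, hf, hf, ← T.κ_mul hpz hqz, ← T.κ_mul hqz hpz, ← T.κ_mul hzb (hqz.mul_left hpz)]
      congr 1
      rw [← e]; group
  obtain ⟨p, hp, hpe⟩ := hpre x hx
  obtain ⟨q, hq, hqe⟩ := hpre y hy
  obtain ⟨p', hp', hpe'⟩ := hpre u hu
  obtain ⟨q', hq', hqe'⟩ := hpre v hv
  rw [← hpe, ← hqe] at hxy hce
  rw [← hpe', ← hqe'] at huv hue
  -- both commutators are the image of `z`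
  obtain ⟨ic, hic⟩ : ∃ ic, ic = T.κ ((b * q * (b : G)⁻¹ * (b * p * (b : G)⁻¹))⁻¹) := ⟨_, rfl⟩
  have hcancel : ∀ a, a < 2 ^ 64 → cm (cm a (cm (f q) (f p))) ic = a := by
    intro a ha
    have hpz : Commute (b * p * (b : G)⁻¹) t := (hbt.mul_left (hAt _ (hA hp))).mul_left hbt.inv_left
    have hqz : Commute (b * q * (b : G)⁻¹) t := (hbt.mul_left (hAt _ (hA hq))).mul_left hbt.inv_left
    rw [cm_assoc, hf, hf, ← T.κ_mul hqz hpz, hic, (T.κ_inv (hqz.mul_left hpz)).1, cm_idc ha]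
  have hclt : (sylL C.gens).getD c 0 < 2 ^ 64 := by
    by_cases hc64 : c < 64
    · obtain ⟨r, -, hre⟩ := hpre c hc64
      rw [← hre, hf]; exact T.κ_lt _
    · rw [List.getD_eq_default _ _ (hlen.symm ▸ not_lt.1 hc64)]; norm_num
  have hcZ : (sylL C.gens).getD c 0 = Z := by
    rw [← hcancel _ hclt, ← hce, hprod p hp q hq hxy, hcancel Z (by rw [hZ, hf]; exact T.κ_lt _)]
  exact hue (by rw [hcZ]; exact hprod p' hp' q' hq' huv)

end Cfsg.Lib.U62Type
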