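import Cfsg.Agent.Lib.U62Type.OuterInside
import Mathlib.GroupTheory.Transfer

/-!
# The transfer to the outer character at a single element
-/

set_option autoImplicit false
set_option linter.unusedSectionVars false
set_option linter.style.haveILetI false

namespace Cfsg.Lib.U62Type

open MulAction

variable {G : Type*} [Group G] [Finite G] {C : Cfg} {z : G} {F : Frame C z}

/-- Whether an element of the centraliser is inner, as a character. -/
noncomputable def Outer.chi (O : Outer F) : ↥(Subgroup.centralizer ({z} : Set G)) →* ℤˣ := by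
  classical
  exact MonoidHom.mk' (fun h => if Inn F h.1 then 1 else -1) fun a b => by
    have := O.inn_mul (Subgroup.mem_centralizer_singleton_iff.1 a.2) (Subgroup.mem_centralizer_singleton_iff.1 b.2)
    by_cases ha : Inn F a.1 <;> by_cases hb : Inn F b.1 <;> simp [ha, hb, this]

/-- The transfer of the character. -/
noncomputable def Outer.tr (O : Outer F) : G →* ℤˣ := MonoidHom.transfer O.chi

variable (O : Outer F)

theorem Outer.chi_inn {h : ↥(Subgroup.centralizer ({z} : Set G))} (hi : Inn F h.1) : O.chi h = 1 := by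
  classical
  simp [Outer.chi, hi]

theorem Outer.chi_out {h : ↥(Subgroup.centralizer ({z} : Set G))} (hi : ¬ Inn F h.1) : O.chi h = -1 := by
  classical
  simp [Outer.chi, hi]

theorem smul_eq_iff {g b : G} :
    b • (g : G ⧸ Subgroup.centralizer ({z} : Set G)) = (g : G ⧸ Subgroup.centralizer ({z} : Set G)) ↔
      Commute b (g * z * g⁻¹) := by
  show ((b * g : G) : G ⧸ Subgroup.centralizer ({z} : Set G)) = _ ↔ _
  rw [eq_comm, QuotientGroup.eq, Subgroup.mem_centralizer_singleton_iff]
  show Commute (g⁻¹ * (b * g)) z ↔ _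
  rw [← Commute.conj_iff g (a := g⁻¹ * (b * g)) (b := z)]
  simp [mul_assoc, commute_iff_eq]

theorem coe_eq_one {g : G} :
    (g : G ⧸ Subgroup.centralizer ({z} : Set G)) = ((1 : G) : G ⧸ Subgroup.centralizer ({z} : Set G)) ↔
      g * z * g⁻¹ = z := by
  rw [eq_comm, QuotientGroup.eq, inv_one, one_mul, Subgroup.mem_centralizer_singleton_iff]
  constructor
  · intro h; rw [h, mul_inv_cancel_right]
  · intro h; exact mul_inv_eq_iff_eq_mul.1 h

theorem period_smul {X : Type*} [MulAction G X] {s c : G} (h : Commute c s) (x : X) :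
    Function.minimalPeriod (s • ·) (c • x) = Function.minimalPeriod (s • ·) x := by
  refine Function.minimalPeriod_eq_minimalPeriod_iff.2 fun n => ?_
  simp only [Function.IsPeriodicPt, Function.IsFixedPt, smul_iterate, ← mul_smul, (h.pow_right n).eq.symm]
  rw [mul_smul, smul_left_cancel_iff]

set_option maxHeartbeats 800000 in
/-- An element of order at most four has the transfer of its own value, by parity over a 2-group of its
centraliser, when no other conjugate is fixed. -/
theorem Outer.tr_value {s : G} (hs : Commute s z) (hs2 : s * s = 1 ∨ s * s = z) (E : Subgroup G)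
    (hEp : IsPGroup 2 E) (hEs : ∀ a ∈ E, Commute a s) (hE2 : s * s = z → ∀ a ∈ E, a * a = 1)
    (hEz : ∀ a ∈ E, Commute a z)
    (hnone : ∀ g : G, g * z * g⁻¹ ≠ z → (∀ a ∈ E, Commute a (g * z * g⁻¹)) →
      (Commute s (g * z * g⁻¹) ∨ s * s = z ∧ Commute z (g * z * g⁻¹)) → False) :
    O.tr s = O.chi ⟨s, Subgroup.mem_centralizer_singleton_iff.2 hs.eq⟩ := by
  classical
  haveI : Fact (Nat.Prime 2) := ⟨Nat.prime_two⟩
  haveI : Fintype (Quotient (orbitRel (Subgroup.zpowers s) (G ⧸ Subgroup.centralizer ({z} : Set G)))) :=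
    Fintype.ofFinite _
  have hz2 : z * z = 1 := F.ext.z2
  have hs4 : s ^ 4 = 1 := by
    rw [show (4 : ℕ) = 2 * 2 from rfl, pow_mul, pow_two, pow_two]
    rcases hs2 with e | e <;> rw [e]
    exacts [one_mul 1, hz2]
  obtain ⟨Ψ, hΨ⟩ : ∃ Ψ : G ⧸ Subgroup.centralizer ({z} : Set G) → ℤˣ, ∀ x, Ψ x = O.chi
      ⟨x.out⁻¹ * s ^ Function.minimalPeriod (s • ·) x * x.out,
        QuotientGroup.out_conj_pow_minimalPeriod_mem _ s x⟩ := ⟨_, fun _ => rfl⟩
  have hinv : ∀ c, Commute c s → ∀ x, Ψ (c • x) = Ψ x := by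
    intro c hc x
    obtain ⟨h, hh⟩ : ∃ h : ↥(Subgroup.centralizer ({z} : Set G)), (c • x).out = c * x.out * h := by
      refine ⟨⟨(c * x.out)⁻¹ * (c • x).out, ?_⟩, (mul_inv_cancel_left _ _).symm⟩
      rw [← QuotientGroup.eq, QuotientGroup.out_eq']
      show ((c * x.out : G) : G ⧸ Subgroup.centralizer ({z} : Set G)) = c • x
      conv_rhs => rw [← QuotientGroup.out_eq' x]
      rfl
    rw [hΨ, hΨ]
    have hper := period_smul hc x
    obtain ⟨m, hm⟩ : ∃ m, m = Function.minimalPeriod (s • ·) x := ⟨_, rfl⟩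
    rw [show (⟨(c • x).out⁻¹ * s ^ Function.minimalPeriod (s • ·) (c • x) * (c • x).out,
        QuotientGroup.out_conj_pow_minimalPeriod_mem _ s (c • x)⟩ : ↥(Subgroup.centralizer ({z} : Set G))) =
      h⁻¹ * ⟨x.out⁻¹ * s ^ Function.minimalPeriod (s • ·) x * x.out,
        QuotientGroup.out_conj_pow_minimalPeriod_mem _ s x⟩ * h from Subtype.ext (by
        push_cast
        rw [hper, ← hm, hh]
        calc (c * x.out * (h : G))⁻¹ * s ^ m * (c * x.out * h) = (h : G)⁻¹ * (x.out⁻¹ * (c⁻¹ * (s ^ m * c)) * x.out) * h := by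
              group
          _ = (h : G)⁻¹ * (x.out⁻¹ * s ^ m * x.out) * h := by
              rw [← (hc.pow_right m).eq, inv_mul_cancel_left]),
      map_mul, map_mul, map_inv, mul_comm, ← mul_assoc, mul_inv_cancel, one_mul]
  -- the action on the orbits
  obtain ⟨act, hact⟩ : ∃ act : E → Quotient (orbitRel (Subgroup.zpowers s) (G ⧸ Subgroup.centralizer ({z} : Set G))) →
      Quotient (orbitRel (Subgroup.zpowers s) (G ⧸ Subgroup.centralizer ({z} : Set G))),
      ∀ a x, act a (Quotient.mk'' x) = Quotient.mk'' ((a : G) • x) :=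
    ⟨fun a => Quotient.map' (fun x => (a : G) • x) fun x y hxy => by
      rw [orbitRel_apply] at hxy ⊢
      obtain ⟨⟨k, hk⟩, rfl⟩ := hxy
      refine ⟨⟨k, hk⟩, ?_⟩
      show k • (a : G) • y = (a : G) • k • y
      obtain ⟨n, rfl⟩ := Subgroup.mem_zpowers_iff.1 hk
      rw [← mul_smul, ← mul_smul, ((hEs a a.2).zpow_right n).eq], fun _ _ => rfl⟩
  have hout : ∀ x : G ⧸ Subgroup.centralizer ({z} : Set G), ∀ (a : G), ∀ q, q = (Quotient.mk'' (a • x) :
      Quotient (orbitRel (Subgroup.zpowers s) (G ⧸ Subgroup.centralizer ({z} : Set G)))) →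
      ∃ k : ℤ, q.out = (s ^ k * a) • x := by
    intro x a q hq
    have h := Quotient.exact' ((Quotient.out_eq' q).trans hq)
    rw [orbitRel_apply] at h
    obtain ⟨⟨k, hk⟩, e⟩ := h
    obtain ⟨n, rfl⟩ := Subgroup.mem_zpowers_iff.1 hk
    exact ⟨n, by rw [mul_smul]; exact e.symm⟩
  have hψinv : ∀ a q, Ψ (act a q).out = Ψ q.out := by
    intro a q
    obtain ⟨k, hk⟩ := hout q.out (a : G) (act a q) (by rw [← hact, Quotient.out_eq'])
    rw [hk, hinv _ (((Commute.refl s).zpow_left k).mul_left (hEs a a.2))]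
  obtain ⟨q₀, hq₀⟩ : ∃ q₀, q₀ = (Quotient.mk'' ((1 : G) : G ⧸ Subgroup.centralizer ({z} : Set G)) :
      Quotient (orbitRel (Subgroup.zpowers s) (G ⧸ Subgroup.centralizer ({z} : Set G)))) := ⟨_, rfl⟩
  have hfix : ∀ a : E, act a q₀ = q₀ := by
    intro a
    rw [hq₀, hact, smul_eq_iff.2 (by simpa using hEz a a.2)]
  have hone : ∀ a q, act a q = q₀ → q = q₀ := by
    intro a q h
    have h1 : act a⁻¹ (act a q) = q := by
      induction q using Quotient.inductionOn' with
      | h x => rw [hact, hact, ← mul_smul]; simp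
    rw [h, hfix] at h1
    exact h1.symm
  let Bad := {q // Ψ (Quotient.out q) = -1 ∧ q ≠ q₀}
  letI : MulAction E Bad :=
    { smul := fun a q => ⟨act a q.1, by rw [hψinv]; exact q.2.1, fun h => q.2.2 (hone a _ h)⟩
      one_smul := fun q => Subtype.ext (by
        show act 1 q.1 = q.1
        induction q.1 using Quotient.inductionOn' with
        | h x => rw [hact]; simp)
      mul_smul := fun a b q => Subtype.ext (by
        show act (a * b) q.1 = act a (act b q.1)
        induction q.1 using Quotient.inductionOn' with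
        | h x => rw [hact, hact, hact, ← mul_smul]; rfl) }
  have hempty : IsEmpty ↥(MulAction.fixedPoints E Bad) := by
    refine ⟨?_⟩
    rintro ⟨⟨q, hq1, hq0⟩, hqf⟩
    obtain ⟨x, hxq⟩ : ∃ x, x = Quotient.out q := ⟨_, rfl⟩
    obtain ⟨g, hg⟩ : ∃ g, g = x.out := ⟨_, rfl⟩
    have hgx : (g : G ⧸ Subgroup.centralizer ({z} : Set G)) = x := by rw [hg, QuotientGroup.out_eq']
    have hgz : g * z * g⁻¹ ≠ z := fun e => hq0 (by
      rw [← Quotient.out_eq' q, ← hxq, ← hgx, coe_eq_one.2 e, hq₀])
    have horb : ∀ a ∈ E, ∃ k : ℤ, (s ^ k * a) • x = x := by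
      intro a ha
      have h : act ⟨a, ha⟩ q = q := congrArg Subtype.val (hqf ⟨a, ha⟩)
      obtain ⟨k, hk⟩ := hout x a q (by
        conv_lhs => rw [← h, ← Quotient.out_eq' q, ← hxq]
        exact hact _ _)
      exact ⟨k, hk.symm.trans hxq.symm⟩
    rw [← hxq, hΨ] at hq1
    obtain ⟨m, hm⟩ : ∃ m, m = Function.minimalPeriod (s • ·) x := ⟨_, rfl⟩
    obtain ⟨hd, hhd⟩ : ∃ hd : x.out⁻¹ * s ^ m * x.out ∈ Subgroup.centralizer ({z} : Set G),
        O.chi ⟨_, hd⟩ = -1 := by subst hm; exact ⟨_, hq1⟩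
    have hs1 : s ^ m ≠ 1 := fun e => by
      rw [show (⟨x.out⁻¹ * s ^ m * x.out, hd⟩ : ↥(Subgroup.centralizer ({z} : Set G))) = 1 from
        Subtype.ext (show x.out⁻¹ * s ^ m * x.out = 1 by rw [e]; simp), map_one] at hhd
      exact absurd hhd (by decide)
    by_cases hfx : Commute s (g * z * g⁻¹)
    · refine hnone g hgz (fun a ha => ?_) (Or.inl hfx)
      obtain ⟨k, hk⟩ := horb a ha
      rw [← hgx, smul_eq_iff] at hk
      have := ((hfx.zpow_left k).inv_left).mul_left hk
      rwa [inv_mul_cancel_left] at this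
    have hm1 : m ≠ 1 := fun e => hfx (smul_eq_iff.1 (hgx.symm ▸ by
      have := Function.iterate_minimalPeriod (f := (s • ·)) (x := x)
      rw [← hm, e] at this
      simpa using this))
    have hm4 : m ∣ 4 := by
      rw [hm]
      refine Function.IsPeriodicPt.minimalPeriod_dvd ?_
      show (s • ·)^[4] x = x
      rw [smul_iterate]
      show (s ^ 4) • x = x
      rw [hs4, one_smul]
    have hm2 : m = 2 ∨ m = 4 := by
      obtain ⟨i, hi, hie⟩ := (Nat.dvd_prime_pow Nat.prime_two).1 (show m ∣ 2 ^ 2 from hm4)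
      interval_cases i
      exacts [absurd hie hm1, Or.inl hie, Or.inr hie]
    rcases hm2 with rfl | rfl
    swap
    · exact hs1 hs4
    rw [pow_two] at hs1
    obtain hsz : s * s = z := hs2.resolve_left hs1
    have hzx : Commute z (g * z * g⁻¹) := by
      refine smul_eq_iff.1 (hgx.symm ▸ ?_)
      have := Function.iterate_minimalPeriod (f := (s • ·)) (x := x)
      rw [← hm, smul_iterate] at this
      have h2 : (s ^ 2) • x = x := this
      rw [pow_two, hsz] at h2
      exact h2
    refine hnone g hgz (fun a ha => ?_) (Or.inr ⟨hsz, hzx⟩)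
    obtain ⟨k, hk⟩ := horb a ha
    rw [← hgx, smul_eq_iff] at hk
    rcases Int.even_or_odd k with ⟨j, rfl⟩ | ⟨j, rfl⟩
    · rw [← two_mul, zpow_mul, zpow_two, hsz] at hk
      have := ((hzx.zpow_left j).inv_left).mul_left hk
      rwa [inv_mul_cancel_left] at this
    · exfalso
      rw [zpow_add_one, zpow_mul, zpow_two, hsz] at hk
      have hb : Commute (s * a) (g * z * g⁻¹) := by
        have := ((hzx.zpow_left j).inv_left).mul_left hk
        rwa [mul_assoc (z ^ j) s a, inv_mul_cancel_left] at this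
      have hbz : Commute (g⁻¹ * (s * a) * g) z := by
        have := (Commute.conj_iff g⁻¹).2 hb
        simpa [mul_assoc] using this
      have hsq := O.inn_sq hbz
      rw [show g⁻¹ * (s * a) * g * (g⁻¹ * (s * a) * g) = g⁻¹ * (s * a * (s * a)) * g by group,
        (hEs a ha).mul_mul_mul_comm, hE2 hsz a ha, hsz, mul_one] at hsq
      refine absurd (hhd.symm.trans (O.chi_inn ?_)) (by decide)
      show Inn F (x.out⁻¹ * s ^ 2 * x.out)
      rw [← hg, pow_two, hsz]
      exact hsq
  have heven : Even (Nat.card Bad) := by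
    have h := hEp.card_modEq_card_fixedPoints Bad
    rw [Nat.card_of_isEmpty (α := ↥(MulAction.fixedPoints E Bad))] at h
    exact Nat.even_iff.2 h
  rw [Outer.tr, MonoidHom.transfer_eq_prod_quotient_orbitRel_zpowers_quot]
  rw [Finset.prod_congr rfl fun q _ => (hΨ q.out).symm,
    ← Finset.mul_prod_erase Finset.univ _ (Finset.mem_univ q₀)]
  have hrest : ∏ q ∈ Finset.univ.erase q₀, Ψ q.out = 1 := by
    rw [← Finset.prod_filter_mul_prod_filter_not (Finset.univ.erase q₀) (fun q => Ψ q.out = -1),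
      Finset.prod_congr rfl (g := fun _ => (-1 : ℤˣ)) fun q hq => (Finset.mem_filter.1 hq).2,
      Finset.prod_const, Finset.prod_eq_one (s := (Finset.univ.erase q₀).filter fun q => ¬ Ψ q.out = -1) fun q hq =>
        (Int.units_eq_one_or _).resolve_right (Finset.mem_filter.1 hq).2, mul_one]
    have hc : ((Finset.univ.erase q₀).filter fun q => Ψ q.out = -1).card = Nat.card Bad := by
      rw [← Nat.card_eq_finsetCard]
      refine Nat.card_congr (Equiv.subtypeEquivRight fun q => ?_)
      simp [and_comm]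
    rw [hc]
    exact heven.neg_one_pow
  rw [hrest, mul_one]
  have hbase : ((1 : G) : G ⧸ Subgroup.centralizer ({z} : Set G)) = q₀.out := by
    obtain ⟨k, hk⟩ := hout ((1 : G) : G ⧸ Subgroup.centralizer ({z} : Set G)) 1 q₀ (by rw [one_smul]; exact hq₀)
    rw [hk, mul_one, smul_eq_iff.2 (by simpa using hs.zpow_left k)]
  rw [← hbase, hΨ]
  obtain ⟨h, hh⟩ : ∃ h : ↥(Subgroup.centralizer ({z} : Set G)),
      ((1 : G) : G ⧸ Subgroup.centralizer ({z} : Set G)).out = h := by
    refine ⟨⟨_, Subgroup.mem_centralizer_singleton_iff.2 ?_⟩, rfl⟩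
    exact mul_inv_eq_iff_eq_mul.1 (coe_eq_one.1 (QuotientGroup.out_eq' ((1 : G) : G ⧸ Subgroup.centralizer ({z} : Set G))))
  have hm : Function.minimalPeriod (s • ·) ((1 : G) : G ⧸ Subgroup.centralizer ({z} : Set G)) = 1 :=
    Function.minimalPeriod_eq_one_iff_isFixedPt.2 (smul_eq_iff.2 (by simpa using hs))
  rw [show (⟨((1 : G) : G ⧸ Subgroup.centralizer ({z} : Set G)).out⁻¹ *
      s ^ Function.minimalPeriod (s • ·) ((1 : G) : G ⧸ Subgroup.centralizer ({z} : Set G)) *
      ((1 : G) : G ⧸ Subgroup.centralizer ({z} : Set G)).out,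
      QuotientGroup.out_conj_pow_minimalPeriod_mem _ s _⟩ : ↥(Subgroup.centralizer ({z} : Set G))) =
    h⁻¹ * ⟨s, Subgroup.mem_centralizer_singleton_iff.2 hs.eq⟩ * h from Subtype.ext (by
      push_cast; rw [hm, hh, pow_one]), map_mul, map_mul, map_inv, mul_comm, ← mul_assoc, mul_inv_cancel, one_mul]

end Cfsg.Lib.U62Type
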