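import Cfsg.Agent.Lib.U62Type.FourthChecks

/-!
# The module in coordinates
-/

set_option autoImplicit false
set_option linter.unusedSectionVars false
set_option linter.unusedSimpArgs false

namespace Cfsg.Lib.U62Type

namespace Hyp

variable {V : Type*} [CommGroup V] (H : Hyp V)

/-- Coordinates in which the action and the form are standard. -/
structure Coords (C : Cfg) where
  b : ℕ → V
  bij : Function.Bijective fun v : Fin 256 => comb b v
  gens : ∀ i < 4, ∀ j < 8, H.ρ i (b j) = comb b (byte (C.gens.getD i 0) j)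
  form : ∀ v < 256, H.Q (comb b v) = C.q v

include H in
theorem bf_mul_left {x y w : V} (hx : bform H.Q x w = 0) (hy : bform H.Q y w = 0) :
    bform H.Q (x * y) w = 0 := by
  rw [bform_comm, H.bf_mul, bform_comm, hx, bform_comm, hy, Nat.xor_self]

/-- An element fixing the base vector. -/
theorem stab_fix {t k : ℕ} (ht : t < 2) (hk : k < (tS t).length) (hk2 : k < 2) {w : V} (hw : w ∈ H.Wt t) :
    H.act ((tS t).getD k []) w = w := by
  have h := gComm_true
  simp only [gComm, List.all_eq_true, List.mem_range, Bool.and_eq_true, List.any_eq_true] at h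
  obtain ⟨⟨hff, hK⟩, e, -, hM⟩ := (h t ht).2 k hk
  rw [if_neg (by simp; omega)] at hM
  obtain ⟨f, hf⟩ : ∃ f, f = (tS t).getD k [] := ⟨_, rfl⟩
  rw [← hf] at hff hK hM ⊢
  have ht3 : t < 3 := by omega
  obtain ⟨h0, h1, h2⟩ := H.mem_Wt.1 hw
  have hfK : ∀ b < 2, ∀ v ∈ H.Wt t, H.act (tK t b) (H.act f v) = H.act f v := by
    intro b hb v hv
    obtain ⟨e', -, he'⟩ := hK b hb
    rw [← H.act_append, H.act_eq he', H.act_append, H.act_append, H.act_pW_fix (H.mem_Wt.1 hv).2.1,
      H.act_pW_fix (H.mem_Wt.1 hv).1]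
  have hfM : ∀ v ∈ H.Wt t, H.act (tM t) (H.act f v) = H.act f (H.act (tM t) v) := by
    intro v hv
    have hv' := H.Wt_act ht3 hv
    rw [← H.act_append, H.act_eq hM, H.act_append, H.act_append, H.act_append,
      show pW (tM t) 1 = tM t by simp [pW],
      H.act_pW_fix (H.mem_Wt.1 hv').2.1, H.act_pW_fix (H.mem_Wt.1 hv').1]
  have hfW : ∀ v ∈ H.Wt t, H.act f v ∈ H.Wt t := by
    intro v hv
    refine H.mem_Wt.2 ⟨hfK 0 (by norm_num) v hv, hfK 1 (by norm_num) v hv, ?_⟩
    have e2 := (H.mem_Wt.1 hv).2.2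
    rw [Fp, H.act_append] at e2
    rw [Fp, H.act_append, hfM v hv, hfM _ (H.Wt_act ht3 hv), ← map_mul, ← map_mul, e2, map_one]
  have hinv : ∀ v, H.act f (H.act f v) = v := fun v => by rw [← H.act_append, H.act_eq hff, H.act_nil]
  by_cases hw1 : w = 1
  · rw [hw1, map_one]
  haveI := H.fin
  obtain ⟨-, hc⟩ := H.card_Wt ht3 hw hw1
  rw [Fp, H.act_append] at h2
  have hinj : Function.Injective (H.act (tM t)) := fun x y h => by
    have := congrArg (H.act (tM t ++ tM t)) h
    rwa [← H.act_append, ← H.act_append, List.append_assoc, H.act_eq (ok_basic ht3).1,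
      H.act_eq (ok_basic ht3).1, H.act_nil, H.act_nil] at this
  have hM3 : ∀ v, H.act (tM t) (H.act (tM t) (H.act (tM t) v)) = v := fun v => by
    rw [← H.act_append, ← H.act_append, List.append_assoc, H.act_eq (ok_basic ht3).1, H.act_nil]
  have hm : H.act (tM t) w ≠ w := fun e => by rw [e, e, H.sq, one_mul] at h2; exact hw1 h2
  have hm1 : H.act (tM t) w ≠ 1 := fun e => hw1 (hinj (e.trans (map_one _).symm))
  have hn : H.act (tM t) (H.act (tM t) w) ≠ H.act (tM t) w := fun e => hm (hinj e)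
  have hmm1 : H.act (tM t) (H.act (tM t) w) ≠ 1 := fun e => hm1 (hinj (e.trans (map_one _).symm))
  have hmm : H.act (tM t) (H.act (tM t) w) ≠ w := fun e => by
    rw [e, mul_right_comm, H.sq, one_mul] at h2; exact hm1 h2
  by_contra hne
  have h1' : H.act f w ≠ 1 := fun e => hw1 (by rw [← hinv w, e, map_one])
  have ha : H.act f w ≠ H.act (tM t) w := by
    intro e
    have := hinv w
    rw [e, ← hfM w hw, e] at this
    exact hmm this
  have hb : H.act f w ≠ H.act (tM t) (H.act (tM t) w) := by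
    intro e
    have := hinv w
    rw [e, ← hfM _ (H.Wt_act ht3 hw), ← hfM w hw, e] at this
    rw [hM3] at this
    exact hm this
  let g : Fin 5 → H.Wt t :=
    ![1, ⟨w, hw⟩, ⟨_, H.Wt_act ht3 hw⟩, ⟨_, H.Wt_act ht3 (H.Wt_act ht3 hw)⟩, ⟨_, hfW w hw⟩]
  have hg : Function.Injective g := by
    intro a c h
    fin_cases a <;> fin_cases c <;>
      simp [g, Subtype.ext_iff, hw1, Ne.symm hw1, hm, hm.symm, hm1, hm1.symm, hn, hn.symm, hmm, hmm.symm, hmm1,
        hmm1.symm, hne, Ne.symm hne, h1', h1'.symm, ha, ha.symm, hb, hb.symm] at h ⊢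
  have := Nat.card_le_card_of_injective g hg
  rw [Nat.card_fin, hc] at this
  omega

/-- In the second shape the base vector may be chosen fixed by a third element. -/
theorem exists_base_three {u : V} (hu : u ∈ H.Wt 1) (hu1 : u ≠ 1) :
    ∃ w ∈ H.Wt 1, w ≠ 1 ∧ ∀ x ∈ tF 1, H.act x w = w := by
  have h := gComm_true
  simp only [gComm, List.all_eq_true, List.mem_range, Bool.and_eq_true, List.any_eq_true] at h
  obtain ⟨⟨hff, hK⟩, e, -, hM⟩ := (h 1 (by norm_num)).2 2 (show 2 < 3 by norm_num)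
  rw [if_pos (by simp)] at hM
  obtain ⟨f, hf⟩ : ∃ f, f = (tS 1).getD 2 [] := ⟨_, rfl⟩
  rw [← hf] at hff hK hM
  have hfW : H.act f u ∈ H.Wt 1 := by
    refine H.mem_Wt.2 ⟨?_, ?_, ?_⟩
    · obtain ⟨e', -, he'⟩ := hK 0 (by norm_num)
      rw [← H.act_append, H.act_eq he', H.act_append, H.act_append, H.act_pW_fix (H.mem_Wt.1 hu).2.1,
        H.act_pW_fix (H.mem_Wt.1 hu).1]
    · obtain ⟨e', -, he'⟩ := hK 1 (by norm_num)
      rw [← H.act_append, H.act_eq he', H.act_append, H.act_append, H.act_pW_fix (H.mem_Wt.1 hu).2.1,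
        H.act_pW_fix (H.mem_Wt.1 hu).1]
    · have hfM : ∀ v ∈ H.Wt 1, H.act (tM 1) (H.act f v) = H.act f (H.act (tM 1) (H.act (tM 1) v)) := by
        intro v hv
        have hv' := H.Wt_act (t := 1) (by norm_num) (H.Wt_act (t := 1) (by norm_num) hv)
        rw [← H.act_append, H.act_eq hM, H.act_append, H.act_append, H.act_append,
          show pW (tM 1) 2 = tM 1 ++ tM 1 by simp [pW], H.act_append,
          H.act_pW_fix (H.mem_Wt.1 hv').2.1, H.act_pW_fix (H.mem_Wt.1 hv').1]
      have e2 := (H.mem_Wt.1 hu).2.2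
      rw [Fp, H.act_append] at e2
      have h2u := H.Wt_act (t := 1) (by norm_num) (H.Wt_act (t := 1) (by norm_num) hu)
      have hM3 : ∀ v, H.act (tM 1) (H.act (tM 1) (H.act (tM 1) v)) = v := fun v => by
        rw [← H.act_append, ← H.act_append, List.append_assoc, H.act_eq (ok_basic (t := 1) (by norm_num)).1,
          H.act_nil]
      rw [Fp, H.act_append, hfM u hu, hfM _ h2u, hM3, ← map_mul, ← map_mul, mul_right_comm, e2, map_one]
  obtain ⟨w, hw, hw1, hfix⟩ : ∃ w ∈ H.Wt 1, w ≠ 1 ∧ H.act f w = w := by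
    have hinv : ∀ v, H.act f (H.act f v) = v := fun v => by rw [← H.act_append, H.act_eq hff, H.act_nil]
    by_cases he : u * H.act f u = 1
    · exact ⟨u, hu, hu1, ((eq_inv_of_mul_eq_one_right he).trans (H.inv_eq_self u))⟩
    · exact ⟨_, mul_mem hu hfW, he, by rw [map_mul, hinv, mul_comm]⟩
  refine ⟨w, hw, hw1, fun x hx => ?_⟩
  simp only [tF, tS, List.cons_append, List.nil_append, List.mem_cons, List.not_mem_nil, or_false] at hx
  rcases hx with rfl | rfl | rfl | rfl | rfl
  · exact (H.mem_Wt.1 hw).1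
  · exact (H.mem_Wt.1 hw).2.1
  · exact H.stab_fix (t := 1) (k := 0) (by norm_num) (show 0 < 3 by norm_num) (by norm_num) hw
  · exact H.stab_fix (t := 1) (k := 1) (by norm_num) (show 1 < 3 by norm_num) (by norm_num) hw
  · rw [hf] at hfix; exact hfix

theorem exists_base_four {u : V} (hu : u ∈ H.Wt 0) : ∀ x ∈ tF 0, H.act x u = u := by
  intro x hx
  simp only [tF, tS, List.cons_append, List.nil_append, List.mem_cons, List.not_mem_nil, or_false] at hx
  rcases hx with rfl | rfl | rfl | rfl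
  · exact (H.mem_Wt.1 hu).1
  · exact (H.mem_Wt.1 hu).2.1
  · exact H.stab_fix (t := 0) (k := 0) (by norm_num) (show 0 < 2 by norm_num) (by norm_num) hu
  · exact H.stab_fix (t := 0) (k := 1) (by norm_num) (show 1 < 2 by norm_num) (by norm_num) hu

/-- The nonzero coordinate pairs as vectors in the translates. -/
theorem plane_coord {t : ℕ} (ht : t < 2) {w f₁ f₂ : V} (hw : w ∈ H.Wt t) (hw1 : w ≠ 1) {pos : ℕ}
    (hpos : pos < tN t) (v : ℕ) :
    ∃ u ∈ H.Wt t, H.tr t pos u = comb (H.tBasis t w f₁ f₂) (v &&& 3 * 4 ^ pos) ∧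
      ((u = 1 ∧ nz v pos = 0) ∨ (u ≠ 1 ∧ nz v pos = 1)) := by
  have ht3 : t < 3 := by omega
  have hpos4 : pos < 4 := by have := tN_eq; interval_cases t <;> omega
  have hcases : (v &&& 3 * 4 ^ pos = 0 ∧ nz v pos = 0) ∨
      ∃ p ∈ [1, 2, 3], v &&& 3 * 4 ^ pos = p * 4 ^ pos ∧ nz v pos = 1 := by
    have key : ∀ r < 256, ∀ i < 4, (r &&& 3 * 4 ^ i = 0 ∧ nz r i = 0) ∨
        ∃ p ∈ [1, 2, 3], r &&& 3 * 4 ^ i = p * 4 ^ i ∧ nz r i = 1 := by decide +kernel
    have hb : ∀ i < 8, bit (v &&& 255) i = bit v i := fun i hi => by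
      rw [bit, bit, Nat.shiftRight_and_distrib, Nat.and_assoc]
      interval_cases i <;> rfl
    have e1 : v &&& 255 &&& 3 * 4 ^ pos = v &&& 3 * 4 ^ pos := by
      rw [Nat.and_assoc]
      interval_cases pos <;> rfl
    have e2 : nz (v &&& 255) pos = nz v pos := by
      rw [nz, nz, hb _ (by omega), hb _ (by omega)]
    have := key (v &&& 255) (Nat.lt_succ_of_le Nat.and_le_right) pos hpos4
    rwa [e1, e2] at this
  rcases hcases with ⟨e, en⟩ | ⟨p, hp, e, en⟩
  · exact ⟨1, one_mem _, by rw [e, comb_zero, map_one], Or.inl ⟨rfl, en⟩⟩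
  · refine ⟨H.act (pW (tM t) (eW t pos p)) w, H.Wt_pow ht3 hw _, ?_, Or.inr ⟨fun e' => hw1 ?_, en⟩⟩
    · rw [e, H.comb_plane t ht (H.mem_Wt.1 hw).2.2 hpos hp, wW, H.act_append]
      rfl
    · have hinj : Function.Injective (H.act (tM t)) := fun x y h => by
        have := congrArg (H.act (tM t ++ tM t)) h
        rwa [← H.act_append, ← H.act_append, List.append_assoc, H.act_eq (ok_basic ht3).1,
          H.act_eq (ok_basic ht3).1, H.act_nil, H.act_nil] at this
      obtain ⟨n, hn⟩ : ∃ n, n = eW t pos p := ⟨_, rfl⟩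
      rw [← hn] at e'
      clear e hn
      induction n with
      | zero => exact e'
      | succ n ih =>
        rw [pW, List.replicate_succ, List.flatten_cons, H.act_append, ← pW] at e'
        exact ih (hinj (e'.trans (map_one _).symm))

/-- Vectors of the translates are orthogonal to the fixed plane. -/
theorem bf_tr_Fx {i : ℕ} (hi : i < 3) {u r : V} (hu : u ∈ H.Wt 1) (hr : r ∈ H.Fx) :
    bform H.Q r (H.tr 1 i u) = 0 := by
  have ht : (1 : ℕ) < 3 := by norm_num
  obtain ⟨-, -, h2⟩ := H.mem_Wt.1 hu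
  rw [Fp, H.act_append, mul_assoc] at h2
  have hu' : H.act (tM 1) u * H.act (tM 1) (H.act (tM 1) u) = u :=
    (eq_inv_of_mul_eq_one_right h2).trans (H.inv_eq_self u)
  have hm : H.act (mc 1 i) (H.tr 1 i (H.act (tM 1) u)) = H.tr 1 i (H.act (tM 1) (H.act (tM 1) u)) := by
    rw [tr, ← H.act_append, H.act_eq (ok_tr ht (show i < tN 1 from hi)).2.2, H.act_append]
  rw [← hu', map_mul, ← hm]
  exact H.bf_moved (H.Fx_fix hr hi).2.2

/-- The plane has value one. -/
theorem Q_one_four {w : V} (hw : w ∈ H.Wt 0) (hw1 : w ≠ 1) : H.Q w = 1 := by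
  by_contra h
  have h0 : H.Q w = 0 := by have := H.Q_lt w; omega
  obtain ⟨y, hy⟩ := H.nd _ (show H.tr 0 0 w ≠ 1 from fun e => hw1 (H.tr_inj (t := 0) (by norm_num)
    (show 0 < 4 by norm_num) (e.trans (map_one _).symm)))
  obtain ⟨u, rfl⟩ := (H.shape_four hw hw1).2 y
  have h1 : bform H.Q (H.tr 0 0 w) (H.famMap u) = 0 := H.bf_prod _ _ _ fun i _ => by
    by_cases hi : (i : ℕ) = 0
    · rw [hi]
      have hval : ∀ a ∈ H.Wt 0, H.Q (H.tr 0 0 a) = 0 := fun a ha => by
        rw [tr, H.Q_act]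
        by_cases ha1 : a = 1
        · rw [ha1, H.Q_one]
        · rw [H.Q_plane (by norm_num) ha ha1 hw hw1, h0]
      rw [bform, ← map_mul, hval _ (mul_mem hw (u i).2), hval _ hw, hval _ (u i).2, Nat.xor_self, Nat.xor_self]
    · exact H.bf_tr (t := 0) (by norm_num) (show 0 < 4 by norm_num) i.2 (Ne.symm hi) hw (u i).2
  omega

/-- The plane has value one. -/
theorem Q_one_three (hno : ∀ u ∈ H.Wt 0, u = 1) {w : V} (hw : w ∈ H.Wt 1) (hw1 : w ≠ 1) : H.Q w = 1 := by
  by_contra h
  have h0 : H.Q w = 0 := by have := H.Q_lt w; omega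
  obtain ⟨y, hy⟩ := H.nd _ (show H.tr 1 0 w ≠ 1 from fun e => hw1 (H.tr_inj (t := 1) (by norm_num)
    (show 0 < 3 by norm_num) (e.trans (map_one _).symm)))
  obtain ⟨⟨u, r⟩, rfl⟩ := (H.shape_three hno hw hw1).2.2 y
  have h1 : bform H.Q (H.tr 1 0 w) (H.famMap u) = 0 := H.bf_prod _ _ _ fun i _ => by
    by_cases hi : (i : ℕ) = 0
    · rw [hi]
      have hval : ∀ a ∈ H.Wt 1, H.Q (H.tr 1 0 a) = 0 := fun a ha => by
        rw [tr, H.Q_act]
        by_cases ha1 : a = 1
        · rw [ha1, H.Q_one]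
        · rw [H.Q_plane (by norm_num) ha ha1 hw hw1, h0]
      rw [bform, ← map_mul, hval _ (mul_mem hw (u i).2), hval _ hw, hval _ (u i).2, Nat.xor_self, Nat.xor_self]
    · exact H.bf_tr (t := 1) (by norm_num) (show 0 < 3 by norm_num) i.2 (Ne.symm hi) hw (u i).2
  have h2 : bform H.Q (H.tr 1 0 w) (r : V) = 0 := by
    rw [bform_comm]; exact H.bf_tr_Fx (by norm_num) hw r.2
  rw [H.bf_mul, h1, h2] at hy
  exact absurd hy (by norm_num)

/-- The fixed plane is centralised. -/
theorem plane_central (hno : ∀ u ∈ H.Wt 0, u = 1) {w : V} (hw : w ∈ H.Wt 1) (hw1 : w ≠ 1) {r : V}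
    (hr : r ∈ H.Fx) {i : ℕ} (hi : i < 4) : H.ρ i r = r := by
  have hP := planeRels_true
  simp only [planeRels, Bool.and_eq_true, List.all_eq_true, List.mem_range, List.any_eq_true,
    bne_iff_ne] at hP
  obtain ⟨⟨⟨⟨⟨⟨⟨⟨⟨⟨⟨⟨⟨ss, gg⟩, gc⟩, gs⟩, c4⟩, gca⟩, gsa⟩, asc⟩, -⟩, hg3⟩, hzh⟩, hN⟩, ⟨ez, -, hez⟩⟩, hzp⟩ := hP
  have hN' : ∀ i ∈ [1, 2], ∀ v ∈ H.Fx, H.act [i] v ∈ H.Fx := by
    intro i hi v hv
    refine H.mem_Fx.2 fun x hx => ?_
    obtain ⟨e, -, he⟩ := hN x hx i hi
    have hv' := H.mem_Fx.1 hv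
    rw [← H.act_append, H.act_eq he, H.act_append, H.act_append, H.act_append, H.act_pW_fix (hv' 2 (by norm_num)),
      H.act_pW_fix (hv' 1 (by norm_num)), H.act_pW_fix (hv' 0 (by norm_num))]
  have hA : ∀ v ∈ H.Fx, H.act [0] v = v := fun v hv => H.mem_Fx.1 hv 0 (by norm_num)
  -- the vectors fixed by `zW` are those fixed by the subgroup
  have hZ : ∀ v, H.act zW v = v ↔ v ∈ H.Fx := by
    intro v
    constructor
    · intro hv
      obtain ⟨⟨u, q⟩, rfl⟩ := (H.shape_three hno hw hw1).2.2 v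
      have hq : H.act zW (q : V) = q := by
        have hv' := H.mem_Fx.1 q.2
        rw [H.act_eq hez, H.act_append, H.act_append, H.act_pW_fix (hv' 2 (by norm_num)),
          H.act_pW_fix (hv' 1 (by norm_num)), H.act_pW_fix (hv' 0 (by norm_num))]
      simp only [map_mul, hq, mul_left_inj] at hv
      have hu : u = fun _ => 1 := by
        funext j
        have hj3 : (j : ℕ) < 3 := j.2
        obtain ⟨e, he27, he, he0⟩ := hzp j hj3
        have ht : (1 : ℕ) < 3 := by norm_num
        have hz : ∀ i : Fin (tN 1), ∀ a ∈ H.Wt 1, ∃ a' ∈ H.Wt 1, H.act zW (H.tr 1 i a) = H.tr 1 i a' := by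
          intro i a ha
          obtain ⟨e', -, he', -⟩ := hzp i i.2
          have ha' := H.Wt_pow ht ha (e' / 9)
          refine ⟨_, ha', ?_⟩
          rw [tr, ← H.act_append, H.act_eq he', H.act_append, H.act_append, H.act_append,
            H.act_pW_fix (H.mem_Wt.1 ha').2.1, H.act_pW_fix (H.mem_Wt.1 ha').1]
        choose a' ha' hae using fun i : Fin (tN 1) => hz i (u i) (u i).2
        have e1 : H.act zW (H.famMap u) = H.famMap fun i => (⟨a' i, ha' i⟩ : H.Wt 1) := by
          rw [famMap, famMap, map_prod]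
          exact Finset.prod_congr rfl fun i _ => hae i
        rw [hv] at e1
        have e2 := congrArg Subtype.val (congrFun (H.famMap_inj ht e1) j)
        have e3 := hae j
        have haj := H.Wt_pow ht (u j).2 (e / 9)
        rw [← (show (u j : V) = a' j from e2), tr, ← H.act_append, H.act_eq he, H.act_append, H.act_append, H.act_append,
          H.act_pW_fix (H.mem_Wt.1 haj).2.1, H.act_pW_fix (H.mem_Wt.1 haj).1] at e3
        have e4 := H.tr_inj ht j.2 e3
        obtain ⟨-, -, hfp⟩ := H.mem_Wt.1 (u j).2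
        rw [Fp, H.act_append] at hfp
        refine Subtype.ext ?_
        show ((u j : V)) = 1
        have hdiv : e / 9 = 1 ∨ e / 9 = 2 := by omega
        rcases hdiv with hd | hd <;> rw [hd] at e4
        · rw [show pW (tM 1) 1 = tM 1 by simp [pW]] at e4
          rw [e4, e4, H.sq, one_mul] at hfp
          exact hfp
        · rw [show pW (tM 1) 2 = tM 1 ++ tM 1 by simp [pW], H.act_append] at e4
          have e5 := congrArg (H.act (tM 1)) e4
          rw [← H.act_append, ← H.act_append, List.append_assoc, H.act_eq (ok_basic ht).1, H.act_nil] at e5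
          rw [← e5, ← e5, H.sq, one_mul] at hfp
          exact hfp
      show H.famMap u * (q : V) ∈ H.Fx
      rw [show H.famMap u = 1 by rw [hu, famMap]; simp, one_mul]
      exact q.2
    · intro hv
      have hv' := H.mem_Fx.1 hv
      rw [H.act_eq hez, H.act_append, H.act_append, H.act_pW_fix (hv' 2 (by norm_num)),
        H.act_pW_fix (hv' 1 (by norm_num)), H.act_pW_fix (hv' 0 (by norm_num))]
  have hH : ∀ v ∈ H.Fx, H.act hW v ∈ H.Fx := fun v hv => by
    rw [← hZ, ← H.act_append, H.act_eq hzh, H.act_append, (hZ v).2 hv]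
  have hG : ∀ v ∈ H.Fx, H.act [3] v ∈ H.Fx := fun v hv => by
    rw [H.act_eq hg3, g3W]
    simp only [H.act_append]
    refine hH _ ?_
    rw [show ([2] : List ℕ) = [2] from rfl]
    refine hN' 2 (by simp) _ (hH _ ?_)
    rw [show ([0, 0, 2] : List ℕ) = [0] ++ ([0] ++ [2]) from rfl, H.act_append, H.act_append]
    have h02 : ∀ x ∈ H.Fx, H.act [0] x ∈ H.Fx := fun x hx => by rw [hA x hx]; exact hx
    refine h02 _ (h02 _ (hN' 2 (by simp) _ (hH _ ?_)))
    rw [show ([2, 0, 2] : List ℕ) = [2] ++ ([0] ++ [2]) from rfl, H.act_append, H.act_append]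
    exact hN' 2 (by simp) _ (h02 _ (hN' 2 (by simp) _ (hH _ hv)))
  -- the three other generators act as one involution, which is trivial
  have hact : ∀ (i : ℕ) (v : V), H.ρ i v = H.act [i] v := fun _ _ => rfl
  have hS := hN' 1 (by simp)
  have hC := hN' 2 (by simp)
  have TT : ∀ v ∈ H.Fx, H.act [3] (H.act [3] v) = v := fun v _ => by
    rw [← H.act_append, List.singleton_append, H.act_eq gg, H.act_nil]
  have SS : ∀ v ∈ H.Fx, H.act [1] (H.act [1] v) = v := fun v _ => by
    rw [← H.act_append, List.singleton_append, H.act_eq ss, H.act_nil]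
  have TC : ∀ v, H.act [3] (H.act [2] v) = H.act [2] (H.act [3] v) := fun v => by
    rw [← H.act_append, ← H.act_append, List.singleton_append, List.singleton_append, H.act_eq gc]
  have TS : ∀ v, H.act [3] (H.act [1] v) = H.act [1] (H.act [3] v) := fun v => by
    rw [← H.act_append, ← H.act_append, List.singleton_append, List.singleton_append, H.act_eq gs]
  -- `g c` has order dividing four and five
  have hTC : ∀ v ∈ H.Fx, H.act [3] (H.act [2] v) = v := by
    intro v hv
    obtain ⟨P, hP⟩ : ∃ P : V → V, ∀ x, P x = H.act [3] (H.act [2] x) := ⟨_, fun _ => rfl⟩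
    have hPm : ∀ x ∈ H.Fx, P x ∈ H.Fx := fun x hx => hP x ▸ hG _ (hC x hx)
    have hstep : ∀ x ∈ H.Fx, H.act [3, 2, 0] x = P x := fun x hx => by
      rw [show ([3, 2, 0] : List ℕ) = [3] ++ ([2] ++ [0]) from rfl, H.act_append, H.act_append, hA x hx, hP]
    have h5 : P (P (P (P (P v)))) = v := by
      have := H.act_eq gca v
      rw [show pW [3, 2, 0] 5 = [3, 2, 0] ++ ([3, 2, 0] ++ ([3, 2, 0] ++ ([3, 2, 0] ++ [3, 2, 0]))) by decide,
        H.act_append, H.act_append, H.act_append, H.act_append, hstep v hv, hstep _ (hPm v hv),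
        hstep _ (hPm _ (hPm v hv)), hstep _ (hPm _ (hPm _ (hPm v hv))),
        hstep _ (hPm _ (hPm _ (hPm _ (hPm v hv)))), H.act_nil] at this
      exact this
    have h4 : ∀ x ∈ H.Fx, P (P (P (P x))) = x := by
      intro x hx
      simp only [hP, TC]
      rw [TT x hx, TT x hx]
      have := H.act_eq c4 x
      rwa [show pW [2] 4 = [2] ++ ([2] ++ ([2] ++ [2])) by decide, H.act_append, H.act_append, H.act_append,
        H.act_nil] at this
    rw [← hP]
    calc P v = P (P (P (P (P v)))) := by rw [h4 v hv]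
      _ = v := h5
  have hCT : ∀ v ∈ H.Fx, H.act [2] v = H.act [3] v := fun v hv => by
    conv_rhs => rw [← hTC v hv]
    rw [TT _ (hC v hv)]
  have hST : ∀ v ∈ H.Fx, H.act [1] v = H.act [3] v := by
    intro v hv
    obtain ⟨P, hP⟩ : ∃ P : V → V, ∀ x, P x = H.act [3] (H.act [1] x) := ⟨_, fun _ => rfl⟩
    have hPm : ∀ x ∈ H.Fx, P x ∈ H.Fx := fun x hx => hP x ▸ hG _ (hS x hx)
    have hstep : ∀ x ∈ H.Fx, H.act [3, 1, 0] x = P x := fun x hx => by
      rw [show ([3, 1, 0] : List ℕ) = [3] ++ ([1] ++ [0]) from rfl, H.act_append, H.act_append, hA x hx, hP]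
    have h3 : P (P (P v)) = v := by
      have := H.act_eq gsa v
      rw [show pW [3, 1, 0] 3 = [3, 1, 0] ++ ([3, 1, 0] ++ [3, 1, 0]) by decide, H.act_append, H.act_append,
        hstep v hv, hstep _ (hPm v hv), hstep _ (hPm _ (hPm v hv)), H.act_nil] at this
      exact this
    have h2 : P (P v) = v := by
      simp only [hP, TS]
      rw [TT v hv, SS v hv]
    have e : P v = v := by
      calc P v = P (P (P v)) := by rw [h2]
        _ = v := h3
    rw [hP] at e
    conv_rhs => rw [← e]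
    rw [TT _ (hS v hv)]
  have hT : ∀ v ∈ H.Fx, H.act [3] v = v := by
    intro v hv
    have hstep : ∀ x ∈ H.Fx, H.act [0, 1, 2, 3] x = H.act [3] x := fun x hx => by
      rw [show ([0, 1, 2, 3] : List ℕ) = [0] ++ ([1] ++ ([2] ++ [3])) from rfl, H.act_append, H.act_append,
        H.act_append, hCT _ (hG x hx), TT x hx, hA _ (hS x hx), hST x hx]
    have := H.act_eq asc v
    rw [show pW [0, 1, 2, 3] 9 = [0, 1, 2, 3] ++ ([0, 1, 2, 3] ++ ([0, 1, 2, 3] ++ ([0, 1, 2, 3] ++ ([0, 1, 2, 3] ++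
      ([0, 1, 2, 3] ++ ([0, 1, 2, 3] ++ ([0, 1, 2, 3] ++ [0, 1, 2, 3]))))))) by decide] at this
    simp only [H.act_append, H.act_nil] at this
    rw [hstep v hv, hstep _ (hG v hv), TT v hv, hstep v hv, hstep _ (hG v hv), TT v hv, hstep v hv,
      hstep _ (hG v hv), TT v hv, hstep v hv, hstep _ (hG v hv), TT v hv, hstep v hv] at this
    exact this
  interval_cases i
  · rw [hact]; exact hA r hr
  · rw [hact, hST r hr, hT r hr]
  · rw [hact, hCT r hr, hT r hr]
  · rw [hact, hT r hr]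

end Hyp

end Cfsg.Lib.U62Type
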