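import Cfsg.Agent.Lib.U62Type.Thin

/-!
# The members of the class over one transvection
-/

set_option autoImplicit false
set_option linter.unusedSectionVars false
set_option linter.style.haveILetI false

namespace Cfsg.Lib.U62Type

variable {G : Type*} [Group G] [Finite G] {z t : G} {F : Frame cfgU z}

theorem thick_facts : (cvL cfgU 0).length = 64 ∧
    (∀ e ∈ ceL gensU 0, cm e e = xC gensU 0 → ∀ v ∈ cvL cfgU 0, cfgU.q (ap e v ^^^ v) = 0) ∧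
    ((ceL gensU 0).filter fun e => (cvL cfgU 0).all fun v => ap e v == v).length ≤ 2 ∧
    (∀ c ∈ clL gensU 0, (∀ v ∈ cvL cfgU 0, ap c v = v) → c = xC gensU 0) ∧
    (∀ r ∈ rL cfgU 0, r ∈ cvL cfgU 0 ∧ cfgU.q r = 0) ∧
    (∀ e ∈ ceL gensU 0, cm e e = idc → ∀ r ∈ rL cfgU 0, ap e r = r) ∧
    ∀ v < 256, ap (xC gensU 0) v ^^^ v ≠ 0 → ∀ r ∈ rL cfgU 0, r ≠ 0 → r ≠ ap (xC gensU 0) v ^^^ v →
      cform cfgU v r = 1 := by
  have h := thick_U
  simp only [thickChk, show cfgU.gens = gensU from rfl, Bool.and_eq_true, List.all_eq_true, Bool.or_eq_true,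
    Bool.not_eq_true', nbeq_iff, Nat.ble_eq, List.contains_iff_mem, vecs, List.mem_range, beq_iff_eq,
    beq_eq_false_iff_ne] at h
  obtain ⟨⟨⟨⟨⟨⟨h1, h2⟩, h3⟩, h4⟩, h5⟩, h6⟩, h7⟩ := h
  refine ⟨h1, fun e he hee v hv => (h2 e he).resolve_left (fun hn => hn hee) v hv, h3, fun c hc hv => ?_, h5,
    fun e he hee r hr => (h6 e he).resolve_left (fun hn => hn hee) r hr, fun v hv hne r hr hr0 hru => ?_⟩
  · rcases h4 c hc with e | e
    · exact absurd e (by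
        rw [Bool.eq_false_iff]
        exact fun hh => hh (List.all_eq_true.2 fun v hv' => beq_iff_eq.2 (hv v hv')))
    · exact e
  · rcases (h7 v hv).resolve_left hne r hr with (e | e) | e
    exacts [absurd e hr0, absurd e hru, e]

theorem perp_R : ∀ u < 256, (∀ v ∈ cvL cfgU 0, cform cfgU u v = 0) → u ∈ rL cfgU 0 := by
  intro u hu h
  have hp := perp_U0
  simp only [perpChk, List.all_eq_true, vecs, List.mem_range, beq_iff_eq] at hp
  rw [← List.contains_iff_mem, ← hp u hu, List.all_eq_true]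
  exact fun v hv => nbeq_iff.2 (h v hv)

namespace Pair

variable {T : Frame cfgU t} (P : Pair F T)

include P

theorem thick_gam (hκ : F.κ t = xC gensU 0) (hκ' : T.κ z = xC gensU 0) {j : G} (hj : j ∈ F.J)
    (hv : F.vc j ∈ cvL cfgU 0) : Commute t j := by
  obtain ⟨b, hb, hbz, hbb⟩ := P.symm.sq_elem (k := 0) hκ' sq_U0
  have hgg : cm (F.κ b) (F.κ b) = xC gensU 0 := by rw [← F.κ_mul hbz hbz, hbb, hκ]
  have hce : F.κ b ∈ ceL gensU 0 := by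
    refine (F.cover P.hcz (k := 0) (by norm_num) P.comm hκ hbz).2.2 ?_
    rw [hκ, ← hgg, cm_assoc]
  obtain ⟨c, hc⟩ : ∃ c, c = j⁻¹ * (b * j * b⁻¹) := ⟨_, rfl⟩
  have hcJ : c ∈ F.J := hc ▸ mul_mem (inv_mem hj) (F.ext.norm b hbz j hj)
  have hcv : F.vc c = ap (F.κ b) (F.vc j) ^^^ F.vc j := by
    rw [hc, F.vc_mul _ (inv_mem hj) _ (F.ext.norm b hbz j hj), F.vc_inv hj, F.act b hbz j hj, Nat.xor_comm]
  have hq := thick_facts.2.1 _ hce hgg _ hv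
  rw [← hcv] at hq
  have hcc : c * c = 1 := F.sq_one hcJ hq
  have hfix : ap (F.κ t) (F.vc j) = F.vc j := by rw [hκ]; exact (mem_cvL.1 hv).2
  -- `b` fixes the vector of `c`
  have hbc : ap (F.κ b) (F.vc c) = F.vc c := by
    rw [hcv, ap_xor, ← ap_cm, hgg, ← hκ, hfix, Nat.xor_comm]
  have hbcb := F.conj_cases hbz hcJ hbc
  have hct : Commute c t := by
    have : b * (b * c * b⁻¹) * b⁻¹ = c := by
      rcases hbcb with e | e
      · rw [e, e]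
      · rw [e, show b * (c * z) * b⁻¹ = b * c * b⁻¹ * (b * z * b⁻¹) by group, e,
          mul_inv_eq_iff_eq_mul.2 hbz.eq, mul_assoc, F.ext.z2, mul_one]
    rw [show b * (b * c * b⁻¹) * b⁻¹ = b * b * c * (b * b)⁻¹ by group, hbb] at this
    exact (mul_inv_eq_iff_eq_mul.1 this).symm
  obtain ⟨h1, h2⟩ := P.comm_mem hcJ hct hb hbz
  have hbc' : b * c * b⁻¹ = c := by
    rcases hbcb with e | e
    · exact e
    · exfalso
      refine P.zJ ?_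
      have : c * b * c⁻¹ * b⁻¹ = z := by
        calc c * b * c⁻¹ * b⁻¹ = c * (b * c * b⁻¹)⁻¹ := by group
          _ = z := by rw [e, mul_inv_rev, inv_eq_of_mul_eq_one_right F.ext.z2, inv_eq_of_mul_eq_one_right hcc,
                ← mul_assoc, ← (F.z_comm hcJ).eq, mul_assoc, hcc, mul_one]
      exact this ▸ h2
  refine mul_inv_eq_iff_eq_mul.1 ?_
  calc t * j * t⁻¹ = b * (b * j * b⁻¹) * b⁻¹ := by rw [← hbb]; group
    _ = b * (j * c) * b⁻¹ := by rw [hc, mul_inv_cancel_left]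
    _ = b * j * b⁻¹ * (b * c * b⁻¹) := by group
    _ = j * c * c := by rw [hbc', hc, mul_inv_cancel_left]
    _ = j := by rw [mul_assoc, hcc, mul_one]

theorem thick_meet (hκ : F.κ t = xC gensU 0) (hκ' : T.κ z = xC gensU 0) : ∃ w, w ∈ F.J ∧ w ∈ T.J ∧ w ≠ 1 := by
  by_contra h
  push Not at h
  have h1 := P.faithful (by norm_num) hκ (fun j hj hv => P.thick_gam hκ hκ' hj hv) h
  have h2 := P.symm.fix_card_ge (k := 0) fun j hj hv => P.symm.thick_gam hκ' hκ hj hv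
  have h3 := h2.trans h1
  rw [thick_facts.1] at h3
  have h4 := h3.trans thick_facts.2.2.1
  omega

theorem thick_nz (hκ : F.κ t = xC gensU 0) (hκ' : T.κ z = xC gensU 0) : ¬ Mem z (t * z) := by
  obtain ⟨w, hw, hwT, hw1⟩ := P.thick_meet hκ hκ'
  have hR : F.vc w ∈ rL cfgU 0 := by
    refine perp_R _ (F.vc_lt w) fun v hv => ?_
    obtain ⟨a, ha, rfl⟩ := F.vc_surj v (mem_cvL.1 hv).1
    exact (F.comm_iff hw ha).1 (P.meet_comm ha (P.thick_gam hκ hκ' ha hv).symm hw hwT).symm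
  obtain ⟨-, v, hv, e⟩ := mem_rL.1 hR
  obtain ⟨k, hk, rfl⟩ := F.vc_surj v hv
  exact (P.move_meet hw hwT hw1 hk (by rw [hκ]; exact e)).2

/-- The product over one transvection. -/
theorem thick_prod (hκ : F.κ t = xC gensU 0) (hκ' : T.κ z = xC gensU 0) {k₁ k₂ : G} (h₁ : k₁ ∈ F.J)
    (h₂ : k₂ ∈ F.J) (u₁ : ap (xC gensU 0) (F.vc k₁) ^^^ F.vc k₁ ≠ 0)
    (u₂ : ap (xC gensU 0) (F.vc k₂) ^^^ F.vc k₂ ≠ 0)
    (hne : ap (xC gensU 0) (F.vc k₁) ^^^ F.vc k₁ ≠ ap (xC gensU 0) (F.vc k₂) ^^^ F.vc k₂) :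
    t * (k₁⁻¹ * t * k₁) * (k₂⁻¹ * t * k₂) * ((k₁ * k₂)⁻¹ * t * (k₁ * k₂)) = z := by
  obtain ⟨c₁, hc₁, e₁, v₁⟩ := P.move h₁
  obtain ⟨c₂, hc₂, e₂, v₂⟩ := P.move h₂
  rw [hκ] at v₁ v₂
  have m₁ : F.vc c₁ ∈ rL cfgU 0 := mem_rL.2 ⟨F.vc_lt _, _, F.vc_lt k₁, v₁.symm⟩
  have m₂ : F.vc c₂ ∈ rL cfgU 0 := mem_rL.2 ⟨F.vc_lt _, _, F.vc_lt k₂, v₂.symm⟩
  obtain ⟨f₁, q₁⟩ := thick_facts.2.2.2.2.1 _ m₁
  obtain ⟨f₂, q₂⟩ := thick_facts.2.2.2.2.1 _ m₂
  have t₁ := P.thick_gam hκ hκ' hc₁ f₁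
  have t₂ := P.thick_gam hκ hκ' hc₂ f₂
  have hf : cform cfgU (F.vc k₂) (F.vc c₁) = 1 := by
    refine thick_facts.2.2.2.2.2.2 _ (F.vc_lt k₂) u₂ _ m₁ (v₁ ▸ u₁) ?_
    rw [v₁]; exact hne
  have hk : k₂⁻¹ * c₁ * k₂ = c₁ * z := by
    have h := F.comm_z (inv_mem h₂) hc₁ (by rw [F.vc_inv h₂]; exact hf)
    rw [inv_inv, mul_inv_eq_iff_eq_mul] at h
    rw [h, (F.z_comm hc₁).eq]
  have hc12 : c₂ * c₁ * z * (c₂ * c₁) = c₂ * c₁ * (c₂ * c₁) * z := by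
    rw [mul_assoc (c₂ * c₁) z, (F.z_comm (mul_mem hc₂ hc₁)).eq, ← mul_assoc]
  have hkt : (k₁ * k₂)⁻¹ * t * (k₁ * k₂) = t * (c₂ * c₁ * z) := by
    rw [show (k₁ * k₂)⁻¹ * t * (k₁ * k₂) = k₂⁻¹ * (k₁⁻¹ * t * k₁) * k₂ by group, e₁,
      show k₂⁻¹ * (t * c₁) * k₂ = k₂⁻¹ * t * k₂ * (k₂⁻¹ * c₁ * k₂) by group, e₂, hk]
    simp only [mul_assoc]
  rw [hkt, e₁, e₂]
  calc t * (t * c₁) * (t * c₂) * (t * (c₂ * c₁ * z))
      = t * t * (c₁ * t) * (c₂ * t) * (c₂ * c₁ * z) := by simp only [mul_assoc]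
    _ = 1 * (c₁ * t) * (t * c₂) * (c₂ * c₁ * z) := by rw [T.ext.z2, t₂.eq]
    _ = c₁ * (t * t) * c₂ * (c₂ * c₁ * z) := by simp only [one_mul, mul_assoc]
    _ = c₁ * (c₂ * c₂) * (c₁ * z) := by rw [T.ext.z2, mul_one]; simp only [mul_assoc]
    _ = z := by rw [F.sq_one hc₂ q₂, mul_one, ← mul_assoc, F.sq_one hc₁ q₁, one_mul]

end Pair

/-- In the unitary case every commuting conjugate is a transvection, on both sides. -/
theorem Frame.pair_thick (F : Frame cfgU z)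
    (hc : Nat.card ↥(Subgroup.centralizer ({z} : Set G)) = 512 * 25920) {t : G} (hm : Mem z t) (ht : Commute t z)
    (htz : t ≠ z) : ∃ (F' : Frame cfgU z) (T : Frame cfgU t),
      F'.J = F.J ∧ Pair F' T ∧ F'.κ t = xC gensU 0 ∧ T.κ z = xC gensU 0 := by
  obtain ⟨k, hk, k', hk', F', T, eJ, P, h, h'⟩ := F.exists_pair hc hm ht htz
  interval_cases k <;> interval_cases k'
  · exact ⟨F', T, eJ, P, h, h'⟩
  · exact (P.symm.not_mixed h' h).elim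
  · exact (P.not_mixed h h').elim
  · exact (P.not_thin_thin h h').elim

/-- The other members over the same transvection are conjugates under the extraspecial group. -/
theorem Pair.thick_fibre {T : Frame cfgU t} (P : Pair F T) (hκ : F.κ t = xC gensU 0) (hκ' : T.κ z = xC gensU 0)
    {j : G} (hj : j ∈ F.J) (hm : Mem z (t * j)) (hs : Commute (t * j) z) :
    F.vc j ∈ rL cfgU 0 ∧ ∃ k ∈ F.J, k⁻¹ * t * k = t * j := by
  have hne : t * j ≠ z := fun e => P.tJ (by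
    rw [eq_mul_inv_of_mul_eq e]; exact mul_mem F.ext.zJ (inv_mem hj))
  obtain ⟨F', S, eJ, Q, -, hS⟩ := F.pair_thick P.hcz hm hs hne
  have Q' : Pair F S := Q.reframe eJ.symm
  have hκs : F.κ (t * j) = xC gensU 0 := by rw [F.κ_mulJ P.comm hj, hκ]
  have hR : F.vc j ∈ rL cfgU 0 := by
    refine perp_R _ (F.vc_lt j) fun v hv => ?_
    obtain ⟨a, ha, rfl⟩ := F.vc_surj v (mem_cvL.1 hv).1
    refine (F.comm_iff hj ha).1 ?_
    have h := ((P.thick_gam hκ hκ' ha hv).inv_left).mul_left (Q'.thick_gam hκs hS ha hv)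
    rwa [inv_mul_cancel_left] at h
  refine ⟨hR, ?_⟩
  obtain ⟨-, v, hv, e⟩ := mem_rL.1 hR
  obtain ⟨k, hk, rfl⟩ := F.vc_surj v hv
  obtain ⟨c, hc, hkt, hcv⟩ := P.move hk
  rw [hκ] at hcv
  replace hcv : F.vc c = F.vc j := hcv.trans e
  refine ⟨k, hk, ?_⟩
  rcases F.vc_eq hc hj hcv with e' | e'
  · rw [hkt, e']
  · exfalso
    refine P.thick_nz hκ hκ' ?_
    have h1 := hm.conj k
    rwa [e', show k * (t * (c * z)) * k⁻¹ = k * ((t * c) * z) * k⁻¹ by group, ← hkt, show k * (k⁻¹ * t * k * z) * k⁻¹ = t * (k * z * k⁻¹) by group,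
      mul_inv_eq_iff_eq_mul.2 (F.ext.cz k hk).eq] at h1

end Cfsg.Lib.U62Type
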