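import Cfsg.Agent.Lib.U62Type.Half

/-!
# In the unitary case commuting conjugates are transvections for each other
-/

set_option autoImplicit false
set_option linter.unusedSectionVars false
set_option linter.style.haveILetI false

namespace Cfsg.Lib.U62Type

variable {G : Type*} [Group G] [Finite G] {z t : G} {F : Frame cfgU z} {T : Frame cfgU t}

theorem thin_facts : (cvL cfgU 1).length = 16 ∧ (∀ v ∈ cvL cfgU 1, cfgU.q v = 0 ∧ v ∈ rL cfgU 1) ∧
    ((ceL gensU 1).filter fun e => (cvL cfgU 1).all fun v => ap e v == v).length ≤ 16 ∧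
    ∀ v < 256, ap (xC gensU 1) v ^^^ v ≠ 0 → ∃ e ∈ ceL gensU 1,
      ap e (ap (xC gensU 1) v ^^^ v) ≠ ap (xC gensU 1) v ^^^ v ∧
        cform cfgU v (ap e (ap (xC gensU 1) v ^^^ v)) = 0 := by
  have h := thin_U
  simp only [thinChk, show cfgU.gens = gensU from rfl, Bool.and_eq_true, List.all_eq_true, List.any_eq_true,
    Bool.or_eq_true, nbeq_iff, Nat.ble_eq, List.contains_iff_mem, vecs, List.mem_range, Bool.not_eq_true'] at h
  obtain ⟨⟨⟨h1, h2⟩, h3⟩, h4⟩ := h
  refine ⟨h1, h2, h3, fun v hv hne => ?_⟩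
  rcases h4 v hv with e | ⟨e, he, hne', hf⟩
  · exact absurd e hne
  · exact ⟨e, he, fun hh => by rw [nbeq_iff.2 hh] at hne'; exact Bool.noConfusion hne', hf⟩

theorem count_good : ∀ m < 64, ((List.range 64).filter fun n =>
    cfgU.q (ap (cvBasis cfgU) n) == ap (mkc fun i => bit m i) n).length ≤ 47 := by
  have h := count_U
  simp only [countChk, Bool.and_eq_true, List.all_eq_true, List.mem_range, Nat.ble_eq] at h
  exact h.2

theorem count_basis : (∀ n < 64, ap (cvBasis cfgU) n ∈ cvL cfgU 0) ∧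
    ∀ v ∈ cvL cfgU 0, ∃ n < 64, ap (cvBasis cfgU) n = v := by
  have h := count_U
  simp only [countChk, Bool.and_eq_true, List.all_eq_true, List.mem_range, List.contains_iff_mem] at h
  have hin := h.1.1
  refine ⟨hin, fun v hv => ?_⟩
  have hlen : (cvL cfgU 0).length = 64 := by
    have h' := thick_U
    simp only [thickChk, Bool.and_eq_true, nbeq_iff] at h'
    exact h'.1.1.1.1.1.1
  have heq := Finset.eq_of_subset_of_card_le (s := ((List.range 64).map fun n => ap (cvBasis cfgU) n).toFinset)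
    (t := (cvL cfgU 0).toFinset) (fun x hx => by
      obtain ⟨n, hn, rfl⟩ := List.mem_map.1 (List.mem_toFinset.1 hx)
      exact List.mem_toFinset.2 (hin n (List.mem_range.1 hn)))
    (by
      rw [List.toFinset_card_of_nodup (distinct_nodup h.1.2), List.length_map, List.length_range]
      exact (List.toFinset_card_le _).trans hlen.le)
  have := List.mem_toFinset.2 hv
  rw [← heq, List.mem_toFinset, List.mem_map] at this
  obtain ⟨n, hn, e⟩ := this
  exact ⟨n, List.mem_range.1 hn, e⟩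

namespace Pair

variable (P : Pair F T)

include P

/-- A thin involution centralises everything over its fixed vectors. -/
theorem thin_gam (hκ : F.κ t = xC gensU 1) {j : G} (hj : j ∈ F.J) (hv : F.vc j ∈ cvL cfgU 1) : Commute t j := by
  obtain ⟨hq, hR⟩ := thin_facts.2.1 _ hv
  obtain ⟨-, v, hvlt, hve⟩ := mem_rL.1 hR
  obtain ⟨k, hk, rfl⟩ := F.vc_surj v hvlt
  obtain ⟨c, hc, hkt, hcv⟩ := P.move hk
  rw [hκ] at hcv
  have hcj : F.vc c = F.vc j := hcv.trans hve
  have hc2 : c * c = 1 := F.sq_one hc (by rw [hcj]; exact hq)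
  have hsq : t * c * (t * c) = 1 := by
    rw [← hkt, show k⁻¹ * t * k * (k⁻¹ * t * k) = k⁻¹ * (t * t) * k by group, T.ext.z2, mul_one, inv_mul_cancel]
  have : t * c = c * t := by
    have h := eq_inv_of_mul_eq_one_right hsq
    rw [mul_inv_rev, P.inv_t, inv_eq_of_mul_eq_one_right hc2] at h
    exact h
  exact (P.comm_of_vc hc hj hcj (Commute.symm this)).symm

theorem thin_meet (hκ : F.κ t = xC gensU 1) (hκ' : T.κ z = xC gensU 1) :
    ∃ w, w ∈ F.J ∧ w ∈ T.J ∧ w ≠ 1 := by
  by_contra h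
  push Not at h
  have h1 := P.faithful (by norm_num) hκ (fun j hj hv => P.thin_gam hκ hj hv) h
  have h2 := P.symm.fix_card_ge (k := 1) fun j hj hv => P.symm.thin_gam hκ' hj hv
  have h3 := h2.trans h1
  rw [thin_facts.1] at h3
  have h4 := h3.trans thin_facts.2.2.1
  omega

/-- Two thin involutions are impossible. -/
theorem not_thin_thin (hκ : F.κ t = xC gensU 1) (hκ' : T.κ z = xC gensU 1) : False := by
  obtain ⟨w, hw, hwT, hw1⟩ := P.thin_meet hκ hκ'
  have hpre : ∀ {y}, y ∈ F.J → Commute y t → ∃ k ∈ F.J, ap (xC gensU 1) (F.vc k) ^^^ F.vc k = F.vc y := by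
    intro y hy hyt
    have hf := F.fix_of_comm P.comm hy hyt.symm
    rw [hκ] at hf
    obtain ⟨-, v, hv, e⟩ := mem_rL.1 (thin_facts.2.1 _ (mem_cvL.2 ⟨F.vc_lt y, hf⟩)).2
    obtain ⟨k, hk, rfl⟩ := F.vc_surj v hv
    exact ⟨k, hk, e⟩
  obtain ⟨k, hk, hkw⟩ := hpre hw (T.ext.cz w hwT)
  obtain ⟨hkt, hnz⟩ := P.move_meet hw hwT hw1 hk (by rw [hκ]; exact hkw)
  have hu0 : ap (xC gensU 1) (F.vc k) ^^^ F.vc k ≠ 0 := by
    rw [hkw]
    intro e
    rcases F.vc_zero w hw e with e | e
    exacts [hw1 e, P.zJ (e ▸ hwT)]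
  obtain ⟨e, he, hne, hform⟩ := thin_facts.2.2.2 _ (F.vc_lt k) hu0
  rw [hkw] at hne hform
  obtain ⟨hword, hcomm⟩ := F.ce_spec (k := 1) (by norm_num) he
  obtain ⟨h₀, hh₀, hh₀e⟩ := F.lift_code hword
  -- the lift can be taken in the centraliser of `t`
  obtain ⟨l, hlz, hlt, hle⟩ : ∃ l, Commute l z ∧ Commute l t ∧ F.κ l = e := by
    have hs : F.κ (h₀ * t * h₀⁻¹) = F.κ t := (F.κ_conj_fix hh₀ P.comm).2 (by rw [hh₀e, hκ]; exact hcomm.symm)
    have hsz : Commute (h₀ * t * h₀⁻¹) z := (hh₀.mul_left P.comm).mul_left hh₀.inv_left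
    have hj := (F.κ_eq_iff P.comm hsz).1 hs.symm
    obtain ⟨j, hjdef⟩ : ∃ j, j = t⁻¹ * (h₀ * t * h₀⁻¹) := ⟨_, rfl⟩
    rw [← hjdef] at hj
    have hst : h₀ * t * h₀⁻¹ = t * j := by rw [hjdef, mul_inv_cancel_left]
    have hinv : t * j * (t * j) = 1 := by
      rw [← hst, show h₀ * t * h₀⁻¹ * (h₀ * t * h₀⁻¹) = h₀ * (t * t) * h₀⁻¹ by group, T.ext.z2, mul_one,
        mul_inv_cancel]
    have hfix : F.vc j ∈ cvL cfgU 1 := by
      refine mem_cvL.2 ⟨F.vc_lt j, ?_⟩
      show ap (xC gensU 1) _ = _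
      rw [← hκ, ← F.act t P.comm j hj]
      have : t * j * t⁻¹ = j⁻¹ := by
        rw [P.inv_t, eq_inv_iff_mul_eq_one, mul_assoc, hinv]
      rw [this, F.vc_inv hj]
    obtain ⟨k₀, hk₀, hk₀e⟩ := hpre hj (P.thin_gam hκ hj hfix).symm
    obtain ⟨c, hc, hct, hcv⟩ := P.move hk₀
    rw [hκ] at hcv
    have hcj : F.vc c = F.vc j := hcv.trans hk₀e
    refine ⟨k₀ * h₀, (F.ext.cz _ hk₀).mul_left hh₀, mul_inv_eq_iff_eq_mul.1 ?_, by rw [F.κ_Jmul hh₀ hk₀, hh₀e]⟩
    rw [show k₀ * h₀ * t * (k₀ * h₀)⁻¹ = k₀ * (h₀ * t * h₀⁻¹) * k₀⁻¹ by group, hst]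
    rcases F.vc_eq hc hj hcj with e' | e'
    · rw [e', ← hct]; group
    · exfalso
      refine hnz ?_
      have h1 : Mem z (k₀ * (h₀ * t * h₀⁻¹) * k₀⁻¹) := (P.mem.conj h₀).conj k₀
      rwa [hst, e', show k₀ * (t * (c * z)) * k₀⁻¹ = k₀ * (t * c) * k₀⁻¹ * (k₀ * z * k₀⁻¹) by group, ← hct,
        show k₀ * (k₀⁻¹ * t * k₀) * k₀⁻¹ = t by group, mul_inv_eq_iff_eq_mul.2 (F.ext.cz _ hk₀).eq] at h1
  have hw' : l * w * l⁻¹ ∈ F.J := F.ext.norm l hlz w hw
  have hwT' : l * w * l⁻¹ ∈ T.J := T.ext.norm l hlt w hwT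
  have hv' : F.vc (l * w * l⁻¹) = ap e (F.vc w) := by rw [F.act l hlz w hw, hle]
  have hw1' : l * w * l⁻¹ ≠ 1 := fun h => hw1 (conj_eq_one_iff.1 h)
  obtain ⟨k', hk', hkw'⟩ := hpre hw' (T.ext.cz _ hwT')
  obtain ⟨hkt', -⟩ := P.move_meet hw' hwT' hw1' hk' (by rw [hκ]; exact hkw')
  have hkc : Commute k (l * w * l⁻¹) := (F.comm_iff hk hw').2 (by rw [hv']; exact hform)
  have hkz : k⁻¹ * z * k = z := by rw [mul_assoc, ← (F.ext.cz k hk).eq, inv_mul_cancel_left]
  have hm : Mem z (k⁻¹ * (t * (l * w * l⁻¹) * z) * k) := by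
    rw [← hkt']
    simpa using (P.mem.conj k'⁻¹).conj k⁻¹
  rw [show k⁻¹ * (t * (l * w * l⁻¹) * z) * k = k⁻¹ * t * k * (k⁻¹ * (l * w * l⁻¹) * k) * (k⁻¹ * z * k) by group,
    hkt, hkz, show k⁻¹ * (l * w * l⁻¹) * k = l * w * l⁻¹ by rw [mul_assoc, ← hkc.eq, inv_mul_cancel_left],
    show t * w * z * (l * w * l⁻¹) * z = t * w * (z * (l * w * l⁻¹)) * z by group, (F.z_comm hw').eq,
    show t * w * (l * w * l⁻¹ * z) * z = t * (w * (l * w * l⁻¹)) * (z * z) by group, F.ext.z2, mul_one] at hm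
  have h1 := P.only hm (mul_mem T.ext.zJ (mul_mem hwT hwT'))
  have h2 : w * (l * w * l⁻¹) = 1 := mul_eq_left.1 h1
  apply hne
  rw [← hv', ← inv_eq_of_mul_eq_one_right h2, F.vc_inv hw]

/-- Mixed types are impossible, by counting. -/
theorem not_mixed (hκ : F.κ t = xC gensU 1) (hκ' : T.κ z = xC gensU 0) : False := by
  classical
  haveI : Fintype G := Fintype.ofFinite G
  -- the common centraliser is small
  have hL : Nat.card ↥(Subgroup.centralizer ({z} : Set G) ⊓ Subgroup.centralizer ({t} : Set G)) ≤ 32 * 96 := by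
    have h := card_le_mul_image (Subgroup.centralizer ({z} : Set G) ⊓ Subgroup.centralizer ({t} : Set G)) F.κ
      (Set.toFinite ((F.J ⊓ Subgroup.centralizer ({t} : Set G) : Subgroup G) : Set G)).toFinset
      (fun p hp q hq e => by
        rw [Subgroup.mem_inf, Subgroup.mem_centralizer_singleton_iff, Subgroup.mem_centralizer_singleton_iff] at hp hq
        rw [Set.Finite.mem_toFinset, SetLike.mem_coe, Subgroup.mem_inf, Subgroup.mem_centralizer_singleton_iff]
        exact ⟨(F.κ_eq_iff hp.1 hq.1).1 e, (Commute.inv_left hp.2).mul_left hq.2⟩)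
    rw [← Nat.card_eq_card_finite_toFinset] at h
    refine h.trans (Nat.mul_le_mul ((P.fix_card_le (k := 1) hκ).trans (by rw [thin_facts.1])) ?_)
    obtain ⟨-, -, hmn, hm⟩ := F.class_counts (k := 1) (by norm_num)
    rw [hm] at hmn
    have hn : (ceL gensU 1).length = 96 := by
      simp only [show (1 == 0) = false from rfl, Bool.false_eq_true, if_false] at hmn
      change 270 * (ceL gensU 1).length = 25920 at hmn
      omega
    refine ((Finset.card_le_card ?_).trans (List.toFinset_card_le _)).trans hn.le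
    intro x hx
    obtain ⟨h, hh, rfl⟩ := Finset.mem_image.1 hx
    rw [Set.Finite.mem_toFinset, SetLike.mem_coe, Subgroup.mem_inf, Subgroup.mem_centralizer_singleton_iff,
      Subgroup.mem_centralizer_singleton_iff] at hh
    refine List.mem_toFinset.2 ((F.cover P.hcz (k := 1) (by norm_num) P.comm hκ hh.1).2.2 ?_)
    rw [← F.κ_mul hh.1 P.comm, ← F.κ_mul P.comm hh.1]
    exact congrArg F.κ hh.2
  obtain ⟨O, hO⟩ : ∃ O, O = (Finset.univ.filter fun h : G => Commute h t).image fun h => h * z * h⁻¹ := ⟨_, rfl⟩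
  have hOL : Nat.card ↥(Subgroup.centralizer ({t} : Set G)) ≤
      Nat.card ↥(Subgroup.centralizer ({z} : Set G) ⊓ Subgroup.centralizer ({t} : Set G)) * O.card := by
    rw [hO, Nat.card_eq_fintype_card, Nat.card_eq_fintype_card, ← Fintype.card_coe (Finset.image _ _)]
    refine le_trans ?_ (Nat.mul_le_mul le_rfl (le_of_eq (Fintype.card_coe _).symm))
    refine le_trans (le_of_eq ?_) (Finset.card_le_mul_card_image (f := fun h => h * z * h⁻¹)
      (Finset.univ.filter fun h : G => Commute h t) _ fun b hb => ?_)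
    · rw [Fintype.card_subtype]
      congr 1
      ext h
      simp only [Finset.mem_filter, Finset.mem_univ, true_and, Subgroup.mem_centralizer_singleton_iff]
      rfl
    · obtain ⟨p, hp, rfl⟩ := Finset.mem_image.1 hb
      rw [Fintype.card_subtype]
      refine Finset.card_le_card_of_injOn (fun q => p⁻¹ * q) (fun q hq => ?_) (fun a _ c _ h => mul_left_cancel h)
      simp only [Finset.coe_filter, Set.mem_setOf_eq, Finset.mem_filter, Finset.mem_univ, true_and] at hq hp ⊢
      rw [Subgroup.mem_inf, Subgroup.mem_centralizer_singleton_iff, Subgroup.mem_centralizer_singleton_iff]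
      refine ⟨mul_inv_eq_iff_eq_mul.1 ?_, hp.inv_left.mul_left hq.1⟩
      rw [show p⁻¹ * q * z * (p⁻¹ * q)⁻¹ = p⁻¹ * (q * z * q⁻¹) * p by group, hq.2]; group
  -- each fibre of the orbit is small
  obtain ⟨m, hm64, hf⟩ := P.symm.functional (k := 0) hκ' (cvBasis cfgU) count_basis.1
  obtain ⟨good, hgood⟩ : ∃ good, good = ((List.range 64).filter fun n =>
    cfgU.q (ap (cvBasis cfgU) n) == ap (mkc fun i => bit m i) n).toFinset.image (ap (cvBasis cfgU)) := ⟨_, rfl⟩
  have hgc : good.card ≤ 47 := by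
    rw [hgood]
    exact Finset.card_image_le.trans ((List.toFinset_card_le _).trans (count_good m hm64))
  obtain ⟨Q, hQ⟩ : ∃ Q, Q = (Finset.univ.filter fun j : G => j ∈ T.J ∧ T.vc j ∈ good) := ⟨_, rfl⟩
  have hQc : Q.card ≤ 2 * 47 := by
    refine (Finset.card_le_mul_card_image (f := T.vc) Q 2 fun b hb => ?_).trans (Nat.mul_le_mul le_rfl
      ((Finset.card_le_card ?_).trans hgc))
    · obtain ⟨p, hp, rfl⟩ := Finset.mem_image.1 hb
      refine (Finset.card_le_card ?_).trans (Finset.card_le_two (a := p) (b := p * t))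
      intro q hq
      rw [hQ] at hp hq
      simp only [Finset.mem_filter, Finset.mem_univ, true_and] at hp hq
      rcases T.vc_eq hp.1 hq.1.1 hq.2.symm with e | e <;> simp [e]
    · intro v hv
      obtain ⟨p, hp, rfl⟩ := Finset.mem_image.1 hv
      rw [hQ] at hp
      simp only [Finset.mem_filter] at hp
      exact hp.2.2
  have hOc : O.card ≤ 94 * 45 := by
    refine (Finset.card_le_mul_card_image (f := T.κ) O 94 fun b hb => ?_).trans (Nat.mul_le_mul le_rfl ?_)
    · obtain ⟨p, hp, rfl⟩ := Finset.mem_image.1 hb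
      rw [hO] at hp
      obtain ⟨a, ha, rfl⟩ := Finset.mem_image.1 hp
      simp only [Finset.mem_filter, Finset.mem_univ, true_and] at ha
      refine le_trans ?_ hQc
      refine Finset.card_le_card_of_injOn (fun q => z * (a⁻¹ * q * a)) (fun q hq => ?_) fun x _ y _ h => ?_
      · simp only [Finset.coe_filter, Set.mem_setOf_eq] at hq
        obtain ⟨hqO, hqk⟩ := hq
        rw [hO] at hqO
        obtain ⟨h, hh, rfl⟩ := Finset.mem_image.1 hqO
        simp only [Finset.mem_filter, Finset.mem_univ, true_and] at hh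
        obtain ⟨g, hg⟩ : ∃ g, g = a⁻¹ * h := ⟨_, rfl⟩
        have hgt : Commute g t := hg ▸ ha.inv_left.mul_left hh
        have hzt := P.comm.symm
        have e1 : a⁻¹ * (h * z * h⁻¹) * a = g * z * g⁻¹ := by rw [hg]; group
        rw [Finset.mem_coe, hQ, Finset.mem_filter]
        beta_reduce
        rw [e1]
        have hκg : T.κ (g * z * g⁻¹) = T.κ z := by
          rw [show g * z * g⁻¹ = a⁻¹ * (h * z * h⁻¹) * a⁻¹⁻¹ by rw [inv_inv, e1],
            T.κ_conj ha.inv_left ((hh.mul_left hzt).mul_left hh.inv_left), hqk,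
            ← T.κ_conj ha.inv_left ((ha.mul_left hzt).mul_left ha.inv_left)]
          congr 1; group
        have hgz := (hgt.mul_left hzt).mul_left hgt.inv_left
        have hj : z * (g * z * g⁻¹) ∈ T.J := by
          have := (T.κ_eq_iff hzt hgz).1 hκg.symm
          rwa [inv_eq_of_mul_eq_one_right F.ext.z2] at this
        obtain ⟨j, hjd⟩ : ∃ j, j = z * (g * z * g⁻¹) := ⟨_, rfl⟩
        rw [← hjd] at hj ⊢
        refine ⟨Finset.mem_univ _, hj, ?_⟩
        have hinv : z * j * z⁻¹ = j⁻¹ := by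
          rw [hjd, mul_inv_rev, inv_eq_of_mul_eq_one_right F.ext.z2, ← mul_assoc z z, F.ext.z2, one_mul,
            show (g * z * g⁻¹)⁻¹ = g * z⁻¹ * g⁻¹ by group, inv_eq_of_mul_eq_one_right F.ext.z2]
        have hfix : ap (T.κ z) (T.vc j) = T.vc j := by rw [← T.act z hzt j hj, hinv, T.vc_inv hj]
        have hcv : T.vc j ∈ cvL cfgU 0 := by
          rw [hκ'] at hfix
          exact mem_cvL.2 ⟨T.vc_lt j, hfix⟩
        obtain ⟨n, hn, hne⟩ := count_basis.2 _ hcv
        rw [hgood, Finset.mem_image]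
        refine ⟨n, List.mem_toFinset.2 (List.mem_filter.2 ⟨List.mem_range.2 hn, beq_iff_eq.2 ?_⟩), hne⟩
        rw [← hf n hn, hne]
        have hcg := P.symm.conj_gam hj hfix
        rw [hinv] at hcg
        have hsq := T.sq j hj
        have hl1 := T.q_lt _ (T.vc_lt j)
        have hl2 := gam_lt (F := T) (t := z) (T.vc j)
        rcases (show cfgU.q (T.vc j) = 0 ∨ cfgU.q (T.vc j) = 1 by omega) with x | x <;>
          rcases (show T.gam z (T.vc j) = 0 ∨ T.gam z (T.vc j) = 1 by omega) with y | y <;>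
          rw [x, y] <;> exfalso
        · rw [x, if_neg (by norm_num)] at hsq
          rw [y, if_pos rfl, inv_eq_of_mul_eq_one_right hsq] at hcg
          exact T.ext.z1 (mul_eq_left.1 hcg.symm)
        · rw [x, if_pos rfl] at hsq
          rw [y, if_neg (by norm_num), mul_one] at hcg
          refine T.ext.z1 ?_
          rw [← hsq]
          nth_rewrite 1 [← hcg]
          exact inv_mul_cancel j
      · exact mul_left_cancel (mul_right_cancel (mul_left_cancel h))
    · refine (Finset.card_le_card (?_ : _ ⊆ (clL gensU 0).toFinset)).trans ((List.toFinset_card_le _).trans ?_)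
      · intro x hx
        obtain ⟨p, hp, rfl⟩ := Finset.mem_image.1 hx
        rw [hO] at hp
        obtain ⟨h, hh, rfl⟩ := Finset.mem_image.1 hp
        simp only [Finset.mem_filter, Finset.mem_univ, true_and] at hh
        exact List.mem_toFinset.2 (T.cover P.hct (k := 0) (by norm_num) P.comm.symm hκ' hh).1
      · obtain ⟨-, -, -, h⟩ := T.class_counts (k := 0) (by norm_num)
        exact le_of_eq h
  have := hOL.trans (Nat.mul_le_mul hL hOc)
  rw [P.hct] at this
  norm_num at this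

end Pair

end Cfsg.Lib.U62Type
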