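import Cfsg.Agent.Lib.U62Type.WeightData

/-!
# The relations used for the weights
-/

set_option autoImplicit false
set_option Elab.async false

namespace Cfsg.Lib.U62Type

/-- The translated kernel generator. -/
def kc (t i b : ℕ) : List ℕ := (tP t).getD i [] ++ (tK t b ++ iW ((tP t).getD i []))

/-- The translated mover. -/
def mc (t i : ℕ) : List ℕ := (tP t).getD i [] ++ (tM t ++ iW ((tP t).getD i []))

/-- The number of translates. -/
def tN (t : ℕ) : ℕ := (tP t).length

/-- The separation entry. -/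
def sepE (t i j b : ℕ) : ℕ × ℕ × ℕ := (tSep t).getD ((i * tN t + j) * 2 + b) (0, 0, 0)

/-- The checks on an orbit. -/
def tOK (t : ℕ) : Bool :=
  meq (tM t ++ (tM t ++ tM t)) [] &&
  (List.range 2).all (fun b => meq (tK t b ++ tM t) (tM t ++ tK t b)) &&
  (List.range (tN t)).all fun i =>
    let p := (tP t).getD i []
    meq (iW p ++ p) [] && meq (p ++ iW p) [] &&
    meq (mc t i ++ p) (p ++ tM t) &&
    meq (kc t i 0 ++ kc t i 1) (kc t i 1 ++ kc t i 0) &&
    meq (kc t i 0 ++ mc t i) (mc t i ++ kc t i 0) && meq (kc t i 1 ++ mc t i) (mc t i ++ kc t i 1) &&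
    (List.range 3).all (fun x =>
      meq (kc t i 0 ++ aW x) (aW x ++ kc t i 0) && meq (kc t i 1 ++ aW x) (aW x ++ kc t i 1) &&
      meq (mc t i ++ aW x) (aW x ++ mc t i)) &&
    (List.range 2).all (fun b => meq (kc t i b ++ (kc t i b ++ kc t i b)) [] && meq (kc t i b ++ p) (p ++ tK t b)) &&
    (List.range (tN t)).all fun j =>
      i == j ||
      (let q := (tP t).getD j []
       (List.range 2).all (fun b =>
         let r := sepE t i j b
         Nat.blt r.2.2 3 && meq (kc t i b ++ q) (q ++ (pW (tK t 0) r.1 ++ (pW (tK t 1) r.2.1 ++ pW (tM t) r.2.2)))) &&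
       ((sepE t i j 0).2.2 != 0 || (sepE t i j 1).2.2 != 0))

theorem tOK_0 : tOK 0 = true := by decide +kernel

theorem tOK_1 : tOK 1 = true := by decide +kernel

set_option maxHeartbeats 4000000 in
theorem tOK_2 : tOK 2 = true := by
  rw [tOK, Bool.and_eq_true, Bool.and_eq_true, List.all_eq_true (l := List.range (tN 2))]
  refine ⟨⟨by decide +kernel, by decide +kernel⟩, fun i hi => ?_⟩
  have hi' : i < 6 := List.mem_range.1 hi
  interval_cases i <;> decide +kernel

theorem tOK_all : ∀ t < 3, tOK t = true := by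
  intro t ht
  interval_cases t
  exacts [tOK_0, tOK_1, tOK_2]

/-- The normal form of a weight. -/
def nfY (x : ℕ) : ℕ := if x = 0 then 1 else 0

/-- The last index. -/
def nfZ (x : ℕ) : ℕ := if x = 2 then 1 else 2

/-- The kernel of a weight in normal form. -/
def nfK (x y i : ℕ) : List ℕ := aW y ++ pW (aW x) ((3 - i) % 3)

/-- The checks on the classification. -/
def classOK : Bool :=
  (List.range 3).all fun x =>
    meq (aW x ++ (aW x ++ aW x)) [] &&
    (List.range 3).all (fun y => meq (aW x ++ aW y) (aW y ++ aW x)) &&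
    (List.range 3).all fun i =>
      meq (pW (aW x) ((3 - i) % 3) ++ pW (aW x) i) [] &&
      meq (aW (nfY x) ++ pW (aW x) ((3 - i) % 3)) (pW (aW x) ((3 - i) % 3) ++ aW (nfY x)) &&
      meq (aW (nfZ x) ++ pW (aW x) ((3 - i) % 3)) (pW (aW x) ((3 - i) % 3) ++ aW (nfZ x)) &&
      (List.range 3).all fun j =>
        let r := tClass.getD (9 * x + 3 * i + j) (0, 0, [])
        let k₁ := nfK x (nfY x) i
        let k₂ := nfK x (nfZ x) j
        Nat.blt r.1 3 && Nat.blt r.2.1 (tN r.1) &&
        (List.range 3).all fun b =>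
          let c := r.2.2.getD b (0, 0, 0)
          let w := if b == 0 then kc r.1 r.2.1 0 else if b == 1 then kc r.1 r.2.1 1 else mc r.1 r.2.1
          meq w (pW k₁ c.1 ++ (pW k₂ c.2.1 ++ pW (aW x) c.2.2)) &&
            (if b == 2 then (c.2.2 == 1 || c.2.2 == 2) else c.2.2 == 0)

theorem classOK_true : classOK = true := by decide +kernel

end Cfsg.Lib.U62Type
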