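import Cfsg.Agent.Lib.U62Type.Weights

/-!
# The three orbits of weights: translates, separation, classification

The first orbit has four members, the second three and the third six.
-/

set_option autoImplicit false
set_option linter.unusedSectionVars false

namespace Cfsg.Lib.U62Type

/-- The kernel of the standard weight of an orbit. -/
def tK : ℕ → ℕ → List ℕ
  | 0, 0 => aW 1
  | 0, _ => aW 2
  | 1, 0 => aW 0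
  | 1, _ => aW 2
  | _, 0 => aW 2
  | _, _ => [0, 0] ++ aW 1

/-- An element moving the standard weight. -/
def tM : ℕ → List ℕ
  | 0 => aW 0
  | 1 => aW 1
  | _ => aW 0

/-- The translations of an orbit. -/
def tP : ℕ → List (List ℕ)
  | 0 => [[], [2], [2, 2], [2, 2, 2]]
  | 1 => [[], [1, 2], [2]]
  | _ => [[], [2], [1, 2], [2, 2], [2, 1, 2], [2, 2, 2]]

/-- The action of the kernel of one translate on another: exponents on the kernel and on the mover. -/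
def tSep : ℕ → List (ℕ × ℕ × ℕ)
  | 0 => [(0, 0, 0), (0, 0, 0), (0, 0, 1), (1, 0, 0), (2, 2, 2), (0, 0, 1), (0, 1, 0), (2, 2, 2), (0, 1, 0), (2, 2, 2), (0, 0, 0), (0, 0, 0), (0, 0, 1), (1, 0, 0), (2, 2, 2), (0, 0, 1), (2, 2, 2), (0, 0, 1), (0, 1, 0), (2, 2, 2), (0, 0, 0), (0, 0, 0), (0, 0, 1), (1, 0, 0), (0, 0, 1), (1, 0, 0), (2, 2, 2), (0, 0, 1), (0, 1, 0), (2, 2, 2), (0, 0, 0), (0, 0, 0)]
  | 1 => [(0, 0, 0), (0, 0, 0), (1, 1, 1), (0, 0, 1), (2, 2, 2), (0, 0, 1), (1, 0, 1), (0, 2, 2), (0, 0, 0), (0, 0, 0), (0, 2, 2), (2, 0, 2), (0, 0, 1), (2, 2, 2), (0, 2, 2), (2, 0, 2), (0, 0, 0), (0, 0, 0)]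
  | _ => [(0, 0, 0), (0, 0, 0), (0, 1, 1), (1, 1, 0), (0, 1, 1), (1, 1, 0), (0, 0, 1), (1, 2, 1), (2, 2, 2), (1, 2, 1), (2, 2, 1), (1, 2, 2), (2, 2, 1), (1, 2, 2), (0, 0, 0), (0, 0, 0), (0, 2, 1), (1, 2, 2), (0, 1, 1), (1, 1, 0), (0, 1, 1), (1, 1, 0), (0, 0, 1), (1, 2, 1), (2, 2, 2), (1, 2, 1), (0, 2, 1), (1, 2, 2), (0, 0, 0), (0, 0, 0), (1, 1, 1), (0, 1, 0), (0, 0, 2), (1, 2, 2), (0, 1, 2), (1, 1, 0), (0, 0, 1), (1, 2, 1), (2, 2, 1), (1, 2, 2), (1, 1, 2), (0, 1, 0), (0, 0, 0), (0, 0, 0), (0, 2, 1), (1, 2, 2), (0, 1, 1), (1, 1, 0), (0, 1, 2), (1, 1, 0), (2, 2, 2), (1, 2, 1), (0, 0, 1), (1, 2, 1), (0, 2, 1), (1, 2, 2), (0, 0, 0), (0, 0, 0), (1, 1, 1), (0, 1, 0), (0, 1, 1), (1, 1, 0), (0, 0, 1), (1, 2, 1), (2, 2, 2), (1, 2, 1), (2, 2, 1), (1, 2, 2), (1, 1, 2), (0, 1, 0), (0, 0, 0), (0, 0, 0)]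

/-- For each weight in normal form its orbit, its translate and the exponents. -/
def tClass : List (ℕ × ℕ × List (ℕ × ℕ × ℕ)) :=
  [(0, 0, [(1, 0, 0), (0, 1, 0), (0, 0, 1)]), (2, 5, [(1, 0, 0), (1, 1, 0), (2, 2, 1)]), (1, 2, [(1, 0, 0), (2, 2, 0), (0, 1, 2)]), (2, 0, [(0, 1, 0), (1, 0, 0), (0, 0, 1)]), (2, 1, [(2, 2, 0), (2, 1, 0), (1, 0, 1)]), (2, 2, [(2, 2, 0), (2, 1, 0), (1, 0, 2)]), (0, 1, [(0, 1, 0), (2, 2, 0), (1, 0, 2)]), (1, 1, [(1, 0, 0), (2, 2, 0), (0, 1, 1)]), (2, 4, [(1, 0, 0), (1, 1, 0), (1, 1, 1)]), (1, 0, [(1, 0, 0), (0, 1, 0), (0, 0, 1)]), (2, 3, [(1, 0, 0), (2, 1, 0), (0, 1, 1)]), (0, 2, [(2, 2, 0), (1, 0, 0), (0, 1, 2)]), (2, 0, [(0, 1, 0), (2, 0, 0), (1, 0, 1)]), (2, 1, [(2, 2, 0), (0, 1, 0), (0, 0, 1)]), (2, 2, [(0, 2, 0), (2, 1, 0), (1, 0, 2)]), (0, 1, [(0, 1, 0), (2, 2, 0),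 (0, 0, 1)]), (2, 4, [(1, 0, 0), (2, 1, 0), (0, 1, 2)]), (1, 1, [(1, 0, 0), (0, 2, 0), (0, 1, 2)]), (0, 3, [(1, 0, 0), (0, 1, 0), (2, 2, 2)]), (2, 3, [(1, 0, 0), (2, 2, 0), (0, 0, 1)]), (0, 2, [(2, 2, 0), (1, 0, 0), (0, 0, 1)]), (2, 5, [(0, 1, 0), (2, 1, 0), (2, 2, 1)]), (2, 1, [(2, 2, 0), (0, 2, 0), (0, 1, 1)]), (1, 1, [(1, 1, 0), (0, 2, 0), (0, 0, 1)]), (1, 2, [(0, 1, 0), (2, 2, 0), (0, 0, 1)]), (2, 4, [(1, 1, 0), (2, 1, 0), (0, 1, 2)]), (2, 2, [(0, 2, 0), (2, 2, 0), (1, 1, 1)])]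

end Cfsg.Lib.U62Type
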